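import Mathlib
import Groth.Agent.H2.InjDimQuot
import Groth.Agent.H89.InjDimEquiv

/-!
# Quotients by regular sequences and injective dimension (helper81)
-/

set_option autoImplicit false

namespace Groth.Agent.H81.CIGor

universe u

open CategoryTheory Abelian RingTheory.Sequence Pointwise

/-- `id_{A/(xs)} (A/(xs)) < n` if `id_A A < n + |xs|` for a weakly regular sequence `xs`. -/
theorem hasInjectiveDimensionLT_quotient_ofList : ∀ (k : ℕ) (A : Type u) [CommRing A]
    (xs : List A), xs.length = k → IsWeaklyRegular A xs → ∀ n : ℕ,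
    HasInjectiveDimensionLT (ModuleCat.of A A) (n + k) →
    HasInjectiveDimensionLT (ModuleCat.of (A ⧸ Ideal.ofList xs) (A ⧸ Ideal.ofList xs)) n := by
  intro k
  induction k with
  | zero =>
    intro A _ xs hlen _ n h
    have hxs : xs = [] := List.length_eq_zero_iff.mp hlen
    subst hxs
    have e : A ≃+* (A ⧸ Ideal.ofList ([] : List A)) :=
      (RingEquiv.quotientBot A).symm.trans (Ideal.quotEquivOfEq Ideal.ofList_nil.symm)
    exact Groth.Agent.H89.InjDimEquiv.hasInjectiveDimensionLT_of_ringEquiv e n h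
  | succ k ih =>
    intro A _ xs hlen hreg n h
    obtain ⟨x, xs', rfl⟩ : ∃ x xs', xs = x :: xs' := by
      cases xs with
      | nil => simp at hlen
      | cons x xs' => exact ⟨x, xs', rfl⟩
    have hlen' : xs'.length = k := by simpa using hlen
    rw [isWeaklyRegular_cons_iff] at hreg
    obtain ⟨hx, hreg'⟩ := hreg
    have h1 : HasInjectiveDimensionLT
        (ModuleCat.of (A ⧸ Ideal.span {x}) (A ⧸ Ideal.span {x})) (n + k) :=
      Groth.Agent.H2.InjDimQuot.hasInjectiveDimensionLT_quotient x hx (n + k) h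
    -- the sequence `xs'` is weakly regular on `A/(x)`
    have heq : (x • (⊤ : Submodule A A)) = Ideal.span {x} := by
      rw [← Submodule.ideal_span_singleton_smul, smul_eq_mul, Ideal.mul_top]
    have hreg1 : IsWeaklyRegular (A ⧸ Ideal.span {x}) xs' :=
      ((Submodule.quotEquivOfEq _ _ heq).isWeaklyRegular_congr xs').mp hreg'
    have hreg2 : IsWeaklyRegular (A ⧸ Ideal.span {x})
        (xs'.map (Ideal.Quotient.mk (Ideal.span {x}))) :=
      (isWeaklyRegular_map_algebraMap_iff (A ⧸ Ideal.span {x}) (A ⧸ Ideal.span {x}) xs').mpr hreg1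
    have h2 := ih (A ⧸ Ideal.span {x}) (xs'.map (Ideal.Quotient.mk (Ideal.span {x})))
      (by rw [List.length_map, hlen']) hreg2 n h1
    have e1 : ((A ⧸ Ideal.span {x}) ⧸ Ideal.ofList (xs'.map (Ideal.Quotient.mk (Ideal.span {x})))) ≃+*
        ((A ⧸ Ideal.span {x}) ⧸ (Ideal.ofList xs').map (Ideal.Quotient.mk (Ideal.span {x}))) :=
      Ideal.quotEquivOfEq (Ideal.map_ofList _ _).symm
    have e2 : ((A ⧸ Ideal.span {x}) ⧸ (Ideal.ofList xs').map (Ideal.Quotient.mk (Ideal.span {x}))) ≃+*
        (A ⧸ (Ideal.span {x} ⊔ Ideal.ofList xs')) :=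
      DoubleQuot.quotQuotEquivQuotSup _ _
    have e3 : (A ⧸ (Ideal.span {x} ⊔ Ideal.ofList xs')) ≃+* (A ⧸ Ideal.ofList (x :: xs')) :=
      Ideal.quotEquivOfEq (Ideal.ofList_cons x xs').symm
    exact Groth.Agent.H89.InjDimEquiv.hasInjectiveDimensionLT_of_ringEquiv
      ((e1.trans e2).trans e3) n h2

end Groth.Agent.H81.CIGor
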