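import Mathlib
import Groth.Prelude.Def_CAlg
import Groth.Agent.H2.GorensteinCM
import Groth.Agent.H15.Depth

/-!
# Liaison: basic facts on linked ideals

* `mem_minimalPrimes_of_mem_associatedPrimes_quotient`: if all localizations of `R/𝔠` are
  Cohen–Macaulay then every associated prime of `R/𝔠` is minimal over `𝔠`.
* `inf_eq_of_linked`: directly linked ideals without common associated primes are geometrically
  linked.
-/

set_option autoImplicit false

namespace Groth.Agent.H81.Liaison

universe u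

open RingTheory.Sequence IsLocalRing Submodule

section CMmin

variable {R : Type u} [CommRing R] [IsNoetherianRing R]

/-- if all localizations of `R/𝔠` are Cohen–Macaulay then every associated prime of `R/𝔠` is
minimal over `𝔠`. -/
theorem mem_minimalPrimes_of_mem_associatedPrimes_quotient (𝔠 : Ideal R)
    (hCM : ∀ (P : Ideal (R ⧸ 𝔠)) [P.IsPrime],
      LocCoh.IsCohenMacaulayLocalRing (Localization.AtPrime P))
    (p : Ideal R) (hp : p ∈ associatedPrimes R (R ⧸ 𝔠)) : p ∈ 𝔠.minimalPrimes := by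
  obtain ⟨hpp, b', hb⟩ := isAssociatedPrime_iff.mp hp
  obtain ⟨b, rfl⟩ := Ideal.Quotient.mk_surjective b'
  have hmem : ∀ x : R, x ∈ p ↔ x * b ∈ 𝔠 := by
    intro x
    rw [hb, mem_colon_singleton, mem_bot, ← Ideal.Quotient.eq_zero_iff_mem, map_mul]
    rfl
  have h𝔠p : 𝔠 ≤ p := fun x hx => (hmem x).mpr (Ideal.mul_mem_right _ _ hx)
  set π := Ideal.Quotient.mk 𝔠 with hπ
  have hsurj : Function.Surjective π := Ideal.Quotient.mk_surjective
  have hker : RingHom.ker π ≤ p := by rw [hπ, Ideal.mk_ker]; exact h𝔠p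
  set P : Ideal (R ⧸ 𝔠) := p.map π with hP
  have hPprime : P.IsPrime := Ideal.map_isPrime_of_surjective hsurj hker
  have hcomap : P.comap π = p := by
    rw [hP, Ideal.comap_map_of_surjective' π hsurj, sup_eq_left]
    exact hker
  have hcm := hCM P
  let A := Localization.AtPrime P
  -- the element `β`
  set β : A := algebraMap (R ⧸ 𝔠) A (π b) with hβ
  have hβ0 : β ≠ 0 := by
    intro h0
    rw [hβ, IsLocalization.map_eq_zero_iff P.primeCompl] at h0
    obtain ⟨⟨s, hs⟩, hs0⟩ := h0
    obtain ⟨s', rfl⟩ := hsurj s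
    apply hs
    show π s' ∈ P
    rw [← Ideal.mem_comap, hcomap, hmem]
    rw [← map_mul, hπ, Ideal.Quotient.eq_zero_iff_mem] at hs0
    exact hs0
  have hkill : ∀ y ∈ maximalIdeal A, y * β = 0 := by
    have hle : maximalIdeal A ≤ Submodule.colon (⊥ : Ideal A) {β} := by
      rw [← Localization.AtPrime.map_eq_maximalIdeal, Ideal.map_le_iff_le_comap]
      intro x hx
      obtain ⟨x', rfl⟩ := hsurj x
      have hx' : x' ∈ p := by rw [← hcomap]; exact hx
      rw [Ideal.mem_comap, mem_colon_singleton, mem_bot, smul_eq_mul, hβ, ← map_mul, ← map_mul]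
      have : x' * b ∈ 𝔠 := (hmem x').mp hx'
      rw [hπ, Ideal.Quotient.eq_zero_iff_mem.mpr this, map_zero]
    intro y hy
    have := hle hy
    rwa [mem_colon_singleton, mem_bot, smul_eq_mul] at this
  have hne : maximalIdeal A • (⊤ : Submodule A A) ≠ ⊤ := by
    rw [smul_eq_mul, Ideal.mul_top]
    exact Ideal.IsPrime.ne_top'
  have hdepth : LocCoh.depth A A = 0 := by
    apply le_antisymm _ bot_le
    show LocCoh.idealDepth (maximalIdeal A) A ≤ 0
    refine Groth.Agent.H15.idealDepth_le_of_forall (I := maximalIdeal A) (M := A) hne 0 ?_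
    intro rs hreg hmemrs
    cases rs with
    | nil => simp
    | cons x rs =>
      exfalso
      rw [isWeaklyRegular_cons_iff] at hreg
      have h1 := hkill x (hmemrs x List.mem_cons_self)
      have h2 : x • β = x • (0 : A) := by rw [smul_eq_mul, h1, smul_zero]
      exact hβ0 (hreg.1 h2)
  have hdim := hcm.supportDim_eq_depth
  rw [hdepth, Module.supportDim_self_eq_ringKrullDim,
    IsLocalization.AtPrime.ringKrullDim_eq_height P A] at hdim
  have hht : P.height = 0 := by exact_mod_cast hdim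
  rw [Ideal.height_eq_zero_iff] at hht
  rw [Ideal.minimalPrimes_eq_comap]
  exact ⟨P, hht, hcomap⟩

/-- Gorenstein rings have Cohen–Macaulay localizations. -/
theorem isCohenMacaulayLocalRing_localization_of_isGorensteinRing (B : Type u) [CommRing B]
    [h : LocCoh.IsGorensteinRing B] (P : Ideal B) [P.IsPrime] :
    LocCoh.IsCohenMacaulayLocalRing (Localization.AtPrime P) := by
  have := h.isGorensteinLocalRing_localization P
  exact Groth.Agent.H2.GorensteinCM.isCohenMacaulayLocalRing _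

end CMmin

section Linked

variable {R : Type u} [CommRing R] [IsNoetherianRing R]

theorem mem_associatedPrimes_of_mem_minimalPrimes_of_le (𝔠 I p : Ideal R) (h𝔠I : 𝔠 ≤ I)
    (hIp : I ≤ p) (hp : p ∈ 𝔠.minimalPrimes) : p ∈ associatedPrimes R (R ⧸ I) := by
  apply Module.associatedPrimes.minimalPrimes_annihilator_subset_associatedPrimes R (R ⧸ I)
  rw [Ideal.annihilator_quotient]
  refine ⟨⟨hp.1.1, hIp⟩, fun q hq hqp => ?_⟩
  exact hp.2 ⟨hq.1, h𝔠I.trans hq.2⟩ hqp

/-- directly linked ideals without common associated primes are geometrically linked. -/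
theorem inf_eq_of_linked (𝔠 I J : Ideal R)
    (hmin : ∀ p ∈ associatedPrimes R (R ⧸ 𝔠), p ∈ 𝔠.minimalPrimes)
    (hIJ : 𝔠.colon (I : Set R) = J) (hJI : 𝔠.colon (J : Set R) = I)
    (hdisj : Disjoint (associatedPrimes R (R ⧸ I)) (associatedPrimes R (R ⧸ J))) :
    I ⊓ J = 𝔠 := by
  have h𝔠I : 𝔠 ≤ I := by
    intro x hx
    rw [← hJI, mem_colon]
    intro j _
    exact Ideal.mul_mem_right _ _ hx
  have h𝔠J : 𝔠 ≤ J := by
    intro x hx
    rw [← hIJ, mem_colon]
    intro j _
    exact Ideal.mul_mem_right _ _ hx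
  apply le_antisymm _ (le_inf h𝔠I h𝔠J)
  intro f hf
  by_contra hf𝔠
  -- the nonzero cyclic submodule generated by `f̄`
  let N : Submodule R (R ⧸ 𝔠) := Submodule.span R {Ideal.Quotient.mk 𝔠 f}
  have hNnt : Nontrivial N := by
    refine ⟨⟨⟨Ideal.Quotient.mk 𝔠 f, Submodule.mem_span_singleton_self _⟩, 0, fun h => ?_⟩⟩
    have := congrArg Subtype.val h
    exact hf𝔠 (Ideal.Quotient.eq_zero_iff_mem.mp this)
  obtain ⟨p, hpN⟩ := associatedPrimes.nonempty R N
  have hp𝔠 : p ∈ associatedPrimes R (R ⧸ 𝔠) :=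
    associatedPrimes.subset_of_injective (f := N.subtype) (Submodule.injective_subtype N) hpN
  obtain ⟨hpp, ⟨y, hy⟩, hb⟩ := isAssociatedPrime_iff.mp hpN
  obtain ⟨r, rfl⟩ := Submodule.mem_span_singleton.mp hy
  have hmem : ∀ x : R, x ∈ p ↔ x * (r * f) ∈ 𝔠 := by
    intro x
    rw [hb, mem_colon_singleton, mem_bot, ← Ideal.Quotient.eq_zero_iff_mem, map_mul, map_mul]
    rw [← Subtype.coe_inj]
    rfl
  have hrfI : r * f ∈ I := Ideal.mul_mem_left _ _ hf.1
  have hrfJ : r * f ∈ J := Ideal.mul_mem_left _ _ hf.2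
  have hJp : J ≤ p := by
    intro j hj
    rw [hmem, mul_comm]
    rw [← hJI, mem_colon] at hrfI
    exact hrfI j hj
  have hIp : I ≤ p := by
    intro i hi
    rw [hmem, mul_comm]
    rw [← hIJ, mem_colon] at hrfJ
    exact hrfJ i hi
  have hpmin := hmin p hp𝔠
  exact (Set.disjoint_left.mp hdisj)
    (mem_associatedPrimes_of_mem_minimalPrimes_of_le 𝔠 I p h𝔠I hIp hpmin)
    (mem_associatedPrimes_of_mem_minimalPrimes_of_le 𝔠 J p h𝔠J hJp hpmin)

end Linked

end Groth.Agent.H81.Liaison
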