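import Mathlib
import Groth.Prelude.Def_CAlg
import Groth.Agent.H2.GorensteinCM
import Groth.Agent.H81.Liaison

/-!
# Double annihilators over Gorenstein rings

* `annihilator_annihilator_le_of_injective`: in a self-injective Noetherian local ring with a socle
  element, `0 : (0 : 𝔞) ≤ 𝔞`.
* `annihilator_map_eq_map_annihilator`: annihilators of finitely generated ideals commute with
  localization.
* `annihilator_annihilator_eq`: in a Gorenstein ring, `0 : (0 : 𝔟) = 𝔟` if all associated primes of
  `𝔟` are minimal primes of the ring.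
* `colon_colon_eq`: `𝔠 : (𝔠 : I) = I`.
-/

set_option autoImplicit false

namespace Groth.Agent.H81.LiaisonDual

universe u

open IsLocalRing Submodule

section LocalDual

variable {A : Type u} [CommRing A] [IsLocalRing A]

/-- double annihilator property in a self-injective local ring with a socle element -/
theorem annihilator_annihilator_le_of_injective [Module.Injective A A] (a : A) (ha0 : a ≠ 0)
    (ha : ∀ y ∈ maximalIdeal A, y * a = 0) (𝔞 : Ideal A) :
    Submodule.annihilator (Submodule.annihilator 𝔞 : Ideal A) ≤ 𝔞 := by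
  intro x hx
  by_contra hx𝔞
  -- the colon ideal `(𝔞 : x)`
  let K : Ideal A := 𝔞.colon {x}
  have hKmem : ∀ r : A, r ∈ K ↔ r * x ∈ 𝔞 := fun r => by
    rw [Submodule.mem_colon_singleton, smul_eq_mul]
  have hKm : K ≤ maximalIdeal A := by
    apply IsLocalRing.le_maximalIdeal
    intro htop
    have : (1 : A) ∈ K := htop ▸ Submodule.mem_top
    rw [hKmem, one_mul] at this
    exact hx𝔞 this
  -- `f : A/K → A/𝔞`, multiplication by `x`; `g : A/K → A`, multiplication by `a`
  let f : (A ⧸ K) →ₗ[A] (A ⧸ 𝔞) :=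
    Submodule.liftQ K ((Submodule.mkQ 𝔞).comp (LinearMap.toSpanSingleton A A x)) (by
      intro r hr
      rw [LinearMap.mem_ker, LinearMap.comp_apply, LinearMap.toSpanSingleton_apply,
        Submodule.mkQ_apply, Submodule.Quotient.mk_eq_zero, smul_eq_mul]
      exact (hKmem r).mp hr)
  let g : (A ⧸ K) →ₗ[A] A :=
    Submodule.liftQ K (LinearMap.toSpanSingleton A A a) (by
      intro r hr
      rw [LinearMap.mem_ker, LinearMap.toSpanSingleton_apply, smul_eq_mul]
      exact ha r (hKm hr))
  have hf : Function.Injective f := by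
    rw [← LinearMap.ker_eq_bot]
    apply Submodule.ker_liftQ_eq_bot
    intro r hr
    rw [LinearMap.mem_ker, LinearMap.comp_apply, LinearMap.toSpanSingleton_apply,
      Submodule.mkQ_apply, Submodule.Quotient.mk_eq_zero, smul_eq_mul] at hr
    exact (hKmem r).mpr hr
  obtain ⟨h, hh⟩ := Module.Injective.extension_property A A (A ⧸ K) (A ⧸ 𝔞) f hf g
  set b : A := h (Submodule.Quotient.mk 1) with hb
  have hbann : b ∈ (Submodule.annihilator 𝔞 : Ideal A) := by
    rw [Submodule.mem_annihilator]
    intro p hp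
    rw [hb, smul_eq_mul, mul_comm, ← smul_eq_mul, ← map_smul, ← Submodule.Quotient.mk_smul,
      smul_eq_mul, mul_one, (Submodule.Quotient.mk_eq_zero 𝔞).mpr hp, map_zero]
  have h1 : x * b = a := by
    have := LinearMap.congr_fun hh (Submodule.Quotient.mk 1)
    simp only [LinearMap.comp_apply, f, g, Submodule.liftQ_apply, LinearMap.toSpanSingleton_apply,
      one_smul, Submodule.mkQ_apply] at this
    rw [← this, hb, ← smul_eq_mul, ← map_smul, ← Submodule.Quotient.mk_smul, smul_eq_mul, mul_one]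
  have h2 : x * b = 0 := by
    have := (Submodule.mem_annihilator.mp hx) b hbann
    rwa [smul_eq_mul] at this
  exact ha0 (h1 ▸ h2)

end LocalDual

section AnnLoc

variable {B : Type u} [CommRing B] (M : Submonoid B) (A : Type u) [CommRing A] [Algebra B A]

/-- annihilators of finitely generated ideals commute with localization -/
theorem annihilator_map_eq_map_annihilator [IsLocalization M A] (𝔟 : Ideal B) (hfg : 𝔟.FG) :
    (Submodule.annihilator (𝔟.map (algebraMap B A)) : Ideal A) =
      (Submodule.annihilator 𝔟 : Ideal B).map (algebraMap B A) := by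
  apply le_antisymm
  · intro β hβ
    obtain ⟨⟨b, s⟩, hbs⟩ := IsLocalization.surj M β
    obtain ⟨t, ht⟩ := hfg
    have hkill : ∀ i ∈ t, ∃ m : M, (m : B) * (b * i) = 0 := by
      intro i hi
      rw [← IsLocalization.map_eq_zero_iff M A, map_mul, ← hbs]
      have hi' : algebraMap B A i ∈ 𝔟.map (algebraMap B A) :=
        Ideal.mem_map_of_mem _ (ht ▸ Submodule.subset_span hi)
      have := (Submodule.mem_annihilator.mp hβ) _ hi'
      rw [smul_eq_mul] at this
      rw [mul_assoc, mul_comm (algebraMap B A s), ← mul_assoc, this, zero_mul]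
    choose! m hm using hkill
    classical
    let μ : M := ∏ i ∈ t, m i
    have hμ : ∀ i ∈ t, (μ : B) * (b * i) = 0 := by
      intro i hi
      have : (μ : B) = (∏ j ∈ t.erase i, (m j : B)) * (m i : B) := by
        simp only [μ, Submonoid.coe_finsetProd]
        rw [Finset.prod_erase_mul _ _ hi]
      rw [this, mul_assoc, hm i hi, mul_zero]
    have hμb : (μ : B) * b ∈ (Submodule.annihilator 𝔟 : Ideal B) := by
      rw [Submodule.mem_annihilator]
      intro p hp
      rw [← ht] at hp
      refine Submodule.span_induction (p := fun p _ => ((μ : B) * b) • p = 0) ?_ ?_ ?_ ?_ hp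
      · intro i hi
        rw [smul_eq_mul, mul_assoc]
        exact hμ i hi
      · simp
      · intro x y _ _ hx hy
        rw [smul_add, hx, hy, add_zero]
      · intro c x _ hx
        rw [smul_comm, hx, smul_zero]
    have hunit : IsUnit (algebraMap B A ((μ : B) * s)) := by
      rw [map_mul]
      exact (IsLocalization.map_units A μ).mul (IsLocalization.map_units A s)
    have : β * algebraMap B A ((μ : B) * s) ∈
        (Submodule.annihilator 𝔟 : Ideal B).map (algebraMap B A) := by
      have h1 : β * algebraMap B A ((μ : B) * s) = algebraMap B A ((μ : B) * b) := by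
        rw [map_mul, map_mul, ← hbs]
        ring
      rw [h1]
      exact Ideal.mem_map_of_mem _ hμb
    exact (Ideal.mul_unit_mem_iff_mem _ hunit).mp this
  · rw [Ideal.map_le_iff_le_comap]
    intro y hy
    rw [Ideal.mem_comap, Submodule.mem_annihilator]
    intro z hz
    refine Submodule.span_induction (p := fun z _ => algebraMap B A y • z = 0) ?_ ?_ ?_ ?_ hz
    · rintro _ ⟨i, hi, rfl⟩
      rw [smul_eq_mul, ← map_mul]
      have := (Submodule.mem_annihilator.mp hy) i hi
      rw [smul_eq_mul] at this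
      rw [this, map_zero]
    · simp
    · intro x z _ _ hx hz
      rw [smul_add, hx, hz, add_zero]
    · intro c x _ hx
      rw [smul_comm, hx, smul_zero]

end AnnLoc

section GlobalDual

open CategoryTheory RingTheory.Sequence

/-- a zero-dimensional Gorenstein local ring is self-injective and has a socle element -/
theorem exists_socle_and_injective (A : Type u) [CommRing A] [hA : LocCoh.IsGorensteinLocalRing A]
    (hdim : ringKrullDim A = 0) :
    ∃ a : A, a ≠ 0 ∧ (∀ y ∈ maximalIdeal A, y * a = 0) ∧ Module.Injective A A := by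
  have hcm := (Groth.Agent.H2.GorensteinCM.isCohenMacaulayLocalRing A).supportDim_eq_depth
  rw [Module.supportDim_self_eq_ringKrullDim, hdim] at hcm
  have hdepth : LocCoh.depth A A = 0 := by
    have : ((0 : ℕ∞) : WithBot ℕ∞) = ((LocCoh.depth A A : ℕ∞) : WithBot ℕ∞) := by
      exact_mod_cast hcm
    exact (WithBot.coe_injective this).symm
  have hnoreg : ¬ ∃ x ∈ maximalIdeal A, IsSMulRegular A x := by
    rintro ⟨x, hxm, hx⟩
    have h1 : (([x] : List A).length : ℕ∞) ≤ LocCoh.idealDepth (maximalIdeal A) A :=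
      Groth.Agent.H15.le_idealDepth (maximalIdeal A) A
        ((isWeaklyRegular_singleton_iff A x).mpr hx) (by simpa using hxm)
    rw [show LocCoh.idealDepth (maximalIdeal A) A = LocCoh.depth A A from rfl, hdepth] at h1
    simp at h1
  obtain ⟨a, ha0, ha⟩ := Groth.Agent.H2.GorensteinCM.exists_socle_of_not_exists_regular hnoreg
  obtain ⟨n, hn⟩ := hA.exists_hasInjectiveDimensionLT
  have hn' : HasInjectiveDimensionLT (ModuleCat.of A A) (n + 1) :=
    hasInjectiveDimensionLT_of_ge _ n _ (by omega)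
  exact ⟨a, ha0, ha, Groth.Agent.H2.GorensteinCM.injective_of_socle a ha0 ha n hn'⟩

variable {B : Type u} [CommRing B] [IsNoetherianRing B]

/-- in a Gorenstein ring, `0 : (0 : 𝔟) = 𝔟` if all associated primes of `B/𝔟` are minimal primes
of `B`. -/
theorem annihilator_annihilator_eq [hB : LocCoh.IsGorensteinRing B] (𝔟 : Ideal B)
    (h : ∀ P ∈ associatedPrimes B (B ⧸ 𝔟), P ∈ minimalPrimes B) :
    (Submodule.annihilator (Submodule.annihilator 𝔟 : Ideal B) : Ideal B) = 𝔟 := by
  apply le_antisymm
  · intro f hf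
    by_contra hf𝔟
    let N : Submodule B (B ⧸ 𝔟) := Submodule.span B {Ideal.Quotient.mk 𝔟 f}
    have hNnt : Nontrivial N := by
      refine ⟨⟨⟨Ideal.Quotient.mk 𝔟 f, Submodule.mem_span_singleton_self _⟩, 0, fun h => ?_⟩⟩
      have := congrArg Subtype.val h
      exact hf𝔟 (Ideal.Quotient.eq_zero_iff_mem.mp this)
    obtain ⟨P, hPN⟩ := associatedPrimes.nonempty B N
    have hP𝔟 : P ∈ associatedPrimes B (B ⧸ 𝔟) :=
      associatedPrimes.subset_of_injective (f := N.subtype) (Submodule.injective_subtype N) hPN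
    obtain ⟨hPp, ⟨y, hy⟩, hb⟩ := isAssociatedPrime_iff.mp hPN
    obtain ⟨r, rfl⟩ := Submodule.mem_span_singleton.mp hy
    have hmem : ∀ x : B, x ∈ P ↔ x * (r * f) ∈ 𝔟 := by
      intro x
      rw [hb, mem_colon_singleton, mem_bot, ← Ideal.Quotient.eq_zero_iff_mem, map_mul, map_mul]
      rw [← Subtype.coe_inj]
      rfl
    set g := r * f with hgdef
    have hg : g ∈ (Submodule.annihilator (Submodule.annihilator 𝔟 : Ideal B) : Ideal B) :=
      Ideal.mul_mem_left _ _ hf
    have hPmin := h P hP𝔟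
    have hht : P.height = 0 := Ideal.height_eq_zero_iff.mpr hPmin
    let A := Localization.AtPrime P
    have hG : LocCoh.IsGorensteinLocalRing A := hB.isGorensteinLocalRing_localization P
    have hdim : ringKrullDim A = 0 := by
      rw [IsLocalization.AtPrime.ringKrullDim_eq_height P A, hht]
      rfl
    obtain ⟨a, ha0, ha, hinj⟩ := exists_socle_and_injective A hdim
    have hfg : 𝔟.FG := IsNoetherian.noetherian 𝔟
    have hγ : algebraMap B A g ∈ (Submodule.annihilator
        (Submodule.annihilator (𝔟.map (algebraMap B A)) : Ideal A) : Ideal A) := by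
      rw [annihilator_map_eq_map_annihilator P.primeCompl A 𝔟 hfg, Submodule.mem_annihilator]
      intro z hz
      refine Submodule.span_induction (p := fun z _ => algebraMap B A g • z = 0) ?_ ?_ ?_ ?_ hz
      · rintro _ ⟨i, hi, rfl⟩
        rw [smul_eq_mul, ← map_mul]
        have := (Submodule.mem_annihilator.mp hg) i hi
        rw [smul_eq_mul] at this
        rw [this, map_zero]
      · simp
      · intro x z _ _ hx hz
        rw [smul_add, hx, hz, add_zero]
      · intro c x _ hx
        rw [smul_comm, hx, smul_zero]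
    have hmap := annihilator_annihilator_le_of_injective a ha0 ha _ hγ
    rw [IsLocalization.mem_map_algebraMap_iff P.primeCompl] at hmap
    obtain ⟨⟨⟨i, hi⟩, s⟩, his⟩ := hmap
    have h0 : algebraMap B A (g * s - i) = 0 := by
      rw [map_sub, map_mul]
      simp only at his
      rw [his, sub_self]
    rw [IsLocalization.map_eq_zero_iff P.primeCompl] at h0
    obtain ⟨t, ht⟩ := h0
    have hts : ((t : B) * s : B) ∈ P := by
      rw [hmem]
      have : (t : B) * s * g = t * i := by linear_combination ht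
      rw [this]
      exact Ideal.mul_mem_left _ _ hi
    rcases hPp.mem_or_mem hts with h1 | h1
    · exact t.2 h1
    · exact s.2 h1
  · intro x hx
    rw [Submodule.mem_annihilator]
    intro y hy
    rw [smul_eq_mul, mul_comm]
    have := (Submodule.mem_annihilator.mp hy) x hx
    rwa [smul_eq_mul] at this

end GlobalDual

section Colon

variable {R : Type u} [CommRing R] [IsNoetherianRing R]

theorem mem_colon_iff_mk_mem_annihilator (𝔠 I : Ideal R) (x : R) :
    x ∈ 𝔠.colon (I : Set R) ↔
      Ideal.Quotient.mk 𝔠 x ∈ (Submodule.annihilator (I.map (Ideal.Quotient.mk 𝔠)) : Ideal (R ⧸ 𝔠)) := by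
  rw [mem_colon, Submodule.mem_annihilator]
  constructor
  · intro h y hy
    obtain ⟨i, hi, rfl⟩ := (Ideal.mem_map_iff_of_surjective _ Ideal.Quotient.mk_surjective).mp hy
    rw [smul_eq_mul, ← map_mul, Ideal.Quotient.eq_zero_iff_mem]
    exact h i hi
  · intro h i hi
    have := h _ (Ideal.mem_map_of_mem (Ideal.Quotient.mk 𝔠) hi)
    rwa [smul_eq_mul, ← map_mul, Ideal.Quotient.eq_zero_iff_mem] at this

theorem mem_colon_colon_iff_mk_mem_annihilator (𝔠 I : Ideal R) (x : R) :
    x ∈ 𝔠.colon ((𝔠.colon (I : Set R) : Ideal R) : Set R) ↔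
      Ideal.Quotient.mk 𝔠 x ∈ (Submodule.annihilator
        (Submodule.annihilator (I.map (Ideal.Quotient.mk 𝔠)) : Ideal (R ⧸ 𝔠)) : Ideal (R ⧸ 𝔠)) := by
  rw [mem_colon, Submodule.mem_annihilator]
  constructor
  · intro h y hy
    obtain ⟨j, rfl⟩ := Ideal.Quotient.mk_surjective y
    rw [smul_eq_mul, ← map_mul, Ideal.Quotient.eq_zero_iff_mem]
    exact h j ((mem_colon_iff_mk_mem_annihilator 𝔠 I j).mpr hy)
  · intro h j hj
    have := h _ ((mem_colon_iff_mk_mem_annihilator 𝔠 I j).mp hj)
    rwa [smul_eq_mul, ← map_mul, Ideal.Quotient.eq_zero_iff_mem] at this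

/-- associated primes of `B/𝔟` with `B = R/𝔠`, `𝔟 = I B` pull back to associated primes of `R/I`. -/
theorem comap_mem_associatedPrimes (𝔠 I : Ideal R) (h𝔠I : 𝔠 ≤ I) (P : Ideal (R ⧸ 𝔠))
    (hP : P ∈ associatedPrimes (R ⧸ 𝔠) ((R ⧸ 𝔠) ⧸ I.map (Ideal.Quotient.mk 𝔠))) :
    P.comap (Ideal.Quotient.mk 𝔠) ∈ associatedPrimes R (R ⧸ I) := by
  obtain ⟨hPp, y, hy⟩ := isAssociatedPrime_iff.mp hP
  obtain ⟨y', rfl⟩ := Ideal.Quotient.mk_surjective y
  obtain ⟨r, rfl⟩ := Ideal.Quotient.mk_surjective y'
  refine isAssociatedPrime_iff.mpr ⟨Ideal.comap_isPrime _ _, Ideal.Quotient.mk I r, ?_⟩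
  ext x
  rw [Ideal.mem_comap, hy, mem_colon_singleton, mem_colon_singleton, mem_bot, mem_bot]
  rw [show Ideal.Quotient.mk 𝔠 x • (Ideal.Quotient.mk (I.map (Ideal.Quotient.mk 𝔠))
      (Ideal.Quotient.mk 𝔠 r)) = Ideal.Quotient.mk (I.map (Ideal.Quotient.mk 𝔠))
      (Ideal.Quotient.mk 𝔠 (x * r)) by rw [map_mul]; rfl,
    Ideal.Quotient.eq_zero_iff_mem, Ideal.mem_quotient_iff_mem h𝔠I,
    show x • (Ideal.Quotient.mk I r) = Ideal.Quotient.mk I (x * r) from rfl,
    Ideal.Quotient.eq_zero_iff_mem]

/-- `𝔠 : (𝔠 : I) = I` when `R/𝔠` is Gorenstein and all associated primes of `I ⊇ 𝔠` are minimal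
over `𝔠`. -/
theorem colon_colon_eq (𝔠 I : Ideal R) [LocCoh.IsGorensteinRing (R ⧸ 𝔠)] (h𝔠I : 𝔠 ≤ I)
    (hass : ∀ p ∈ associatedPrimes R (R ⧸ I), p ∈ 𝔠.minimalPrimes) :
    𝔠.colon ((𝔠.colon (I : Set R) : Ideal R) : Set R) = I := by
  have hsurj : Function.Surjective (Ideal.Quotient.mk 𝔠) := Ideal.Quotient.mk_surjective
  have hassB : ∀ P ∈ associatedPrimes (R ⧸ 𝔠) ((R ⧸ 𝔠) ⧸ I.map (Ideal.Quotient.mk 𝔠)),
      P ∈ minimalPrimes (R ⧸ 𝔠) := by
    intro P hP
    have h1 := hass _ (comap_mem_associatedPrimes 𝔠 I h𝔠I P hP)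
    rw [Ideal.minimalPrimes_eq_comap] at h1
    obtain ⟨P', hP', hPP'⟩ := h1
    have : P' = P := Ideal.comap_injective_of_surjective _ hsurj hPP'
    exact this ▸ hP'
  ext x
  rw [mem_colon_colon_iff_mk_mem_annihilator, annihilator_annihilator_eq _ hassB,
    Ideal.mem_quotient_iff_mem h𝔠I]

/-- a prime of height `c` containing an ideal of height `c` is minimal over it. -/
theorem mem_minimalPrimes_of_height_eq (𝔠 p : Ideal R) [hp : p.IsPrime] (h𝔠p : 𝔠 ≤ p)
    (c : ℕ) (h𝔠c : 𝔠.height = c) (hpc : p.height = c) : p ∈ 𝔠.minimalPrimes := by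
  refine ⟨⟨hp, h𝔠p⟩, fun q hq hqp => ?_⟩
  by_contra hpq
  have hlt : q < p := lt_of_le_of_ne hqp (fun h => hpq (h ▸ le_rfl))
  have hq' : q.IsPrime := hq.1
  have h1 := Ideal.height_strict_mono_of_isPrime hlt
  have h2 : 𝔠.height ≤ q.height := Ideal.height_mono hq.2
  rw [h𝔠c] at h2
  rw [hpc] at h1
  exact absurd (lt_of_le_of_lt h2 h1) (lt_irrefl _)

end Colon

end Groth.Agent.H81.LiaisonDual
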