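import Mathlib
import Groth.Prelude.Def_CAlg
import Groth.Agent.H2.GorensteinExt
import Groth.Agent.H29.DepthAB

/-!
# Linkage over a Gorenstein local ring: annihilators modulo regular sequences

* `subsingleton_ext_of_isWeaklyRegular`: Ischebeck-type vanishing `Ext^i(N, A) = 0` for
  `i > id(A) - (length of an N-regular sequence in 𝔪)`.
* `subsingleton_ext_quotient`: `Ext^i(A/I, A) = 0` for `i > 0` if `A` is Gorenstein local and `A/I`
  is Cohen–Macaulay of the same dimension as `A`.
* `exists_lift_of_isWeaklyRegular`: if `Ext^i(N, M) = 0` for `i > 0` and `rs` is `M`-regular then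
  every map `N → M/(rs)M` lifts to `N → M`.
* `annihilator_sup_eq_colon`, `annihilator_inf_eq_mul`: the linkage statements.
-/

set_option autoImplicit false

namespace Groth.Agent.H81.LinkExt

universe u

open CategoryTheory Abelian RingTheory.Sequence IsLocalRing Pointwise

section Ischebeck

variable {A : Type u} [CommRing A] [IsLocalRing A] [IsNoetherianRing A]

/-- Ischebeck-type vanishing: if `id_A(A) ≤ d` and `N` is a finite module having a regular sequence
of length `t` in the maximal ideal then `Ext^i(N, A) = 0` for `i + t > d`. -/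
theorem subsingleton_ext_of_isWeaklyRegular (d : ℕ)
    (hid : HasInjectiveDimensionLT (ModuleCat.of A A) (d + 1)) :
    ∀ (rs : List A) (N : Type u) [AddCommGroup N] [Module A N] [Module.Finite A N],
      IsWeaklyRegular N rs → (∀ r ∈ rs, r ∈ maximalIdeal A) → ∀ i : ℕ, d < i + rs.length →
        Subsingleton (Ext (ModuleCat.of A N) (ModuleCat.of A A) i) := by
  intro rs
  induction rs with
  | nil =>
    intro N _ _ _ _ _ i hi
    exact HasInjectiveDimensionLT.subsingleton (ModuleCat.of A A) (d + 1) i
      (by simpa using hi) _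
  | cons x rs ih =>
    intro N _ _ _ hreg hmem i hi
    rw [isWeaklyRegular_cons_iff] at hreg
    have h1 := ih (QuotSMulTop x N) hreg.2 (fun r hr => hmem r (List.mem_cons_of_mem _ hr)) (i + 1)
      (by simp only [List.length_cons] at hi; omega)
    exact Groth.Agent.H2.GorensteinExt.subsingleton_ext_of_quotSMulTop (ModuleCat.of A N)
      (ModuleCat.of A A) x (hmem x List.mem_cons_self) hreg.1 i h1

end Ischebeck

section Quot

/-- `Ext^i(A/I, A) = 0` for `i > 0` when `A` is Gorenstein local and `A/I` is Cohen–Macaulay of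
dimension `dim A`. -/
theorem subsingleton_ext_quotient (A : Type u) [CommRing A] [LocCoh.IsGorensteinLocalRing A]
    (I : Ideal A) (hI : ringKrullDim (A ⧸ I) = ringKrullDim A)
    [hcm : LocCoh.IsCohenMacaulayLocalRing (A ⧸ I)] (i : ℕ) (hi : 0 < i) :
    Subsingleton (Ext (ModuleCat.of A (A ⧸ I)) (ModuleCat.of A A) i) := by
  obtain ⟨d, hd⟩ : ∃ d : ℕ, ringKrullDim A = d := by
    obtain ⟨d, hd⟩ := Groth.Agent.H29.CML.exists_nat_supportDim_eq (A := A) A
    exact ⟨d, by rw [← Module.supportDim_self_eq_ringKrullDim, hd]⟩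
  have hid := Groth.Agent.H2.GorensteinCM.hasInjectiveDimensionLT_of_ringKrullDim A d hd
  have : IsLocalHom (algebraMap A (A ⧸ I)) :=
    IsLocalHom.of_surjective _ Ideal.Quotient.mk_surjective
  have hdep : LocCoh.depth A (A ⧸ I) = d := by
    rw [Groth.Agent.H29.DepthAB.depth_eq (A := A) (B := A ⧸ I) (A ⧸ I)]
    have h := hcm.supportDim_eq_depth
    rw [Module.supportDim_self_eq_ringKrullDim, hI, hd] at h
    have : ((d : ℕ∞) : WithBot ℕ∞) = ((LocCoh.depth (A ⧸ I) (A ⧸ I) : ℕ∞) : WithBot ℕ∞) := by
      exact_mod_cast h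
    exact (WithBot.coe_injective this).symm
  have hne : maximalIdeal A • (⊤ : Submodule A (A ⧸ I)) ≠ ⊤ :=
    Groth.Agent.H29.CML.smul_top_ne_top (A ⧸ I)
  obtain ⟨rs, hlen, hmem, hreg⟩ :=
    Groth.Agent.H15.exists_isRegular_of_le_idealDepth (I := maximalIdeal A) (M := A ⧸ I) hne d
      (le_of_eq hdep.symm)
  exact subsingleton_ext_of_isWeaklyRegular d hid rs (A ⧸ I) hreg.1 hmem i (by omega)

end Quot

section Lift

variable {A : Type u} [CommRing A]

/-- if `Ext^1(N, M) = 0` and `x` is `M`-regular, every map `N → M/xM` lifts to `M`. -/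
theorem exists_lift_quotSMulTop (N M : Type u) [AddCommGroup N] [Module A N] [AddCommGroup M]
    [Module A M] (x : A) (hx : IsSMulRegular M x)
    (h1 : Subsingleton (Ext (ModuleCat.of A N) (ModuleCat.of A M) 1))
    (φ : N →ₗ[A] QuotSMulTop x M) :
    ∃ ψ : N →ₗ[A] M, (Submodule.mkQ (x • (⊤ : Submodule A M))).comp ψ = φ := by
  let S := (ModuleCat.of A M).smulShortComplex x
  have hS : S.ShortExact := IsSMulRegular.smulShortComplex_shortExact (M := ModuleCat.of A M) hx
  obtain ⟨x₂, hx₂⟩ := Ext.covariant_sequence_exact₃ (ModuleCat.of A N) hS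
    (Ext.mk₀ (ModuleCat.ofHom φ)) (rfl : 0 + 1 = 1) (@Subsingleton.elim _ h1 _ _)
  obtain ⟨ψ, rfl⟩ := (Ext.mk₀_bijective _ _).surjective x₂
  have hcomp : ψ ≫ S.g = ModuleCat.ofHom φ :=
    (Ext.mk₀_bijective _ _).injective (by simpa using hx₂)
  refine ⟨ψ.hom, ?_⟩
  have := congrArg ModuleCat.Hom.hom hcomp
  exact this

/-- vanishing of `Ext^i(N, M)` and `Ext^{i+1}(N, M)` gives vanishing of `Ext^i(N, M/xM)`. -/
theorem subsingleton_ext_quotSMulTop (N M : Type u) [AddCommGroup N] [Module A N] [AddCommGroup M]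
    [Module A M] (x : A) (hx : IsSMulRegular M x) (i : ℕ)
    (h1 : Subsingleton (Ext (ModuleCat.of A N) (ModuleCat.of A M) i))
    (h2 : Subsingleton (Ext (ModuleCat.of A N) (ModuleCat.of A M) (i + 1))) :
    Subsingleton (Ext (ModuleCat.of A N) (ModuleCat.of A (QuotSMulTop x M)) i) := by
  let S := (ModuleCat.of A M).smulShortComplex x
  have hS : S.ShortExact := IsSMulRegular.smulShortComplex_shortExact (M := ModuleCat.of A M) hx
  have key : ∀ z : Ext (ModuleCat.of A N) S.X₃ i, z = 0 := by
    intro z
    obtain ⟨x₂, rfl⟩ := Ext.covariant_sequence_exact₃ _ hS z (rfl : i + 1 = i + 1)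
      (@Subsingleton.elim _ h2 _ _)
    have hx0 : x₂ = 0 := @Subsingleton.elim _ h1 _ _
    rw [hx0, Ext.zero_comp]
  exact ⟨fun a b => (key a).trans (key b).symm⟩

/-- if `Ext^i(N, M) = 0` for all `i > 0` and `rs` is a weakly `M`-regular sequence, every map
`N → M/(rs)M` lifts to `M`. -/
theorem exists_lift_of_isWeaklyRegular (N : Type u) [AddCommGroup N] [Module A N] :
    ∀ (rs : List A) (M : Type u) [AddCommGroup M] [Module A M], IsWeaklyRegular M rs →
      (∀ i : ℕ, 0 < i → Subsingleton (Ext (ModuleCat.of A N) (ModuleCat.of A M) i)) →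
      ∀ φ : N →ₗ[A] M ⧸ (Ideal.ofList rs • (⊤ : Submodule A M)),
        ∃ ψ : N →ₗ[A] M, (Submodule.mkQ (Ideal.ofList rs • (⊤ : Submodule A M))).comp ψ = φ := by
  intro rs
  induction rs with
  | nil =>
    intro M _ _ _ _ φ
    have hbot : (Ideal.ofList ([] : List A) • (⊤ : Submodule A M)) = ⊥ := by
      rw [Ideal.ofList_nil, Submodule.bot_smul]
    refine ⟨(Submodule.quotEquivOfEqBot _ hbot).toLinearMap.comp φ, ?_⟩
    ext n
    apply (Submodule.quotEquivOfEqBot _ hbot).injective
    simp
  | cons x rs ih =>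
    intro M _ _ hreg hext φ
    rw [isWeaklyRegular_cons_iff] at hreg
    let e := Submodule.quotOfListConsSMulTopEquivQuotSMulTopInner M x rs
    have hext' : ∀ i : ℕ, 0 < i →
        Subsingleton (Ext (ModuleCat.of A N) (ModuleCat.of A (QuotSMulTop x M)) i) :=
      fun i hi => subsingleton_ext_quotSMulTop N M x hreg.1 i (hext i hi) (hext (i + 1) (by omega))
    obtain ⟨ψ₁, hψ₁⟩ := ih (QuotSMulTop x M) hreg.2 hext' (e.toLinearMap.comp φ)
    obtain ⟨ψ, hψ⟩ := exists_lift_quotSMulTop N M x hreg.1 (hext 1 one_pos) ψ₁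
    refine ⟨ψ, ?_⟩
    ext n
    apply e.injective
    have h1 := LinearMap.congr_fun hψ₁ n
    have h2 := LinearMap.congr_fun hψ n
    simp only [LinearMap.comp_apply, LinearEquiv.coe_coe] at h1 h2 ⊢
    rw [← h1, ← h2]
    rfl

end Lift

section Link

variable (A : Type u) [CommRing A] [LocCoh.IsGorensteinLocalRing A] (I : Ideal A)
  (hI : ringKrullDim (A ⧸ I) = ringKrullDim A) [LocCoh.IsCohenMacaulayLocalRing (A ⧸ I)]

include hI

/-- `(0 : I) + (xs) = ((xs) : I)` for a regular sequence `xs` of a Gorenstein local ring `A`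
and `A/I` Cohen–Macaulay of dimension `dim A`. -/
theorem annihilator_sup_eq_colon (xs : List A) (hxs : IsWeaklyRegular A xs) :
    Submodule.annihilator I ⊔ Ideal.ofList xs =
      Submodule.colon (Ideal.ofList xs) (I : Set A) := by
  have htop : Ideal.ofList xs • (⊤ : Submodule A A) = Ideal.ofList xs := by
    rw [smul_eq_mul, Ideal.mul_top]
  apply le_antisymm
  · refine sup_le (fun a ha => ?_) (fun a ha => ?_)
    · rw [Submodule.mem_colon]
      intro p hp
      rw [Submodule.mem_annihilator] at ha
      rw [ha p hp]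
      exact zero_mem _
    · rw [Submodule.mem_colon]
      intro p _
      rw [smul_eq_mul]
      exact Ideal.mul_mem_right _ _ ha
  · intro a ha
    rw [Submodule.mem_colon] at ha
    let φ : (A ⧸ I) →ₗ[A] A ⧸ (Ideal.ofList xs • (⊤ : Submodule A A)) :=
      Submodule.liftQ I ((Submodule.mkQ _).comp (LinearMap.toSpanSingleton A A a)) (by
        intro p hp
        rw [LinearMap.mem_ker, LinearMap.comp_apply, LinearMap.toSpanSingleton_apply,
          Submodule.mkQ_apply, Submodule.Quotient.mk_eq_zero, htop, smul_eq_mul, mul_comm]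
        exact ha p hp)
    obtain ⟨ψ, hψ⟩ := exists_lift_of_isWeaklyRegular (A ⧸ I) xs A hxs
      (fun i hi => subsingleton_ext_quotient A I hI i hi) φ
    set b : A := ψ (Submodule.Quotient.mk 1) with hb
    have hbann : b ∈ Submodule.annihilator I := by
      rw [Submodule.mem_annihilator]
      intro p hp
      rw [hb, smul_eq_mul, mul_comm, ← smul_eq_mul, ← map_smul, ← Submodule.Quotient.mk_smul,
        smul_eq_mul, mul_one, (Submodule.Quotient.mk_eq_zero I).mpr hp, map_zero]
    have hdiff : b - a ∈ Ideal.ofList xs := by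
      have h1 := LinearMap.congr_fun hψ (Submodule.Quotient.mk 1)
      simp only [LinearMap.comp_apply, φ, Submodule.liftQ_apply, LinearMap.toSpanSingleton_apply,
        one_smul, Submodule.mkQ_apply] at h1
      rw [← htop, ← Submodule.Quotient.eq]
      exact h1
    have : a = b + (a - b) := by ring
    rw [this]
    exact Submodule.add_mem_sup hbann (by rw [← neg_sub]; exact neg_mem hdiff)

/-- `(0 : I) ∩ (xs) = (xs) (0 : I)` for a regular sequence `xs` of a Gorenstein local ring `A`
and `A/I` Cohen–Macaulay of dimension `dim A`. -/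
theorem annihilator_inf_eq_mul (xs : List A) (hxs : IsWeaklyRegular A xs) :
    Submodule.annihilator I ⊓ Ideal.ofList xs = Ideal.ofList xs * Submodule.annihilator I := by
  induction xs using List.reverseRecOn with
  | nil => simp
  | append_singleton xs x ih =>
    rw [isWeaklyRegular_append_iff, isWeaklyRegular_singleton_iff] at hxs
    obtain ⟨hxs, hx⟩ := hxs
    have ih := ih hxs
    have htop : Ideal.ofList xs • (⊤ : Submodule A A) = Ideal.ofList xs := by
      rw [smul_eq_mul, Ideal.mul_top]
    have hof : Ideal.ofList (xs ++ [x]) = Ideal.ofList xs ⊔ Ideal.span {x} := by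
      rw [Ideal.ofList_append, Ideal.ofList_singleton]
    apply le_antisymm
    · intro a ha
      obtain ⟨haJ, har⟩ := Submodule.mem_inf.mp ha
      rw [hof] at har
      obtain ⟨a', ha', y, hy, rfl⟩ := Submodule.mem_sup.mp har
      obtain ⟨c, rfl⟩ := Ideal.mem_span_singleton'.mp hy
      -- `c ∈ ((xs) : I)`
      have hc : c ∈ Submodule.colon (Ideal.ofList xs) (I : Set A) := by
        rw [Submodule.mem_colon]
        intro p hp
        have h0 : (a' + c * x) * p = 0 := by
          have := (Submodule.mem_annihilator.mp haJ) p hp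
          rwa [smul_eq_mul] at this
        have hmem : x * (c * p) ∈ Ideal.ofList xs := by
          have : x * (c * p) = (a' + c * x) * p - a' * p := by ring
          rw [this, h0, zero_sub]
          exact neg_mem (Ideal.mul_mem_right _ _ ha')
        have hz : x • (Submodule.Quotient.mk (c * p) :
            A ⧸ (Ideal.ofList xs • (⊤ : Submodule A A))) = x • 0 := by
          rw [smul_zero, ← Submodule.Quotient.mk_smul, Submodule.Quotient.mk_eq_zero, htop,
            smul_eq_mul]
          exact hmem
        have := hx hz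
        rw [Submodule.Quotient.mk_eq_zero, htop] at this
        rwa [smul_eq_mul]
      rw [← annihilator_sup_eq_colon A I hI xs hxs] at hc
      obtain ⟨j, hj, r', hr', rfl⟩ := Submodule.mem_sup.mp hc
      have ha'' : a' + r' * x ∈ Submodule.annihilator I ⊓ Ideal.ofList xs := by
        refine Submodule.mem_inf.mpr ⟨?_, add_mem ha' (Ideal.mul_mem_right _ _ hr')⟩
        have : a' + r' * x = (a' + (j + r') * x) - x * j := by ring
        rw [this]
        exact sub_mem haJ (Ideal.mul_mem_left _ _ hj)
      rw [ih] at ha''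
      have : a' + (j + r') * x = (a' + r' * x) + x * j := by ring
      rw [this]
      have hle : Ideal.ofList xs ≤ Ideal.ofList (xs ++ [x]) := by
        rw [hof]
        exact le_sup_left
      refine add_mem (Ideal.mul_mono_left hle ha'') ?_
      · refine Ideal.mul_mem_mul ?_ hj
        rw [hof]
        exact Submodule.mem_sup_right (Ideal.mem_span_singleton_self x)
    · rw [inf_comm]
      exact Ideal.mul_le_inf

end Link

end Groth.Agent.H81.LinkExt
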