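import Mathlib
import Groth.Agent.H81.LinkExt
import Groth.Agent.H72.Miracle

/-!
# Linkage: regular sequences stay regular on `A/I` and `A/(0:I)`; flatness over a regular base
-/

set_option autoImplicit false

namespace Groth.Agent.H81.LinkFlat

universe u

open RingTheory.Sequence IsLocalRing Pointwise

section General

variable {A : Type u} [CommRing A]

theorem mk_mk_eq_zero_iff (J 𝔯 : Ideal A) (a : A) :
    (Submodule.Quotient.mk (Submodule.Quotient.mk a : A ⧸ J) :
      (A ⧸ J) ⧸ (𝔯 • (⊤ : Submodule A (A ⧸ J)))) = 0 ↔ a ∈ J ⊔ 𝔯 := by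
  rw [Submodule.Quotient.mk_eq_zero]
  have h : 𝔯 • (⊤ : Submodule A (A ⧸ J)) = Submodule.map (Submodule.mkQ J) 𝔯 := by
    have h1 : (𝔯 : Submodule A A) = 𝔯 • (⊤ : Submodule A A) := by
      rw [smul_eq_mul, Ideal.mul_top]
    conv_rhs => rw [h1]
    rw [Submodule.map_smul'', Submodule.map_top, Submodule.range_mkQ]
  rw [h, Submodule.mem_map]
  constructor
  · rintro ⟨y, hy, hya⟩
    have : a - y ∈ J := by
      rw [← Submodule.Quotient.eq]
      exact hya.symm
    have h2 : a = (a - y) + y := by ring
    rw [h2]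
    exact Submodule.add_mem_sup this hy
  · intro ha
    obtain ⟨j, hj, y, hy, rfl⟩ := Submodule.mem_sup.mp ha
    refine ⟨y, hy, ?_⟩
    rw [Submodule.mkQ_apply, eq_comm, Submodule.Quotient.eq]
    simpa using hj

end General

section Link

variable (A : Type u) [CommRing A] [LocCoh.IsGorensteinLocalRing A] (I : Ideal A)
  (hI : ringKrullDim (A ⧸ I) = ringKrullDim A) [LocCoh.IsCohenMacaulayLocalRing (A ⧸ I)]

include hI

/-- an `A`-regular sequence is regular on `A/(0:I)`. -/
theorem isWeaklyRegular_quotient_annihilator (xs : List A) (hxs : IsWeaklyRegular A xs) :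
    IsWeaklyRegular (A ⧸ Submodule.annihilator I) xs := by
  induction xs using List.reverseRecOn with
  | nil => exact IsWeaklyRegular.nil _ _
  | append_singleton xs x ih =>
    rw [isWeaklyRegular_append_iff, isWeaklyRegular_singleton_iff] at hxs ⊢
    obtain ⟨hxs, hx⟩ := hxs
    refine ⟨ih hxs, ?_⟩
    have htop : Ideal.ofList xs • (⊤ : Submodule A A) = Ideal.ofList xs := by
      rw [smul_eq_mul, Ideal.mul_top]
    rw [isSMulRegular_iff_right_eq_zero_of_smul]
    intro m hm
    obtain ⟨m', rfl⟩ := Submodule.Quotient.mk_surjective _ m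
    obtain ⟨a, rfl⟩ := Submodule.Quotient.mk_surjective _ m'
    rw [← Submodule.Quotient.mk_smul, ← Submodule.Quotient.mk_smul, mk_mk_eq_zero_iff,
      LinkExt.annihilator_sup_eq_colon A I hI xs hxs, Submodule.mem_colon] at hm
    rw [mk_mk_eq_zero_iff, LinkExt.annihilator_sup_eq_colon A I hI xs hxs, Submodule.mem_colon]
    intro p hp
    have h1 := hm p hp
    have hz : x • (Submodule.Quotient.mk (a * p) :
        A ⧸ (Ideal.ofList xs • (⊤ : Submodule A A))) = x • 0 := by
      rw [smul_zero, ← Submodule.Quotient.mk_smul, Submodule.Quotient.mk_eq_zero, htop]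
      simpa [mul_assoc] using h1
    have := hx hz
    rw [Submodule.Quotient.mk_eq_zero, htop] at this
    simpa using this

/-- an `A`-regular sequence in the maximal ideal is regular on `A/I`. -/
theorem isWeaklyRegular_quotient (xs : List A) (hxs : IsWeaklyRegular A xs)
    (hmem : ∀ x ∈ xs, x ∈ maximalIdeal A) : IsWeaklyRegular (A ⧸ I) xs := by
  have hcm : LocCoh.IsCohenMacaulayLocalRing (A ⧸ I) := inferInstance
  have : IsLocalHom (algebraMap A (A ⧸ I)) :=
    IsLocalHom.of_surjective _ Ideal.Quotient.mk_surjective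
  have hCM : LocCoh.IsCohenMacaulayModule A (A ⧸ I) := by
    unfold LocCoh.IsCohenMacaulayModule
    rw [Groth.Agent.H29.DepthAB.depth_eq (A := A) (B := A ⧸ I) (A ⧸ I),
      Module.supportDim_quotient_eq_ringKrullDim, ← Module.supportDim_self_eq_ringKrullDim]
    exact hcm.supportDim_eq_depth
  apply Groth.Agent.H29.CML.isWeaklyRegular_of_supportDim_eq xs (A ⧸ I) hCM hmem
  have hreg : IsRegular A xs :=
    Groth.Agent.H15.isRegular_of_isWeaklyRegular_of_mem (maximalIdeal A) A
      (Groth.Agent.H29.CML.smul_top_ne_top A) hxs hmem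
  have h1 := Module.supportDim_add_length_eq_supportDim_of_isRegular xs hreg
  have hjac : ∀ x ∈ xs, x ∈ Ring.jacobson A := by
    intro x hx
    rw [IsLocalRing.ringJacobson_eq_maximalIdeal]
    exact hmem x hx
  obtain ⟨-, h2⟩ := Groth.Agent.H29.DimL.supportDim_le_supportDim_quotient_add_length
    (A := A) (A ⧸ I) xs hjac
  -- the surjection `A/(xs) → (A/I)/(xs)`
  have h3 : Module.supportDim A ((A ⧸ I) ⧸ (Ideal.ofList xs • (⊤ : Submodule A (A ⧸ I)))) ≤
      Module.supportDim A (A ⧸ (Ideal.ofList xs • (⊤ : Submodule A A))) := by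
    refine Module.supportDim_le_of_surjective
      (Submodule.mapQ _ _ (Submodule.mkQ I) (Submodule.smul_top_le_comap_smul_top _ _)) ?_
    intro m
    obtain ⟨m', rfl⟩ := Submodule.Quotient.mk_surjective _ m
    obtain ⟨a, rfl⟩ := Submodule.Quotient.mk_surjective _ m'
    exact ⟨Submodule.Quotient.mk a, rfl⟩
  apply le_antisymm
  · calc Module.supportDim A ((A ⧸ I) ⧸ (Ideal.ofList xs • (⊤ : Submodule A (A ⧸ I)))) + xs.length
        ≤ Module.supportDim A (A ⧸ (Ideal.ofList xs • (⊤ : Submodule A A))) + xs.length :=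
          add_le_add_left h3 _
      _ = Module.supportDim A A := h1
      _ = Module.supportDim A (A ⧸ I) := by
          rw [Module.supportDim_self_eq_ringKrullDim, Module.supportDim_quotient_eq_ringKrullDim, hI]
  · exact h2

end Link

end Groth.Agent.H81.LinkFlat
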