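import Mathlib
import Groth.Prelude.Def_CAlg
import Groth.Agent.H81.LinkFlat
import Groth.Agent.H81.LiaisonDual
import Groth.Agent.H26.FormalFibreQuot

/-!
# Liaison: Cohen–Macaulayness is preserved by direct linkage
-/

set_option autoImplicit false

namespace Groth.Agent.H81.LiaisonCM

universe u

open IsLocalRing Submodule RingTheory.Sequence

section Local

variable (A : Type u) [CommRing A]

/-- in a CM local ring, `A/(0 : 𝔞')` has the same dimension as `A` (if nonzero). -/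
theorem ringKrullDim_quotient_annihilator_eq [IsLocalRing A] [IsNoetherianRing A]
    (hCM : LocCoh.IsCohenMacaulayModule A A)
    (𝔞' : Ideal A) (hne : (Submodule.annihilator 𝔞' : Ideal A) ≠ ⊤) :
    ringKrullDim (A ⧸ (Submodule.annihilator 𝔞' : Ideal A)) = ringKrullDim A := by
  have hex : ∃ a' ∈ 𝔞', a' ≠ 0 := by
    by_contra h
    push Not at h
    apply hne
    rw [eq_top_iff]
    intro x _
    rw [Submodule.mem_annihilator]
    intro y hy
    rw [h y hy, smul_zero]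
  obtain ⟨a', ha', ha'0⟩ := hex
  obtain ⟨𝔭, h𝔭, hle⟩ := exists_le_isAssociatedPrime_of_isNoetherianRing A a' ha'0
  have h𝔞𝔭 : (Submodule.annihilator 𝔞' : Ideal A) ≤ 𝔭 := fun x hx =>
    hle (by rw [mem_colon_singleton, mem_bot]; exact Submodule.mem_annihilator.mp hx a' ha')
  have hdim := Groth.Agent.H29.CML.ringKrullDim_quotient_eq_supportDim_of_isCM A hCM 𝔭 h𝔭
  apply le_antisymm
  · exact ringKrullDim_le_of_surjective _ Ideal.Quotient.mk_surjective
  · calc ringKrullDim A = Module.supportDim A A := (Module.supportDim_self_eq_ringKrullDim A).symm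
      _ = ringKrullDim (A ⧸ 𝔭) := hdim.symm
      _ ≤ ringKrullDim (A ⧸ (Submodule.annihilator 𝔞' : Ideal A)) :=
        ringKrullDim_le_of_surjective (Ideal.Quotient.factor h𝔞𝔭)
          (Ideal.Quotient.factor_surjective h𝔞𝔭)

/-- Peskine–Szpiro, local form: if `A` is Gorenstein local and `A/𝔞` is Cohen–Macaulay of the
dimension of `A` then `A/(0 : 𝔞)` is Cohen–Macaulay. -/
theorem isCohenMacaulayLocalRing_quotient_annihilator [LocCoh.IsGorensteinLocalRing A]
    (𝔞 : Ideal A) (hI : ringKrullDim (A ⧸ 𝔞) = ringKrullDim A)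
    [LocCoh.IsCohenMacaulayLocalRing (A ⧸ 𝔞)]
    (hne : (Submodule.annihilator 𝔞 : Ideal A) ≠ ⊤) :
    LocCoh.IsCohenMacaulayLocalRing (A ⧸ (Submodule.annihilator 𝔞 : Ideal A)) := by
  obtain ⟨d, hd⟩ : ∃ d : ℕ, ringKrullDim A = d := by
    obtain ⟨d, hd⟩ := Groth.Agent.H29.CML.exists_nat_supportDim_eq (A := A) A
    exact ⟨d, by rw [← Module.supportDim_self_eq_ringKrullDim, hd]⟩
  have hdepth := Groth.Agent.H2.GorensteinExt.depth_eq_of_gorenstein A d hd
  have hneA : maximalIdeal A • (⊤ : Submodule A A) ≠ ⊤ := Groth.Agent.H29.CML.smul_top_ne_top A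
  obtain ⟨xs, hlen, hmem, hreg⟩ :=
    Groth.Agent.H15.exists_isRegular_of_le_idealDepth (I := maximalIdeal A) (M := A) hneA d
      (le_of_eq hdepth.symm)
  have hreg' := LinkFlat.isWeaklyRegular_quotient_annihilator A 𝔞 hI xs hreg.1
  set 𝔞' : Ideal A := Submodule.annihilator 𝔞 with h𝔞'
  have hnt : Nontrivial (A ⧸ 𝔞') := Ideal.Quotient.nontrivial_iff.mpr hne
  have hloc : IsLocalRing (A ⧸ 𝔞') :=
    IsLocalRing.of_surjective' (Ideal.Quotient.mk 𝔞') Ideal.Quotient.mk_surjective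
  have hlh : IsLocalHom (algebraMap A (A ⧸ 𝔞')) :=
    IsLocalHom.of_surjective _ Ideal.Quotient.mk_surjective
  have h1 : (d : ℕ∞) ≤ LocCoh.depth A (A ⧸ 𝔞') := by
    have := Groth.Agent.H15.le_idealDepth (maximalIdeal A) (A ⧸ 𝔞') hreg' hmem
    rwa [hlen] at this
  have h2 : ((LocCoh.depth A (A ⧸ 𝔞') : ℕ∞) : WithBot ℕ∞) ≤ Module.supportDim A (A ⧸ 𝔞') :=
    Groth.Agent.H29.CML.depth_le_supportDim (A ⧸ 𝔞')
  have h3 : Module.supportDim A (A ⧸ 𝔞') ≤ (d : WithBot ℕ∞) := by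
    rw [← hd, ← Module.supportDim_self_eq_ringKrullDim A]
    exact Module.supportDim_le_of_surjective (Submodule.mkQ 𝔞') (Submodule.mkQ_surjective _)
  have h1' : ((d : ℕ∞) : WithBot ℕ∞) ≤ ((LocCoh.depth A (A ⧸ 𝔞') : ℕ∞) : WithBot ℕ∞) :=
    WithBot.coe_le_coe.mpr h1
  have heq : Module.supportDim A (A ⧸ 𝔞') = ((LocCoh.depth A (A ⧸ 𝔞') : ℕ∞) : WithBot ℕ∞) :=
    le_antisymm (h3.trans (by exact_mod_cast h1')) h2
  refine @LocCoh.IsCohenMacaulayLocalRing.mk _ _ inferInstance hloc ?_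
  rw [← Groth.Agent.H29.DepthAB.depth_eq (A := A) (B := A ⧸ 𝔞') (A ⧸ 𝔞'),
    Module.supportDim_self_eq_ringKrullDim, ← Module.supportDim_quotient_eq_ringKrullDim]
  exact heq

end Local

section LocQuot

/-- localization commutes with quotients (at a prime) -/
theorem nonempty_ringEquiv_localization_quotient (B : Type u) [CommRing B] (K : Ideal B)
    (P : Ideal B) [P.IsPrime] (Q : Ideal (B ⧸ K)) [Q.IsPrime]
    (h : Q.comap (Ideal.Quotient.mk K) = P) :
    Nonempty (Localization.AtPrime Q ≃+*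
      (Localization.AtPrime P ⧸ K.map (algebraMap B (Localization.AtPrime P)))) := by
  have hM : Algebra.algebraMapSubmonoid (B ⧸ K) P.primeCompl = Q.primeCompl := by
    subst h
    exact Q.map_primeCompl_comap_of_surjective (Ideal.Quotient.mk K) Ideal.Quotient.mk_surjective
  have inst : IsLocalization Q.primeCompl
      (Localization.AtPrime P ⧸ K.map (algebraMap B (Localization.AtPrime P))) :=
    hM ▸ inferInstance
  exact ⟨(IsLocalization.algEquiv Q.primeCompl (Localization.AtPrime Q)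
    (Localization.AtPrime P ⧸ K.map (algebraMap B (Localization.AtPrime P)))).toRingEquiv⟩

end LocQuot

section Global

variable (B : Type u) [CommRing B]

/-- Peskine–Szpiro, global form over a Gorenstein ring `B`: if `𝔟' = 0 : 𝔟` and `𝔟 = 0 : 𝔟'` then
`B/𝔟` Cohen–Macaulay implies `B/𝔟'` Cohen–Macaulay. -/
theorem isCohenMacaulayRing_quotient_annihilator [hB : LocCoh.IsGorensteinRing B] (𝔟 𝔟' : Ideal B)
    (h1 : (Submodule.annihilator 𝔟 : Ideal B) = 𝔟') (h2 : (Submodule.annihilator 𝔟' : Ideal B) = 𝔟)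
    (hcm : LocCoh.IsCohenMacaulayRing (B ⧸ 𝔟)) : LocCoh.IsCohenMacaulayRing (B ⧸ 𝔟') := by
  refine @LocCoh.IsCohenMacaulayRing.mk _ _ inferInstance (fun Q' hQ' => ?_)
  set P : Ideal B := Q'.comap (Ideal.Quotient.mk 𝔟') with hP
  have hPp : P.IsPrime := Ideal.comap_isPrime _ _
  have h𝔟'P : 𝔟' ≤ P := by
    intro x hx
    rw [hP, Ideal.mem_comap, Ideal.Quotient.eq_zero_iff_mem.mpr hx]
    exact zero_mem _
  let A := Localization.AtPrime P
  have hG : LocCoh.IsGorensteinLocalRing A := hB.isGorensteinLocalRing_localization P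
  have hAcm : LocCoh.IsCohenMacaulayLocalRing A :=
    Groth.Agent.H2.GorensteinCM.isCohenMacaulayLocalRing A
  obtain ⟨e⟩ := nonempty_ringEquiv_localization_quotient B 𝔟' P Q' rfl
  refine Groth.Agent.H49.isCohenMacaulayLocalRing_of_ringEquiv e.symm ?_
  set 𝔞 : Ideal A := 𝔟.map (algebraMap B A) with h𝔞
  set 𝔞' : Ideal A := 𝔟'.map (algebraMap B A) with h𝔞'
  have hann1 : (Submodule.annihilator 𝔞 : Ideal A) = 𝔞' := by
    rw [h𝔞, LiaisonDual.annihilator_map_eq_map_annihilator P.primeCompl A 𝔟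
      (IsNoetherian.noetherian 𝔟), h1]
  have hann2 : (Submodule.annihilator 𝔞' : Ideal A) = 𝔞 := by
    rw [h𝔞', LiaisonDual.annihilator_map_eq_map_annihilator P.primeCompl A 𝔟'
      (IsNoetherian.noetherian 𝔟'), h2]
  have hne' : 𝔞' ≠ ⊤ := by
    have : 𝔞' ≤ maximalIdeal A := by
      rw [← Localization.AtPrime.map_eq_maximalIdeal]
      exact Ideal.map_mono h𝔟'P
    exact fun h => (Ideal.IsPrime.ne_top' (I := maximalIdeal A)) (top_le_iff.mp (h ▸ this))
  by_cases h𝔟P : 𝔟 ≤ P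
  · -- the main case
    set Q : Ideal (B ⧸ 𝔟) := P.map (Ideal.Quotient.mk 𝔟) with hQ
    have hker : RingHom.ker (Ideal.Quotient.mk 𝔟) ≤ P := by rw [Ideal.mk_ker]; exact h𝔟P
    have hQp : Q.IsPrime :=
      Ideal.map_isPrime_of_surjective Ideal.Quotient.mk_surjective hker
    have hQc : Q.comap (Ideal.Quotient.mk 𝔟) = P := by
      rw [hQ, Ideal.comap_map_of_surjective' _ Ideal.Quotient.mk_surjective, sup_eq_left]
      exact hker
    obtain ⟨e2⟩ := nonempty_ringEquiv_localization_quotient B 𝔟 P Q hQc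
    have hcm𝔞 : LocCoh.IsCohenMacaulayLocalRing (A ⧸ 𝔞) :=
      Groth.Agent.H49.isCohenMacaulayLocalRing_of_ringEquiv e2
        (hcm.isCohenMacaulayLocalRing_localization Q)
    have hne : 𝔞 ≠ ⊤ := by
      have : 𝔞 ≤ maximalIdeal A := by
        rw [← Localization.AtPrime.map_eq_maximalIdeal]
        exact Ideal.map_mono h𝔟P
      exact fun h => (Ideal.IsPrime.ne_top' (I := maximalIdeal A)) (top_le_iff.mp (h ▸ this))
    have hdim : ringKrullDim (A ⧸ 𝔞) = ringKrullDim A := by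
      have := ringKrullDim_quotient_annihilator_eq A hAcm.supportDim_eq_depth 𝔞'
        (by rw [hann2]; exact hne)
      rwa [hann2] at this
    have := isCohenMacaulayLocalRing_quotient_annihilator A 𝔞 hdim (by rw [hann1]; exact hne')
    rwa [hann1] at this
  · -- `𝔟 ⊄ P`: then `𝔞 = ⊤`, `𝔞' = ⊥`
    obtain ⟨x, hx𝔟, hxP⟩ := Set.not_subset.mp h𝔟P
    have htop : 𝔞 = ⊤ :=
      Ideal.eq_top_of_isUnit_mem _ (Ideal.mem_map_of_mem _ hx𝔟)
        (IsLocalization.map_units A (⟨x, hxP⟩ : P.primeCompl))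
    have hbot : 𝔞' = ⊥ := by
      rw [← hann1, htop, Submodule.annihilator_top]
      exact Module.annihilator_eq_bot.mpr inferInstance
    exact Groth.Agent.H49.isCohenMacaulayLocalRing_of_ringEquiv
      ((RingEquiv.quotientBot A).symm.trans (Ideal.quotEquivOfEq hbot.symm)) hAcm

end Global

section Linked

variable {R : Type u} [CommRing R] [IsNoetherianRing R]

/-- Cohen–Macaulayness passes through direct linkage by an ideal with Gorenstein quotient. -/
theorem isCohenMacaulayRing_quotient_of_linked (𝔠 I J : Ideal R) [LocCoh.IsGorensteinRing (R ⧸ 𝔠)]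
    (hIJ : 𝔠.colon (I : Set R) = J) (hJI : 𝔠.colon (J : Set R) = I)
    (h : LocCoh.IsCohenMacaulayRing (R ⧸ I)) : LocCoh.IsCohenMacaulayRing (R ⧸ J) := by
  have h𝔠I : 𝔠 ≤ I := by
    intro x hx
    rw [← hJI, mem_colon]
    intro j _
    exact Ideal.mul_mem_right _ _ hx
  have h𝔠J : 𝔠 ≤ J := by
    intro x hx
    rw [← hIJ, mem_colon]
    intro j _
    exact Ideal.mul_mem_right _ _ hx
  have h1 : (Submodule.annihilator (I.map (Ideal.Quotient.mk 𝔠)) : Ideal (R ⧸ 𝔠)) =
      J.map (Ideal.Quotient.mk 𝔠) := by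
    ext y
    obtain ⟨x, rfl⟩ := Ideal.Quotient.mk_surjective y
    rw [← LiaisonDual.mem_colon_iff_mk_mem_annihilator, hIJ, Ideal.mem_quotient_iff_mem h𝔠J]
  have h2 : (Submodule.annihilator (J.map (Ideal.Quotient.mk 𝔠)) : Ideal (R ⧸ 𝔠)) =
      I.map (Ideal.Quotient.mk 𝔠) := by
    ext y
    obtain ⟨x, rfl⟩ := Ideal.Quotient.mk_surjective y
    rw [← LiaisonDual.mem_colon_iff_mk_mem_annihilator, hJI, Ideal.mem_quotient_iff_mem h𝔠I]
  have hcm1 : LocCoh.IsCohenMacaulayRing ((R ⧸ 𝔠) ⧸ I.map (Ideal.Quotient.mk 𝔠)) :=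
    Groth.Agent.H26.FormalFibreQuot.isCohenMacaulayRing_of_ringEquiv
      (DoubleQuot.quotQuotEquivQuotOfLE h𝔠I).symm h
  have hcm2 := isCohenMacaulayRing_quotient_annihilator (R ⧸ 𝔠) _ _ h1 h2 hcm1
  exact Groth.Agent.H26.FormalFibreQuot.isCohenMacaulayRing_of_ringEquiv
    (DoubleQuot.quotQuotEquivQuotOfLE h𝔠J) hcm2

end Linked

end Groth.Agent.H81.LiaisonCM
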