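import Mathlib
import Groth.Agent.H2.InjDimQuot

/-!
# `𝔟`-torsion as a functor to `A ⧸ 𝔟`-modules and injective dimension  (helper81)

For an ideal `𝔟` of `A` and an `A`-module `C`, `Tb 𝔟 C = C[𝔟] = Hom_A(A/𝔟, C)` is a module over
`A ⧸ 𝔟`. If `Ext^i_A(A/𝔟, C) = 0` for all `i ≥ 1` and `id_A C < n` then `id_{A/𝔟} C[𝔟] < n`.
-/

set_option autoImplicit false

namespace Groth.Agent.H81.TorsionIdeal

universe u

open CategoryTheory Abelian

variable {A : Type u} [CommRing A] (𝔟 : Ideal A)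

/-- the `𝔟`-torsion of `C` -/
abbrev Tb (C : Type u) [AddCommGroup C] [Module A C] : Submodule A C :=
  Submodule.torsionBySet A C (𝔟 : Set A)

section basic

variable {C D E : Type u} [AddCommGroup C] [Module A C] [AddCommGroup D] [Module A D]
  [AddCommGroup E] [Module A E]

theorem mem_Tb_iff (c : C) : c ∈ Tb 𝔟 C ↔ ∀ b ∈ 𝔟, b • c = 0 := by
  rw [Submodule.mem_torsionBySet_iff]
  constructor
  · intro h b hb
    exact h ⟨b, hb⟩
  · rintro h ⟨b, hb⟩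
    exact h b hb

theorem smul_Tb (c : Tb 𝔟 C) (b : A) (hb : b ∈ 𝔟) : b • (c : C) = 0 :=
  (mem_Tb_iff 𝔟 _).mp c.2 b hb

/-- restriction of a linear map to the `𝔟`-torsion, as a map of `A ⧸ 𝔟`-modules -/
def Tbmap (f : C →ₗ[A] D) : Tb 𝔟 C →ₗ[A ⧸ 𝔟] Tb 𝔟 D where
  toFun c := ⟨f c.1, by
    rw [mem_Tb_iff]
    intro b hb
    rw [← map_smul, smul_Tb 𝔟 c b hb, map_zero]⟩
  map_add' a b := by ext; simp
  map_smul' r c := by
    obtain ⟨r, rfl⟩ := Ideal.Quotient.mk_surjective r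
    ext
    simp

@[simp] theorem Tbmap_coe (f : C →ₗ[A] D) (c : Tb 𝔟 C) : ((Tbmap 𝔟 f c : Tb 𝔟 D) : D) = f c := rfl

theorem Tbmap_injective (f : C →ₗ[A] D) (hf : Function.Injective f) :
    Function.Injective (Tbmap 𝔟 f) := by
  intro a b h
  ext
  exact hf (congrArg Subtype.val h)

theorem Tbmap_exact (f : C →ₗ[A] D) (g : D →ₗ[A] E) (hf : Function.Injective f)
    (hfg : Function.Exact f g) : Function.Exact (Tbmap 𝔟 f) (Tbmap 𝔟 g) := by
  intro d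
  constructor
  · intro h
    have h1 : g d.1 = 0 := congrArg Subtype.val h
    obtain ⟨c, hc⟩ := (hfg d.1).mp h1
    refine ⟨⟨c, ?_⟩, ?_⟩
    · rw [mem_Tb_iff]
      intro b hb
      apply hf
      rw [map_smul, hc, smul_Tb 𝔟 d b hb, map_zero]
    · ext
      exact hc
  · rintro ⟨c, rfl⟩
    ext
    exact (hfg _).mpr ⟨c.1, rfl⟩

/-- the map `A/𝔟 → D` attached to a `𝔟`-torsion element -/
noncomputable def evalMap (d : Tb 𝔟 D) : (A ⧸ 𝔟) →ₗ[A] D :=
  Submodule.liftQ 𝔟 (LinearMap.toSpanSingleton A D d.1) (by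
    intro b hb
    rw [LinearMap.mem_ker, LinearMap.toSpanSingleton_apply]
    exact smul_Tb 𝔟 d b hb)

theorem evalMap_one (d : Tb 𝔟 D) : evalMap 𝔟 d (1 : A ⧸ 𝔟) = d.1 := by
  show evalMap 𝔟 d (Submodule.Quotient.mk (1 : A)) = d.1
  unfold evalMap
  rw [Submodule.liftQ_apply, LinearMap.toSpanSingleton_apply, one_smul]

theorem apply_one_mem_Tb (ψ : (A ⧸ 𝔟) →ₗ[A] D) : ψ 1 ∈ Tb 𝔟 D := by
  rw [mem_Tb_iff]
  intro b hb
  rw [← map_smul]
  have : b • (1 : A ⧸ 𝔟) = 0 := by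
    rw [Algebra.smul_def, mul_one]
    exact Ideal.Quotient.eq_zero_iff_mem.mpr hb
  rw [this, map_zero]

instance injective_Tb (J : Type u) [AddCommGroup J] [Module A J] [Module.Injective A J] :
    Module.Injective (A ⧸ 𝔟) (Tb 𝔟 J) :=
  Groth.Agent.H58.InjHullQuot.injective_torsionBySet 𝔟 J

end basic

section ses

variable {S : ShortComplex (ModuleCat.{u} A)} (hS : S.ShortExact)

include hS in
theorem Tbmap_surjective
    (h1 : Subsingleton (Ext (ModuleCat.of A (A ⧸ 𝔟)) S.X₁ 1)) :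
    Function.Surjective (Tbmap 𝔟 S.g.hom) := by
  intro d
  obtain ⟨x₂, hx₂⟩ := Ext.covariant_sequence_exact₃ (ModuleCat.of A (A ⧸ 𝔟)) hS
    (Ext.mk₀ (ModuleCat.ofHom (evalMap 𝔟 d))) (rfl : 0 + 1 = 1) (Subsingleton.elim _ _)
  obtain ⟨ψ, rfl⟩ := (Ext.mk₀_bijective _ _).surjective x₂
  rw [Ext.mk₀_comp_mk₀] at hx₂
  have hψ := (Ext.mk₀_bijective _ _).injective hx₂
  refine ⟨⟨ψ.hom 1, apply_one_mem_Tb 𝔟 ψ.hom⟩, ?_⟩
  ext
  have := congrArg (fun φ => φ.hom (1 : A ⧸ 𝔟)) hψ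
  simp only [ModuleCat.hom_comp, LinearMap.comp_apply, ModuleCat.hom_ofHom] at this
  rw [Tbmap_coe]
  rw [evalMap_one] at this
  exact this

include hS in
theorem shortExact_Tb (h1 : Subsingleton (Ext (ModuleCat.of A (A ⧸ 𝔟)) S.X₁ 1)) :
    (ModuleCat.shortComplexOfCompEqZero (Tbmap 𝔟 S.f.hom) (Tbmap 𝔟 S.g.hom)
      (Tbmap_exact 𝔟 S.f.hom S.g.hom (Groth.Agent.H2.InjDimQuot.injective_f hS)
        (Groth.Agent.H2.InjDimQuot.exact_fg hS)).linearMap_comp_eq_zero).ShortExact :=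
  Groth.Agent.H29.GlDimL.shortExact_of_exact _ _
    (Tbmap_injective 𝔟 S.f.hom (Groth.Agent.H2.InjDimQuot.injective_f hS))
    (Tbmap_surjective 𝔟 hS h1)
    (Tbmap_exact 𝔟 S.f.hom S.g.hom (Groth.Agent.H2.InjDimQuot.injective_f hS)
      (Groth.Agent.H2.InjDimQuot.exact_fg hS))

include hS in
/-- dimension shifting: if `X₂` is injective, `Ext^{i+1}(N, X₁) = 0` implies `Ext^i(N, X₃) = 0`
for `i ≥ 1`. -/
theorem subsingleton_ext_X₃ (N : ModuleCat.{u} A) [Injective S.X₂] (i : ℕ) (hi : 1 ≤ i)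
    (h : Subsingleton (Ext N S.X₁ (i + 1))) : Subsingleton (Ext N S.X₃ i) := by
  refine Groth.Agent.H2.InjDimResidue.subsingleton_of_forall_eq_zero fun z => ?_
  obtain ⟨x₂, hx₂⟩ := Ext.covariant_sequence_exact₃ N hS z (rfl : i + 1 = i + 1)
    (Subsingleton.elim _ _)
  obtain ⟨j, rfl⟩ : ∃ j, i = j + 1 := ⟨i - 1, by omega⟩
  rw [← hx₂, Ext.eq_zero_of_injective x₂, Ext.zero_comp]

end ses

open Groth.Agent.H2.InjDimQuot in
/-- if `Ext^i_A(A/𝔟, C) = 0` for `i ≥ 1` and `id_A C < n` then `id_{A/𝔟} C[𝔟] < n`. -/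
theorem hasInjectiveDimensionLT_Tb (n : ℕ) :
    ∀ (C : ModuleCat.{u} A),
      (∀ i : ℕ, 1 ≤ i → Subsingleton (Ext (ModuleCat.of A (A ⧸ 𝔟)) C i)) →
      HasInjectiveDimensionLT C n →
      HasInjectiveDimensionLT (ModuleCat.of (A ⧸ 𝔟) (Tb 𝔟 C)) n := by
  induction n using Nat.twoStepInduction with
  | zero =>
    intro C _ h
    have hz : Limits.IsZero C := isZero_of_hasInjectiveDimensionLT_zero C
    have : Subsingleton C := ModuleCat.subsingleton_of_isZero hz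
    exact (ModuleCat.isZero_of_subsingleton _).hasInjectiveDimensionLT_zero
  | one =>
    intro C _ h
    have : Injective C := injective_iff_hasInjectiveDimensionLT_one.mpr h
    have : Module.Injective A C := Module.injective_module_of_injective_object A C
    have : Injective (ModuleCat.of (A ⧸ 𝔟) (Tb 𝔟 C)) :=
      Module.injective_object_of_injective_module _ _
    infer_instance
  | more n _ ih =>
    intro C hC h
    have hS := injSC_shortExact C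
    have hJinj : Injective (injSC C).X₂ := inferInstanceAs (Injective (Injective.under C))
    have hD : ∀ i : ℕ, 1 ≤ i → Subsingleton (Ext (ModuleCat.of A (A ⧸ 𝔟)) (injSC C).X₃ i) :=
      fun i hi => subsingleton_ext_X₃ hS _ i hi (hC (i + 1) (by omega))
    have h3 : HasInjectiveDimensionLT (injSC C).X₃ (n + 1) :=
      hS.hasInjectiveDimensionLT_X₃ (n + 1) (hasInjectiveDimensionLT_of_ge _ 1 _ (by omega)) h
    have h3' := ih (injSC C).X₃ hD h3
    have hS' := shortExact_Tb 𝔟 hS (hC 1 le_rfl)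
    have : Module.Injective A (injSC C).X₂ :=
      Module.injective_module_of_injective_object A _
    have : Injective (ModuleCat.of (A ⧸ 𝔟) (Tb 𝔟 (injSC C).X₂)) :=
      Module.injective_object_of_injective_module _ _
    exact hS'.hasInjectiveDimensionLT_X₁ (n + 1) h3'
      (hasInjectiveDimensionLT_of_ge _ 1 _ (by omega))

/-- if `𝔟 = 0 : f` and `0 : 𝔟 = (f)`, then `A[𝔟] ≅ A/𝔟` as `A/𝔟`-modules. -/
noncomputable def TbSelfEquiv (f : A) (h1 : ∀ a : A, a ∈ 𝔟 ↔ a * f = 0)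
    (h2 : ∀ y : A, (∀ b ∈ 𝔟, b * y = 0) → ∃ a, y = a * f) :
    (A ⧸ 𝔟) ≃ₗ[A ⧸ 𝔟] Tb 𝔟 A := by
  have hmem : f ∈ Tb 𝔟 A := by
    rw [mem_Tb_iff]
    intro b hb
    exact (h1 b).mp hb
  refine LinearEquiv.ofBijective (LinearMap.toSpanSingleton (A ⧸ 𝔟) (Tb 𝔟 A) ⟨f, hmem⟩) ⟨?_, ?_⟩
  · rw [injective_iff_map_eq_zero]
    intro x hx
    obtain ⟨a, rfl⟩ := Ideal.Quotient.mk_surjective x
    rw [LinearMap.toSpanSingleton_apply] at hx
    have h3 : a * f = 0 := congrArg Subtype.val hx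
    exact Ideal.Quotient.eq_zero_iff_mem.mpr ((h1 a).mpr h3)
  · intro y
    obtain ⟨a, ha⟩ := h2 y.1 (fun b hb => smul_Tb 𝔟 y b hb)
    refine ⟨Ideal.Quotient.mk 𝔟 a, ?_⟩
    rw [LinearMap.toSpanSingleton_apply]
    ext
    exact ha.symm

/-- if `Ext^i_A(A/𝔟, A) = 0` for `i ≥ 1`, `id_A A < n`, `𝔟 = 0 : f` and `0 : 𝔟 = (f)` then
`id_{A/𝔟}(A/𝔟) < n`. -/
theorem hasInjectiveDimensionLT_quotient_annihilator (n : ℕ) (f : A)
    (h1 : ∀ a : A, a ∈ 𝔟 ↔ a * f = 0)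
    (h2 : ∀ y : A, (∀ b ∈ 𝔟, b * y = 0) → ∃ a, y = a * f)
    (hext : ∀ i : ℕ, 1 ≤ i → Subsingleton (Ext (ModuleCat.of A (A ⧸ 𝔟)) (ModuleCat.of A A) i))
    (hid : HasInjectiveDimensionLT (ModuleCat.of A A) n) :
    HasInjectiveDimensionLT (ModuleCat.of (A ⧸ 𝔟) (A ⧸ 𝔟)) n := by
  have := hasInjectiveDimensionLT_Tb 𝔟 n (ModuleCat.of A A) hext hid
  exact hasInjectiveDimensionLT_of_iso (TbSelfEquiv 𝔟 f h1 h2).toModuleIso.symm n

end Groth.Agent.H81.TorsionIdeal
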