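import Mathlib
import Groth.Agent.H81.TorsionIdeal
import Groth.Agent.H81.LiaisonCM
import Groth.Agent.H81.LinkExt
import Groth.Agent.H89.InjDimEquiv

/-!
# Gorenstein links of almost complete intersections (helper81)

If `A` is a Gorenstein local ring, `f ∈ A` with `A/(f)` Cohen–Macaulay of dimension `dim A` and
`0 : (0 : f) = (f)`, then `A/(0 : f)` is Gorenstein.
-/

set_option autoImplicit false
set_option linter.style.haveILetI false

namespace Groth.Agent.H81.LiaisonGor

universe u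

open CategoryTheory Abelian IsLocalRing

section Transport

/-- Gorenstein local rings are invariant under ring isomorphisms. -/
theorem isGorensteinLocalRing_of_ringEquiv {A B : Type u} [CommRing A] [CommRing B] (e : A ≃+* B)
    (h : LocCoh.IsGorensteinLocalRing A) : LocCoh.IsGorensteinLocalRing B := by
  haveI : IsLocalRing A := h.toIsLocalRing
  haveI : IsNoetherianRing A := h.toIsNoetherian
  haveI : IsLocalRing B := e.isLocalRing
  haveI : IsNoetherianRing B := isNoetherianRing_of_ringEquiv A e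
  obtain ⟨n, hn⟩ := h.exists_hasInjectiveDimensionLT
  exact @LocCoh.IsGorensteinLocalRing.mk _ _ inferInstance inferInstance
    ⟨n, Groth.Agent.H89.InjDimEquiv.hasInjectiveDimensionLT_of_ringEquiv e n hn⟩

end Transport

section Local

variable (A : Type u) [CommRing A]

/-- local form: `A` Gorenstein local, `A/(f)` Cohen–Macaulay of dimension `dim A`,
`0 : (0 : f) = (f)`; then `A/(0 : f)` is Gorenstein. -/
theorem isGorensteinLocalRing_quotient_annihilator [hA : LocCoh.IsGorensteinLocalRing A]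
    (f : A) (hI : ringKrullDim (A ⧸ Ideal.span {f}) = ringKrullDim A)
    [LocCoh.IsCohenMacaulayLocalRing (A ⧸ Ideal.span {f})]
    (hne : (Submodule.annihilator (Ideal.span {f}) : Ideal A) ≠ ⊤)
    (hann : (Submodule.annihilator (Submodule.annihilator (Ideal.span {f}) : Ideal A) : Ideal A) =
      Ideal.span {f}) :
    LocCoh.IsGorensteinLocalRing (A ⧸ (Submodule.annihilator (Ideal.span {f}) : Ideal A)) := by
  set 𝔟 : Ideal A := Submodule.annihilator (Ideal.span {f}) with h𝔟
  have hAcm : LocCoh.IsCohenMacaulayLocalRing A :=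
    Groth.Agent.H2.GorensteinCM.isCohenMacaulayLocalRing A
  have hcm𝔟 : LocCoh.IsCohenMacaulayLocalRing (A ⧸ 𝔟) :=
    LiaisonCM.isCohenMacaulayLocalRing_quotient_annihilator A (Ideal.span {f}) hI hne
  have hdim𝔟 : ringKrullDim (A ⧸ 𝔟) = ringKrullDim A :=
    LiaisonCM.ringKrullDim_quotient_annihilator_eq A hAcm.supportDim_eq_depth (Ideal.span {f}) hne
  obtain ⟨d, hd⟩ : ∃ d : ℕ, ringKrullDim A = d := by
    obtain ⟨d, hd⟩ := Groth.Agent.H29.CML.exists_nat_supportDim_eq (A := A) A
    exact ⟨d, by rw [← Module.supportDim_self_eq_ringKrullDim, hd]⟩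
  have hid := Groth.Agent.H2.GorensteinCM.hasInjectiveDimensionLT_of_ringKrullDim A d hd
  have hext : ∀ i : ℕ, 1 ≤ i →
      Subsingleton (Ext (ModuleCat.of A (A ⧸ 𝔟)) (ModuleCat.of A A) i) :=
    fun i hi => LinkExt.subsingleton_ext_quotient A 𝔟 hdim𝔟 i hi
  have h1 : ∀ a : A, a ∈ 𝔟 ↔ a * f = 0 := by
    intro a
    rw [h𝔟, Submodule.mem_annihilator_span_singleton, smul_eq_mul]
  have h2 : ∀ y : A, (∀ b ∈ 𝔟, b * y = 0) → ∃ a, y = a * f := by
    intro y hy
    have hy' : y ∈ (Submodule.annihilator 𝔟 : Ideal A) := by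
      rw [Submodule.mem_annihilator]
      intro b hb
      rw [smul_eq_mul, mul_comm]
      exact hy b hb
    rw [hann] at hy'
    obtain ⟨a, ha⟩ := Ideal.mem_span_singleton'.mp hy'
    exact ⟨a, ha.symm⟩
  have hfin := TorsionIdeal.hasInjectiveDimensionLT_quotient_annihilator 𝔟 (d + 1) f h1 h2 hext hid
  haveI : IsLocalRing (A ⧸ 𝔟) := hcm𝔟.toIsLocalRing
  exact @LocCoh.IsGorensteinLocalRing.mk _ _ inferInstance inferInstance ⟨d + 1, hfin⟩

end Local

section Global

variable (B : Type u) [CommRing B]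

/-- global form over a Gorenstein ring `B`: if `𝔟' = 0 : f`, `0 : 𝔟' = (f)` and `B/(f)` is
Cohen–Macaulay then `B/𝔟'` is Gorenstein. -/
theorem isGorensteinRing_quotient_annihilator [hB : LocCoh.IsGorensteinRing B] (f : B)
    (𝔟' : Ideal B)
    (h1 : (Submodule.annihilator (Ideal.span {f}) : Ideal B) = 𝔟')
    (h2 : (Submodule.annihilator 𝔟' : Ideal B) = Ideal.span {f})
    (hcm : LocCoh.IsCohenMacaulayRing (B ⧸ Ideal.span {f})) : LocCoh.IsGorensteinRing (B ⧸ 𝔟') := by
  refine @LocCoh.IsGorensteinRing.mk _ _ inferInstance (fun Q' hQ' => ?_)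
  set 𝔟 : Ideal B := Ideal.span {f} with h𝔟
  set P : Ideal B := Q'.comap (Ideal.Quotient.mk 𝔟') with hP
  have hPp : P.IsPrime := Ideal.comap_isPrime _ _
  have h𝔟'P : 𝔟' ≤ P := by
    intro x hx
    rw [hP, Ideal.mem_comap, Ideal.Quotient.eq_zero_iff_mem.mpr hx]
    exact zero_mem _
  let A := Localization.AtPrime P
  have hG : LocCoh.IsGorensteinLocalRing A := hB.isGorensteinLocalRing_localization P
  have hAcm : LocCoh.IsCohenMacaulayLocalRing A :=
    Groth.Agent.H2.GorensteinCM.isCohenMacaulayLocalRing A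
  obtain ⟨e⟩ := LiaisonCM.nonempty_ringEquiv_localization_quotient B 𝔟' P Q' rfl
  refine isGorensteinLocalRing_of_ringEquiv e.symm ?_
  set 𝔞 : Ideal A := 𝔟.map (algebraMap B A) with h𝔞
  set 𝔞' : Ideal A := 𝔟'.map (algebraMap B A) with h𝔞'
  have h𝔞span : 𝔞 = Ideal.span {algebraMap B A f} := by
    rw [h𝔞, h𝔟, Ideal.map_span, Set.image_singleton]
  have hann1 : (Submodule.annihilator 𝔞 : Ideal A) = 𝔞' := by
    rw [h𝔞, LiaisonDual.annihilator_map_eq_map_annihilator P.primeCompl A 𝔟
      (IsNoetherian.noetherian 𝔟), h1]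
  have hann2 : (Submodule.annihilator 𝔞' : Ideal A) = 𝔞 := by
    rw [h𝔞', LiaisonDual.annihilator_map_eq_map_annihilator P.primeCompl A 𝔟'
      (IsNoetherian.noetherian 𝔟'), h2]
  have hne' : 𝔞' ≠ ⊤ := by
    have : 𝔞' ≤ maximalIdeal A := by
      rw [← Localization.AtPrime.map_eq_maximalIdeal]
      exact Ideal.map_mono h𝔟'P
    exact fun h => (Ideal.IsPrime.ne_top' (I := maximalIdeal A)) (top_le_iff.mp (h ▸ this))
  by_cases h𝔟P : 𝔟 ≤ P
  · -- the main case
    set Q : Ideal (B ⧸ 𝔟) := P.map (Ideal.Quotient.mk 𝔟) with hQ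
    have hker : RingHom.ker (Ideal.Quotient.mk 𝔟) ≤ P := by rw [Ideal.mk_ker]; exact h𝔟P
    have hQp : Q.IsPrime :=
      Ideal.map_isPrime_of_surjective Ideal.Quotient.mk_surjective hker
    have hQc : Q.comap (Ideal.Quotient.mk 𝔟) = P := by
      rw [hQ, Ideal.comap_map_of_surjective' _ Ideal.Quotient.mk_surjective, sup_eq_left]
      exact hker
    obtain ⟨e2⟩ := LiaisonCM.nonempty_ringEquiv_localization_quotient B 𝔟 P Q hQc
    have hcm𝔞 : LocCoh.IsCohenMacaulayLocalRing (A ⧸ 𝔞) :=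
      Groth.Agent.H49.isCohenMacaulayLocalRing_of_ringEquiv e2
        (hcm.isCohenMacaulayLocalRing_localization Q)
    have hne : 𝔞 ≠ ⊤ := by
      have : 𝔞 ≤ maximalIdeal A := by
        rw [← Localization.AtPrime.map_eq_maximalIdeal]
        exact Ideal.map_mono h𝔟P
      exact fun h => (Ideal.IsPrime.ne_top' (I := maximalIdeal A)) (top_le_iff.mp (h ▸ this))
    have hdim : ringKrullDim (A ⧸ 𝔞) = ringKrullDim A := by
      have := LiaisonCM.ringKrullDim_quotient_annihilator_eq A hAcm.supportDim_eq_depth 𝔞'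
        (by rw [hann2]; exact hne)
      rwa [hann2] at this
    rw [h𝔞span] at hcm𝔞 hdim hann1
    have hann2' : (Submodule.annihilator 𝔞' : Ideal A) = Ideal.span {algebraMap B A f} := by
      rw [hann2, h𝔞span]
    have := isGorensteinLocalRing_quotient_annihilator A (algebraMap B A f) hdim
      (by rw [hann1]; exact hne') (by rw [hann1]; exact hann2')
    rwa [hann1] at this
  · -- `𝔟 ⊄ P`: then `𝔞 = ⊤`, `𝔞' = ⊥`
    obtain ⟨x, hx𝔟, hxP⟩ := Set.not_subset.mp h𝔟P
    have htop : 𝔞 = ⊤ :=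
      Ideal.eq_top_of_isUnit_mem _ (Ideal.mem_map_of_mem _ hx𝔟)
        (IsLocalization.map_units A (⟨x, hxP⟩ : P.primeCompl))
    have hbot : 𝔞' = ⊥ := by
      rw [← hann1, htop, Submodule.annihilator_top]
      exact Module.annihilator_eq_bot.mpr inferInstance
    exact isGorensteinLocalRing_of_ringEquiv
      ((RingEquiv.quotientBot A).symm.trans (Ideal.quotEquivOfEq hbot.symm)) hG

end Global

end Groth.Agent.H81.LiaisonGor
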