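import Mathlib
import Groth.Agent.H81.CIGor
import Groth.Agent.H81.LiaisonGor
import Groth.Agent.H14.DimFormula
import Groth.Agent.H39.RegularCrit
import Groth.Agent.S5758

/-!
# Complete intersections in Gorenstein rings are Gorenstein (helper81)
-/

set_option autoImplicit false
set_option linter.style.haveILetI false

namespace Groth.Agent.H81.CIGor

universe u

open CategoryTheory Abelian RingTheory.Sequence IsLocalRing

section Dim

variable {A : Type u} [CommRing A] [IsNoetherianRing A] [IsLocalRing A]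

/-- `ht 𝔞 + dim A/𝔞 ≤ dim A` in a Noetherian local ring. -/
theorem height_add_ringKrullDim_quotient_le (𝔞 : Ideal A) (h𝔞 : 𝔞 ≠ ⊤) :
    ((𝔞.height : ℕ∞) : WithBot ℕ∞) + ringKrullDim (A ⧸ 𝔞) ≤ ringKrullDim A := by
  haveI : Nontrivial (A ⧸ 𝔞) := Ideal.Quotient.nontrivial_iff.mpr h𝔞
  haveI : IsLocalRing (A ⧸ 𝔞) :=
    IsLocalRing.of_surjective' (Ideal.Quotient.mk 𝔞) Ideal.Quotient.mk_surjective
  obtain ⟨pb, hpb, hdim⟩ :=
    Groth.Agent.H14.DimFormula.exists_minimalPrimes_ringKrullDim_quotient_eq (R := A ⧸ 𝔞)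
  have hpbp : pb.IsPrime := hpb.1.1
  set p : Ideal A := pb.comap (Ideal.Quotient.mk 𝔞) with hp
  have hpp : p.IsPrime := Ideal.comap_isPrime _ _
  have h𝔞p : 𝔞 ≤ p := by
    intro x hx
    rw [hp, Ideal.mem_comap, Ideal.Quotient.eq_zero_iff_mem.mpr hx]
    exact zero_mem _
  have hmap : p.map (Ideal.Quotient.mk 𝔞) = pb :=
    Ideal.map_comap_of_surjective _ Ideal.Quotient.mk_surjective _
  have e : ((A ⧸ 𝔞) ⧸ pb) ≃+* (A ⧸ p) :=
    (Ideal.quotEquivOfEq hmap.symm).trans (DoubleQuot.quotQuotEquivQuotOfLE h𝔞p)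
  have h1 : ringKrullDim (A ⧸ p) = ringKrullDim (A ⧸ 𝔞) := by
    rw [← hdim]
    exact (ringKrullDim_eq_of_ringEquiv e).symm
  have h2 := Groth.Agent.H39.height_add_ringKrullDim_quotient_le p
  rw [h1] at h2
  refine le_trans ?_ h2
  gcongr
  exact_mod_cast Ideal.height_mono h𝔞p

end Dim

section LocalCI

variable (A : Type u) [CommRing A]

theorem ofList_ofFn {c : ℕ} (g : Fin c → A) :
    Ideal.ofList (List.ofFn g) = Ideal.span (Set.range g) := by
  unfold Ideal.ofList
  congr 1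
  ext r
  simp [List.mem_ofFn]

/-- in a Cohen–Macaulay local ring, `c` elements of the maximal ideal generating an ideal of height
`≥ c` form a regular sequence. -/
theorem isWeaklyRegular_ofFn_of_height (hA : LocCoh.IsCohenMacaulayLocalRing A) (c : ℕ)
    (g : Fin c → A) (hg : ∀ i, g i ∈ maximalIdeal A)
    (hht : (c : ℕ∞) ≤ (Ideal.span (Set.range g)).height) :
    IsWeaklyRegular A (List.ofFn g) := by
  have hM : LocCoh.IsCohenMacaulayModule A A := hA.supportDim_eq_depth
  have hxs : ∀ x ∈ List.ofFn g, x ∈ maximalIdeal A := by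
    intro x hx
    rw [List.mem_ofFn] at hx
    obtain ⟨i, rfl⟩ := hx
    exact hg i
  rw [(Groth.Agent.S5758.result A A hM (List.ofFn g) hxs).1]
  set 𝔞 : Ideal A := Ideal.span (Set.range g) with h𝔞
  have h𝔞le : 𝔞 ≤ maximalIdeal A := by
    rw [h𝔞, Ideal.span_le]
    rintro _ ⟨i, rfl⟩
    exact hg i
  have h𝔞ne : 𝔞 ≠ ⊤ :=
    fun h => (Ideal.IsPrime.ne_top' (I := maximalIdeal A)) (top_le_iff.mp (h ▸ h𝔞le))
  have hq : Module.supportDim A (A ⧸ (Ideal.ofList (List.ofFn g) • (⊤ : Submodule A A))) =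
      ringKrullDim (A ⧸ 𝔞) := by
    rw [ofList_ofFn, smul_eq_mul, Ideal.mul_top]
    exact Module.supportDim_quotient_eq_ringKrullDim 𝔞
  rw [hq, List.length_ofFn, Module.supportDim_self_eq_ringKrullDim]
  apply le_antisymm
  · have h1 := height_add_ringKrullDim_quotient_le 𝔞 h𝔞ne
    refine le_trans ?_ h1
    rw [add_comm]
    gcongr
    exact_mod_cast hht
  · have h2 := ringKrullDim_le_ringKrullDim_quotient_add_encard (Set.range g) (by
      rw [IsLocalRing.ringJacobson_eq_maximalIdeal]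
      rintro _ ⟨i, rfl⟩
      exact hg i)
    refine le_trans h2 ?_
    gcongr
    have h3 : (Set.range g).encard ≤ (c : ℕ∞) := by
      rw [← Set.image_univ]
      refine (Set.encard_image_le g Set.univ).trans ?_
      rw [Set.encard_univ, ENat.card_eq_coe_fintype_card, Fintype.card_fin]
    exact_mod_cast h3

/-- a complete intersection quotient of a Gorenstein local ring is Gorenstein. -/
theorem isGorensteinLocalRing_quotient_span_range [hA : LocCoh.IsGorensteinLocalRing A] (c : ℕ)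
    (g : Fin c → A) (hg : ∀ i, g i ∈ maximalIdeal A)
    (hht : (c : ℕ∞) ≤ (Ideal.span (Set.range g)).height) :
    LocCoh.IsGorensteinLocalRing (A ⧸ Ideal.span (Set.range g)) := by
  have hAcm : LocCoh.IsCohenMacaulayLocalRing A :=
    Groth.Agent.H2.GorensteinCM.isCohenMacaulayLocalRing A
  have hreg := isWeaklyRegular_ofFn_of_height A hAcm c g hg hht
  obtain ⟨d, hd⟩ : ∃ d : ℕ, ringKrullDim A = d := by
    obtain ⟨d, hd⟩ := Groth.Agent.H29.CML.exists_nat_supportDim_eq (A := A) A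
    exact ⟨d, by rw [← Module.supportDim_self_eq_ringKrullDim, hd]⟩
  have hid := Groth.Agent.H2.GorensteinCM.hasInjectiveDimensionLT_of_ringKrullDim A d hd
  have hid' : HasInjectiveDimensionLT (ModuleCat.of A A) (d + 1 + c) :=
    hasInjectiveDimensionLT_of_ge _ (d + 1) _ (by omega)
  have h1 := hasInjectiveDimensionLT_quotient_ofList c A (List.ofFn g) (List.length_ofFn)
    hreg (d + 1) hid'
  set 𝔞 : Ideal A := Ideal.span (Set.range g) with h𝔞
  have h𝔞le : 𝔞 ≤ maximalIdeal A := by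
    rw [h𝔞, Ideal.span_le]
    rintro _ ⟨i, rfl⟩
    exact hg i
  have h𝔞ne : 𝔞 ≠ ⊤ :=
    fun h => (Ideal.IsPrime.ne_top' (I := maximalIdeal A)) (top_le_iff.mp (h ▸ h𝔞le))
  haveI : Nontrivial (A ⧸ 𝔞) := Ideal.Quotient.nontrivial_iff.mpr h𝔞ne
  haveI : IsLocalRing (A ⧸ 𝔞) :=
    IsLocalRing.of_surjective' (Ideal.Quotient.mk 𝔞) Ideal.Quotient.mk_surjective
  have h2 := Groth.Agent.H89.InjDimEquiv.hasInjectiveDimensionLT_of_ringEquiv
    (Ideal.quotEquivOfEq (ofList_ofFn A g)) (d + 1) h1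
  exact @LocCoh.IsGorensteinLocalRing.mk _ _ inferInstance inferInstance ⟨d + 1, h2⟩

end LocalCI

section GlobalCI

variable (R : Type u) [CommRing R]

/-- a complete intersection quotient of a Gorenstein ring is Gorenstein. -/
theorem isGorensteinRing_quotient_span_range [hR : LocCoh.IsGorensteinRing R] (c : ℕ)
    (g : Fin c → R) (hht : (c : ℕ∞) ≤ (Ideal.span (Set.range g)).height) :
    LocCoh.IsGorensteinRing (R ⧸ Ideal.span (Set.range g)) := by
  set 𝔠 : Ideal R := Ideal.span (Set.range g) with h𝔠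
  refine @LocCoh.IsGorensteinRing.mk _ _ inferInstance (fun Q' hQ' => ?_)
  set P : Ideal R := Q'.comap (Ideal.Quotient.mk 𝔠) with hP
  have hPp : P.IsPrime := Ideal.comap_isPrime _ _
  have h𝔠P : 𝔠 ≤ P := by
    intro x hx
    rw [hP, Ideal.mem_comap, Ideal.Quotient.eq_zero_iff_mem.mpr hx]
    exact zero_mem _
  let A := Localization.AtPrime P
  have hG : LocCoh.IsGorensteinLocalRing A := hR.isGorensteinLocalRing_localization P
  obtain ⟨e⟩ := LiaisonCM.nonempty_ringEquiv_localization_quotient R 𝔠 P Q' rfl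
  refine LiaisonGor.isGorensteinLocalRing_of_ringEquiv e.symm ?_
  have hmap : 𝔠.map (algebraMap R A) = Ideal.span (Set.range (fun i => algebraMap R A (g i))) := by
    rw [h𝔠, Ideal.map_span]
    congr 1
    ext x
    simp
  rw [hmap]
  refine isGorensteinLocalRing_quotient_span_range A c _ ?_ ?_
  · intro i
    rw [← Localization.AtPrime.map_eq_maximalIdeal]
    exact Ideal.mem_map_of_mem _ (h𝔠P (Ideal.subset_span ⟨i, rfl⟩))
  · rw [← hmap, Ideal.height_eq_inf_minimalPrimes]
    refine le_iInf₂ fun 𝔮 h𝔮 => ?_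
    have h𝔮p : 𝔮.IsPrime := h𝔮.1.1
    rw [← IsLocalization.height_under P.primeCompl 𝔮]
    refine hht.trans (Ideal.height_mono ?_)
    exact Ideal.le_comap_of_map_le h𝔮.1.2

end GlobalCI

end Groth.Agent.H81.CIGor
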