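import Mathlib

/-!
# `Ext` and localization  (helper81)

For a Noetherian ring `R`, a submonoid `S`, a finite `R`-module `X` and any `R`-module `Y`, the map
`Ext_R^n(X, Y) → Ext_{S⁻¹R}^n(S⁻¹X, S⁻¹Y)` induced by the (exact) localization functor
`ModuleCat.localizedModuleFunctor S` is a localization map:

* `InjProp`  : classes mapping to zero are killed by an element of `S`,
* `SurjProp` : every class of the target becomes, after multiplication by an element of `S`,
  the image of a class of the source.

Main consequence: `subsingleton_ext_iff` : `Ext_{S⁻¹R}^n(S⁻¹X, S⁻¹Y) = 0` iff every element of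
`Ext_R^n(X, Y)` is killed by an element of `S`.
-/

set_option autoImplicit false
universe u
open CategoryTheory Abelian Limits

namespace Groth.Agent.H81.ExtLoc

variable {R : Type u} [CommRing R] (S : Submonoid R)

/-- the localization functor -/
noncomputable abbrev LF : ModuleCat.{u} R ⥤ ModuleCat.{u} (Localization S) :=
  ModuleCat.localizedModuleFunctor.{u} S

theorem map_smul_id (X : ModuleCat.{u} R) (r : R) :
    (LF S).map (r • 𝟙 X) = (algebraMap R (Localization S) r) • 𝟙 ((LF S).obj X) := by
  ext x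
  simp [ModuleCat.localizedModuleMap, IsLocalizedModule.mapExtendScalars]
  have : ∀ y : X.localizedModule S, (r • LinearMap.extendScalarsOfIsLocalization S (Localization S)
      (LinearMap.id : X.localizedModule S →ₗ[R] X.localizedModule S)) y =
      algebraMap R (Localization S) r • y := by
    intro y
    rw [LinearMap.smul_apply, algebraMap_smul]
    rfl
  exact this x

theorem mapExactFunctor_smul (X Y : ModuleCat.{u} R) (n : ℕ) (r : R) (x : Ext.{u} X Y n) :
    (r • x).mapExactFunctor (LF S) =
      (algebraMap R (Localization S) r) • x.mapExactFunctor (LF S) := by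
  rw [Ext.smul_eq_comp_mk₀, Ext.mapExactFunctor_comp, Ext.mapExactFunctor_mk₀, map_smul_id,
    Ext.smul_eq_comp_mk₀]

/-- the injectivity half of "Ext commutes with localization" -/
def InjProp (X Y : ModuleCat.{u} R) (n : ℕ) : Prop :=
  ∀ x : Ext.{u} X Y n, x.mapExactFunctor (LF S) = 0 → ∃ s ∈ S, s • x = 0

/-- the surjectivity half of "Ext commutes with localization" -/
def SurjProp (X Y : ModuleCat.{u} R) (n : ℕ) : Prop :=
  ∀ y : Ext.{u} ((LF S).obj X) ((LF S).obj Y) n, ∃ s ∈ S, ∃ x : Ext.{u} X Y n,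
    x.mapExactFunctor (LF S) = (algebraMap R (Localization S) s) • y

theorem injProp_zero (X Y : ModuleCat.{u} R) [Module.FinitePresentation R X] :
    InjProp S X Y 0 := by
  intro x hx
  obtain ⟨f, rfl⟩ := (Ext.mk₀_bijective X Y).2 x
  rw [Ext.mapExactFunctor_mk₀] at hx
  have h0 : (LF S).map f = 0 := by
    apply (Ext.mk₀_bijective _ _).1
    rw [hx, Ext.mk₀_zero]
  have h1 : IsLocalizedModule.mapExtendScalars S (X.localizedModuleMkLinearMap S)
      (Y.localizedModuleMkLinearMap S) (Localization S) f.hom = 0 :=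
    congrArg ModuleCat.Hom.hom h0
  obtain ⟨s, hs⟩ := IsLocalizedModule.exists_of_eq (S := S)
    (f := IsLocalizedModule.mapExtendScalars S (X.localizedModuleMkLinearMap S)
      (Y.localizedModuleMkLinearMap S) (Localization S)) (x₁ := f.hom) (x₂ := 0)
    (by rw [h1, map_zero])
  refine ⟨s.1, s.2, ?_⟩
  rw [← Ext.mk₀_smul]
  have : s.1 • f = 0 := by
    ext x
    have := LinearMap.congr_fun hs x
    rw [smul_zero] at this
    exact this
  rw [this, Ext.mk₀_zero]

theorem exists_map_eq_smul (X Y : ModuleCat.{u} R) [Module.FinitePresentation R X]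
    (g : X.localizedModule S ⟶ Y.localizedModule S) :
    ∃ s ∈ S, ∃ f : X ⟶ Y, ModuleCat.localizedModuleMap S f =
      (algebraMap R (Localization S) s) • g := by
  obtain ⟨⟨f, s⟩, hfs⟩ := IsLocalizedModule.surj S
    (IsLocalizedModule.mapExtendScalars S (X.localizedModuleMkLinearMap S)
      (Y.localizedModuleMkLinearMap S) (Localization S)) g.hom
  refine ⟨s.1, s.2, ModuleCat.ofHom f, ?_⟩
  ext x
  have := LinearMap.congr_fun hfs x
  simp only [ModuleCat.localizedModuleMap, ModuleCat.hom_ofHom]
  refine this.symm.trans ?_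
  show _ = (algebraMap R (Localization S) s.1) • g.hom x
  rw [algebraMap_smul]
  rfl

theorem surjProp_zero (X Y : ModuleCat.{u} R) [Module.FinitePresentation R X] :
    SurjProp S X Y 0 := by
  intro y
  obtain ⟨g, rfl⟩ := (Ext.mk₀_bijective _ _).2 y
  obtain ⟨s, hs, f, hf⟩ := exists_map_eq_smul S X Y g
  refine ⟨s, hs, Ext.mk₀ f, ?_⟩
  rw [Ext.mapExactFunctor_mk₀, ← Ext.mk₀_smul]
  congr 1

variable [IsNoetherianRing R]

theorem surjProp_succ (X Y : ModuleCat.{u} R) (n : ℕ)
    (ih : ∀ Y' : ModuleCat.{u} R, SurjProp S X Y' n) : SurjProp S X Y (n + 1) := by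
  intro y
  let I : InjectivePresentation Y := Classical.arbitrary _
  let T := ShortComplex.mk _ _ (cokernel.condition I.f)
  have hT : T.ShortExact := { exact := ShortComplex.exact_cokernel I.f }
  have : Injective (T.map (LF S)).X₂ := (LF S).injective_obj_of_injective I.injective
  have hT' := hT.map_of_exact (LF S)
  obtain ⟨c', hc'⟩ := Ext.covariant_sequence_exact₁ _ hT' y
    (Ext.eq_zero_of_injective _) (rfl : n + 1 = n + 1)
  obtain ⟨s, hs, c, hc⟩ := ih T.X₃ c'
  refine ⟨s, hs, c.comp hT.extClass rfl, ?_⟩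
  rw [Ext.mapExactFunctor_comp, Ext.mapExactFunctor_extClass, hc, ← hc']
  exact Ext.smul_comp _ _ _ _

theorem injProp_succ (X Y : ModuleCat.{u} R) (n : ℕ)
    (ihs : ∀ Y' : ModuleCat.{u} R, SurjProp S X Y' n)
    (ihi : ∀ Y' : ModuleCat.{u} R, InjProp S X Y' n) : InjProp S X Y (n + 1) := by
  intro x hx
  let I : InjectivePresentation Y := Classical.arbitrary _
  let T := ShortComplex.mk _ _ (cokernel.condition I.f)
  have hT : T.ShortExact := { exact := ShortComplex.exact_cokernel I.f }
  have : Injective (T.map (LF S)).X₂ := (LF S).injective_obj_of_injective I.injective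
  have : Injective T.X₂ := I.injective
  have hT' := hT.map_of_exact (LF S)
  obtain ⟨c, hc⟩ := Ext.covariant_sequence_exact₁ _ hT x
    (Ext.eq_zero_of_injective _) (rfl : n + 1 = n + 1)
  have h1 : (c.mapExactFunctor (LF S)).comp hT'.extClass (rfl : n + 1 = n + 1) = 0 := by
    have := Ext.mapExactFunctor_comp (LF S) c hT.extClass (rfl : n + 1 = n + 1)
    rw [Ext.mapExactFunctor_extClass, hc, hx] at this
    exact this.symm
  obtain ⟨b, hb⟩ := Ext.covariant_sequence_exact₃ _ hT' (c.mapExactFunctor (LF S)) rfl h1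
  obtain ⟨s, hs, a, ha⟩ := ihs T.X₂ b
  have h2 : (s • c - a.comp (Ext.mk₀ T.g) (add_zero n)).mapExactFunctor (LF S) = 0 := by
    have h3 : (s • c - a.comp (Ext.mk₀ T.g) (add_zero n)).mapExactFunctor (LF S) =
        (s • c).mapExactFunctor (LF S) -
          (a.comp (Ext.mk₀ T.g) (add_zero n)).mapExactFunctor (LF S) :=
      map_sub ((LF S).mapExtAddHom X T.X₃ n) _ _
    rw [h3, mapExactFunctor_smul, Ext.mapExactFunctor_comp, Ext.mapExactFunctor_mk₀, ha, ← hb,
      sub_eq_zero]
    exact (Ext.smul_comp _ _ _ _).symm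
  obtain ⟨t, ht, htz⟩ := ihi T.X₃ _ h2
  refine ⟨t * s, S.mul_mem ht hs, ?_⟩
  rw [← hc, ← Ext.smul_comp, mul_smul]
  have h4 : t • s • c = t • (a.comp (Ext.mk₀ T.g) (add_zero n)) := by
    rw [smul_sub, sub_eq_zero] at htz
    exact htz
  rw [h4, Ext.smul_comp, Ext.comp_assoc a (Ext.mk₀ T.g) hT.extClass (add_zero n) (zero_add 1)
    (by omega), hT.comp_extClass, Ext.comp_zero, smul_zero]

/-- **`Ext` commutes with localization** (for a finite first argument over a Noetherian ring). -/
theorem props (X : ModuleCat.{u} R) [Module.Finite R X] :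
    ∀ (n : ℕ) (Y : ModuleCat.{u} R), InjProp S X Y n ∧ SurjProp S X Y n := by
  haveI : Module.FinitePresentation R X := Module.finitePresentation_of_finite R X
  intro n
  induction n with
  | zero => exact fun Y => ⟨injProp_zero S X Y, surjProp_zero S X Y⟩
  | succ n ih =>
    exact fun Y => ⟨injProp_succ S X Y n (fun Y' => (ih Y').2) (fun Y' => (ih Y').1),
      surjProp_succ S X Y n (fun Y' => (ih Y').2)⟩

/-- `Ext_{S⁻¹R}^n(S⁻¹X, S⁻¹Y) = 0` iff every element of `Ext_R^n(X, Y)` is `S`-torsion. -/
theorem subsingleton_ext_iff (X Y : ModuleCat.{u} R) [Module.Finite R X] (n : ℕ) :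
    Subsingleton (Ext.{u} ((LF S).obj X) ((LF S).obj Y) n) ↔
      ∀ x : Ext.{u} X Y n, ∃ s ∈ S, s • x = 0 := by
  obtain ⟨hi, hs⟩ := props S X n Y
  constructor
  · intro h x
    exact hi x (Subsingleton.elim _ _)
  · intro h
    refine ⟨fun y₁ y₂ => ?_⟩
    have key : ∀ y : Ext.{u} ((LF S).obj X) ((LF S).obj Y) n, y = 0 := by
      intro y
      obtain ⟨s, hs', x, hx⟩ := hs y
      obtain ⟨t, ht, htx⟩ := h x
      have h1 : (algebraMap R (Localization S) (t * s)) • y = 0 := by
        rw [map_mul, mul_smul, ← hx, ← mapExactFunctor_smul, htx]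
        exact Ext.mapExactFunctor_zero (LF S) _ _ _
      have hu : IsUnit (algebraMap R (Localization S) (t * s)) :=
        IsLocalization.map_units (Localization S) ⟨t * s, S.mul_mem ht hs'⟩
      obtain ⟨u, hu'⟩ := hu
      rw [← hu'] at h1
      have := congrArg (fun z => (↑u⁻¹ : Localization S) • z) h1
      simpa [smul_smul] using this
    rw [key y₁, key y₂]

end Groth.Agent.H81.ExtLoc
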