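import Mathlib
import Groth.Prelude.Def_Wider
import Groth.Agent.H2.GorDuality
import Groth.Agent.H2.GorensteinGlobal
import Groth.Agent.H2.InjHull
import Groth.Agent.H58.LCIndep2
import Groth.Agent.H58.LCGV
import Groth.Agent.H81.ExtLoc

/-!
# Local duality at the primes of a quotient of a Gorenstein ring  (helper81)

Let `R` be a Gorenstein ring (e.g. a regular ring), `R → A` a surjection, `M` a finite `A`-module,
`p` a prime of `A` and `P` its preimage in `R`, of height `n`.  Then for `k + e = n`

  `H^k_{pA_p}(M_p) = 0  ↔  every element of Ext_R^e(M, R) is killed by an element of R ∖ P`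

(`subsingleton_H_localization_iff`), and `H^k_{pA_p}(M_p) = 0` for `k > n`
(`subsingleton_H_localization_of_lt`).
-/

set_option autoImplicit false
set_option linter.style.haveILetI false
universe u v w
open CategoryTheory Abelian IsLocalRing

namespace Groth.Agent.H81.LocDual

/-- `E(k)` is a cogenerator: a module with no nonzero map to an injective module containing the
residue field is zero. -/
theorem subsingleton_of_subsingleton_hom {T : Type u} [CommRing T] [IsLocalRing T]
    (E : Type u) [AddCommGroup E] [Module T E] [Module.Injective T E]
    (f : ResidueField T →ₗ[T] E) (hf : Function.Injective f)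
    (X : Type u) [AddCommGroup X] [Module T X] (h : Subsingleton (X →ₗ[T] E)) :
    Subsingleton X := by
  by_contra hX
  rw [not_subsingleton_iff_nontrivial] at hX
  obtain ⟨x, hx⟩ := exists_ne (0 : X)
  -- the map `T ∙ x → k → E`
  let ι : T →ₗ[T] X := LinearMap.toSpanSingleton T X x
  have hker : LinearMap.ker ι ≤ LinearMap.ker (Algebra.linearMap T (ResidueField T)) := by
    intro r hr
    rw [LinearMap.mem_ker] at hr ⊢
    have hr' : r • x = 0 := hr
    show algebraMap T (ResidueField T) r = 0
    rw [ResidueField.algebraMap_eq, residue_eq_zero_iff]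
    by_contra hnm
    have hu : IsUnit r := by
      by_contra hnu
      exact hnm ((mem_maximalIdeal r).mpr hnu)
    obtain ⟨u, rfl⟩ := hu
    have : x = 0 := by
      have := congrArg (fun z => (↑u⁻¹ : T) • z) hr'
      simpa [smul_smul] using this
    exact hx this
  let g₀ : (T ⧸ LinearMap.ker ι) →ₗ[T] E :=
    f ∘ₗ (Submodule.liftQ (LinearMap.ker ι) (Algebra.linearMap T (ResidueField T)) hker)
  let ιb : (T ⧸ LinearMap.ker ι) →ₗ[T] X := Submodule.liftQ (LinearMap.ker ι) ι le_rfl
  have hιb : Function.Injective ιb := by
    rw [← LinearMap.ker_eq_bot]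
    exact Submodule.ker_liftQ_eq_bot _ _ _ le_rfl
  obtain ⟨h', hh'⟩ := Module.Injective.out ιb hιb g₀
  have h0 : h' = 0 := Subsingleton.elim _ _
  have h1 := hh' (Submodule.Quotient.mk 1)
  rw [h0] at h1
  have h2 : g₀ (Submodule.Quotient.mk 1) = f 1 := by
    show f ((Submodule.liftQ _ _ hker) (Submodule.Quotient.mk 1)) = f 1
    rw [Submodule.liftQ_apply]
    simp
  rw [h2] at h1
  have : (1 : ResidueField T) = 0 := hf (by rw [map_zero]; exact h1.symm)
  exact one_ne_zero this

/-- vanishing of `Ext` is invariant under isomorphisms. -/
theorem subsingleton_ext_of_iso {C : Type u} [Category.{v} C] [Abelian C] [HasExt.{w} C]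
    {X X' Y Y' : C} (a : X ≅ X') (b : Y ≅ Y') (n : ℕ) (h : Subsingleton (Ext.{w} X' Y' n)) :
    Subsingleton (Ext.{w} X Y n) := by
  refine ⟨fun x y => ?_⟩
  have key : ∀ z : Ext.{w} X Y n, z = 0 := by
    intro z
    have h1 : (Ext.mk₀ a.inv).comp (z.comp (Ext.mk₀ b.hom) (add_zero n)) (zero_add n) = 0 :=
      Subsingleton.elim _ _
    have h2 := congrArg (fun t => (Ext.mk₀ a.hom).comp (t.comp (Ext.mk₀ b.inv) (add_zero n))
      (zero_add n)) h1
    simpa using h2
  rw [key x, key y]

section Abstract

variable (T B : Type u) [CommRing T] [LocCoh.IsGorensteinLocalRing T] [CommRing B] [IsLocalRing B]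
  [IsNoetherianRing B] [Algebra T B]
  (hmap : (maximalIdeal T).map (algebraMap T B) = maximalIdeal B)
  (N : Type u) [AddCommGroup N] [Module B N] [Module T N] [IsScalarTower T B N]

include hmap in
/-- independence of the base for a local homomorphism with `m_T B = m_B`. -/
theorem subsingleton_H_iff_base (k : ℕ) :
    Subsingleton (LocCoh.H (maximalIdeal B) k N) ↔
      Subsingleton (LocCoh.H (maximalIdeal T) k N) := by
  obtain ⟨φ, -⟩ := Groth.Agent.H58.LC.indepProp (R := T) (R' := B) (maximalIdeal T) k N
  rw [hmap] at φ
  exact φ.toEquiv.subsingleton_congr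

omit [Algebra T B] [IsScalarTower T B N] in
/-- local duality over a Gorenstein local ring, vanishing form. -/
theorem subsingleton_H_iff_ext [Module.Finite T N] (n e k : ℕ) (hd : ringKrullDim T = n)
    (hek : k + e = n) :
    Subsingleton (LocCoh.H (maximalIdeal T) k N) ↔
      Subsingleton (Ext.{u} (ModuleCat.of T N) (ModuleCat.of T T) e) := by
  obtain ⟨E, _, _, f, hf⟩ := Groth.Agent.H2.exists_isInjectiveHull (R := T) (ResidueField T)
  obtain ⟨D⟩ := Groth.Agent.H2.GorDuality.nonempty_dual T n hd E f hf e k hek N
  haveI : Module.Injective T E := hf.isInjective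
  constructor
  · intro h
    apply subsingleton_of_subsingleton_hom E f hf.injective
    exact D.symm.toEquiv.subsingleton_congr.mpr h
  · intro h
    haveI := h
    exact D.toEquiv.subsingleton_congr.mpr inferInstance

omit [Algebra T B] [IsScalarTower T B N] in
/-- Grothendieck vanishing above the dimension. -/
theorem subsingleton_H_of_lt (n k : ℕ) (hd : ringKrullDim T = n) (hk : n < k) :
    Subsingleton (LocCoh.H (maximalIdeal T) k N) := by
  apply Groth.Agent.H58.LC.gv (maximalIdeal T) k N
  refine lt_of_le_of_lt (Module.supportDim_le_ringKrullDim T N) ?_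
  rw [hd]
  exact_mod_cast hk

end Abstract

section Loc

variable {R : Type u} [CommRing R] [IsNoetherianRing R] (S : Submonoid R)
    (M N : Type u) [AddCommGroup M] [Module R M] [AddCommGroup N] [Module R N]
    [Module (Localization S) N] [IsScalarTower R (Localization S) N]

/-- the localization functor applied to `M` is any localization of `M` -/
noncomputable def locIso (f : M →ₗ[R] N) [IsLocalizedModule S f] :
    (ModuleCat.of R M).localizedModule S ≅ ModuleCat.of (Localization S) N :=
  haveI := ModuleCat.localizedModule_isLocalizedModule (ModuleCat.of R M) S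
  (LinearEquiv.extendScalarsOfIsLocalization S (Localization S)
    (IsLocalizedModule.linearEquiv S ((ModuleCat.of R M).localizedModuleMkLinearMap S)
      f)).toModuleIso

/-- `Ext_{S⁻¹R}^e(S⁻¹M, S⁻¹R) = 0` iff `Ext_R^e(M, R)` is `S`-torsion. -/
theorem subsingleton_ext_localized_iff [Module.Finite R M] (f : M →ₗ[R] N)
    [IsLocalizedModule S f] (e : ℕ) :
    Subsingleton (Ext.{u} (ModuleCat.of (Localization S) N)
      (ModuleCat.of (Localization S) (Localization S)) e) ↔
    ∀ x : Ext.{u} (ModuleCat.of R M) (ModuleCat.of R R) e, ∃ s ∈ S, s • x = 0 := by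
  haveI : Module.Finite R (ModuleCat.of R M) := ‹_›
  rw [← ExtLoc.subsingleton_ext_iff S (ModuleCat.of R M) (ModuleCat.of R R) e]
  constructor
  · intro h
    exact subsingleton_ext_of_iso (locIso S M N f)
      (Groth.Agent.H2.GorensteinGlobal.localizedSelfIso R S) e h
  · intro h
    exact subsingleton_ext_of_iso (locIso S M N f).symm
      (Groth.Agent.H2.GorensteinGlobal.localizedSelfIso R S).symm e h

end Loc

section Concrete

variable (R : Type u) [CommRing R] [LocCoh.IsGorensteinRing R] (A : Type u) [CommRing A]
  [IsNoetherianRing A] [Algebra R A] (hπ : Function.Surjective (algebraMap R A))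
  (M : Type u) [AddCommGroup M] [Module A M] [Module R M] [IsScalarTower R A M] [Module.Finite A M]
  (p : Ideal A) [p.IsPrime]

include hπ in
theorem subsingleton_H_localization_iff (n e k : ℕ)
    (hn : (p.comap (algebraMap R A)).height = n) (hek : k + e = n) :
    Subsingleton (LocCoh.H (maximalIdeal (Localization.AtPrime p)) k
      (LocalizedModule p.primeCompl M)) ↔
    ∀ x : Ext.{u} (ModuleCat.of R M) (ModuleCat.of R R) e,
      ∃ s ∈ (p.comap (algebraMap R A)).primeCompl, s • x = 0 := by
  haveI : IsNoetherianRing R := LocCoh.IsGorensteinRing.toIsNoetherian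
  set P := p.comap (algebraMap R A) with hP
  letI algTB : Algebra (Localization.AtPrime P) (Localization.AtPrime p) :=
    (Localization.localRingHom P p (algebraMap R A) rfl).toAlgebra
  letI modTN : Module (Localization.AtPrime P) (LocalizedModule p.primeCompl M) :=
    Module.compHom (LocalizedModule p.primeCompl M)
      (algebraMap (Localization.AtPrime P) (Localization.AtPrime p))
  haveI st1 : IsScalarTower (Localization.AtPrime P) (Localization.AtPrime p)
      (LocalizedModule p.primeCompl M) := ⟨fun t b x => by
    show (algebraMap (Localization.AtPrime P) (Localization.AtPrime p) t * b) • x =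
      algebraMap (Localization.AtPrime P) (Localization.AtPrime p) t • (b • x)
    rw [mul_smul]⟩
  have hcomp : ∀ r : R, algebraMap (Localization.AtPrime P) (Localization.AtPrime p)
      (algebraMap R (Localization.AtPrime P) r) =
      algebraMap A (Localization.AtPrime p) (algebraMap R A r) := fun r =>
    Localization.localRingHom_to_map P p (algebraMap R A) rfl r
  haveI st2 : IsScalarTower R (Localization.AtPrime P) (LocalizedModule p.primeCompl M) :=
    ⟨fun r t x => by
      show algebraMap (Localization.AtPrime P) (Localization.AtPrime p) (r • t) • x =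
        r • (algebraMap (Localization.AtPrime P) (Localization.AtPrime p) t • x)
      rw [Algebra.smul_def, map_mul, hcomp, mul_smul, algebraMap_smul, algebraMap_smul]⟩
  haveI : LocCoh.IsGorensteinLocalRing (Localization.AtPrime P) :=
    LocCoh.IsGorensteinRing.isGorensteinLocalRing_localization P
  have hPp : P.map (algebraMap R A) = p := Ideal.map_comap_of_surjective _ hπ p
  have hmap : (maximalIdeal (Localization.AtPrime P)).map
      (algebraMap (Localization.AtPrime P) (Localization.AtPrime p)) =
      maximalIdeal (Localization.AtPrime p) := by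
    have h1 : maximalIdeal (Localization.AtPrime p) =
        (P.map (algebraMap R A)).map (algebraMap A (Localization.AtPrime p)) := by
      rw [hPp]
      exact Localization.AtPrime.map_eq_maximalIdeal.symm
    rw [h1, ← Localization.AtPrime.map_eq_maximalIdeal, Ideal.map_map, Ideal.map_map]
    congr 1
    ext r
    exact hcomp r
  have hd : ringKrullDim (Localization.AtPrime P) = n := by
    rw [IsLocalization.AtPrime.ringKrullDim_eq_height P (Localization.AtPrime P), hn]
    rfl
  -- the localization map
  have hsub : Algebra.algebraMapSubmonoid A P.primeCompl = p.primeCompl := by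
    ext a
    constructor
    · rintro ⟨r, hr, rfl⟩
      exact hr
    · intro ha
      obtain ⟨r, rfl⟩ := hπ a
      exact ⟨r, ha, rfl⟩
  haveI hloc : IsLocalizedModule P.primeCompl
      ((LocalizedModule.mkLinearMap p.primeCompl M).restrictScalars R) := by
    haveI : IsLocalizedModule (Algebra.algebraMapSubmonoid A P.primeCompl)
        (LocalizedModule.mkLinearMap p.primeCompl M) := by
      rw [hsub]
      infer_instance
    exact IsLocalizedModule.restrictScalars P.primeCompl _
  haveI : Module.Finite R A := Module.Finite.of_surjective (Algebra.linearMap R A) hπ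
  haveI : Module.Finite R M := Module.Finite.trans A M
  haveI : Module.Finite (Localization.AtPrime P) (LocalizedModule p.primeCompl M) :=
    Module.Finite.of_isLocalizedModule P.primeCompl
      ((LocalizedModule.mkLinearMap p.primeCompl M).restrictScalars R)
  rw [subsingleton_H_iff_base (Localization.AtPrime P) (Localization.AtPrime p) hmap
    (LocalizedModule p.primeCompl M) k,
    subsingleton_H_iff_ext (Localization.AtPrime P) (LocalizedModule p.primeCompl M) n e k hd hek]
  exact subsingleton_ext_localized_iff P.primeCompl M (LocalizedModule p.primeCompl M)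
    ((LocalizedModule.mkLinearMap p.primeCompl M).restrictScalars R) e

include hπ in
/-- Grothendieck vanishing: `H^k_{pA_p}(M_p) = 0` for `k > ht P`. -/
theorem subsingleton_H_localization_of_lt (n k : ℕ)
    (hn : (p.comap (algebraMap R A)).height = n) (hk : n < k) :
    Subsingleton (LocCoh.H (maximalIdeal (Localization.AtPrime p)) k
      (LocalizedModule p.primeCompl M)) := by
  haveI : IsNoetherianRing R := LocCoh.IsGorensteinRing.toIsNoetherian
  set P := p.comap (algebraMap R A) with hP
  letI algTB : Algebra (Localization.AtPrime P) (Localization.AtPrime p) :=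
    (Localization.localRingHom P p (algebraMap R A) rfl).toAlgebra
  letI modTN : Module (Localization.AtPrime P) (LocalizedModule p.primeCompl M) :=
    Module.compHom (LocalizedModule p.primeCompl M)
      (algebraMap (Localization.AtPrime P) (Localization.AtPrime p))
  haveI st1 : IsScalarTower (Localization.AtPrime P) (Localization.AtPrime p)
      (LocalizedModule p.primeCompl M) := ⟨fun t b x => by
    show (algebraMap (Localization.AtPrime P) (Localization.AtPrime p) t * b) • x =
      algebraMap (Localization.AtPrime P) (Localization.AtPrime p) t • (b • x)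
    rw [mul_smul]⟩
  have hcomp : ∀ r : R, algebraMap (Localization.AtPrime P) (Localization.AtPrime p)
      (algebraMap R (Localization.AtPrime P) r) =
      algebraMap A (Localization.AtPrime p) (algebraMap R A r) := fun r =>
    Localization.localRingHom_to_map P p (algebraMap R A) rfl r
  haveI : LocCoh.IsGorensteinLocalRing (Localization.AtPrime P) :=
    LocCoh.IsGorensteinRing.isGorensteinLocalRing_localization P
  have hPp : P.map (algebraMap R A) = p := Ideal.map_comap_of_surjective _ hπ p
  have hmap : (maximalIdeal (Localization.AtPrime P)).map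
      (algebraMap (Localization.AtPrime P) (Localization.AtPrime p)) =
      maximalIdeal (Localization.AtPrime p) := by
    have h1 : maximalIdeal (Localization.AtPrime p) =
        (P.map (algebraMap R A)).map (algebraMap A (Localization.AtPrime p)) := by
      rw [hPp]
      exact Localization.AtPrime.map_eq_maximalIdeal.symm
    rw [h1, ← Localization.AtPrime.map_eq_maximalIdeal, Ideal.map_map, Ideal.map_map]
    congr 1
    ext r
    exact hcomp r
  have hd : ringKrullDim (Localization.AtPrime P) = n := by
    rw [IsLocalization.AtPrime.ringKrullDim_eq_height P (Localization.AtPrime P), hn]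
    rfl
  rw [subsingleton_H_iff_base (Localization.AtPrime P) (Localization.AtPrime p) hmap
    (LocalizedModule p.primeCompl M) k]
  exact subsingleton_H_of_lt (Localization.AtPrime P) (LocalizedModule p.primeCompl M) n k hd hk

end Concrete

end Groth.Agent.H81.LocDual
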