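import Mathlib
import Groth.Prelude.Def_SGA2
import Groth.Agent.H72.DepthLocIneq

/-!
# Relative codimension `SGA2.relCodim` and depth (helper81)
-/

set_option autoImplicit false

namespace Groth.Agent.H81.RelCodim

universe u

variable {A : Type u} [CommRing A]

/-- heights in `Set.Ici p` are heights in `A ⧸ p`. -/
theorem height_Ici_eq (p q : PrimeSpectrum A) (hpq : p ≤ q) :
    Order.height (⟨q, hpq⟩ : Set.Ici p) =
      (q.asIdeal.map (Ideal.Quotient.mk p.asIdeal)).height := by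
  have hset : PrimeSpectrum.zeroLocus (R := A) (p.asIdeal : Set A) = Set.Ici p := by
    ext x
    rfl
  let e : PrimeSpectrum (A ⧸ p.asIdeal) ≃o Set.Ici p :=
    (Ideal.primeSpectrumQuotientOrderIsoZeroLocus p.asIdeal).trans (OrderIso.setCongr _ _ hset)
  have hker : RingHom.ker (Ideal.Quotient.mk p.asIdeal) ≤ q.asIdeal := by
    rw [Ideal.mk_ker]; exact hpq
  have hprime : (q.asIdeal.map (Ideal.Quotient.mk p.asIdeal)).IsPrime :=
    Ideal.map_isPrime_of_surjective Ideal.Quotient.mk_surjective hker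
  let qb : PrimeSpectrum (A ⧸ p.asIdeal) := ⟨q.asIdeal.map (Ideal.Quotient.mk p.asIdeal), hprime⟩
  have heq : e qb = ⟨q, hpq⟩ := by
    apply Subtype.ext
    apply PrimeSpectrum.ext
    show (q.asIdeal.map (Ideal.Quotient.mk p.asIdeal)).comap (Ideal.Quotient.mk p.asIdeal) =
      q.asIdeal
    rw [Ideal.comap_map_of_surjective' _ Ideal.Quotient.mk_surjective, sup_eq_left]
    exact hker
  rw [← heq, Order.height_orderIso, ← PrimeSpectrum.height_eq_orderHeight]

/-- `1 ≤ c(p)` when `p` does not contain `I`. -/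
theorem one_le_relCodim (I : Ideal A) (p : PrimeSpectrum A) (hp : ¬ I ≤ p.asIdeal) :
    1 ≤ SGA2.relCodim I p := by
  unfold SGA2.relCodim
  refine le_iInf fun q => ?_
  rw [Order.one_le_iff_ne_zero, Order.height_ne_zero]
  intro hmin
  have h1 : (⟨q.1, q.2.1⟩ : Set.Ici p) ≤ ⟨p, le_refl p⟩ := hmin (show (⟨p, le_refl p⟩ : Set.Ici p) ≤ ⟨q.1, q.2.1⟩ from q.2.1)
  have h2 : q.1 ≤ p := h1
  exact hp (q.2.2.trans h2)

theorem relCodim_le (I : Ideal A) (p q : PrimeSpectrum A) (hpq : p ≤ q) (hIq : I ≤ q.asIdeal) :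
    SGA2.relCodim I p ≤ Order.height (⟨q, hpq⟩ : Set.Ici p) := by
  unfold SGA2.relCodim
  exact iInf_le (fun q : {q : PrimeSpectrum A // p ≤ q ∧ I ≤ q.asIdeal} =>
    Order.height (⟨q.1, q.2.1⟩ : Set.Ici p)) ⟨q, hpq, hIq⟩

variable [IsNoetherianRing A]

/-- a prime strictly between is contained in a prime covered by the top. -/
theorem exists_covBy (p q : PrimeSpectrum A) (hpq : p < q) :
    ∃ p' : PrimeSpectrum A, p ≤ p' ∧ p' < q ∧ ∀ r : PrimeSpectrum A, p' ≤ r → r < q → r = p' := by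
  let S : Set (Ideal A) := {J | ∃ r : PrimeSpectrum A, r.asIdeal = J ∧ p ≤ r ∧ r < q}
  have hS : S.Nonempty := ⟨p.asIdeal, p, rfl, le_refl p, hpq⟩
  have hwf : WellFounded ((· > ·) : Ideal A → Ideal A → Prop) :=
    (inferInstance : WellFoundedGT (Ideal A)).wf
  obtain ⟨J, ⟨p', rfl, hpp', hp'q⟩, hmax⟩ := hwf.has_min S hS
  refine ⟨p', hpp', hp'q, fun r hp'r hrq => ?_⟩
  by_contra hne
  have hlt : p'.asIdeal < r.asIdeal :=
    lt_of_le_of_ne hp'r (fun h => hne (PrimeSpectrum.ext h.symm))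
  exact hmax r.asIdeal ⟨r, rfl, hpp'.trans hp'r, hrq⟩ hlt

end Groth.Agent.H81.RelCodim
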