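import Groth.Agent.H81.LocDual
import Groth.Agent.H81.RelCodim
import Groth.Agent.H72.CMCatenary
import Groth.Agent.H2.GorensteinCM

/-!
# Reduction to codimension one (SGA 2 VIII)  (helper81)

`A` a quotient of a Gorenstein ring `R` (e.g. regular), `M` a finite `A`-module, `I` an ideal.
* `height_comap_eq_add`: height formula `ht P' = ht P + ht(p'/p)` for preimages in `R`.
* `subsingleton_H_of_le`: `H^{k'}_{p'A_{p'}}(M_{p'}) = 0 ⇒ H^k_{pA_p}(M_p) = 0` for `p ≤ p'` and
  `k' - k = ht P' - ht P`.
* `codim_one_reduction`: vanishing of `H^{i-c(p)}` at all primes `p ⊉ I` follows from the case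
  `c(p) = 1`.
-/

set_option autoImplicit false
set_option linter.style.haveILetI false
set_option linter.unusedSectionVars false
universe u
open CategoryTheory Abelian IsLocalRing

namespace Groth.Agent.H81.CodimOne

theorem exists_covBy_of_height_eq {α : Type*} [PartialOrder α] (x : α) (n : ℕ)
    (h : Order.height x = n + 1) : ∃ y, y ⋖ x ∧ Order.height y = n := by
  obtain ⟨-, ⟨y, hyx, hy⟩, -⟩ := Order.height_eq_coe_add_one_iff.mp h
  refine ⟨y, ⟨hyx, fun z hyz hzx => ?_⟩, hy⟩
  have h1 := Order.height_add_one_le hyz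
  have h2 := Order.height_add_one_le hzx
  rw [hy] at h1
  rw [h] at h2
  have h3 : ((n : ℕ∞) + 1) + 1 ≤ n + 1 := (add_le_add_left h1 1).trans h2
  have : n + 1 + 1 ≤ n + 1 := by exact_mod_cast h3
  omega

theorem covBy_of_covBy_Ici {α : Type*} [PartialOrder α] (p : α) (y x : Set.Ici p) (h : y ⋖ x) :
    y.1 ⋖ x.1 := by
  refine ⟨h.lt, fun z hyz hzx => ?_⟩
  exact h.2 (c := ⟨z, le_trans y.2 hyz.le⟩) hyz hzx

section
variable {R : Type u} [CommRing R] [LocCoh.IsGorensteinRing R] {A : Type u} [CommRing A]
  (π : R →+* A) (hπ : Function.Surjective π)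

include hπ in
theorem comap_le_comap_iff (a b : Ideal A) : a.comap π ≤ b.comap π ↔ a ≤ b := by
  constructor
  · intro h
    have := Ideal.map_mono (f := π) h
    rwa [Ideal.map_comap_of_surjective _ hπ, Ideal.map_comap_of_surjective _ hπ] at this
  · exact fun h => Ideal.comap_mono h

include hπ in
/-- the preimage of a covering pair of primes of a quotient ring is a covering pair. -/
theorem comap_covBy (r' r : PrimeSpectrum A) (h : r' ⋖ r) :
    PrimeSpectrum.comap π r' ⋖ PrimeSpectrum.comap π r := by
  constructor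
  · rw [lt_iff_le_not_ge]
    constructor
    · exact Ideal.comap_mono h.lt.le
    · intro hle
      exact (lt_iff_le_not_ge.mp h.lt).2 ((comap_le_comap_iff π hπ _ _).mp hle)
  · intro Q hQ1 hQ2
    have hker : RingHom.ker π ≤ Q.asIdeal := by
      refine le_trans ?_ hQ1.le
      intro x hx
      show π x ∈ r'.asIdeal
      rw [RingHom.mem_ker.mp hx]
      exact zero_mem _
    have hprime : (Q.asIdeal.map π).IsPrime := Ideal.map_isPrime_of_surjective hπ hker
    let s : PrimeSpectrum A := ⟨Q.asIdeal.map π, hprime⟩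
    have hs : s.asIdeal.comap π = Q.asIdeal := by
      show (Q.asIdeal.map π).comap π = Q.asIdeal
      rw [Ideal.comap_map_of_surjective' _ hπ, sup_eq_left]
      exact hker
    have h1 : r' < s := by
      rw [lt_iff_le_not_ge]
      constructor
      · apply (comap_le_comap_iff π hπ _ _).mp
        rw [hs]
        exact hQ1.le
      · intro hle
        have := Ideal.comap_mono (f := π) hle
        rw [hs] at this
        exact (lt_iff_le_not_ge.mp hQ1).2 this
    have h2 : s < r := by
      rw [lt_iff_le_not_ge]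
      constructor
      · apply (comap_le_comap_iff π hπ _ _).mp
        rw [hs]
        exact hQ2.le
      · intro hle
        have := Ideal.comap_mono (f := π) hle
        rw [hs] at this
        exact (lt_iff_le_not_ge.mp hQ2).2 this
    exact h.2 h1 h2

include hπ in
theorem height_comap_of_covBy (r' r : PrimeSpectrum A) (h : r' ⋖ r) :
    (r.asIdeal.comap π).height = (r'.asIdeal.comap π).height + 1 := by
  haveI : IsNoetherianRing R := LocCoh.IsGorensteinRing.toIsNoetherian
  have hcov := comap_covBy π hπ r' r h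
  have hD : Groth.Agent.H72.CMCatenary.DimFormula
      (Localization.AtPrime (PrimeSpectrum.comap π r).asIdeal) := by
    apply Groth.Agent.H72.CMCatenary.dimFormula_of_isCohenMacaulayLocalRing
    haveI : LocCoh.IsGorensteinLocalRing
        (Localization.AtPrime (PrimeSpectrum.comap π r).asIdeal) :=
      LocCoh.IsGorensteinRing.isGorensteinLocalRing_localization _
    exact Groth.Agent.H2.GorensteinCM.isCohenMacaulayLocalRing _
  have := Groth.Agent.H72.CMCatenary.height_eq_of_covBy _ _ hcov hD
  simpa only [PrimeSpectrum.comap_asIdeal] using this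

include hπ in
/-- the height formula in a quotient of a Gorenstein (hence catenary) ring. -/
theorem height_comap_eq_add : ∀ (c : ℕ) (p r : PrimeSpectrum A) (hpr : p ≤ r),
    Order.height (⟨r, hpr⟩ : Set.Ici p) = c →
      (r.asIdeal.comap π).height = (p.asIdeal.comap π).height + c := by
  intro c
  induction c with
  | zero =>
    intro p r hpr h
    have hmin : IsMin (⟨r, hpr⟩ : Set.Ici p) := Order.height_eq_zero.mp (by exact_mod_cast h)
    have h1 : (⟨r, hpr⟩ : Set.Ici p) ≤ ⟨p, le_refl p⟩ :=
      hmin (show (⟨p, le_refl p⟩ : Set.Ici p) ≤ ⟨r, hpr⟩ from hpr)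
    have h2 : r = p := le_antisymm h1 hpr
    subst h2
    simp
  | succ c ih =>
    intro p r hpr h
    obtain ⟨⟨r', hpr'⟩, hcov, hr'⟩ := exists_covBy_of_height_eq (⟨r, hpr⟩ : Set.Ici p) c
      (by exact_mod_cast h)
    have hcov' : r' ⋖ r := covBy_of_covBy_Ici p _ _ hcov
    rw [height_comap_of_covBy π hπ r' r hcov', ih p r' hpr' hr']
    push_cast
    rw [add_assoc]

end

section Key

variable (R : Type u) [CommRing R] [LocCoh.IsGorensteinRing R] (A : Type u) [CommRing A]
  [IsNoetherianRing A] [Algebra R A] (hπ : Function.Surjective (algebraMap R A))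
  (M : Type u) [AddCommGroup M] [Module A M] [Module R M] [IsScalarTower R A M] [Module.Finite A M]

include hπ in
/-- **Key lemma**: vanishing of local cohomology at a prime `p'` propagates to a smaller prime `p`,
with the degree shifted by the height difference. -/
theorem subsingleton_H_of_le (p p' : Ideal A) [p.IsPrime] [p'.IsPrime] (hpp' : p ≤ p')
    (n n' k k' : ℕ) (hn : (p.comap (algebraMap R A)).height = n)
    (hn' : (p'.comap (algebraMap R A)).height = n') (hk : k' + n = k + n')
    (H : Subsingleton (LocCoh.H (maximalIdeal (Localization.AtPrime p')) k'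
      (LocalizedModule p'.primeCompl M))) :
    Subsingleton (LocCoh.H (maximalIdeal (Localization.AtPrime p)) k
      (LocalizedModule p.primeCompl M)) := by
  by_cases hkn : n < k
  · exact LocDual.subsingleton_H_localization_of_lt R A hπ M p n k hn hkn
  · rw [not_lt] at hkn
    obtain ⟨e, rfl⟩ : ∃ e, n = k + e := ⟨n - k, by omega⟩
    have hk' : k' + e = n' := by omega
    rw [LocDual.subsingleton_H_localization_iff R A hπ M p' n' e k' hn' hk'] at H
    rw [LocDual.subsingleton_H_localization_iff R A hπ M p (k + e) e k hn rfl]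
    intro x
    obtain ⟨s, hs, hsx⟩ := H x
    exact ⟨s, fun hmem => hs (Ideal.comap_mono hpp' hmem), hsx⟩

include hπ in
/-- **Reduction to codimension one** (SGA 2 VIII): the vanishing of `H^{i-c(p)}_{pA_p}(M_p)` for all
primes `p ⊉ I` follows from the case `c(p) = 1`. -/
theorem codim_one_reduction (I : Ideal A) (i : ℕ)
    (H : ∀ p : PrimeSpectrum A, ¬ I ≤ p.asIdeal → SGA2.relCodim I p = 1 → ∀ j : ℕ, j + 1 = i →
      Subsingleton (LocCoh.H (maximalIdeal (Localization.AtPrime p.asIdeal)) j
        (LocalizedModule p.asIdeal.primeCompl M))) :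
    ∀ p : PrimeSpectrum A, ¬ I ≤ p.asIdeal → ∀ (c j : ℕ), SGA2.relCodim I p = c → j + c = i →
      Subsingleton (LocCoh.H (maximalIdeal (Localization.AtPrime p.asIdeal)) j
        (LocalizedModule p.asIdeal.primeCompl M)) := by
  haveI : IsNoetherianRing R := LocCoh.IsGorensteinRing.toIsNoetherian
  intro p hp c j hcv hj
  by_cases hemp : IsEmpty {q : PrimeSpectrum A // p ≤ q ∧ I ≤ q.asIdeal}
  · exfalso
    have : SGA2.relCodim I p = ⊤ := by
      unfold SGA2.relCodim
      exact iInf_of_empty _
    rw [this] at hcv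
    exact ENat.top_ne_natCast c hcv
  rw [not_isEmpty_iff] at hemp
  obtain ⟨⟨q, hpq, hIq⟩, hq⟩ := ENat.exists_eq_iInf
    (fun q : {q : PrimeSpectrum A // p ≤ q ∧ I ≤ q.asIdeal} =>
      Order.height (⟨q.1, q.2.1⟩ : Set.Ici p))
  have hc : Order.height (⟨q, hpq⟩ : Set.Ici p) = c := hq.trans hcv
  have hc1 := Groth.Agent.H81.RelCodim.one_le_relCodim I p hp
  rw [hcv] at hc1
  have hc1' : 1 ≤ c := by exact_mod_cast hc1
  obtain ⟨m, rfl⟩ : ∃ m, c = m + 1 := ⟨c - 1, by omega⟩
  obtain ⟨⟨p', hpp'⟩, hcov, hp'⟩ := exists_covBy_of_height_eq (⟨q, hpq⟩ : Set.Ici p) m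
    (by exact_mod_cast hc)
  have hp'q : p' ⋖ q := covBy_of_covBy_Ici p _ _ hcov
  -- `p'` does not contain `I`
  have hp'I : ¬ I ≤ p'.asIdeal := by
    intro hIp'
    have h1 := Groth.Agent.H81.RelCodim.relCodim_le I p p' hpp' hIp'
    rw [hcv, hp'] at h1
    have : m + 1 ≤ m := by exact_mod_cast h1
    omega
  -- `c(p') = 1`
  have hcp' : SGA2.relCodim I p' = 1 := by
    apply le_antisymm
    · refine (Groth.Agent.H81.RelCodim.relCodim_le I p' q hp'q.lt.le hIq).trans ?_
      have : Order.height (⟨q, hp'q.lt.le⟩ : Set.Ici p') ≤ ((1 : ℕ) : ℕ∞) := by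
        rw [Order.height_le_coe_iff]
        rintro ⟨r, hr⟩ hrq
        have hreq : r = p' := by
          by_contra hne
          exact hp'q.2 (lt_of_le_of_ne hr (Ne.symm hne)) hrq
        subst hreq
        have hmin : IsMin (⟨r, hr⟩ : Set.Ici r) := by
          intro x _
          exact x.2
        rw [Order.height_eq_zero.mpr hmin]
        exact zero_lt_one
      exact_mod_cast this
    · exact Groth.Agent.H81.RelCodim.one_le_relCodim I p' hp'I
  have h3 := H p' hp'I hcp' (j + m) (by omega)
  obtain ⟨n, hn⟩ := ENat.ne_top_iff_exists.mp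
    (Ideal.height_ne_top (I := p.asIdeal.comap (algebraMap R A)) (Ideal.IsPrime.ne_top inferInstance))
  have hn' := height_comap_eq_add (algebraMap R A) hπ m p p' hpp' hp'
  rw [← hn] at hn'
  exact subsingleton_H_of_le R A hπ M p.asIdeal p'.asIdeal hpp' n (n + m) j (j + m) hn.symm
    (by rw [hn']; push_cast; rfl) (by omega) h3

end Key

end Groth.Agent.H81.CodimOne
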