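import Groth.Agent.S11658
import Groth.Agent.S11659
import Groth.Agent.S14424
import Groth.Agent.H58.LCCompare
import Groth.Agent.H58.LCFaltingsLambda
import Groth.Agent.H17.PdLocus
import Groth.Agent.H81.CodimOne
import Groth.Agent.H81.RelCodim
import Groth.Agent.H89.GorReg

/-!
# Faltings' annihilator theorem over a regular ring: `λ_a^b(M) ≤ f_a^b(M)`
-/
set_option autoImplicit false
set_option linter.unusedSectionVars false
universe u
open CategoryTheory CategoryTheory.Limits Opposite IsLocalRing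

namespace Groth.Agent.H81.FaltingsReg
open Groth.Agent.H58.LC

section General
variable {R : Type u} [CommRing R]

theorem radKills_of_surjective {b : Ideal R} {X Y : Type u} [AddCommGroup X] [Module R X]
    [AddCommGroup Y] [Module R Y] (f : X →ₗ[R] Y) (hf : Function.Surjective f)
    (h : RadKills b X) : RadKills b Y := by
  intro r hr
  obtain ⟨k, hk⟩ := h r hr
  refine ⟨k, fun y => ?_⟩
  obtain ⟨x, rfl⟩ := hf y
  rw [← map_smul, hk, map_zero]

theorem minAdjDepth_mono {a a' : Ideal R} (h : a ≤ a') (b : Ideal R) (M : Type u)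
    [AddCommGroup M] [Module R M] :
    LocCoh.minAdjDepth a b M ≤ LocCoh.minAdjDepth a' b M := by
  unfold LocCoh.minAdjDepth LocCoh.adjDepth
  refine iInf₂_mono fun p _ => ?_
  gcongr

theorem adjDepth_of_le (a : Ideal R) (M : Type u) [AddCommGroup M] [Module R M]
    (p : PrimeSpectrum R) (hap : a ≤ p.asIdeal) :
    LocCoh.adjDepth a M p =
      LocCoh.depth (Localization.AtPrime p.asIdeal) (LocalizedModule p.asIdeal.primeCompl M) := by
  haveI := p.2
  unfold LocCoh.adjDepth
  rw [sup_eq_right.mpr hap, Ideal.map_quotient_self, Ideal.height_bot, add_zero]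

end General

section Noeth
variable {R : Type u} [CommRing R] [IsNoetherianRing R]

theorem subsingleton_H_of_subsingleton (a : Ideal R) (i : ℕ) (N : Type u) [AddCommGroup N]
    [Module R N] [Subsingleton N] : Subsingleton (LocCoh.H a i N) := by
  refine ⟨fun x y => ?_⟩
  have key : ∀ z : LocCoh.H a i N, z = 0 := by
    intro z
    have h1 : (1 : R) • 𝟙 (ModuleCat.of R N) = 0 := by
      apply ModuleCat.hom_ext
      apply LinearMap.ext
      intro t
      exact Subsingleton.elim _ _
    have := smul_eq_zero_of_smul_id_eq_zero a i (ModuleCat.of R N) (1 : R) h1 z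
    rwa [one_smul] at this
  rw [key x, key y]

theorem subsingleton_H_local (M : Type u) [AddCommGroup M] [Module R M] [Module.Finite R M]
    (p : PrimeSpectrum R) (i : ℕ)
    (hi : (i : ℕ∞) < LocCoh.depth (Localization.AtPrime p.asIdeal)
      (LocalizedModule p.asIdeal.primeCompl M)) :
    Subsingleton (LocCoh.H (maximalIdeal (Localization.AtPrime p.asIdeal)) i
      (LocalizedModule p.asIdeal.primeCompl M)) := by
  haveI := p.2
  by_cases hne : maximalIdeal (Localization.AtPrime p.asIdeal) •
      (⊤ : Submodule (Localization.AtPrime p.asIdeal) (LocalizedModule p.asIdeal.primeCompl M)) = ⊤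
  · have hbot : (⊤ : Submodule (Localization.AtPrime p.asIdeal)
        (LocalizedModule p.asIdeal.primeCompl M)) = ⊥ := by
      apply Submodule.eq_bot_of_le_smul_of_le_jacobson_bot (maximalIdeal _) ⊤ Module.Finite.fg_top
        (le_of_eq hne.symm)
      rw [IsLocalRing.jacobson_eq_maximalIdeal ⊥ bot_ne_top]
    haveI : Subsingleton (LocalizedModule p.asIdeal.primeCompl M) :=
      (Submodule.subsingleton_iff (Localization.AtPrime p.asIdeal)).mp
        (subsingleton_iff_bot_eq_top.mp hbot.symm)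
    exact subsingleton_H_of_subsingleton _ i _
  · exact subsingleton_H_of_lt_idealDepth _ _ hne i hi

theorem le_adjDepth {a b : Ideal R} {M : Type u} [AddCommGroup M] [Module R M] {t : ℕ}
    (ht : (t : ℕ∞) ≤ LocCoh.minAdjDepth a b M) (p : PrimeSpectrum R) (hp : ¬ b ≤ p.asIdeal) :
    (t : ℕ∞) ≤ LocCoh.adjDepth a M p :=
  ht.trans (iInf₂_le p hp)

/-- reduction to the case `b ≤ a` -/
theorem radKills_of_sup (a b : Ideal R) (M : Type u) [AddCommGroup M] [Module R M]
    [Module.Finite R M] (t : ℕ) (ht : (t : ℕ∞) ≤ LocCoh.minAdjDepth a b M) (i : ℕ) (hi : i < t)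
    (h : RadKills b (LocCoh.H (a ⊔ b) i M)) : RadKills b (LocCoh.H a i M) := by
  have hsurj := (comparison a (a ⊔ b) le_sup_left M i).1 (by
    intro p hap hnp
    have hbp : ¬ b ≤ p.asIdeal := fun hb => hnp (sup_le hap hb)
    have h1 := le_adjDepth ht p hbp
    rw [adjDepth_of_le a M p hap] at h1
    apply subsingleton_H_local M p i
    exact lt_of_lt_of_le (by exact_mod_cast hi) h1)
  exact radKills_of_surjective _ hsurj h

/-- elements of `H^i_a(M)` killed by a power of `x` come from `H^i_{a+Rx}(M)` -/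
theorem smul_eq_zero_of_pow_smul (a : Ideal R) (x : R) (M : Type u) [AddCommGroup M] [Module R M]
    (i : ℕ) (r : R) (k : ℕ)
    (hk : ∀ ξ : LocCoh.H (a ⊔ Ideal.span {x}) i M, r ^ k • ξ = 0)
    (η : LocCoh.H a i M) (n : ℕ) (hn : x ^ n • η = 0) : r ^ k • η = 0 := by
  obtain ⟨ξ, hξ⟩ := (mem_range_HmapOfLE_iff a x
    (CategoryTheory.injectiveResolution (ModuleCat.of R M)) i η).2 ⟨n, hn⟩
  rw [← hξ, ← map_smul, hk, map_zero]

/-- prime avoidance: if every point of the closed set `Y` below `P` contains `b`, then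
`s • b ⊆ I(Y)` for a single `s ∉ P`. -/
theorem exists_notMem_mul_mem_vanishingIdeal (Y : Set (PrimeSpectrum R)) (hY : IsClosed Y)
    (P : Ideal R) [P.IsPrime] (b : Ideal R)
    (h : ∀ p ∈ Y, p.asIdeal ≤ P → b ≤ p.asIdeal) :
    ∃ s : R, s ∉ P ∧ ∀ r ∈ b, s * r ∈ PrimeSpectrum.vanishingIdeal Y := by
  classical
  set c := PrimeSpectrum.vanishingIdeal Y with hc
  have hYc : PrimeSpectrum.zeroLocus (c : Set R) = Y := by
    rw [hc, PrimeSpectrum.zeroLocus_vanishingIdeal_eq_closure, hY.closure_eq]
  have hrad : c.radical = c := (PrimeSpectrum.isRadical_vanishingIdeal Y).radical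
  have hfin : c.minimalPrimes.Finite := Ideal.finite_minimalPrimes_of_isNoetherianRing R c
  have hmemY : ∀ q ∈ c.minimalPrimes, ∀ hq : q.IsPrime, (⟨q, hq⟩ : PrimeSpectrum R) ∈ Y := by
    intro q hq hqp
    rw [← hYc, PrimeSpectrum.mem_zeroLocus]
    exact hq.1.2
  have hchoose : ∀ q : Ideal R, ¬ q ≤ P → ∃ x : R, x ∈ q ∧ x ∉ P := fun q hq =>
    Set.not_subset.mp hq
  let f : Ideal R → R := fun q => if hq : q ≤ P then 1 else (hchoose q hq).choose
  refine ⟨∏ q ∈ hfin.toFinset, f q, ?_, ?_⟩
  · rw [Ideal.IsPrime.prod_mem_iff]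
    rintro ⟨q, -, hq⟩
    by_cases hqP : q ≤ P
    · simp only [f, dif_pos hqP] at hq
      exact (Ideal.ne_top_iff_one P).mp Ideal.IsPrime.ne_top' hq
    · simp only [f, dif_neg hqP] at hq
      exact (hchoose q hqP).choose_spec.2 hq
  · intro r hr
    have hmem : ∀ z : R, (∀ q ∈ c.minimalPrimes, z ∈ q) → z ∈ c := by
      intro z hz
      have h1 : z ∈ sInf c.minimalPrimes := by
        rw [Ideal.mem_sInf]
        exact fun {q} hq => hz q hq
      rwa [Ideal.sInf_minimalPrimes, hrad] at h1
    apply hmem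
    intro q hq
    have hqp : q.IsPrime := hq.1.1
    by_cases hqP : q ≤ P
    · exact Ideal.mul_mem_left _ _ (h ⟨q, hqp⟩ (hmemY q hq hqp) hqP hr)
    · apply Ideal.mul_mem_right
      have hdvd : f q ∣ ∏ q ∈ hfin.toFinset, f q :=
        Finset.dvd_prod_of_mem f (hfin.mem_toFinset.mpr hq)
      apply Ideal.mem_of_dvd _ hdvd
      simp only [f, dif_neg hqP]
      exact (hchoose q hqP).choose_spec.1

end Noeth

section Regular
variable {R : Type u} [CommRing R] [IsRegularRing R]

theorem height_eq_add (p P : PrimeSpectrum R) (hpP : p ≤ P) (c : ℕ)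
    (hc : (P.asIdeal.map (Ideal.Quotient.mk p.asIdeal)).height = c) :
    P.asIdeal.height = p.asIdeal.height + c := by
  haveI : LocCoh.IsGorensteinRing R := Groth.Agent.H89.GorReg.isGorensteinRing_of_isRegularRing R
  have := Groth.Agent.H81.CodimOne.height_comap_eq_add (RingHom.id R) Function.surjective_id c p P
    hpP (by rw [Groth.Agent.H81.RelCodim.height_Ici_eq]; exact hc)
  simpa only [Ideal.comap_id] using this

theorem exists_height_quot (p P : PrimeSpectrum R) (hpP : p ≤ P) :
    ∃ c : ℕ, (P.asIdeal.map (Ideal.Quotient.mk p.asIdeal)).height = c := by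
  have hne : P.asIdeal.map (Ideal.Quotient.mk p.asIdeal) ≠ ⊤ := by
    intro h
    have h1 := congrArg (Ideal.comap (Ideal.Quotient.mk p.asIdeal)) h
    rw [Ideal.comap_map_of_surjective _ Ideal.Quotient.mk_surjective, Ideal.comap_top,
      ← RingHom.ker_eq_comap_bot, Ideal.mk_ker, sup_eq_left.mpr hpP] at h1
    exact P.2.ne_top h1
  exact (ENat.ne_top_iff_exists.mp (Ideal.height_ne_top hne)).imp fun c hc => hc.symm

theorem exists_pd_add_depth (M : Type u) [AddCommGroup M] [Module R M] [Module.Finite R M]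
    (p : PrimeSpectrum R) (hnt : Nontrivial (LocalizedModule p.asIdeal.primeCompl M)) (n : ℕ)
    (hn : p.asIdeal.height = n) :
    ∃ r dd : ℕ, n = r + dd ∧
      LocCoh.depth (Localization.AtPrime p.asIdeal) (LocalizedModule p.asIdeal.primeCompl M) = dd ∧
      projectiveDimension (ModuleCat.of (Localization.AtPrime p.asIdeal)
        (LocalizedModule p.asIdeal.primeCompl M)) = r := by
  haveI := p.2
  apply Groth.Agent.S11659.aux (Localization.AtPrime p.asIdeal) n
  rw [IsLocalization.AtPrime.ringKrullDim_eq_height p.asIdeal (Localization.AtPrime p.asIdeal), hn]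
  rfl

/-- numerical consequence of the adjusted depth bound at a prime `p ≤ P` not containing `b` -/
theorem numerics (P : PrimeSpectrum R) (b : Ideal R) (M : Type u) [AddCommGroup M] [Module R M]
    [Module.Finite R M] (t : ℕ) (ht : (t : ℕ∞) ≤ LocCoh.minAdjDepth P.asIdeal b M)
    (p : PrimeSpectrum R) (hpP : p ≤ P) (hbp : ¬ b ≤ p.asIdeal)
    (hnt : Nontrivial (LocalizedModule p.asIdeal.primeCompl M)) (h : ℕ)
    (hh : P.asIdeal.height = h) :
    ∃ r : ℕ, r + t ≤ h ∧
      projectiveDimension (ModuleCat.of (Localization.AtPrime p.asIdeal)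
        (LocalizedModule p.asIdeal.primeCompl M)) = r := by
  haveI := p.2
  obtain ⟨c, hc⟩ := exists_height_quot p P hpP
  obtain ⟨n, hn⟩ := ENat.ne_top_iff_exists.mp (Ideal.height_ne_top_of_isPrime (I := p.asIdeal))
  have h1 := height_eq_add p P hpP c hc
  rw [hh, ← hn] at h1
  have h1' : h = n + c := by exact_mod_cast h1
  obtain ⟨r, dd, hnrd, hdd, hr⟩ := exists_pd_add_depth M p hnt n hn.symm
  have h2 := le_adjDepth ht p hbp
  unfold LocCoh.adjDepth at h2
  rw [sup_eq_left.mpr hpP, hc, hdd] at h2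
  have h2' : t ≤ dd + c := by exact_mod_cast h2
  exact ⟨r, by omega, hr⟩

theorem isClosed_pdLocus (M : Type u) [AddCommGroup M] [Module R M] [Module.Finite R M] (τ : ℕ) :
    IsClosed {p : PrimeSpectrum R | ¬ HasProjectiveDimensionLE (ModuleCat.of
      (Localization.AtPrime p.asIdeal) (LocalizedModule p.asIdeal.primeCompl M)) τ} := by
  rw [← isOpen_compl_iff]
  have := Groth.Agent.H17.PdLocus.isOpen_pd_le R τ M
  convert this using 1
  ext p
  simp only [Set.mem_compl_iff, Set.mem_ofPred_eq, not_not]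
  exact (projectiveDimension_le_iff _ τ).symm

/-- the key step at a prime `P ⊇ b`: a single `s ∉ P` such that a power of `s r` kills
`H^i_P(M)` for every `r ∈ b`. -/
theorem exists_notMem_kill (P : PrimeSpectrum R) (b : Ideal R) (M : Type u) [AddCommGroup M]
    [Module R M] [Module.Finite R M] (t : ℕ)
    (ht : (t : ℕ∞) ≤ LocCoh.minAdjDepth P.asIdeal b M) (i : ℕ) (hi : i < t) :
    ∃ s : R, s ∉ P.asIdeal ∧ ∀ r ∈ b, ∃ n : ℕ, ∀ η : LocCoh.H P.asIdeal i M,
      (s * r) ^ n • η = 0 := by
  haveI := P.2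
  obtain ⟨h, hh⟩ := ENat.ne_top_iff_exists.mp (Ideal.height_ne_top_of_isPrime (I := P.asIdeal))
  by_cases hth : t ≤ h
  · -- the projective dimension locus
    set τ := h - t with hτ
    set Y := {p : PrimeSpectrum R | ¬ HasProjectiveDimensionLE (ModuleCat.of
      (Localization.AtPrime p.asIdeal) (LocalizedModule p.asIdeal.primeCompl M)) τ} with hY
    have hYb : ∀ p ∈ Y, p.asIdeal ≤ P.asIdeal → b ≤ p.asIdeal := by
      intro p hp hpP
      by_contra hbp
      apply hp
      rcases subsingleton_or_nontrivial (LocalizedModule p.asIdeal.primeCompl M) with hM | hM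
      · have hz : Limits.IsZero (ModuleCat.of (Localization.AtPrime p.asIdeal)
            (LocalizedModule p.asIdeal.primeCompl M)) := ModuleCat.isZero_of_subsingleton _
        have := hz.hasProjectiveDimensionLT_zero
        exact hasProjectiveDimensionLT_of_ge _ 0 (τ + 1) (by omega)
      · obtain ⟨r, hr1, hr2⟩ := numerics P b M t ht p hpP hbp hM h hh.symm
        refine (projectiveDimension_le_iff _ τ).mp ?_
        rw [hr2]
        have : r ≤ τ := by omega
        exact_mod_cast this
    obtain ⟨s, hsP, hs⟩ := exists_notMem_mul_mem_vanishingIdeal Y (isClosed_pdLocus M τ)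
      P.asIdeal b hYb
    obtain ⟨n, hn⟩ := Groth.Agent.S11658.result R M τ
    have hCM : LocCoh.IsCohenMacaulayRing R :=
      ⟨fun p _ => Groth.Agent.H26.CMFlat.isCohenMacaulayLocalRing_of_isRegularLocalRing _⟩
    have hdepth : LocCoh.idealDepth P.asIdeal R = P.asIdeal.height :=
      (Groth.Agent.S14424.result R).mp hCM P.asIdeal P.2.ne_top
    have hlt : ((i + τ : ℕ) : ℕ∞) < LocCoh.idealDepth P.asIdeal R := by
      rw [hdepth, ← hh]
      have : i + τ < h := by omega
      exact_mod_cast this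
    have hann := hn P.asIdeal P.2.ne_top i hlt
    refine ⟨s, hsP, fun r hr => ⟨n, fun η => ?_⟩⟩
    exact Module.mem_annihilator.mp (hann (Ideal.pow_mem_pow (hs r hr) n)) η
  · -- `M` vanishes at the primes below `P` not containing `b`
    have hYb : ∀ p ∈ Module.support R M, p.asIdeal ≤ P.asIdeal → b ≤ p.asIdeal := by
      intro p hp hpP
      by_contra hbp
      have hM : Nontrivial (LocalizedModule p.asIdeal.primeCompl M) :=
        Module.mem_support_iff.mp hp
      obtain ⟨r, hr1, hr2⟩ := numerics P b M t ht p hpP hbp hM h hh.symm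
      omega
    have hcl : IsClosed (Module.support R M) := by
      rw [Module.support_eq_zeroLocus]
      exact PrimeSpectrum.isClosed_zeroLocus _
    obtain ⟨s, hsP, hs⟩ := exists_notMem_mul_mem_vanishingIdeal _ hcl P.asIdeal b hYb
    refine ⟨s, hsP, fun r hr => ?_⟩
    have h1 := hs r hr
    rw [Module.support_eq_zeroLocus, PrimeSpectrum.vanishingIdeal_zeroLocus_eq_radical] at h1
    obtain ⟨n, hn⟩ := h1
    refine ⟨n, fun η => ?_⟩
    apply smul_eq_zero_of_smul_id_eq_zero
    apply ModuleCat.hom_ext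
    apply LinearMap.ext
    intro m
    exact Module.mem_annihilator.mp hn m

theorem radKills_prime (P : PrimeSpectrum R) (b : Ideal R) (M : Type u) [AddCommGroup M]
    [Module R M] [Module.Finite R M] (t : ℕ)
    (ht : (t : ℕ∞) ≤ LocCoh.minAdjDepth P.asIdeal b M) (i : ℕ) (hi : i < t)
    (ih : ∀ s : R, s ∉ P.asIdeal →
      RadKills b (LocCoh.H (P.asIdeal ⊔ Ideal.span {s}) i M)) :
    RadKills b (LocCoh.H P.asIdeal i M) := by
  obtain ⟨s, hsP, hs⟩ := exists_notMem_kill P b M t ht i hi
  intro r hr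
  obtain ⟨n, hn⟩ := hs r hr
  obtain ⟨k, hk⟩ := ih s hsP r hr
  refine ⟨k + n, fun η => ?_⟩
  rw [pow_add, mul_smul]
  apply smul_eq_zero_of_pow_smul P.asIdeal s M i r k hk (r ^ n • η) n
  rw [← mul_smul, ← mul_pow]
  exact hn η

theorem main_aux (b : Ideal R) (M : Type u) [AddCommGroup M] [Module R M] [Module.Finite R M]
    (t i : ℕ) (hi : i < t) : ∀ a : Ideal R, b ≤ a → (t : ℕ∞) ≤ LocCoh.minAdjDepth a b M →
      RadKills b (LocCoh.H a i M) := by
  intro a
  refine IsNoetherian.induction (P := fun a => b ≤ a → (t : ℕ∞) ≤ LocCoh.minAdjDepth a b M →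
      RadKills b (LocCoh.H a i M)) ?_ a
  intro (a : Ideal R) ih hba hta
  have ihx : ∀ x : R, x ∉ a → RadKills b (LocCoh.H (a ⊔ Ideal.span {x}) i M) := by
    intro x hx
    have hlt : a < a ⊔ Ideal.span {x} := by
      refine lt_of_le_of_ne le_sup_left (fun h => hx ?_)
      rw [h]
      exact Ideal.mem_sup_right (Ideal.mem_span_singleton_self x)
    exact ih _ hlt (hba.trans le_sup_left) (hta.trans (minAdjDepth_mono le_sup_left b M))
  by_cases htop : a = ⊤
  · intro r _
    refine ⟨0, fun η => ?_⟩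
    obtain ⟨n, hn⟩ := isTors_H a i (ModuleCat.of R M) η
    have h1 : (1 : R) ∈ a ^ n := by rw [htop, Ideal.top_pow]; trivial
    have := hn 1 h1
    rw [one_smul] at this
    rw [this, smul_zero]
  by_cases hprime : a.radical.IsPrime
  · by_cases haP : a = a.radical
    · obtain ⟨P, hP⟩ : ∃ P : PrimeSpectrum R, P.asIdeal = a := ⟨⟨a.radical, hprime⟩, haP.symm⟩
      subst hP
      exact radKills_prime P b M t hta i hi ihx
    · have hlt : a < a.radical := lt_of_le_of_ne Ideal.le_radical haP
      have h1 := ih _ hlt (hba.trans Ideal.le_radical)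
        (hta.trans (minAdjDepth_mono Ideal.le_radical b M))
      have hsurj := (comparison a a.radical Ideal.le_radical M i).1 (by
        intro p hap hnp
        exact absurd ((Ideal.IsPrime.radical_le_iff p.2).mpr hap) hnp)
      exact radKills_of_surjective _ hsurj h1
  · rw [Ideal.isPrime_iff] at hprime
    have hne : a.radical ≠ ⊤ := fun h => htop (Ideal.radical_eq_top.mp h)
    have hex : ∃ x y : R, x * y ∈ a.radical ∧ x ∉ a.radical ∧ y ∉ a.radical := by
      by_contra hcon
      apply hprime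
      refine ⟨hne, fun {x y} hxy => ?_⟩
      by_contra h2
      rw [not_or] at h2
      exact hcon ⟨x, y, hxy, h2.1, h2.2⟩
    obtain ⟨x, y, ⟨m, hm⟩, hx, hy⟩ := hex
    have hx' : x ∉ a := fun h => hx (Ideal.le_radical h)
    have hy' : y ∉ a := fun h => hy (Ideal.le_radical h)
    intro r hr
    obtain ⟨kx, hkx⟩ := ihx x hx' r hr
    obtain ⟨ky, hky⟩ := ihx y hy' r hr
    refine ⟨ky + kx, fun η => ?_⟩
    obtain ⟨n, hn⟩ := isTors_H a i (ModuleCat.of R M) η
    have h0 : (x * y) ^ (m * n) • η = 0 := hn _ (by rw [pow_mul]; exact Ideal.pow_mem_pow hm n)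
    have h1 : r ^ kx • (y ^ (m * n) • η) = 0 := by
      apply smul_eq_zero_of_pow_smul a x M i r kx hkx _ (m * n)
      rw [← mul_smul, ← mul_pow]
      exact h0
    have h2 : r ^ ky • (r ^ kx • η) = 0 := by
      apply smul_eq_zero_of_pow_smul a y M i r ky hky _ (m * n)
      rw [smul_comm]
      exact h1
    rw [pow_add, mul_smul]
    exact h2

/-- **Faltings' annihilator theorem** over a regular ring: `λ_a^b(M) ≤ f_a^b(M)`. -/
theorem radKills_of_lt_minAdjDepth (a b : Ideal R) (M : Type u) [AddCommGroup M] [Module R M]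
    [Module.Finite R M] (i : ℕ) (hi : (i : ℕ∞) < LocCoh.minAdjDepth a b M) :
    RadKills b (LocCoh.H a i M) := by
  have ht : ((i + 1 : ℕ) : ℕ∞) ≤ LocCoh.minAdjDepth a b M := by
    rw [Nat.cast_add, Nat.cast_one]
    exact Order.add_one_le_of_lt hi
  apply radKills_of_sup a b M (i + 1) ht i (Nat.lt_succ_self i)
  exact main_aux b M (i + 1) i (Nat.lt_succ_self i) (a ⊔ b) le_sup_right
    (ht.trans (minAdjDepth_mono le_sup_left b M))

theorem minAdjDepth_le_finDimRel (a b : Ideal R) (M : Type u) [AddCommGroup M] [Module R M]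
    [Module.Finite R M] : LocCoh.minAdjDepth a b M ≤ LocCoh.finDimRel a b M := by
  unfold LocCoh.finDimRel
  refine le_iInf₂ fun i hi => ?_
  by_contra hlt
  rw [not_le] at hlt
  exact hi ((radKills_iff b _).2 (radKills_of_lt_minAdjDepth a b M i hlt))

end Regular

end Groth.Agent.H81.FaltingsReg
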