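import Mathlib
import Groth.Agent.H17.PdBaseChange

set_option autoImplicit false
universe u

namespace Groth.Agent.H81.PdLoc

open CategoryTheory

variable {R : Type u} [CommRing R]

/-- Mathlib's `ModuleCat.localizedModule` versus `LocalizedModule`. -/
noncomputable def locIso (S : Submonoid R) (M : Type u) [AddCommGroup M] [Module R M] :
    (ModuleCat.of R M).localizedModule S ≅ ModuleCat.of (Localization S) (LocalizedModule S M) :=
  (Shrink.linearEquiv (Localization S) (LocalizedModule S M)).toModuleIso

lemma subsingleton_localizedModule_powers_of_mem_annihilator (M : Type u) [AddCommGroup M]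
    [Module R M] (s : R) (hs : s ∈ Module.annihilator R M) :
    Subsingleton (LocalizedModule (Submonoid.powers s) M) := by
  refine ⟨fun x y => ?_⟩
  have h0 : ∀ z : LocalizedModule (Submonoid.powers s) M, z = 0 := by
    intro z
    induction z using LocalizedModule.induction_on with
    | h m t =>
      rw [← LocalizedModule.zero_mk t, LocalizedModule.mk_eq]
      refine ⟨⟨s, Submonoid.mem_powers s⟩, ?_⟩
      simp only [smul_zero]
      have : (⟨s, Submonoid.mem_powers s⟩ : Submonoid.powers s) • m = 0 :=
        (Module.mem_annihilator.1 hs) m
      rw [smul_comm, this, smul_zero]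
  rw [h0 x, h0 y]

theorem exists_powers_hasPDLT [IsNoetherianRing R] (p : Ideal R) [p.IsPrime] :
    ∀ (n : ℕ) (M : ModuleCat.{u} R) [Module.Finite R M],
      HasProjectiveDimensionLT (M.localizedModule p.primeCompl) n →
      ∃ s : R, s ∉ p ∧ HasProjectiveDimensionLT (M.localizedModule (Submonoid.powers s)) n := by
  intro n
  induction n with
  | zero =>
    intro M _ h
    rw [hasProjectiveDimensionLT_zero_iff_isZero, ModuleCat.isZero_iff_subsingleton] at h
    have h1 : Subsingleton (LocalizedModule p.primeCompl M) :=
      (Equiv.subsingleton_congr (equivShrink _)).2 h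
    have h2 : (⟨p, inferInstance⟩ : PrimeSpectrum R) ∉ Module.support R M :=
      Module.notMem_support_iff.2 h1
    rw [Module.mem_support_iff_of_finite] at h2
    obtain ⟨s, hs, hsp⟩ := SetLike.not_le_iff_exists.1 h2
    refine ⟨s, hsp, ?_⟩
    rw [hasProjectiveDimensionLT_zero_iff_isZero, ModuleCat.isZero_iff_subsingleton]
    have := subsingleton_localizedModule_powers_of_mem_annihilator M s hs
    exact (Equiv.subsingleton_congr (equivShrink _)).1 this
  | succ n ih =>
    intro M _ h
    rcases n with _ | n
    · -- projective case
      rw [zero_add, ← projective_iff_hasProjectiveDimensionLT_one,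
        ← IsProjective.iff_projective] at h
      have hfp : Module.FinitePresentation R M := Module.finitePresentation_of_finite R M
      have hfin : Module.Finite (Localization.AtPrime p) (M.localizedModule p.primeCompl) :=
        Module.Finite.of_isLocalizedModule p.primeCompl
          (M.localizedModuleMkLinearMap p.primeCompl)
      have hfree : Module.Free (Localization.AtPrime p) (M.localizedModule p.primeCompl) :=
        Module.free_of_flat_of_isLocalRing
      obtain ⟨r, hr, hfr, -⟩ := Module.FinitePresentation.exists_free_localizedModule_powers
        p.primeCompl (M.localizedModuleMkLinearMap p.primeCompl) (Localization.AtPrime p)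
      refine ⟨r, hr, ?_⟩
      rw [zero_add, ← projective_iff_hasProjectiveDimensionLT_one, ← IsProjective.iff_projective]
      have hproj : Module.Projective (Localization (Submonoid.powers r))
          (LocalizedModule (Submonoid.powers r) M) := Module.Projective.of_free
      exact Module.Projective.of_equiv
        (Shrink.linearEquiv (Localization (Submonoid.powers r))
          (LocalizedModule (Submonoid.powers r) M)).symm
    · -- shift
      obtain ⟨P, _, _, _, _, f, surjf⟩ := Module.exists_finite_presentation R M
      let T := f.shortComplexKer
      have T_exact := LinearMap.shortExact_shortComplexKer surjf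
      have proj := ModuleCat.projective_of_categoryTheory_projective T.X₂
      have key : ∀ S : Submonoid R,
          HasProjectiveDimensionLT (M.localizedModule S) (n + 2) ↔
          HasProjectiveDimensionLT ((ModuleCat.of R (LinearMap.ker f)).localizedModule S)
            (n + 1) := by
        intro S
        have TS_exact : (T.map (ModuleCat.localizedModuleFunctor S)).ShortExact :=
          T_exact.map_of_exact (ModuleCat.localizedModuleFunctor S)
        have projS : Projective (T.map (ModuleCat.localizedModuleFunctor S)).X₂ :=
          (ModuleCat.localizedModuleFunctor.{u} S).projective_obj_of_projective proj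
        exact TS_exact.hasProjectiveDimensionLT_X₃_iff n projS
      rw [key] at h
      obtain ⟨s, hs, hK⟩ := ih (ModuleCat.of R (LinearMap.ker f)) h
      exact ⟨s, hs, (key _).2 hK⟩

open TensorProduct in
theorem pd_atPrime_le_pd_away (p : Ideal R) [p.IsPrime] (s : R) (hs : s ∉ p)
    (M : Type u) [AddCommGroup M] [Module R M] :
    projectiveDimension (ModuleCat.of (Localization.AtPrime p)
        (LocalizedModule p.primeCompl M)) ≤
      projectiveDimension (ModuleCat.of (Localization.Away s)
        (LocalizedModule (Submonoid.powers s) M)) := by
  let A := Localization.Away s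
  let B := Localization.AtPrime p
  have hu : IsUnit (algebraMap R B s) := IsLocalization.map_units B (⟨s, hs⟩ : p.primeCompl)
  let _ : Algebra A B := (IsLocalization.Away.lift s hu).toAlgebra
  have : IsScalarTower R A B := IsScalarTower.of_algebraMap_eq
    (fun x => (IsLocalization.Away.lift_eq s hu x).symm)
  have hle : Submonoid.powers s ≤ p.primeCompl := Submonoid.powers_le.2 hs
  have : IsLocalization (p.primeCompl.map (algebraMap R A)) B :=
    IsLocalization.isLocalization_of_submonoid_le A B (Submonoid.powers s) p.primeCompl hle
  have : Module.Flat A B := IsLocalization.flat B (p.primeCompl.map (algebraMap R A))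
  let Ms := LocalizedModule (Submonoid.powers s) M
  have h1 := Groth.Agent.H17.PdBC.projectiveDimension_baseChange_le A B Ms
  let fs : M →ₗ[R] Ms := LocalizedModule.mkLinearMap (Submonoid.powers s) M
  have bc1 : IsBaseChange A fs := IsLocalizedModule.isBaseChange (Submonoid.powers s) A fs
  have bc2 : IsBaseChange B (TensorProduct.mk A B Ms 1) := TensorProduct.isBaseChange A Ms B
  have bc3 : IsBaseChange B (((TensorProduct.mk A B Ms 1).restrictScalars R).comp fs) :=
    bc1.comp bc2
  have : IsLocalizedModule p.primeCompl
      (((TensorProduct.mk A B Ms 1).restrictScalars R).comp fs) :=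
    (isLocalizedModule_iff_isBaseChange p.primeCompl B _).2 bc3
  let e : LocalizedModule p.primeCompl M ≃ₗ[R] B ⊗[A] Ms :=
    IsLocalizedModule.linearEquiv p.primeCompl (LocalizedModule.mkLinearMap p.primeCompl M)
      (((TensorProduct.mk A B Ms 1).restrictScalars R).comp fs)
  let eB : LocalizedModule p.primeCompl M ≃ₗ[B] B ⊗[A] Ms :=
    e.extendScalarsOfIsLocalization p.primeCompl B
  rw [projectiveDimension_eq_of_iso eB.toModuleIso]
  exact h1

theorem exists_pd_away_eq [IsNoetherianRing R] (M : Type u) [AddCommGroup M] [Module R M]
    [Module.Finite R M] (p : Ideal R) [p.IsPrime]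
    (hfin : projectiveDimension (ModuleCat.of (Localization.AtPrime p)
      (LocalizedModule p.primeCompl M)) ≠ ⊤) :
    ∃ s : R, s ∉ p ∧
      projectiveDimension (ModuleCat.of (Localization.Away s)
        (LocalizedModule (Submonoid.powers s) M)) =
      projectiveDimension (ModuleCat.of (Localization.AtPrime p)
        (LocalizedModule p.primeCompl M)) := by
  -- a uniform "pd < N" statement
  have key : ∀ N : ℕ, HasProjectiveDimensionLT (ModuleCat.of (Localization.AtPrime p)
      (LocalizedModule p.primeCompl M)) N →
      ∃ s : R, s ∉ p ∧ HasProjectiveDimensionLT (ModuleCat.of (Localization.Away s)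
        (LocalizedModule (Submonoid.powers s) M)) N := by
    intro N hN
    have h1 : HasProjectiveDimensionLT ((ModuleCat.of R M).localizedModule p.primeCompl) N :=
      hasProjectiveDimensionLT_of_iso (locIso p.primeCompl M).symm N
    obtain ⟨s, hs, h2⟩ := exists_powers_hasPDLT p N (ModuleCat.of R M) h1
    exact ⟨s, hs, hasProjectiveDimensionLT_of_iso (locIso (Submonoid.powers s) M) N⟩
  set e := projectiveDimension (ModuleCat.of (Localization.AtPrime p)
      (LocalizedModule p.primeCompl M)) with he
  induction hE : e with
  | bot =>
    have h0 : HasProjectiveDimensionLT (ModuleCat.of (Localization.AtPrime p)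
        (LocalizedModule p.primeCompl M)) 0 := by
      rw [← projectiveDimension_lt_iff, ← he, hE]
      exact WithBot.bot_lt_coe _
    obtain ⟨s, hs, h2⟩ := key 0 h0
    refine ⟨s, hs, ?_⟩
    rw [hasProjectiveDimensionLT_zero_iff_isZero, ← projectiveDimension_eq_bot_iff] at h2
    exact h2
  | coe c =>
    induction c with
    | top => exact absurd hE hfin
    | coe m =>
      have h0 : HasProjectiveDimensionLT (ModuleCat.of (Localization.AtPrime p)
          (LocalizedModule p.primeCompl M)) (m + 1) := by
        refine (projectiveDimension_le_iff _ m).1 ?_
        rw [← he, hE]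
        exact le_refl _
      obtain ⟨s, hs, h2⟩ := key (m + 1) h0
      refine ⟨s, hs, le_antisymm ?_ ?_⟩
      · exact (projectiveDimension_le_iff _ m).2 h2
      · have := pd_atPrime_le_pd_away p s hs M
        rw [← he, hE] at this
        exact this

end Groth.Agent.H81.PdLoc
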