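import Groth.Agent.H58.HL.Main
import Groth.Agent.H58.NV.Main
import Groth.Agent.H58.LCArith
import Groth.Agent.H58.LCMV4
import Groth.Agent.H58.LCCompare

/-!
# Faltings' connectedness theorem (punctured spectrum of `R/I`, `ara I ≤ dim R - 2`)
-/
set_option autoImplicit false
set_option linter.unusedSectionVars false
universe u
open CategoryTheory IsLocalRing

namespace Groth.Agent.H81.FaltingsConn
open Groth.Agent.H58.LC

section Noeth
variable {R : Type u} [CommRing R] [IsNoetherianRing R]

/-- `H^i_{√I}(M) → H^i_I(M)` is bijective. -/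
theorem bijective_HmapOfLE_radical (I : Ideal R) (M : Type u) [AddCommGroup M] [Module R M]
    (i : ℕ) : Function.Bijective
      ((Dual2.HmapOfLE (Ideal.le_radical : I ≤ I.radical) i).app (ModuleCat.of R M)).hom := by
  have h := comparison I I.radical Ideal.le_radical M i
  constructor
  · apply h.2
    intro p hap hnp
    exact absurd ((Ideal.IsPrime.radical_le_iff p.2).mpr hap) hnp
  · apply h.1
    intro p hap hnp
    exact absurd ((Ideal.IsPrime.radical_le_iff p.2).mpr hap) hnp

/-- vanishing of local cohomology only depends on the radical of the ideal. -/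
theorem subsingleton_H_of_radical_eq (I J : Ideal R) (h : I.radical = J.radical) (M : Type u)
    [AddCommGroup M] [Module R M] (i : ℕ) (hJ : Subsingleton (LocCoh.H J i M)) :
    Subsingleton (LocCoh.H I i M) := by
  have h1 : Subsingleton (LocCoh.H J.radical i M) :=
    (bijective_HmapOfLE_radical J M i).1.subsingleton
  rw [← h] at h1
  exact (bijective_HmapOfLE_radical I M i).2.subsingleton

/-- Mayer–Vietoris vanishing -/
theorem subsingleton_H_sup (a b : Ideal R) (M : Type u) [AddCommGroup M] [Module R M] (i : ℕ)
    (h1 : Subsingleton (LocCoh.H (a ⊓ b) i M)) (h2 : Subsingleton (LocCoh.H a (i + 1) M))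
    (h3 : Subsingleton (LocCoh.H b (i + 1) M)) : Subsingleton (LocCoh.H (a ⊔ b) (i + 1) M) := by
  refine ⟨fun x y => ?_⟩
  have key : ∀ z : LocCoh.H (a ⊔ b) (i + 1) M, z = 0 := by
    intro z
    have hz : z ∈ LinearMap.ker (Pmap a b (M := ModuleCat.of R M) (i + 1)) := by
      rw [LinearMap.mem_ker]
      exact Subsingleton.elim _ _
    rw [ker_Pmap_succ a b (CategoryTheory.injectiveResolution (ModuleCat.of R M)) i] at hz
    obtain ⟨w, rfl⟩ := hz
    rw [Subsingleton.elim w 0, map_zero]
  rw [key x, key y]

end Noeth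

section Local
variable {R : Type u} [CommRing R] [IsLocalRing R]

theorem ringKrullDim_quotient_pos (a : Ideal R) (x : PrimeSpectrum R) (hax : a ≤ x.asIdeal)
    (hx : x.asIdeal ≠ maximalIdeal R) : 0 < ringKrullDim (R ⧸ a) := by
  rw [ringKrullDim_quotient, Order.krullDim_pos_iff]
  have hxm : x.asIdeal ≤ maximalIdeal R := IsLocalRing.le_maximalIdeal x.2.ne_top
  refine ⟨⟨x, hax⟩, ⟨IsLocalRing.closedPoint R, hax.trans hxm⟩, ?_⟩
  show x < IsLocalRing.closedPoint R
  exact lt_of_le_of_ne hxm (fun h => hx (congrArg PrimeSpectrum.asIdeal h))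

end Local

section Main
variable (R : Type u) [CommRing R] [IsDomain R] [IsNoetherianRing R] [IsLocalRing R]
  [IsAdicComplete (maximalIdeal R) R]

theorem subsingleton_H_of_span (t : ℕ) (f : Fin t → R) (I : Ideal R)
    (hI : I.radical = (Ideal.span (Set.range f)).radical) (i : ℕ) (hi : t < i) :
    Subsingleton (LocCoh.H I i R) := by
  classical
  apply subsingleton_H_of_radical_eq I _ hI R i
  have hspan : Ideal.span (Set.range f) =
      Ideal.span ((Finset.univ.image f : Finset R) : Set R) := by
    rw [Finset.coe_image, Finset.coe_univ, Set.image_univ]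
  rw [hspan]
  apply subsingleton_H_of_card_lt t (Finset.univ.image f) ?_ (ModuleCat.of R R) i hi
  exact (Finset.card_image_le).trans (by simp)

theorem isConnected_punctured (d : ℕ) (hd : ringKrullDim R = d) (t : ℕ) (ht : t + 2 ≤ d)
    (f : Fin t → R) (I : Ideal R) (hItop : I ≠ ⊤)
    (hI : I.radical = (Ideal.span (Set.range f)).radical) :
    _root_.IsConnected {x : PrimeSpectrum R | I ≤ x.asIdeal ∧ x.asIdeal ≠ maximalIdeal R} := by
  classical
  constructor
  · -- nonempty: a minimal prime of `I` has height `≤ t < d`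
    obtain ⟨p, hp⟩ := Ideal.nonempty_minimalPrimes hItop
    haveI hpp : p.IsPrime := hp.1.1
    refine ⟨⟨p, hpp⟩, hp.1.2, ?_⟩
    intro hpm
    have h1 : p ∈ (Ideal.span (Set.range f)).minimalPrimes := by
      rw [← Ideal.radical_minimalPrimes, ← hI, Ideal.radical_minimalPrimes]
      exact hp
    have h2 := Ideal.height_le_card_of_mem_minimalPrimes_span (Set.finite_range f) h1
    have h3 : (Set.range f).ncard ≤ t := by
      have := Set.ncard_image_le (f := f) (Set.finite_univ (α := Fin t))
      rw [Set.image_univ] at this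
      refine this.trans ?_
      rw [Set.ncard_univ]
      simp
    have h4 : p.height = d := by
      have := IsLocalRing.maximalIdeal_height_eq_ringKrullDim (R := R)
      rw [hd, ← hpm] at this
      exact_mod_cast this
    rw [h4] at h2
    have h5 : (d : ℕ∞) ≤ (t : ℕ∞) := h2.trans (by exact_mod_cast h3)
    have : d ≤ t := by exact_mod_cast h5
    omega
  · rw [isPreconnected_closed_iff]
    intro Z Z' hZ hZ' hcover hne hne'
    obtain ⟨a0, rfl⟩ := (PrimeSpectrum.isClosed_iff_zeroLocus_ideal Z).mp hZ
    obtain ⟨b0, rfl⟩ := (PrimeSpectrum.isClosed_iff_zeroLocus_ideal Z').mp hZ'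
    by_contra hempty
    obtain ⟨x, ⟨hxI, hxm⟩, hxa⟩ := hne
    obtain ⟨y, ⟨hyI, hym⟩, hyb⟩ := hne'
    rw [PrimeSpectrum.mem_zeroLocus] at hxa hyb
    set a := a0 ⊔ I with ha
    set b := b0 ⊔ I with hb
    have hax : a ≤ x.asIdeal := sup_le hxa hxI
    have hby : b ≤ y.asIdeal := sup_le hyb hyI
    have ha_pos : 0 < ringKrullDim (R ⧸ a) := ringKrullDim_quotient_pos a x hax hxm
    have hb_pos : 0 < ringKrullDim (R ⧸ b) := ringKrullDim_quotient_pos b y hby hym
    have ham : a ≤ maximalIdeal R := hax.trans (IsLocalRing.le_maximalIdeal x.2.ne_top)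
    have hbm : b ≤ maximalIdeal R := hby.trans (IsLocalRing.le_maximalIdeal y.2.ne_top)
    -- the radical of `a ⊓ b`
    have hrad_inf : (a ⊓ b).radical = I.radical := by
      rw [← PrimeSpectrum.vanishingIdeal_zeroLocus_eq_radical,
        ← PrimeSpectrum.vanishingIdeal_zeroLocus_eq_radical]
      congr 1
      rw [PrimeSpectrum.zeroLocus_inf]
      ext z
      simp only [Set.mem_union, PrimeSpectrum.mem_zeroLocus, SetLike.coe_subset_coe]
      constructor
      · rintro (h | h)
        · exact le_sup_right.trans h
        · exact le_sup_right.trans h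
      · intro hz
        by_cases hzm : z.asIdeal = maximalIdeal R
        · left; rw [hzm]; exact ham
        · rcases hcover ⟨hz, hzm⟩ with h | h
          · left; exact sup_le ((PrimeSpectrum.mem_zeroLocus _ _).mp h) hz
          · right; exact sup_le ((PrimeSpectrum.mem_zeroLocus _ _).mp h) hz
    have hrad_sup : (a ⊔ b).radical = (maximalIdeal R).radical := by
      rw [← PrimeSpectrum.vanishingIdeal_zeroLocus_eq_radical,
        ← PrimeSpectrum.vanishingIdeal_zeroLocus_eq_radical]
      congr 1
      ext z
      simp only [PrimeSpectrum.mem_zeroLocus, SetLike.coe_subset_coe]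
      constructor
      · intro hz
        by_contra hzm
        have hzm' : z.asIdeal ≠ maximalIdeal R := fun h => hzm (le_of_eq h.symm)
        apply hempty
        refine ⟨z, ⟨(le_sup_right.trans le_sup_left).trans hz, hzm'⟩, ?_, ?_⟩
        · rw [PrimeSpectrum.mem_zeroLocus]
          have : a0 ≤ z.asIdeal := (le_sup_left.trans le_sup_left).trans hz
          exact this
        · rw [PrimeSpectrum.mem_zeroLocus]
          have : b0 ≤ z.asIdeal := (le_sup_left.trans le_sup_right).trans hz
          exact this
      · intro hz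
        exact (sup_le ham hbm).trans hz
    -- vanishing
    obtain ⟨e, rfl⟩ : ∃ e, d = e + 1 := ⟨d - 1, by omega⟩
    have h1 : Subsingleton (LocCoh.H (a ⊓ b) e R) :=
      subsingleton_H_of_radical_eq _ _ hrad_inf R e
        (subsingleton_H_of_span R t f I hI e (by omega))
    have h2 := Groth.Agent.H58.HL.subsingleton_H_domain R (e + 1) hd a ha_pos
    have h3 := Groth.Agent.H58.HL.subsingleton_H_domain R (e + 1) hd b hb_pos
    have h4 := subsingleton_H_sup a b R e h1 h2 h3
    have h5 : Subsingleton (LocCoh.H (maximalIdeal R) (e + 1) R) :=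
      subsingleton_H_of_radical_eq _ _ hrad_sup.symm R (e + 1) h4
    have h6 := Groth.Agent.H58.NV.nonvanishing_ring R (e + 1) hd
    exact not_subsingleton _ h5

end Main

end Groth.Agent.H81.FaltingsConn
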