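import Mathlib
import Groth.Agent.H58.HL.Main
import Groth.Agent.H58.NV.Main
import Groth.Agent.H58.LCCompare
import Groth.Agent.H81.FaltingsConn
import Groth.Agent.H2.LCArtinianTop
import Groth.Agent.H2.MatlisDual
import Groth.Agent.H30.Matlis

/-!
# Attached primes of the top local cohomology module  (helper81)

`R` a complete Noetherian local ring, `E` an injective hull of the residue field, `I` an ideal,
`M` a finite module of dimension `n`.  Then (Macdonald–Sharp, Dibaei–Yassemi)

`Ass Hom(H^n_I(M), E) = {p prime | Ann M ≤ p, dim R/p = n, rad(I + p) = m}`.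

Ingredients: Grothendieck vanishing, the Hartshorne–Lichtenbaum vanishing theorem (helper58),
Grothendieck non-vanishing (helper58), `E` is a cogenerator (helper30).
-/

set_option autoImplicit false
set_option linter.unusedSectionVars false
set_option linter.style.haveILetI false

namespace Groth.Agent.H81.AttTop

universe u

open CategoryTheory IsLocalRing Groth.Agent.H58 Groth.Agent.H58.LC

section General

variable {R : Type u} [CommRing R] [IsNoetherianRing R] (I : Ideal R)

/-- right exactness of `H^n_I` on surjections whose kernel has no `H^{n+1}_I` -/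
theorem map_surjective_of_vanishing (n : ℕ) {M C : Type u} [AddCommGroup M] [Module R M]
    [AddCommGroup C] [Module R C] (g : M →ₗ[R] C) (hg : Function.Surjective g)
    (hK : Subsingleton (LocCoh.H I (n + 1) (LinearMap.ker g))) :
    Function.Surjective ((localCohomology I n).map (ModuleCat.ofHom g)).hom := by
  have hS := shortExact_of (LinearMap.ker g).subtype g (Submodule.injective_subtype _) hg
    (LinearMap.exact_subtype_ker_map g)
  intro x
  exact exact₃ I n hS x (Subsingleton.elim (h := hK) _ _)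

/-- multiplication by `f` is surjective on `H^n_I(M)` when `H^{n+1}_I(0 :_M f) = 0` and
`H^n_I(M/fM) = 0` -/
theorem smul_surjective_of_vanishing (n : ℕ) (f : R) (M : Type u) [AddCommGroup M] [Module R M]
    (hv1 : Subsingleton (LocCoh.H I (n + 1) (LinearMap.ker (LinearMap.lsmul R M f))))
    (hv2 : Subsingleton (LocCoh.H I n (M ⧸ LinearMap.range (LinearMap.lsmul R M f)))) :
    Function.Surjective (fun x : LocCoh.H I n M => f • x) := by
  let φ : M →ₗ[R] M := LinearMap.lsmul R M f
  have hS1 := shortExact_of (LinearMap.ker φ).subtype φ.rangeRestrict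
    (Submodule.injective_subtype _) φ.surjective_rangeRestrict
    (by
      intro y
      rw [← LinearMap.mem_ker, LinearMap.ker_rangeRestrict]
      constructor
      · intro h; exact ⟨⟨y, h⟩, rfl⟩
      · rintro ⟨z, rfl⟩; exact z.2)
  have hS2 := shortExact_of (LinearMap.range φ).subtype (LinearMap.range φ).mkQ
    (Submodule.injective_subtype _) (Submodule.mkQ_surjective _)
    (LinearMap.exact_subtype_mkQ _)
  intro x
  obtain ⟨x₁, hx₁⟩ := exact₂ I n hS2 x (Subsingleton.elim (h := hv2) _ _)
  obtain ⟨x₂, hx₂⟩ := exact₃ I n hS1 x₁ (Subsingleton.elim (h := hv1) _ _)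
  refine ⟨x₂, ?_⟩
  show f • x₂ = x
  have hcomp : ModuleCat.ofHom φ.rangeRestrict ≫ ModuleCat.ofHom (LinearMap.range φ).subtype =
      f • 𝟙 (ModuleCat.of R M) := by
    apply ModuleCat.hom_ext
    apply LinearMap.ext
    intro m; rfl
  have h1 : ((localCohomology I n).map (f • 𝟙 (ModuleCat.of R M))).hom x₂ = f • x₂ := by
    rw [map_smul', CategoryTheory.Functor.map_id]
    rfl
  rw [← h1, ← hcomp, Functor.map_comp]
  show ((localCohomology I n).map (ModuleCat.ofHom (LinearMap.range φ).subtype)).hom
    (((localCohomology I n).map (ModuleCat.ofHom φ.rangeRestrict)).hom x₂) = x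
  rw [hx₂, hx₁]

/-- `dim R/p ≤ dim M` for `p ∈ Supp M` -/
theorem ringKrullDim_quotient_le_supportDim (M : Type u) [AddCommGroup M] [Module R M]
    (p : PrimeSpectrum R) (hp : p ∈ Module.support R M) :
    ringKrullDim (R ⧸ p.asIdeal) ≤ Module.supportDim R M := by
  rw [ringKrullDim_quotient, Module.supportDim]
  refine Order.krullDim_le_of_strictMono
    (fun q => (⟨q.1, Module.mem_support_mono (p := p) q.2 hp⟩ : Module.support R M)) ?_
  intro a b hab
  exact hab

/-- a prime of the support of top dimension is a minimal prime of the annihilator -/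
theorem mem_minimalPrimes_of_dim_eq (M : Type u) [AddCommGroup M] [Module R M] [Module.Finite R M]
    (n : ℕ) (hn : Module.supportDim R M ≤ (n : WithBot ℕ∞)) (q : PrimeSpectrum R)
    (hq : q ∈ Module.support R M) (hqn : ringKrullDim (R ⧸ q.asIdeal) = n) :
    q.asIdeal ∈ (Module.annihilator R M).minimalPrimes := by
  have hle : Module.annihilator R M ≤ q.asIdeal := Module.mem_support_iff_of_finite.mp hq
  obtain ⟨q₀, hq₀, hq₀le⟩ := Ideal.exists_minimalPrimes_le hle
  rcases eq_or_lt_of_le hq₀le with h | h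
  · exact h ▸ hq₀
  · exfalso
    haveI : q₀.IsPrime := hq₀.1.1
    have h0 : (⟨q₀, hq₀.1.1⟩ : PrimeSpectrum R) ∈ Module.support R M :=
      Module.mem_support_iff_of_finite.mpr hq₀.1.2
    have h1 := ringKrullDim_quotient_le_supportDim M ⟨q₀, hq₀.1.1⟩ h0
    have h2 := Groth.Agent.H2.CdTop.ringKrullDim_quotient_lt_of_lt q₀ q.asIdeal h n (h1.trans hn)
    rw [hqn] at h2
    exact lt_irrefl _ h2

end General

section HL

/-- **Hartshorne–Lichtenbaum vanishing for modules** over a complete local ring: `H^n_J(M) = 0`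
when `dim M ≤ n` and `dim A/(J + p) ≥ 1` for every `p ∈ Supp M` with `dim A/p = n`. -/
theorem hl_module (A : Type u) [CommRing A] [IsNoetherianRing A] [IsLocalRing A]
    [IsAdicComplete (maximalIdeal A) A] (n : ℕ) (J : Ideal A)
    (M : Type u) [AddCommGroup M] [Module A M] [hM : Module.Finite A M]
    (hdim : Module.supportDim A M ≤ (n : WithBot ℕ∞))
    (h : ∀ p : PrimeSpectrum A, p ∈ Module.support A M → ringKrullDim (A ⧸ p.asIdeal) = n →
      0 < ringKrullDim (A ⧸ (J ⊔ p.asIdeal))) :
    Subsingleton (LocCoh.H J n M) := by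
  revert hdim h
  refine IsNoetherianRing.induction_on_isQuotientEquivQuotientPrime A hM
    (motive := fun N _ _ _ => Module.supportDim A N ≤ (n : WithBot ℕ∞) →
      (∀ p : PrimeSpectrum A, p ∈ Module.support A N → ringKrullDim (A ⧸ p.asIdeal) = n →
        0 < ringKrullDim (A ⧸ (J ⊔ p.asIdeal))) → Subsingleton (LocCoh.H J n N)) ?_ ?_ ?_
  · intro N _ _ _ _ _ _
    exact subsingleton_H_of_subsingleton J (ModuleCat.of A N) n
  · intro N _ _ _ p e hdim h
    apply subsingleton_H_of_linearEquiv J e.symm n
    haveI := p.2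
    have hdimp : ringKrullDim (A ⧸ p.asIdeal) ≤ n := by
      rw [← Module.supportDim_quotient_eq_ringKrullDim, ← Module.supportDim_eq_of_equiv e]
      exact hdim
    by_cases hlt : ringKrullDim (A ⧸ p.asIdeal) < n
    · apply gv J n
      rwa [Module.supportDim_quotient_eq_ringKrullDim]
    have heq : ringKrullDim (A ⧸ p.asIdeal) = n := le_antisymm hdimp (not_lt.mp hlt)
    have hpsupp : p ∈ Module.support A N := by
      rw [e.support_eq, Module.mem_support_iff_of_finite, Ideal.annihilator_quotient]
    have hpos := h p hpsupp heq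
    haveI : IsLocalRing (A ⧸ p.asIdeal) :=
      IsLocalRing.of_surjective' (Ideal.Quotient.mk p.asIdeal) Ideal.Quotient.mk_surjective
    haveI : IsAdicComplete (maximalIdeal (A ⧸ p.asIdeal)) (A ⧸ p.asIdeal) :=
      Groth.Agent.H26.ComplQuot.isAdicComplete_quotient p.asIdeal
    have hpos' : 0 < ringKrullDim ((A ⧸ p.asIdeal) ⧸ J.map (algebraMap A (A ⧸ p.asIdeal))) := by
      have e := DoubleQuot.quotQuotEquivQuotSup p.asIdeal J
      rw [Ideal.Quotient.algebraMap_eq, ringKrullDim_eq_of_ringEquiv e, sup_comm]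
      exact hpos
    have h1 := HL.subsingleton_H_domain (A ⧸ p.asIdeal) n heq
      (J.map (algebraMap A (A ⧸ p.asIdeal))) hpos'
    obtain ⟨φ, -⟩ := indepProp (R := A) (R' := A ⧸ p.asIdeal) J n (A ⧸ p.asIdeal)
    exact φ.symm.toEquiv.subsingleton
  · intro N₁ _ _ _ N₂ _ _ _ N₃ _ _ _ f g hf hg hfg h₁ h₃ hdim h
    refine subsingleton_mid J (shortExact_of f g hf hg hfg) n
      (h₁ ((Module.supportDim_le_of_injective f hf).trans hdim)
        (fun p hp => h p (Module.support_subset_of_injective f hf hp)))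
      (h₃ ((Module.supportDim_le_of_surjective g hg).trans hdim)
        (fun p hp => h p (Module.support_subset_of_surjective g hg hp)))

end HL

section Main

variable {R : Type u} [CommRing R] [IsNoetherianRing R] [IsLocalRing R]
  [IsAdicComplete (maximalIdeal R) R]
  {E : Type u} [AddCommGroup E] [Module R E]
  (f : ResidueField R →ₗ[R] E) (hf : InjHull.IsInjectiveHull f)
  (I : Ideal R) (M : Type u) [AddCommGroup M] [Module R M] [Module.Finite R M] (n : ℕ)

omit [IsLocalRing R] [IsAdicComplete (maximalIdeal R) R] [Module.Finite R M] in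
theorem smul_H_eq_zero (a : R) (ha : a ∈ Module.annihilator R M) (x : LocCoh.H I n M) :
    a • x = 0 := by
  refine smul_eq_zero_of_smul_id_eq_zero I n (ModuleCat.of R M) a ?_ x
  ext m
  exact Module.mem_annihilator.mp ha m

omit [IsLocalRing R] [IsAdicComplete (maximalIdeal R) R] [Module.Finite R M] in
theorem subsingleton_H_top : Subsingleton (LocCoh.H (⊤ : Ideal R) n M) := by
  refine ⟨fun x y => ?_⟩
  have key : ∀ z : LocCoh.H (⊤ : Ideal R) n M, z = 0 := by
    intro z
    obtain ⟨t, ht⟩ := isTors_H (⊤ : Ideal R) n (ModuleCat.of R M) z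
    have := ht 1 (by rw [Ideal.top_pow]; trivial)
    rwa [one_smul] at this
  rw [key x, key y]

/-- the set of primes `p ⊇ Ann M` with `dim R/p = n` and `rad(I + p) = m` -/
def goodPrimes : Set (Ideal R) :=
  {p | p.IsPrime ∧ Module.annihilator R M ≤ p ∧ ringKrullDim (R ⧸ p) = n ∧
    (I ⊔ p).radical = maximalIdeal R}

omit [IsAdicComplete (maximalIdeal R) R] in
theorem goodPrimes_subset_minimalPrimes (hn : Module.supportDim R M ≤ (n : WithBot ℕ∞)) :
    goodPrimes I M n ⊆ (Module.annihilator R M).minimalPrimes := by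
  rintro p ⟨hp, hann, hdim, -⟩
  exact mem_minimalPrimes_of_dim_eq M n hn ⟨p, hp⟩ (Module.mem_support_iff_of_finite.mpr hann) hdim

/-- if `x` avoids all good primes then `H^n_I(M/xM) = 0` -/
theorem vanishing_quot (hn : Module.supportDim R M ≤ (n : WithBot ℕ∞)) (hI : I ≠ ⊤) (x : R)
    (hx : ∀ p ∈ goodPrimes I M n, x ∉ p) :
    Subsingleton (LocCoh.H I n (M ⧸ LinearMap.range (LinearMap.lsmul R M x))) := by
  apply hl_module R n I
  · exact (Module.supportDim_le_of_surjective _ (Submodule.mkQ_surjective _)).trans hn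
  · intro q hq hqn
    have hqM : q ∈ Module.support R M :=
      Module.support_subset_of_surjective _ (Submodule.mkQ_surjective _) hq
    have hxq : x ∈ q.asIdeal := by
      apply Module.mem_support_iff_of_finite.mp hq
      rw [Module.mem_annihilator]
      intro y
      obtain ⟨m, rfl⟩ := Submodule.mkQ_surjective _ y
      rw [← map_smul, Submodule.mkQ_apply, Submodule.Quotient.mk_eq_zero]
      exact ⟨m, rfl⟩
    have hrad : (I ⊔ q.asIdeal).radical ≠ maximalIdeal R := by
      intro h
      exact hx q.asIdeal ⟨q.2, Module.mem_support_iff_of_finite.mp hqM, hqn, h⟩ hxq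
    -- a prime containing `I ⊔ q` different from `m`
    have hle : I ⊔ q.asIdeal ≤ maximalIdeal R :=
      sup_le (IsLocalRing.le_maximalIdeal hI) (IsLocalRing.le_maximalIdeal q.2.ne_top)
    have : ∃ x' : PrimeSpectrum R, I ⊔ q.asIdeal ≤ x'.asIdeal ∧ x'.asIdeal ≠ maximalIdeal R := by
      by_contra hcon
      push Not at hcon
      apply hrad
      rw [Ideal.radical_eq_sInf]
      apply le_antisymm
      · exact sInf_le ⟨hle, inferInstance⟩
      · apply le_sInf
        rintro J ⟨hJ, hJp⟩
        exact (hcon ⟨J, hJp⟩ hJ).ge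
    obtain ⟨x', hx'1, hx'2⟩ := this
    exact Groth.Agent.H81.FaltingsConn.ringKrullDim_quotient_pos _ x' hx'1 hx'2

include f hf in
/-- **Claim 1.** Associated primes of the dual of `H^n_I(M)` are good primes. -/
theorem mem_goodPrimes_of_mem_associatedPrimes (hn : Module.supportDim R M = (n : WithBot ℕ∞))
    (P : Ideal R) (hP : P ∈ associatedPrimes R (LocCoh.H I n M →ₗ[R] E)) :
    P ∈ goodPrimes I M n := by
  have hI : I ≠ ⊤ := by
    rintro rfl
    haveI := subsingleton_H_top M n (R := R)
    haveI : Subsingleton (LocCoh.H (⊤ : Ideal R) n M →ₗ[R] E) :=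
      ⟨fun a b => LinearMap.ext fun t => by rw [Subsingleton.elim t 0, map_zero, map_zero]⟩
    exact not_isAssociatedPrime_of_subsingleton hP
  obtain ⟨hPp, φ, hφ⟩ := isAssociatedPrime_iff.mp hP
  have hφ0 : φ ≠ 0 := by
    rintro rfl
    apply hPp.ne_top
    rw [hφ, Ideal.eq_top_iff_one, Submodule.mem_colon_singleton, smul_zero]
    exact Submodule.zero_mem _
  have hmemP : ∀ a : R, a ∈ P ↔ a • φ = 0 := by
    intro a
    rw [hφ, Submodule.mem_colon_singleton, Submodule.mem_bot]
  have hann : Module.annihilator R M ≤ P := by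
    intro a ha
    rw [hmemP]
    ext t
    rw [LinearMap.smul_apply, ← map_smul, smul_H_eq_zero I M n a ha t, map_zero,
      LinearMap.zero_apply]
  have hfin : (goodPrimes I M n).Finite :=
    (Ideal.finite_minimalPrimes_of_isNoetherianRing R (Module.annihilator R M)).subset
      (goodPrimes_subset_minimalPrimes I M n hn.le)
  have hsub : (P : Set R) ⊆ ⋃ p ∈ goodPrimes I M n, (p : Set R) := by
    intro x hxP
    by_contra hcon
    have hx : ∀ p ∈ goodPrimes I M n, x ∉ p := by
      intro p hp hxp
      exact hcon (Set.mem_iUnion₂.mpr ⟨p, hp, hxp⟩)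
    have hv2 := vanishing_quot I M n hn.le hI x hx
    have hv1 : Subsingleton (LocCoh.H I (n + 1)
        (LinearMap.ker (LinearMap.lsmul R M x))) := by
      apply gv I (n + 1)
      refine lt_of_le_of_lt (Module.supportDim_le_of_injective _ (Submodule.injective_subtype _)) ?_
      rw [hn]
      exact_mod_cast Nat.lt_succ_self n
    have hsurj := smul_surjective_of_vanishing I n x M hv1 hv2
    apply hφ0
    have hxφ := (hmemP x).mp hxP
    ext t
    obtain ⟨t', rfl⟩ := hsurj t
    show φ (x • t') = 0
    rw [map_smul, ← LinearMap.smul_apply, hxφ, LinearMap.zero_apply]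
  obtain ⟨p, hp, hPp'⟩ := (Ideal.subset_union_prime_finite hfin ⊥ ⊥
    (fun i hi _ _ => hi.1)).mp hsub
  have hmin := goodPrimes_subset_minimalPrimes I M n hn.le hp
  have : p ≤ P := hmin.2 ⟨hPp, hann⟩ hPp'
  rw [le_antisymm hPp' this]
  exact hp

include f hf in
/-- **Claim 2.** Good primes are associated primes of the dual of `H^n_I(M)`. -/
theorem mem_associatedPrimes_of_mem_goodPrimes (hn : Module.supportDim R M = (n : WithBot ℕ∞))
    (p : Ideal R) (hp : p ∈ goodPrimes I M n) :
    p ∈ associatedPrimes R (LocCoh.H I n M →ₗ[R] E) := by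
  obtain ⟨hpp, hann, hdim, hrad⟩ := hp
  haveI := hpp
  set N := M ⧸ (p • ⊤ : Submodule R M) with hN
  let g : M →ₗ[R] N := (p • ⊤ : Submodule R M).mkQ
  have hg : Function.Surjective g := Submodule.mkQ_surjective _
  -- (1) `H^n(M) → H^n(N)` is surjective
  have hK : Subsingleton (LocCoh.H I (n + 1) (LinearMap.ker g)) := by
    apply gv I (n + 1)
    refine lt_of_le_of_lt (Module.supportDim_le_of_injective _ (Submodule.injective_subtype _)) ?_
    rw [hn]
    exact_mod_cast Nat.lt_succ_self n
  have hTg := map_surjective_of_vanishing I n g hg hK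
  -- (2) `dim N = n`
  have hpN : (⟨p, hpp⟩ : PrimeSpectrum R) ∈ Module.support R N := by
    show _ ∈ Module.support R (M ⧸ (p • ⊤ : Submodule R M))
    rw [Module.support_quotient]
    exact ⟨Module.mem_support_iff_of_finite.mpr hann, by
      rw [PrimeSpectrum.mem_zeroLocus]⟩
  have hdN : Module.supportDim R N = (n : WithBot ℕ∞) := by
    apply le_antisymm
    · exact (Module.supportDim_le_of_surjective g hg).trans hn.le
    · rw [← hdim]
      exact ringKrullDim_quotient_le_supportDim N ⟨p, hpp⟩ hpN
  -- (3) `p` kills `N`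
  have hpkill : ∀ a ∈ p, ∀ y : N, a • y = 0 := by
    intro a ha y
    obtain ⟨m, rfl⟩ := hg y
    rw [← map_smul]
    exact (Submodule.Quotient.mk_eq_zero _).mpr (Submodule.smul_mem_smul ha Submodule.mem_top)
  -- (4) `H^n_I(N) ≠ 0`
  have hNV : Nontrivial (LocCoh.H (maximalIdeal R) n N) := NV.nonvanishing R N n hdN
  have hNV2 : Nontrivial (LocCoh.H (I ⊔ p) n N) := by
    by_contra hcon
    rw [not_nontrivial_iff_subsingleton] at hcon
    have := Groth.Agent.H81.FaltingsConn.subsingleton_H_of_radical_eq (maximalIdeal R) (I ⊔ p)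
      (by rw [hrad, (IsLocalRing.maximalIdeal.isMaximal R).isPrime.radical]) N n hcon
    exact not_subsingleton _ this
  have hinj : Function.Injective
      ((Dual2.HmapOfLE (le_sup_left : I ≤ I ⊔ p) n).app (ModuleCat.of R N)).hom := by
    apply (comparison I (I ⊔ p) le_sup_left N n).2
    intro q hq hnq j _
    have hpq : ¬ p ≤ q.asIdeal := fun h => hnq (sup_le hq h)
    obtain ⟨s, hsp, hsq⟩ := Set.not_subset.mp hpq
    haveI : Subsingleton (LocalizedModule q.asIdeal.primeCompl N) := by
      rw [LocalizedModule.subsingleton_iff]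
      intro y
      exact ⟨s, hsq, hpkill s hsp y⟩
    exact subsingleton_H_of_subsingleton _ (ModuleCat.of _ _) j
  have hTN : Nontrivial (LocCoh.H I n N) := hinj.nontrivial
  -- (5) the dual of `H^n_I(N)` is nonzero
  have hDN : Nontrivial (LocCoh.H I n N →ₗ[R] E) := by
    obtain ⟨t, ht⟩ := exists_ne (0 : LocCoh.H I n N)
    have h1 := Groth.Agent.H30.Matlis.applyₗ_injective f hf (LocCoh.H I n N)
    have h2 : (LinearMap.applyₗ : LocCoh.H I n N →ₗ[R] (LocCoh.H I n N →ₗ[R] E) →ₗ[R] E) t ≠ 0 := by
      intro h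
      exact ht (h1 (h.trans (map_zero _).symm))
    obtain ⟨ψ, hψ⟩ := DFunLike.ne_iff.mp h2
    refine ⟨ψ, 0, fun h => hψ ?_⟩
    rw [LinearMap.applyₗ_apply_apply, h, LinearMap.zero_apply, LinearMap.zero_apply]
  -- (6) an associated prime of the dual
  obtain ⟨P', hP'⟩ := associatedPrimes.nonempty R (LocCoh.H I n N →ₗ[R] E)
  -- (7) the dual of `H^n_I(N)` embeds in the dual of `H^n_I(M)`
  let Φ : (LocCoh.H I n N →ₗ[R] E) →ₗ[R] (LocCoh.H I n M →ₗ[R] E) :=
    LinearMap.lcomp R E ((localCohomology I n).map (ModuleCat.ofHom g)).hom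
  have hΦ : Function.Injective Φ := by
    intro ψ₁ ψ₂ h
    ext t
    obtain ⟨t', rfl⟩ := hTg t
    exact LinearMap.congr_fun h t'
  have hP'M : P' ∈ associatedPrimes R (LocCoh.H I n M →ₗ[R] E) :=
    associatedPrimes.subset_of_injective hΦ hP'
  have hgood := mem_goodPrimes_of_mem_associatedPrimes f hf I M n hn P' hP'M
  have hmin := goodPrimes_subset_minimalPrimes I M n hn.le hgood
  -- (8) `p ≤ P'`
  obtain ⟨hP'p, ψ, hψ⟩ := isAssociatedPrime_iff.mp hP'
  have hpP' : p ≤ P' := by
    intro a ha
    rw [hψ, Submodule.mem_colon_singleton, Submodule.mem_bot]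
    ext t
    have hat : a • t = 0 := by
      refine smul_eq_zero_of_smul_id_eq_zero I n (ModuleCat.of R N) a ?_ t
      apply ModuleCat.hom_ext
      apply LinearMap.ext
      intro y
      exact hpkill a ha y
    rw [LinearMap.smul_apply, ← map_smul, hat, map_zero, LinearMap.zero_apply]
  have hP'le : P' ≤ p := hmin.2 ⟨hpp, hann⟩ hpP'
  rw [← le_antisymm hP'le hpP']
  exact hP'M

include f hf in
/-- **Attached primes of the top local cohomology module.** -/
theorem associatedPrimes_dual_eq (hn : Module.supportDim R M = (n : WithBot ℕ∞)) :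
    associatedPrimes R (LocCoh.H I n M →ₗ[R] E) = goodPrimes I M n :=
  Set.Subset.antisymm
    (fun P hP => mem_goodPrimes_of_mem_associatedPrimes f hf I M n hn P hP)
    (fun p hp => mem_associatedPrimes_of_mem_goodPrimes f hf I M n hn p hp)

end Main

end Groth.Agent.H81.AttTop
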