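import Mathlib
import Groth.Agent.H77.TorRes

/-!
# Infinite projective dimension from a minimal free resolution with nonvanishing ranks

Given an (infinite) minimal free resolution `… → S^{rk 1} → S^{rk 0} → M → 0` with entries of the
differentials in a maximal ideal `𝔪` and all ranks nonzero, `M` has infinite projective dimension.
-/

namespace Groth.Agent.H81.PerRes

open CategoryTheory
open Groth.Agent.H77

universe u

variable {S : Type u} [CommRing S]

/-- Dimension shifting along a surjection from a projective module. -/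
lemma hasPDLT_shift {P N : Type u} [AddCommGroup P] [Module S P] [AddCommGroup N] [Module S N]
    [Module.Projective S P] (g : P →ₗ[S] N) (hg : Function.Surjective g) (j : ℕ) :
    HasProjectiveDimensionLT (ModuleCat.of S N) (j + 2) ↔
      HasProjectiveDimensionLT (ModuleCat.of S (LinearMap.ker g)) (j + 1) := by
  have hP : Projective (ModuleCat.of S P) := (IsProjective.iff_projective P).mp inferInstance
  exact (LinearMap.shortExact_shortComplexKer hg).hasProjectiveDimensionLT_X₃_iff j hP

lemma hasPDLT_one_iff (N : Type u) [AddCommGroup N] [Module S N] :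
    HasProjectiveDimensionLT (ModuleCat.of S N) 1 ↔ Module.Projective S N := by
  rw [← projective_iff_hasProjectiveDimensionLT_one, IsProjective.iff_projective]

variable {M : Type u} [AddCommGroup M] [Module S M]
  (rk : ℕ → ℕ) (d : ∀ i, (Fin (rk (i+1)) → S) →ₗ[S] (Fin (rk i) → S))
  (aug : (Fin (rk 0) → S) →ₗ[S] M)

/-- the `i`-th syzygy as a submodule of `S^{rk i}` -/
abbrev syz (i : ℕ) : Submodule S (Fin (rk i) → S) := LinearMap.range (d i)

lemma hasPDLT_shift_zero (haug : Function.Surjective aug)
    (h0 : LinearMap.ker aug = LinearMap.range (d 0)) (j : ℕ) :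
    HasProjectiveDimensionLT (ModuleCat.of S M) (j + 2) ↔
      HasProjectiveDimensionLT (ModuleCat.of S (syz rk d 0)) (j + 1) := by
  rw [hasPDLT_shift aug haug j]
  unfold syz
  rw [h0]

lemma hasPDLT_shift_succ (hs' : ∀ i, LinearMap.ker (d i) = LinearMap.range (d (i+1))) (i j : ℕ) :
    HasProjectiveDimensionLT (ModuleCat.of S (syz rk d i)) (j + 2) ↔
      HasProjectiveDimensionLT (ModuleCat.of S (syz rk d (i + 1))) (j + 1) := by
  have := hasPDLT_shift (d i).rangeRestrict (d i).surjective_rangeRestrict j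
  rw [LinearMap.ker_rangeRestrict, hs' i] at this
  exact this

lemma hasPDLT_syz_iff (hs' : ∀ i, LinearMap.ker (d i) = LinearMap.range (d (i+1))) (m : ℕ) :
    ∀ i : ℕ, HasProjectiveDimensionLT (ModuleCat.of S (syz rk d i)) (m + 1) ↔
      HasProjectiveDimensionLT (ModuleCat.of S (syz rk d (i + m))) 1 := by
  induction m with
  | zero => intro i; rfl
  | succ m ih =>
    intro i
    rw [hasPDLT_shift_succ rk d hs' i m, ih (i + 1)]
    have e : i + 1 + m = i + (m + 1) := by omega
    rw [e]

/-- If `M` has projective dimension `< m + 2`, then the `m`-th syzygy is projective. -/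
lemma projective_syz_of_hasPDLT (haug : Function.Surjective aug)
    (h0 : LinearMap.ker aug = LinearMap.range (d 0))
    (hs' : ∀ i, LinearMap.ker (d i) = LinearMap.range (d (i+1))) (m : ℕ)
    (h : HasProjectiveDimensionLT (ModuleCat.of S M) (m + 2)) :
    Module.Projective S (syz rk d m) := by
  rw [hasPDLT_shift_zero rk d aug haug h0 m, hasPDLT_syz_iff rk d hs' m 0, hasPDLT_one_iff,
    zero_add] at h
  exact h

/-- `Tor_1(S/𝔪, syz m)` has length `rk (m + 2)`. -/
lemma length_tor_syz (𝔪 : Ideal S) [𝔪.IsMaximal] (hmin : ∀ i v b, (d i v) b ∈ 𝔪)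
    (hs' : ∀ i, LinearMap.ker (d i) = LinearMap.range (d (i+1))) (m : ℕ) :
    Module.length S (((Tor (ModuleCat.{u} S) 1).obj (ModuleCat.of S (S ⧸ 𝔪))).obj
      (ModuleCat.of S (syz rk d m))) = (rk (m + 2) : ℕ∞) := by
  have := TorRes.length_tor (S := S) (M := syz rk d m) (fun n => rk (m + 1 + n))
    (fun i => d (m + 1 + i)) (d m).rangeRestrict 𝔪 (fun i => hmin (m + 1 + i))
    (d m).surjective_rangeRestrict
    (by rw [LinearMap.ker_rangeRestrict]; exact hs' m)
    (fun i => hs' (m + 1 + i)) 1
  exact this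

theorem not_hasPDLT (𝔪 : Ideal S) [𝔪.IsMaximal] (hmin : ∀ i v b, (d i v) b ∈ 𝔪)
    (haug : Function.Surjective aug)
    (h0 : LinearMap.ker aug = LinearMap.range (d 0))
    (hs' : ∀ i, LinearMap.ker (d i) = LinearMap.range (d (i+1)))
    (hrk : ∀ n, rk n ≠ 0) (n : ℕ) :
    ¬ HasProjectiveDimensionLT (ModuleCat.of S M) n := by
  intro h
  have h2 : HasProjectiveDimensionLT (ModuleCat.of S M) (n + 2) :=
    hasProjectiveDimensionLT_of_ge _ n (n + 2) (by omega)
  have hproj : Module.Projective S (syz rk d n) :=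
    projective_syz_of_hasPDLT rk d aug haug h0 hs' n h2
  have hP : Projective (ModuleCat.of S (syz rk d n)) :=
    (IsProjective.iff_projective _).mp hproj
  have hz : Limits.IsZero (((Tor (ModuleCat.{u} S) 1).obj (ModuleCat.of S (S ⧸ 𝔪))).obj
      (ModuleCat.of S (syz rk d n))) :=
    Functor.isZero_leftDerived_obj_projective_succ _ 0 _
  have hlen := length_tor_syz rk d 𝔪 hmin hs' n
  have hsub : Subsingleton ↑(((Tor (ModuleCat.{u} S) 1).obj (ModuleCat.of S (S ⧸ 𝔪))).obj
      (ModuleCat.of S (syz rk d n))) := ModuleCat.subsingleton_of_isZero hz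
  rw [Module.length_eq_zero] at hlen
  have : (rk (n + 2) : ℕ∞) ≠ 0 := by exact_mod_cast hrk (n + 2)
  exact this hlen.symm

end Groth.Agent.H81.PerRes
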