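import Mathlib
import Groth.Agent.H81.PerRes
import Groth.Agent.H77.TorMin
import Groth.Agent.S5151
import Groth.Agent.S5152
import Groth.Agent.H29.AB3

/-!
# Graded Auslander–Buchsbaum over a polynomial ring

A minimal graded free resolution of length exactly `ℓ` of a graded module `M` over
`S = k[x_0..x_n]` localizes to a minimal free resolution over `S_𝔪`; combined with the local
Auslander–Buchsbaum formula (`H29.AB3`), `depth S_𝔪 = n + 1` (variables form a maximal regular
sequence) and `depth_𝔪 M = depth (M_𝔪)` (S5152), we get `ℓ + depth(𝔪, M) = n + 1`.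
-/

set_option autoImplicit false
universe u

namespace Groth.Agent.H81.GrAB

section Part0
open Matrix



section Localize
variable {S : Type u} [CommRing S] (T : Submonoid S) (A : Type u) [CommRing A] [Algebra S A]
  [IsLocalization T A]

include T in
lemma exists_clear {a : ℕ} (x : Fin a → A) :
    ∃ (s : T) (y : Fin a → S), ∀ j, algebraMap S A (y j) = (s : S) • x j := by
  obtain ⟨s, hs⟩ := IsLocalization.exist_integer_multiples_of_finite T x
  choose y hy using hs
  exact ⟨s, y, hy⟩

lemma map_mulVec_comp {a b : ℕ} (D : Matrix (Fin a) (Fin b) S) (y : Fin b → S) :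
    (D.map (algebraMap S A)) *ᵥ (algebraMap S A ∘ y) = algebraMap S A ∘ (D *ᵥ y) := by
  funext i
  exact (RingHom.map_mulVec (algebraMap S A) D y i).symm

include T in
theorem ker_map_eq_range_map (hinj : Function.Injective (algebraMap S A)) {a b c : ℕ}
    (D : Matrix (Fin a) (Fin b) S) (E : Matrix (Fin b) (Fin c) S)
    (h : LinearMap.ker (Matrix.mulVecLin D) = LinearMap.range (Matrix.mulVecLin E)) :
    LinearMap.ker (Matrix.mulVecLin (D.map (algebraMap S A))) =
      LinearMap.range (Matrix.mulVecLin (E.map (algebraMap S A))) := by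
  have hDE : D * E = 0 := by
    have h1 : Matrix.mulVecLin D ∘ₗ Matrix.mulVecLin E = 0 :=
      LinearMap.range_le_ker_iff.1 (le_of_eq h.symm)
    rw [← Matrix.mulVecLin_mul] at h1
    apply Matrix.toLin'.injective
    rw [Matrix.toLin'_apply', h1, map_zero]
  apply le_antisymm
  · intro x hx
    rw [LinearMap.mem_ker, Matrix.mulVecLin_apply] at hx
    obtain ⟨s, y, hy⟩ := exists_clear T A x
    have hy' : algebraMap S A ∘ y = (s : S) • x := funext hy
    have h1 : algebraMap S A ∘ (D *ᵥ y) = 0 := by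
      rw [← map_mulVec_comp, hy', Matrix.mulVec_smul, hx, smul_zero]
    have h2 : D *ᵥ y = 0 := by
      funext i
      apply hinj
      rw [Pi.zero_apply, map_zero]
      exact congrFun h1 i
    have h3 : y ∈ LinearMap.range (Matrix.mulVecLin E) := by
      rw [← h, LinearMap.mem_ker, Matrix.mulVecLin_apply, h2]
    obtain ⟨z, hz⟩ := h3
    rw [Matrix.mulVecLin_apply] at hz
    refine ⟨IsLocalization.mk' A (1 : S) s • (algebraMap S A ∘ z), ?_⟩
    rw [Matrix.mulVecLin_apply, Matrix.mulVec_smul, map_mulVec_comp, hz, hy']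
    have : IsLocalization.mk' A (1 : S) s * algebraMap S A (s : S) = 1 := by
      rw [mul_comm, IsLocalization.mul_mk'_eq_mk'_of_mul, mul_one, IsLocalization.mk'_self]
    funext j
    change IsLocalization.mk' A (1 : S) s • ((s : S) • x j) = x j
    rw [Algebra.smul_def (s : S), smul_eq_mul, ← mul_assoc, this, one_mul]
  · rintro _ ⟨z, rfl⟩
    rw [LinearMap.mem_ker, Matrix.mulVecLin_apply, Matrix.mulVecLin_apply, Matrix.mulVec_mulVec,
      ← Matrix.map_mul, hDE]
    simp

section Aug
variable {M : Type u} [AddCommGroup M] [Module S M] {M' : Type u} [AddCommGroup M']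
  [Module S M'] [Module A M'] [IsScalarTower S A M'] (f : M →ₗ[S] M') [IsLocalizedModule T f]

omit [IsLocalization T A] in
lemma linComb_comp {a : ℕ} (aug : Fin a → M) (y : Fin a → S) :
    Fintype.linearCombination A (f ∘ aug) (algebraMap S A ∘ y) =
      f (Fintype.linearCombination S aug y) := by
  rw [Fintype.linearCombination_apply, Fintype.linearCombination_apply, map_sum]
  refine Finset.sum_congr rfl fun b _ => ?_
  rw [Function.comp_apply, Function.comp_apply, algebraMap_smul, map_smul]

include T in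
lemma mk'_one_mul_algebraMap (s : T) :
    IsLocalization.mk' A (1 : S) s * algebraMap S A (s : S) = 1 := by
  rw [mul_comm, IsLocalization.mul_mk'_eq_mk'_of_mul, mul_one, IsLocalization.mk'_self]

include T in
lemma eq_mk'_smul_of_smul_eq {a : ℕ} (s : T) (x : Fin a → A) (y : Fin a → A)
    (h : y = (s : S) • x) : x = IsLocalization.mk' A (1 : S) s • y := by
  subst h
  funext j
  change x j = IsLocalization.mk' A (1 : S) s • ((s : S) • x j)
  rw [Algebra.smul_def (s : S), smul_eq_mul, ← mul_assoc, mk'_one_mul_algebraMap T A s, one_mul]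

include T in
theorem aug_surjective' {a : ℕ} (aug : Fin a → M)
    (haug : Function.Surjective (Fintype.linearCombination S aug)) :
    Function.Surjective (Fintype.linearCombination A (f ∘ aug)) := by
  intro m'
  obtain ⟨⟨m, s⟩, hms⟩ := IsLocalizedModule.surj T f m'
  obtain ⟨y, rfl⟩ := haug m
  refine ⟨IsLocalization.mk' A (1 : S) s • (algebraMap S A ∘ y), ?_⟩
  rw [map_smul, linComb_comp, ← hms]
  change IsLocalization.mk' A (1 : S) s • ((s : S) • m') = m'
  rw [← algebraMap_smul A (s : S) m', smul_smul, mk'_one_mul_algebraMap T A s, one_smul]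

include T in
theorem ker_aug_eq {a b : ℕ} (aug : Fin a → M) (D : Matrix (Fin a) (Fin b) S)
    (h : LinearMap.ker (Fintype.linearCombination S aug) = LinearMap.range (Matrix.mulVecLin D)) :
    LinearMap.ker (Fintype.linearCombination A (f ∘ aug)) =
      LinearMap.range (Matrix.mulVecLin (D.map (algebraMap S A))) := by
  apply le_antisymm
  · intro x hx
    rw [LinearMap.mem_ker] at hx
    obtain ⟨s, y, hy⟩ := exists_clear T A x
    have hy' : algebraMap S A ∘ y = (s : S) • x := funext hy
    have h1 : f (Fintype.linearCombination S aug y) = 0 := by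
      rw [← linComb_comp (A := A), hy']
      have : ((s : S) • x : Fin a → A) = algebraMap S A (s : S) • x := by
        funext j; simp [Algebra.smul_def]
      rw [this, map_smul, hx, smul_zero]
    obtain ⟨t, ht⟩ := (IsLocalizedModule.eq_zero_iff T f).1 h1
    have h2 : (t : S) • y ∈ LinearMap.range (Matrix.mulVecLin D) := by
      rw [← h, LinearMap.mem_ker, map_smul]
      exact ht
    obtain ⟨z, hz⟩ := h2
    rw [Matrix.mulVecLin_apply] at hz
    have h3 : algebraMap S A ∘ ((t : S) • y) = ((s * t : T) : S) • x := by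
      funext j
      change algebraMap S A ((t : S) • y j) = ((s : S) * (t : S)) • x j
      rw [smul_eq_mul, map_mul, hy j, Algebra.smul_def, Algebra.smul_def, map_mul]
      ring
    refine ⟨IsLocalization.mk' A (1 : S) (s * t) • (algebraMap S A ∘ z), ?_⟩
    rw [Matrix.mulVecLin_apply, Matrix.mulVec_smul, map_mulVec_comp, hz]
    exact (eq_mk'_smul_of_smul_eq T A (s * t) x _ h3).symm
  · rintro _ ⟨z, rfl⟩
    rw [LinearMap.mem_ker, Matrix.mulVecLin_apply]
    obtain ⟨s, w, hw⟩ := exists_clear T A z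
    have hw' : algebraMap S A ∘ w = (s : S) • z := funext hw
    have hz := eq_mk'_smul_of_smul_eq T A s z _ hw'
    rw [hz, Matrix.mulVec_smul, map_smul, map_mulVec_comp, linComb_comp]
    have : Fintype.linearCombination S aug (D *ᵥ w) = 0 := by
      have : D *ᵥ w ∈ LinearMap.ker (Fintype.linearCombination S aug) := by
        rw [h]; exact ⟨w, rfl⟩
      exact this
    rw [this, map_zero, smul_zero]

end Aug

end Localize


end Part0

section Part1
open CategoryTheory Groth.Agent.H77 Groth.Agent.H81.PerRes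



section PD
variable {S : Type u} [CommRing S] {M : Type u} [AddCommGroup M] [Module S M]
  (rk : ℕ → ℕ) (d : ∀ i, (Fin (rk (i+1)) → S) →ₗ[S] (Fin (rk i) → S))
  (aug : (Fin (rk 0) → S) →ₗ[S] M)

/-- a resolution of length `≤ ℓ` gives `pd < ℓ + 1`. -/
theorem hasPDLT_succ_of_length (haug : Function.Surjective aug)
    (h0 : LinearMap.ker aug = LinearMap.range (d 0))
    (hs' : ∀ i, LinearMap.ker (d i) = LinearMap.range (d (i+1)))
    (ℓ : ℕ) (hℓ : ∀ i, ℓ < i → rk i = 0) :
    HasProjectiveDimensionLT (ModuleCat.of S M) (ℓ + 1) := by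
  rcases ℓ with _ | m
  · rw [zero_add, hasPDLT_one_iff]
    have hrk : rk 1 = 0 := hℓ 1 (by omega)
    have hsub : Subsingleton (Fin (rk (0 + 1)) → S) := by
      rw [zero_add, hrk]; infer_instance
    have hker : LinearMap.ker aug = ⊥ := by
      rw [h0, LinearMap.range_eq_bot]
      exact LinearMap.ext fun x => by rw [Subsingleton.elim x 0, map_zero, map_zero]
    have e : (Fin (rk 0) → S) ≃ₗ[S] M :=
      LinearEquiv.ofBijective aug ⟨LinearMap.ker_eq_bot.1 hker, haug⟩
    exact Module.Projective.of_equiv e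
  · rw [hasPDLT_shift_zero rk d aug haug h0 m, hasPDLT_syz_iff rk d hs' m 0, hasPDLT_one_iff,
      zero_add]
    have hrk : rk (m + 2) = 0 := hℓ (m + 2) (by omega)
    have hsub : Subsingleton (Fin (rk (m + 1 + 1)) → S) := by
      rw [show m + 1 + 1 = m + 2 from rfl, hrk]; infer_instance
    have hker : LinearMap.ker (d m) = ⊥ := by
      rw [hs' m, LinearMap.range_eq_bot]
      exact LinearMap.ext fun x => by rw [Subsingleton.elim x 0, map_zero, map_zero]
    have e : (Fin (rk (m + 1)) → S) ≃ₗ[S] syz rk d m :=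
      LinearEquiv.ofInjective (d m) (LinearMap.ker_eq_bot.1 hker)
    exact Module.Projective.of_equiv e

/-- a minimal resolution with `rk ℓ ≠ 0` gives `pd ≥ ℓ`. -/
theorem not_hasPDLT_of_rk_ne_zero (𝔪 : Ideal S) [𝔪.IsMaximal] (hmin : ∀ i v b, (d i v) b ∈ 𝔪)
    (haug : Function.Surjective aug)
    (h0 : LinearMap.ker aug = LinearMap.range (d 0))
    (hs' : ∀ i, LinearMap.ker (d i) = LinearMap.range (d (i+1)))
    (ℓ : ℕ) (hℓ : rk ℓ ≠ 0) :
    ¬ HasProjectiveDimensionLT (ModuleCat.of S M) ℓ := by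
  intro h
  rcases ℓ with _ | _ | m
  · -- M = 0
    have hz : Limits.IsZero (ModuleCat.of S M) := isZero_of_hasProjectiveDimensionLT_zero _
    have hsub : Subsingleton M := ModuleCat.subsingleton_of_isZero hz
    have hpos : 0 < rk 0 := Nat.pos_of_ne_zero hℓ
    let v : Fin (rk 0) → S := Pi.single ⟨0, hpos⟩ 1
    have hv : v ∈ LinearMap.ker aug := by
      rw [LinearMap.mem_ker]; exact Subsingleton.elim _ _
    rw [h0] at hv
    obtain ⟨w, hw⟩ := hv
    have h1 : (1 : S) ∈ 𝔪 := by
      have := hmin 0 w ⟨0, hpos⟩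
      rw [hw] at this
      simpa [v] using this
    exact (Ideal.IsMaximal.ne_top ‹_›) ((Ideal.eq_top_iff_one 𝔪).2 h1)
  · -- M projective
    have hproj : Projective (ModuleCat.of S M) := by
      rw [projective_iff_hasProjectiveDimensionLT_one]; exact h
    have hz : Limits.IsZero (((Tor (ModuleCat.{u} S) 1).obj (ModuleCat.of S (S ⧸ 𝔪))).obj
        (ModuleCat.of S M)) :=
      Functor.isZero_leftDerived_obj_projective_succ _ 0 _
    have hlen := TorRes.length_tor rk d aug 𝔪 hmin haug h0 hs' 1
    have hsub : Subsingleton ↑(((Tor (ModuleCat.{u} S) 1).obj (ModuleCat.of S (S ⧸ 𝔪))).obj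
        (ModuleCat.of S M)) := ModuleCat.subsingleton_of_isZero hz
    rw [Module.length_eq_zero] at hlen
    have : (rk 1 : ℕ∞) ≠ 0 := by exact_mod_cast hℓ
    exact this hlen.symm
  · have hproj : Module.Projective S (syz rk d m) :=
      projective_syz_of_hasPDLT rk d aug haug h0 hs' m h
    have hP : Projective (ModuleCat.of S (syz rk d m)) :=
      (IsProjective.iff_projective _).mp hproj
    have hz : Limits.IsZero (((Tor (ModuleCat.{u} S) 1).obj (ModuleCat.of S (S ⧸ 𝔪))).obj
        (ModuleCat.of S (syz rk d m))) :=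
      Functor.isZero_leftDerived_obj_projective_succ _ 0 _
    have hlen := length_tor_syz rk d 𝔪 hmin hs' m
    have hsub : Subsingleton ↑(((Tor (ModuleCat.{u} S) 1).obj (ModuleCat.of S (S ⧸ 𝔪))).obj
        (ModuleCat.of S (syz rk d m))) := ModuleCat.subsingleton_of_isZero hz
    rw [Module.length_eq_zero] at hlen
    have : (rk (m + 2) : ℕ∞) ≠ 0 := by exact_mod_cast hℓ
    exact this hlen.symm

theorem projectiveDimension_eq (𝔪 : Ideal S) [𝔪.IsMaximal] (hmin : ∀ i v b, (d i v) b ∈ 𝔪)
    (haug : Function.Surjective aug)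
    (h0 : LinearMap.ker aug = LinearMap.range (d 0))
    (hs' : ∀ i, LinearMap.ker (d i) = LinearMap.range (d (i+1)))
    (ℓ : ℕ) (hℓ : ∀ i, ℓ < i → rk i = 0) (hℓ' : rk ℓ ≠ 0) :
    projectiveDimension (ModuleCat.of S M) = (ℓ : ℕ) := by
  apply le_antisymm
  · rw [projectiveDimension_le_iff]
    exact hasPDLT_succ_of_length rk d aug haug h0 hs' ℓ hℓ
  · rw [← not_lt, projectiveDimension_lt_iff]
    exact not_hasPDLT_of_rk_ne_zero rk d aug 𝔪 hmin haug h0 hs' ℓ hℓ'

end PD


end Part1

section Part2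
open MvPolynomial RingTheory.Sequence



section RegVars
variable {R : Type u} [CommRing R] {σ : Type*}

lemma mem_span_X_image_of_X_mul_mem (s : Set σ) (i : σ) (hi : i ∉ s) (p : MvPolynomial σ R)
    (h : X i * p ∈ Ideal.span (X '' s : Set (MvPolynomial σ R))) :
    p ∈ Ideal.span (X '' s : Set (MvPolynomial σ R)) := by
  rw [mem_ideal_span_X_image] at h ⊢
  intro m hm
  have hm' : Finsupp.single i 1 + m ∈ (X i * p).support := by
    rw [support_X_mul]
    exact Finset.mem_map.2 ⟨m, hm, rfl⟩
  obtain ⟨j, hj, hne⟩ := h _ hm'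
  refine ⟨j, hj, ?_⟩
  have hji : j ≠ i := fun e => hi (e ▸ hj)
  rw [Finsupp.add_apply, Finsupp.single_eq_of_ne hji, zero_add] at hne
  exact hne

lemma setOf_mem_map_X (l : List σ) :
    {r : MvPolynomial σ R | r ∈ l.map X} = X '' {j | j ∈ l} := by
  ext r
  simp only [Set.mem_ofPred_eq, List.mem_map, Set.mem_image]

theorem isWeaklyRegular_map_X (l : List σ) (hl : l.Nodup) :
    IsWeaklyRegular (MvPolynomial σ R) (l.map (X : σ → MvPolynomial σ R)) := by
  rw [isWeaklyRegular_iff_Fin]
  intro i
  have hi : (i : ℕ) < l.length := by simpa using i.2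
  rw [isSMulRegular_quotient_iff_mem_of_smul_mem]
  intro p hp
  rw [smul_eq_mul, Ideal.mul_top] at hp ⊢
  rw [← List.map_take, Ideal.ofList, setOf_mem_map_X] at hp ⊢
  have hget : (l.map (X : σ → MvPolynomial σ R))[(i : ℕ)] = X (l[(i : ℕ)]) := by
    simp
  rw [smul_eq_mul] at hp
  have hp' : X (l[(i : ℕ)]) * p ∈ Ideal.span (X '' {j | j ∈ l.take i} : Set (MvPolynomial σ R)) := by
    rw [← hget]; exact hp
  refine mem_span_X_image_of_X_mul_mem _ (l[(i : ℕ)]) ?_ p hp'
  intro hmem
  rw [Set.mem_ofPred_eq, List.mem_take_iff_getElem] at hmem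
  obtain ⟨j, hj, hjeq⟩ := hmem
  have hj' : j < (i : ℕ) := lt_of_lt_of_le hj (min_le_left _ _)
  have := (List.Nodup.getElem_inj_iff hl (hi := lt_trans hj' hi) (hj := hi)).1 hjeq
  omega

end RegVars


end Part2

section Part3
open RingTheory.Sequence IsLocalRing



section DepthLoc
variable {S : Type u} [CommRing S] [IsNoetherianRing S] (𝔪 : Ideal S) [𝔪.IsMaximal]

open Pointwise in
theorem depth_localization_eq_length (xs : List S) (hreg : IsWeaklyRegular S xs)
    (hxs : Ideal.ofList xs = 𝔪) :
    LocCoh.depth (Localization.AtPrime 𝔪) (Localization.AtPrime 𝔪) = (xs.length : ℕ∞) := by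
  set A := Localization.AtPrime 𝔪 with hA
  set rs : List A := xs.map (algebraMap S A) with hrs
  have hrsI : Ideal.ofList rs = maximalIdeal A := by
    rw [hrs, ← Ideal.map_ofList, hxs]
    exact Localization.AtPrime.map_eq_maximalIdeal
  have hwr : IsWeaklyRegular A rs := hreg.of_isLocalization A 𝔪.primeCompl
  have hmem : ∀ r ∈ rs, r ∈ maximalIdeal A := by
    intro r hr
    rw [← hrsI]
    exact Ideal.subset_span hr
  have hIM : maximalIdeal A • (⊤ : Submodule A A) ≠ ⊤ := by
    rw [smul_eq_mul, Ideal.mul_top]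
    exact (maximalIdeal.isMaximal A).ne_top
  have hmax : ∀ r ∈ maximalIdeal A, ¬ IsWeaklyRegular A (rs ++ [r]) := by
    intro r hr hcon
    rw [isWeaklyRegular_append_iff] at hcon
    have h2 := hcon.2
    rw [isWeaklyRegular_singleton_iff, isSMulRegular_quotient_iff_mem_of_smul_mem] at h2
    have h1 : (1 : A) ∈ (Ideal.ofList rs • ⊤ : Submodule A A) := by
      apply h2
      rw [smul_eq_mul, Ideal.mul_top, hrsI, smul_eq_mul, mul_one]
      exact hr
    rw [smul_eq_mul, Ideal.mul_top, hrsI] at h1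
    exact (maximalIdeal.isMaximal A).ne_top ((Ideal.eq_top_iff_one _).2 h1)
  have := (Groth.Agent.S5151.result A (maximalIdeal A) A hIM).2 rs hwr hmem hmax
  rw [hrs, List.length_map] at this
  rw [this]
  rfl

end DepthLoc


end Part3

section Part4



section DepthMax
variable {S : Type u} [CommRing S] [IsNoetherianRing S] (𝔪 : Ideal S) [h𝔪 : 𝔪.IsMaximal]

theorem idealDepth_eq_depth_localization (M : Type u) [AddCommGroup M] [Module S M]
    [Module.Finite S M] :
    LocCoh.idealDepth 𝔪 M =
      LocCoh.depth (Localization.AtPrime 𝔪) (LocalizedModule 𝔪.primeCompl M) := by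
  rw [Groth.Agent.S5152.result S 𝔪 M]
  apply le_antisymm
  · exact iInf₂_le (⟨𝔪, h𝔪.isPrime⟩ : PrimeSpectrum S) (le_refl _)
  · refine le_iInf₂ fun p hp => ?_
    have : p = ⟨𝔪, h𝔪.isPrime⟩ := by
      apply PrimeSpectrum.ext
      exact (h𝔪.eq_of_le p.isPrime.ne_top hp).symm
    subst this
    exact le_refl _

end DepthMax


end Part4

section Main
open GrSyz MvPolynomial RingTheory.Sequence IsLocalRing CategoryTheory Groth.Agent.H77

variable (k : Type u) [Field k] (n : ℕ)

lemma irrel_eq_ofList :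
    Ideal.ofList ((List.finRange (n + 1)).map (X : Fin (n + 1) → MvPolynomial (Fin (n + 1)) k)) =
      (irrel (stdGr k (Fin (n + 1)))).toIdeal := by
  rw [Ideal.ofList, setOf_mem_map_X]
  have huniv : {j : Fin (n + 1) | j ∈ List.finRange (n + 1)} = Set.univ := by
    ext j; simp
  rw [huniv]
  apply le_antisymm
  · rw [Ideal.span_le]
    rintro _ ⟨i, _, rfl⟩
    refine mem_irrel_of_mem_stdGr_of_pos (e := 1) ?_ one_pos
    rw [mem_stdGr_iff]
    exact isWeightedHomogeneous_X k (fun _ : Fin (n + 1) => (1 : ℤ)) i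
  · intro p hp
    have hc := constantCoeff_eq_zero_of_mem_irrel hp
    rw [mem_ideal_span_X_image]
    intro m hm
    have hm0 : m ≠ 0 := by
      rintro rfl
      rw [mem_support_iff] at hm
      exact hm hc
    obtain ⟨i, hi⟩ := Finsupp.ne_iff.1 hm0
    exact ⟨i, Set.mem_univ _, by simpa using hi⟩

theorem graded_auslander_buchsbaum
    (M : Type u) [AddCommGroup M] [Module k M] [Module (MvPolynomial (Fin (n + 1)) k) M]
    [IsScalarTower k (MvPolynomial (Fin (n + 1)) k) M]
    [Module.Finite (MvPolynomial (Fin (n + 1)) k) M]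
    (ℳ : ℤ → Submodule k M) [DirectSum.Decomposition ℳ]
    [SetLike.GradedSMul (GrSyz.stdGr k (Fin (n + 1))) ℳ]
    (F : GrSyz.FreeRes (GrSyz.stdGr k (Fin (n + 1))) ℳ)
    (hF : F.IsMinimal (GrSyz.irrel (GrSyz.stdGr k (Fin (n + 1)))).toIdeal)
    (ℓ : ℕ) (hℓ : F.HasLengthLE ℓ) (hℓ' : F.rk ℓ ≠ 0) :
    (ℓ : ℕ∞) + LocCoh.idealDepth (GrSyz.irrel (GrSyz.stdGr k (Fin (n + 1)))).toIdeal M =
      ((n + 1 : ℕ) : ℕ∞) := by
  set S := MvPolynomial (Fin (n + 1)) k with hS
  set 𝔪 : Ideal S := (GrSyz.irrel (GrSyz.stdGr k (Fin (n + 1)))).toIdeal with h𝔪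
  have : 𝔪.IsMaximal := irrel_isMaximal
  set A := Localization.AtPrime 𝔪 with hA
  set M' := LocalizedModule 𝔪.primeCompl M with hM'
  let f : M →ₗ[S] M' := LocalizedModule.mkLinearMap 𝔪.primeCompl M
  let d' : ∀ i, (Fin (F.rk (i + 1)) → A) →ₗ[A] (Fin (F.rk i) → A) :=
    fun i => Matrix.mulVecLin ((F.d i).map (algebraMap S A))
  let aug' : (Fin (F.rk 0) → A) →ₗ[A] M' := Fintype.linearCombination A (f ∘ F.aug)
  have hinj : Function.Injective (algebraMap S A) :=
    IsLocalization.injective A (Ideal.primeCompl_le_nonZeroDivisors 𝔪)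
  have haug' : Function.Surjective aug' :=
    aug_surjective' 𝔪.primeCompl A f F.aug F.aug_surjective
  have h0' : LinearMap.ker aug' = LinearMap.range (d' 0) :=
    ker_aug_eq 𝔪.primeCompl A f F.aug (F.d 0) F.exact_zero
  have hs' : ∀ i, LinearMap.ker (d' i) = LinearMap.range (d' (i + 1)) := fun i =>
    ker_map_eq_range_map 𝔪.primeCompl A hinj (F.d i) (F.d (i + 1)) (F.exact_succ i)
  have hmin' : ∀ i v b, (d' i v) b ∈ maximalIdeal A := by
    intro i v b
    change (((F.d i).map (algebraMap S A)).mulVec v) b ∈ _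
    rw [Matrix.mulVec, dotProduct]
    refine Ideal.sum_mem _ fun c _ => Ideal.mul_mem_right _ _ ?_
    rw [Matrix.map_apply]
    exact (IsLocalization.AtPrime.to_map_mem_maximal_iff A 𝔪 _).2 (hF i b c)
  have hpd : projectiveDimension (ModuleCat.of A M') = (ℓ : ℕ) :=
    projectiveDimension_eq F.rk d' aug' (maximalIdeal A) hmin' haug' h0' hs' ℓ hℓ hℓ'
  have : Module.Finite A M' := Module.Finite.of_surjective aug' haug'
  have : Nontrivial M' := by
    by_contra hnt
    rw [not_nontrivial_iff_subsingleton] at hnt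
    have hz : Limits.IsZero (ModuleCat.of A M') := ModuleCat.isZero_of_subsingleton _
    have h1 : HasProjectiveDimensionLT (ModuleCat.of A M') 0 := hz.hasProjectiveDimensionLT_zero
    have h2 : HasProjectiveDimensionLT (ModuleCat.of A M') ℓ :=
      hasProjectiveDimensionLT_of_ge _ 0 ℓ (Nat.zero_le _)
    exact not_hasPDLT_of_rk_ne_zero F.rk d' aug' (maximalIdeal A) hmin' haug' h0' hs' ℓ hℓ' h2
  have hAB := Groth.Agent.H29.AB.auslander_buchsbaum (R := A) M' ℓ hpd
  have hdepthA : LocCoh.depth A A = ((n + 1 : ℕ) : ℕ∞) := by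
    have := depth_localization_eq_length 𝔪
      ((List.finRange (n + 1)).map (X : Fin (n + 1) → MvPolynomial (Fin (n + 1)) k))
      (isWeaklyRegular_map_X _ (List.nodup_finRange _)) (irrel_eq_ofList k n)
    rw [this, List.length_map, List.length_finRange]
  rw [idealDepth_eq_depth_localization 𝔪 M, ← hAB, hdepthA]

end Main

end Groth.Agent.H81.GrAB
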