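import Mathlib
import Groth.Prelude.Def_CAlg
import Groth.Prelude.Def_GrSyz
import Groth.Agent.H81.LiaisonCM
import Groth.Agent.H72.CMCatenary

/-!
# Unmixedness of homogeneous Cohen–Macaulay quotients of polynomial rings

* `le_ker_constantCoeff_of_isHomogeneous`: proper homogeneous ideals lie in the irrelevant ideal.
* `isHomogeneous_of_mem_minimalPrimes`: minimal primes of homogeneous ideals are homogeneous.
* `height_eq_of_mem_minimalPrimes_local`: in a CM local ring `A` with `A/𝔞` CM, all minimal primes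
  of `𝔞` have the same height.
* `height_eq_of_mem_minimalPrimes`: for a homogeneous ideal `𝔠` of `K[x]` with `K[x]/𝔠` CM, all
  minimal primes of `𝔠` have height `ht 𝔠`.
-/

set_option autoImplicit false

namespace Groth.Agent.H81.GrUnmixed

universe u

open IsLocalRing Submodule

section Homog

variable (K : Type u) [Field K] (σ : Type)

/-- proper homogeneous ideals are contained in the irrelevant ideal -/
theorem le_ker_constantCoeff_of_isHomogeneous (𝔞 : Ideal (MvPolynomial σ K))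
    (h : 𝔞.IsHomogeneous (GrSyz.stdGr K σ)) (hne : 𝔞 ≠ ⊤) :
    𝔞 ≤ RingHom.ker (MvPolynomial.constantCoeff : MvPolynomial σ K →+* K) := by
  classical
  intro f hf
  rw [RingHom.mem_ker]
  by_contra hc
  apply hne
  have h0 : MvPolynomial.weightedHomogeneousComponent (fun _ : σ => (1 : ℤ)) 0 f ∈ 𝔞 :=
    MvPolynomial.weightedHomogeneousComponent_mem_of_mem K (fun _ : σ => (1 : ℤ)) h hf 0
  have h1 : MvPolynomial.weightedHomogeneousComponent (fun _ : σ => (1 : ℤ)) 0 f =
      MvPolynomial.C (MvPolynomial.constantCoeff f) := by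
    ext d
    rw [MvPolynomial.coeff_weightedHomogeneousComponent, MvPolynomial.coeff_C]
    have hw : Finsupp.weight (fun _ : σ => (1 : ℤ)) d = 0 ↔ 0 = d := by
      rw [Finsupp.weight_apply, Finsupp.sum]
      constructor
      · intro hs
        ext i
        by_contra hi
        have hi' : i ∈ d.support := Finsupp.mem_support_iff.mpr (fun h => hi (by simpa using h.symm))
        have hnn : ∀ j ∈ d.support, (0 : ℤ) ≤ d j • (1 : ℤ) := fun j _ => by simp
        have := (Finset.sum_eq_zero_iff_of_nonneg hnn).mp hs i hi'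
        simp at this
        exact hi (by simpa using this.symm)
      · rintro rfl
        simp
    by_cases hd : 0 = d
    · rw [if_pos (hw.mpr hd), if_pos hd, ← hd]
      rfl
    · rw [if_neg (fun h => hd (hw.mp h)), if_neg hd]
  rw [h1] at h0
  exact Ideal.eq_top_of_isUnit_mem _ h0 ((IsUnit.mk0 _ hc).map MvPolynomial.C)

/-- minimal primes of homogeneous ideals are homogeneous -/
theorem isHomogeneous_of_mem_minimalPrimes (𝔞 p : Ideal (MvPolynomial σ K))
    (h : 𝔞.IsHomogeneous (GrSyz.stdGr K σ)) (hp : p ∈ 𝔞.minimalPrimes) :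
    p.IsHomogeneous (GrSyz.stdGr K σ) := by
  have hpp : p.IsPrime := hp.1.1
  have hcore : (p.homogeneousCore (GrSyz.stdGr K σ)).toIdeal.IsPrime :=
    Ideal.IsPrime.homogeneousCore hpp
  have hle : 𝔞 ≤ (p.homogeneousCore (GrSyz.stdGr K σ)).toIdeal := by
    have := Ideal.homogeneousCore_mono (GrSyz.stdGr K σ) hp.1.2
    rw [← h.toIdeal_homogeneousCore_eq_self]
    exact this
  have h2 := hp.2 ⟨hcore, hle⟩ (Ideal.toIdeal_homogeneousCore_le _ _)
  have heq : (p.homogeneousCore (GrSyz.stdGr K σ)).toIdeal = p :=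
    le_antisymm (Ideal.toIdeal_homogeneousCore_le _ _) h2
  rw [← heq]
  exact (p.homogeneousCore (GrSyz.stdGr K σ)).isHomogeneous

end Homog

section LocalUnmixed

variable (A : Type u) [CommRing A]

/-- in a CM local ring `A` with `A/𝔞` CM, all minimal primes of `𝔞` have the same height. -/
theorem height_eq_of_mem_minimalPrimes_local (hA : LocCoh.IsCohenMacaulayLocalRing A)
    (𝔞 : Ideal A) [hq : LocCoh.IsCohenMacaulayLocalRing (A ⧸ 𝔞)] (𝔮₁ 𝔮₂ : Ideal A)
    (h₁ : 𝔮₁ ∈ 𝔞.minimalPrimes) (h₂ : 𝔮₂ ∈ 𝔞.minimalPrimes) : 𝔮₁.height = 𝔮₂.height := by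
  have : IsLocalRing A := hA.toIsLocalRing
  have : IsNoetherianRing A := hA.toIsNoetherian
  have : IsLocalHom (algebraMap A (A ⧸ 𝔞)) :=
    IsLocalHom.of_surjective _ Ideal.Quotient.mk_surjective
  have hCM : LocCoh.IsCohenMacaulayModule A (A ⧸ 𝔞) := by
    unfold LocCoh.IsCohenMacaulayModule
    rw [Groth.Agent.H29.DepthAB.depth_eq (A := A) (B := A ⧸ 𝔞) (A ⧸ 𝔞),
      Module.supportDim_quotient_eq_ringKrullDim, ← Module.supportDim_self_eq_ringKrullDim]
    exact hq.supportDim_eq_depth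
  have hD := Groth.Agent.H72.CMCatenary.dimFormula_of_isCohenMacaulayLocalRing A hA
  obtain ⟨e, he⟩ := Groth.Agent.H29.CML.exists_nat_supportDim_eq (A := A) (A ⧸ 𝔞)
  have key : ∀ 𝔮 : Ideal A, 𝔮 ∈ 𝔞.minimalPrimes →
      ringKrullDim A = ((e : ℕ∞) : WithBot ℕ∞) + ((𝔮.height : ℕ∞) : WithBot ℕ∞) := by
    intro 𝔮 h𝔮
    have hprime : 𝔮.IsPrime := h𝔮.1.1
    have hass : 𝔮 ∈ associatedPrimes A (A ⧸ 𝔞) := by
      apply Module.associatedPrimes.minimalPrimes_annihilator_subset_associatedPrimes A (A ⧸ 𝔞)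
      rw [Ideal.annihilator_quotient]
      exact h𝔮
    have hdim := Groth.Agent.H29.CML.ringKrullDim_quotient_eq_supportDim_of_isCM (A ⧸ 𝔞) hCM 𝔮 hass
    rw [hD 𝔮, hdim, he]
    rfl
  have h12 := (key 𝔮₁ h₁).symm.trans (key 𝔮₂ h₂)
  have h12' : (e : ℕ∞) + 𝔮₁.height = (e : ℕ∞) + 𝔮₂.height := by exact_mod_cast h12
  exact ENat.add_right_injective_of_ne_top (ENat.natCast_ne_top e) h12'

end LocalUnmixed

section GradedUnmixed

variable (K : Type u) [Field K] (n : ℕ)

/-- all minimal primes of a homogeneous ideal with Cohen–Macaulay quotient have the same height -/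
theorem height_eq_of_mem_minimalPrimes_graded (𝔠 : Ideal (MvPolynomial (Fin n) K))
    (h𝔠 : 𝔠.IsHomogeneous (GrSyz.stdGr K (Fin n)))
    (hcm : LocCoh.IsCohenMacaulayRing (MvPolynomial (Fin n) K ⧸ 𝔠))
    (p₁ p₂ : Ideal (MvPolynomial (Fin n) K)) (h₁ : p₁ ∈ 𝔠.minimalPrimes)
    (h₂ : p₂ ∈ 𝔠.minimalPrimes) : p₁.height = p₂.height := by
  let R := MvPolynomial (Fin n) K
  set 𝔪 : Ideal R := RingHom.ker (MvPolynomial.constantCoeff : R →+* K) with h𝔪
  have hmax : 𝔪.IsMaximal := RingHom.ker_isMaximal_of_surjective _ (fun c =>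
    ⟨MvPolynomial.C c, MvPolynomial.constantCoeff_C _ c⟩)
  have hprime : 𝔪.IsPrime := hmax.isPrime
  have hKcm : LocCoh.IsCohenMacaulayRing K :=
    Groth.Agent.H72.CMLocal.isCohenMacaulayRing_of_local K
      (Groth.Agent.H26.CMFlat.isCohenMacaulayLocalRing_of_isRegularLocalRing K)
  have hR : LocCoh.IsCohenMacaulayRing R := Groth.Agent.S2092.result n
  let A := Localization.AtPrime 𝔪
  have hA : LocCoh.IsCohenMacaulayLocalRing A := hR.isCohenMacaulayLocalRing_localization 𝔪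
  have h𝔠𝔪 : 𝔠 ≤ 𝔪 := le_ker_constantCoeff_of_isHomogeneous K (Fin n) 𝔠 h𝔠 (by
    rintro rfl
    exact h₁.1.1.ne_top (top_le_iff.mp h₁.1.2))
  -- the quotient `A/𝔠A` is a localization of `R/𝔠`, hence Cohen–Macaulay
  set Mb : Ideal (R ⧸ 𝔠) := 𝔪.map (Ideal.Quotient.mk 𝔠) with hMb
  have hker : RingHom.ker (Ideal.Quotient.mk 𝔠) ≤ 𝔪 := by rw [Ideal.mk_ker]; exact h𝔠𝔪
  have hMbp : Mb.IsPrime := Ideal.map_isPrime_of_surjective Ideal.Quotient.mk_surjective hker
  have hMbc : Mb.comap (Ideal.Quotient.mk 𝔠) = 𝔪 := by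
    rw [hMb, Ideal.comap_map_of_surjective' _ Ideal.Quotient.mk_surjective, sup_eq_left]
    exact hker
  obtain ⟨e⟩ := LiaisonCM.nonempty_ringEquiv_localization_quotient R 𝔠 𝔪 Mb hMbc
  have hq : LocCoh.IsCohenMacaulayLocalRing (A ⧸ 𝔠.map (algebraMap R A)) :=
    Groth.Agent.H49.isCohenMacaulayLocalRing_of_ringEquiv e
      (hcm.isCohenMacaulayLocalRing_localization Mb)
  have key : ∀ p : Ideal R, p ∈ 𝔠.minimalPrimes →
      p.map (algebraMap R A) ∈ (𝔠.map (algebraMap R A)).minimalPrimes ∧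
        (p.map (algebraMap R A)).height = p.height := by
    intro p hp
    have hpp : p.IsPrime := hp.1.1
    have hp𝔪 : p ≤ 𝔪 := le_ker_constantCoeff_of_isHomogeneous K (Fin n) p
      (isHomogeneous_of_mem_minimalPrimes K (Fin n) 𝔠 p h𝔠 hp) hpp.ne_top
    have hdisj : Disjoint (𝔪.primeCompl : Set R) (p : Set R) := by
      rw [Set.disjoint_left]
      intro a ha hap
      exact ha (hp𝔪 hap)
    have hunder : (p.map (algebraMap R A)).under R = p :=
      IsLocalization.under_map_of_isPrime_disjoint 𝔪.primeCompl A hpp hdisj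
    refine ⟨?_, ?_⟩
    · rw [IsLocalization.minimalPrimes_map 𝔪.primeCompl A 𝔠, Set.mem_preimage, hunder]
      exact hp
    · rw [← IsLocalization.height_under 𝔪.primeCompl (p.map (algebraMap R A)), hunder]
  obtain ⟨hm₁, hh₁⟩ := key p₁ h₁
  obtain ⟨hm₂, hh₂⟩ := key p₂ h₂
  rw [← hh₁, ← hh₂]
  exact height_eq_of_mem_minimalPrimes_local A hA _ _ _ hm₁ hm₂

/-- for a homogeneous ideal `𝔠` with `K[x]/𝔠` Cohen–Macaulay, all minimal primes have height
`ht 𝔠`. -/
theorem height_eq_of_mem_minimalPrimes (𝔠 : Ideal (MvPolynomial (Fin n) K))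
    (h𝔠 : 𝔠.IsHomogeneous (GrSyz.stdGr K (Fin n)))
    (hcm : LocCoh.IsCohenMacaulayRing (MvPolynomial (Fin n) K ⧸ 𝔠))
    (p : Ideal (MvPolynomial (Fin n) K)) (hp : p ∈ 𝔠.minimalPrimes) : p.height = 𝔠.height := by
  rw [Ideal.height_eq_inf_minimalPrimes 𝔠]
  apply le_antisymm
  · refine le_iInf₂ fun q hq => ?_
    rw [height_eq_of_mem_minimalPrimes_graded K n 𝔠 h𝔠 hcm p q hp hq]
  · exact iInf₂_le p hp

end GradedUnmixed

section ColonAss

variable {R : Type u} [CommRing R] [IsNoetherianRing R]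

/-- associated primes of `R/(𝔠 : I)` are associated primes of `R/𝔠`. -/
theorem mem_associatedPrimes_of_mem_associatedPrimes_colon (𝔠 I p : Ideal R)
    (hp : p ∈ associatedPrimes R (R ⧸ 𝔠.colon (I : Set R))) : p ∈ associatedPrimes R (R ⧸ 𝔠) := by
  classical
  obtain ⟨hpp, y, hy⟩ := isAssociatedPrime_iff.mp hp
  obtain ⟨x, rfl⟩ := Ideal.Quotient.mk_surjective y
  have hmem : ∀ r : R, r ∈ p ↔ ∀ i ∈ I, r * x * i ∈ 𝔠 := by
    intro r
    rw [hy, mem_colon_singleton, mem_bot,
      show r • (Ideal.Quotient.mk (𝔠.colon (I : Set R)) x) =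
        Ideal.Quotient.mk (𝔠.colon (I : Set R)) (r * x) from rfl,
      Ideal.Quotient.eq_zero_iff_mem, mem_colon]
    rfl
  obtain ⟨s, hs⟩ := (IsNoetherian.noetherian I : I.FG)
  have hinf : p = s.inf (fun i => 𝔠.colon {x * i}) := by
    ext r
    rw [hmem, Submodule.mem_finsetInf]
    constructor
    · intro h i hi
      rw [mem_colon_singleton, smul_eq_mul, ← mul_assoc]
      exact h i (hs ▸ Submodule.subset_span hi)
    · intro h i hi
      rw [← hs] at hi
      refine Submodule.span_induction (p := fun i _ => r * x * i ∈ 𝔠) ?_ ?_ ?_ ?_ hi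
      · intro j hj
        have := h j hj
        rwa [mem_colon_singleton, smul_eq_mul, ← mul_assoc] at this
      · simp
      · intro a b _ _ ha hb
        rw [mul_add]
        exact add_mem ha hb
      · intro a b _ hb
        rw [smul_eq_mul, mul_left_comm]
        exact Ideal.mul_mem_left _ _ hb
  obtain ⟨i, his, hi⟩ := (Ideal.IsPrime.inf_le' hpp).mp (le_of_eq hinf.symm)
  have hle : p ≤ 𝔠.colon {x * i} := by
    rw [hinf]
    exact Finset.inf_le his
  have heq : p = 𝔠.colon {x * i} := le_antisymm hle hi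
  refine isAssociatedPrime_iff.mpr ⟨hpp, Ideal.Quotient.mk 𝔠 (x * i), ?_⟩
  rw [heq]
  ext r
  rw [mem_colon_singleton, mem_colon_singleton, mem_bot,
    show r • (Ideal.Quotient.mk 𝔠 (x * i)) = Ideal.Quotient.mk 𝔠 (r * (x * i)) from rfl,
    Ideal.Quotient.eq_zero_iff_mem, smul_eq_mul]

end ColonAss

end Groth.Agent.H81.GrUnmixed
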