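import Mathlib
import Groth.Agent.H81.CIGor2
import Groth.Agent.H81.Liaison
import Groth.Agent.H81.LiaisonDual
import Groth.Agent.H81.GrUnmixed
import Groth.Agent.H89.GorReg

/-!
# The link of an almost complete intersection is Gorenstein (helper81)
-/

set_option autoImplicit false
set_option linter.style.haveILetI false

namespace Groth.Agent.H81.ACILink

universe u

open Submodule

section Transport

/-- Gorenstein rings are invariant under ring isomorphisms. -/
theorem isGorensteinRing_of_ringEquiv {R S : Type u} [CommRing R] [CommRing S] (e : R ≃+* S)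
    (h : LocCoh.IsGorensteinRing R) : LocCoh.IsGorensteinRing S := by
  haveI : IsNoetherianRing R := h.toIsNoetherian
  haveI : IsNoetherianRing S := isNoetherianRing_of_ringEquiv R e
  refine ⟨fun q hq => ?_⟩
  let e' : Localization.AtPrime (q.comap e) ≃+* Localization.AtPrime q :=
    IsLocalization.ringEquivOfRingEquiv
      (Localization.AtPrime (q.comap e)) (Localization.AtPrime q) e (e.map_primeCompl_comap_eq q)
  exact LiaisonGor.isGorensteinLocalRing_of_ringEquiv e'
    (h.isGorensteinLocalRing_localization (q.comap e))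

end Transport

section General

variable {R : Type u} [CommRing R] [IsNoetherianRing R]

/-- if `R/𝔠` is Gorenstein, `I = 𝔠 + fR`, `R/I` is Cohen–Macaulay and `𝔠 : (𝔠 : I) = I`, then
`R/(𝔠 : I)` is Gorenstein. -/
theorem isGorensteinRing_quotient_colon (𝔠 I : Ideal R) (f : R)
    [LocCoh.IsGorensteinRing (R ⧸ 𝔠)] (hIf : I = 𝔠 ⊔ Ideal.span {f})
    (hJI : 𝔠.colon ((𝔠.colon (I : Set R) : Ideal R) : Set R) = I)
    (h : LocCoh.IsCohenMacaulayRing (R ⧸ I)) :
    LocCoh.IsGorensteinRing (R ⧸ 𝔠.colon (I : Set R)) := by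
  set J : Ideal R := 𝔠.colon (I : Set R) with hJ
  have h𝔠I : 𝔠 ≤ I := by rw [hIf]; exact le_sup_left
  have h𝔠J : 𝔠 ≤ J := by
    intro x hx
    rw [hJ, mem_colon]
    intro j _
    exact Ideal.mul_mem_right _ _ hx
  have hmapI : I.map (Ideal.Quotient.mk 𝔠) = Ideal.span {Ideal.Quotient.mk 𝔠 f} := by
    rw [hIf, Ideal.map_sup, Ideal.map_quotient_self, bot_sup_eq, Ideal.map_span,
      Set.image_singleton]
  have h1 : (Submodule.annihilator (Ideal.span {Ideal.Quotient.mk 𝔠 f}) : Ideal (R ⧸ 𝔠)) =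
      J.map (Ideal.Quotient.mk 𝔠) := by
    rw [← hmapI]
    ext y
    obtain ⟨x, rfl⟩ := Ideal.Quotient.mk_surjective y
    rw [← LiaisonDual.mem_colon_iff_mk_mem_annihilator, ← hJ, Ideal.mem_quotient_iff_mem h𝔠J]
  have h2 : (Submodule.annihilator (J.map (Ideal.Quotient.mk 𝔠)) : Ideal (R ⧸ 𝔠)) =
      Ideal.span {Ideal.Quotient.mk 𝔠 f} := by
    rw [← hmapI]
    ext y
    obtain ⟨x, rfl⟩ := Ideal.Quotient.mk_surjective y
    rw [← LiaisonDual.mem_colon_iff_mk_mem_annihilator, hJI, Ideal.mem_quotient_iff_mem h𝔠I]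
  have hcm1 : LocCoh.IsCohenMacaulayRing ((R ⧸ 𝔠) ⧸ Ideal.span {Ideal.Quotient.mk 𝔠 f}) := by
    rw [← hmapI]
    exact Groth.Agent.H26.FormalFibreQuot.isCohenMacaulayRing_of_ringEquiv
      (DoubleQuot.quotQuotEquivQuotOfLE h𝔠I).symm h
  have hG := LiaisonGor.isGorensteinRing_quotient_annihilator (R ⧸ 𝔠) (Ideal.Quotient.mk 𝔠 f)
    _ h1 h2 hcm1
  exact isGorensteinRing_of_ringEquiv (DoubleQuot.quotQuotEquivQuotOfLE h𝔠J) hG

end General

section Main

variable (K : Type u) [Field K] (n : ℕ)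

theorem height_colon_and_isGorensteinRing (c : ℕ)
    (g : Fin c → MvPolynomial (Fin (n + 1)) K) (f : MvPolynomial (Fin (n + 1)) K)
    (𝔠 I : Ideal (MvPolynomial (Fin (n + 1)) K)) (h𝔠g : Ideal.span (Set.range g) = 𝔠)
    (h𝔠 : 𝔠.IsHomogeneous (GrSyz.stdGr K (Fin (n + 1))))
    (hI : I.IsHomogeneous (GrSyz.stdGr K (Fin (n + 1))))
    (h𝔠c : 𝔠.height = c) (hIc : I.height = c)
    [hcmI : LocCoh.IsCohenMacaulayRing (MvPolynomial (Fin (n + 1)) K ⧸ I)]
    (hlt : 𝔠 < I) (hIf : I = 𝔠 ⊔ Ideal.span {f}) :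
    (𝔠.colon (I : Set (MvPolynomial (Fin (n + 1)) K))).height = c ∧
      LocCoh.IsGorensteinRing
        (MvPolynomial (Fin (n + 1)) K ⧸ 𝔠.colon (I : Set (MvPolynomial (Fin (n + 1)) K))) := by
  have hRG : LocCoh.IsGorensteinRing (MvPolynomial (Fin (n + 1)) K) :=
    Groth.Agent.H89.GorReg.isGorensteinRing_of_isRegularRing _
  have hB : LocCoh.IsGorensteinRing (MvPolynomial (Fin (n + 1)) K ⧸ 𝔠) := by
    rw [← h𝔠g]
    refine CIGor.isGorensteinRing_quotient_span_range _ c g ?_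
    rw [h𝔠g, h𝔠c]
  have hBcm : ∀ (P : Ideal (MvPolynomial (Fin (n + 1)) K ⧸ 𝔠)) [P.IsPrime],
      LocCoh.IsCohenMacaulayLocalRing (Localization.AtPrime P) := by
    intro P hP
    haveI := hB.isGorensteinLocalRing_localization P
    exact Groth.Agent.H2.GorensteinCM.isCohenMacaulayLocalRing _
  -- `I` is unmixed
  have hass : ∀ p ∈ associatedPrimes (MvPolynomial (Fin (n + 1)) K)
      (MvPolynomial (Fin (n + 1)) K ⧸ I), p ∈ 𝔠.minimalPrimes := by
    intro p hp
    have hpp : p.IsPrime := hp.isPrime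
    have hmin := Liaison.mem_minimalPrimes_of_mem_associatedPrimes_quotient I
      (fun P _ => hcmI.isCohenMacaulayLocalRing_localization P) p hp
    have hht : p.height = c := by
      rw [GrUnmixed.height_eq_of_mem_minimalPrimes K (n + 1) I hI hcmI p hmin, hIc]
    exact LiaisonDual.mem_minimalPrimes_of_height_eq 𝔠 p (hlt.le.trans hmin.1.2) c h𝔠c hht
  have hJI := LiaisonDual.colon_colon_eq 𝔠 I hlt.le hass
  refine ⟨?_, isGorensteinRing_quotient_colon 𝔠 I f hIf hJI hcmI⟩
  -- the height of `J`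
  set J : Ideal (MvPolynomial (Fin (n + 1)) K) :=
    𝔠.colon (I : Set (MvPolynomial (Fin (n + 1)) K)) with hJ
  have h𝔠J : 𝔠 ≤ J := by
    intro x hx
    rw [hJ, mem_colon]
    intro j _
    exact Ideal.mul_mem_right _ _ hx
  have hJne : J ≠ ⊤ := by
    intro htop
    apply hlt.ne
    apply le_antisymm hlt.le
    intro x hx
    have h1 : (1 : MvPolynomial (Fin (n + 1)) K) ∈ J := by rw [htop]; trivial
    rw [hJ, mem_colon] at h1
    have := h1 x hx
    rwa [smul_eq_mul, one_mul] at this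
  apply le_antisymm
  · -- an associated prime of `R/J` is an associated prime of `R/𝔠`, of height `c`
    haveI : Nontrivial (MvPolynomial (Fin (n + 1)) K ⧸ J) := Ideal.Quotient.nontrivial_iff.mpr hJne
    obtain ⟨p, hp⟩ := associatedPrimes.nonempty (MvPolynomial (Fin (n + 1)) K)
      (MvPolynomial (Fin (n + 1)) K ⧸ J)
    have hp𝔠 := GrUnmixed.mem_associatedPrimes_of_mem_associatedPrimes_colon 𝔠 I p hp
    have hpp : p.IsPrime := hp.isPrime
    have hJp : J ≤ p := by
      have h1 := IsAssociatedPrime.annihilator_le hp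
      rwa [Submodule.annihilator_top, Ideal.annihilator_quotient] at h1
    have hmin := Liaison.mem_minimalPrimes_of_mem_associatedPrimes_quotient 𝔠 hBcm p hp𝔠
    have hBcmR : LocCoh.IsCohenMacaulayRing (MvPolynomial (Fin (n + 1)) K ⧸ 𝔠) :=
      @LocCoh.IsCohenMacaulayRing.mk _ _ inferInstance (fun Q hQ => hBcm Q)
    have hht : p.height = c := by
      rw [GrUnmixed.height_eq_of_mem_minimalPrimes K (n + 1) 𝔠 h𝔠 hBcmR p hmin, h𝔠c]
    rw [← hht]
    exact Ideal.height_mono hJp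
  · rw [← h𝔠c]
    exact Ideal.height_mono h𝔠J

end Main

end Groth.Agent.H81.ACILink
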