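import Groth.Agent.H58.DepthBasic
import Groth.Agent.H72.DepthFinite
import Groth.Prelude.Def_W4bk5brsh7111920

/-!
# Adjusted depths are independent of the base ring (along a surjection)
-/
set_option autoImplicit false
set_option linter.unusedSectionVars false
universe u
open IsLocalRing

namespace Groth.Agent.H81.AdjDepthBase

variable {A B : Type u} [CommRing A] [CommRing B] [Algebra A B]
  (hf : Function.Surjective (algebraMap A B))

include hf in
theorem localRingHom_surjective (q : Ideal B) [q.IsPrime] :
    Function.Surjective (Localization.localRingHom (q.comap (algebraMap A B)) q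
      (algebraMap A B) rfl) := by
  intro y
  obtain ⟨⟨b, s⟩, rfl⟩ := IsLocalization.mk'_surjective q.primeCompl y
  obtain ⟨a, rfl⟩ := hf b
  obtain ⟨u, hu⟩ := hf s.1
  have hup : u ∈ (q.comap (algebraMap A B)).primeCompl := by
    show u ∉ q.comap (algebraMap A B)
    rw [Ideal.mem_comap, hu]
    exact s.2
  refine ⟨IsLocalization.mk' _ a ⟨u, hup⟩, ?_⟩
  rw [Localization.localRingHom_mk']
  congr 1
  exact Subtype.ext hu

variable [IsNoetherianRing A] (M : Type u) [AddCommGroup M] [Module A M] [Module B M]
  [IsScalarTower A B M] [Module.Finite B M]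

include hf in
theorem depth_comap (q : Ideal B) [q.IsPrime] :
    LocCoh.depth (Localization.AtPrime (q.comap (algebraMap A B)))
        (LocalizedModule (q.comap (algebraMap A B)).primeCompl M) =
      LocCoh.depth (Localization.AtPrime q) (LocalizedModule q.primeCompl M) := by
  set P := q.comap (algebraMap A B) with hP
  letI algTB : Algebra (Localization.AtPrime P) (Localization.AtPrime q) :=
    (Localization.localRingHom P q (algebraMap A B) rfl).toAlgebra
  letI modTN : Module (Localization.AtPrime P) (LocalizedModule q.primeCompl M) :=
    Module.compHom (LocalizedModule q.primeCompl M)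
      (algebraMap (Localization.AtPrime P) (Localization.AtPrime q))
  haveI st1 : IsScalarTower (Localization.AtPrime P) (Localization.AtPrime q)
      (LocalizedModule q.primeCompl M) := ⟨fun t b x => by
    show (algebraMap (Localization.AtPrime P) (Localization.AtPrime q) t * b) • x =
      algebraMap (Localization.AtPrime P) (Localization.AtPrime q) t • (b • x)
    rw [mul_smul]⟩
  have hcomp : ∀ r : A, algebraMap (Localization.AtPrime P) (Localization.AtPrime q)
      (algebraMap A (Localization.AtPrime P) r) =
      algebraMap B (Localization.AtPrime q) (algebraMap A B r) := fun r =>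
    Localization.localRingHom_to_map P q (algebraMap A B) rfl r
  haveI st2 : IsScalarTower A (Localization.AtPrime P) (LocalizedModule q.primeCompl M) :=
    ⟨fun r t x => by
      show algebraMap (Localization.AtPrime P) (Localization.AtPrime q) (r • t) • x =
        r • (algebraMap (Localization.AtPrime P) (Localization.AtPrime q) t • x)
      rw [Algebra.smul_def, map_mul, hcomp, mul_smul, algebraMap_smul, algebraMap_smul]⟩
  have hPq : P.map (algebraMap A B) = q := Ideal.map_comap_of_surjective _ hf q
  have hmap : (maximalIdeal (Localization.AtPrime P)).map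
      (algebraMap (Localization.AtPrime P) (Localization.AtPrime q)) =
      maximalIdeal (Localization.AtPrime q) := by
    have h1 : maximalIdeal (Localization.AtPrime q) =
        (P.map (algebraMap A B)).map (algebraMap B (Localization.AtPrime q)) := by
      rw [hPq]
      exact Localization.AtPrime.map_eq_maximalIdeal.symm
    rw [h1, ← Localization.AtPrime.map_eq_maximalIdeal, Ideal.map_map, Ideal.map_map]
    congr 1
    ext r
    exact hcomp r
  have hsub : Algebra.algebraMapSubmonoid B P.primeCompl = q.primeCompl := by
    ext a
    constructor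
    · rintro ⟨r, hr, rfl⟩
      exact hr
    · intro ha
      obtain ⟨r, rfl⟩ := hf a
      exact ⟨r, ha, rfl⟩
  haveI hloc : IsLocalizedModule P.primeCompl
      ((LocalizedModule.mkLinearMap q.primeCompl M).restrictScalars A) := by
    haveI : IsLocalizedModule (Algebra.algebraMapSubmonoid B P.primeCompl)
        (LocalizedModule.mkLinearMap q.primeCompl M) := by
      rw [hsub]
      infer_instance
    exact IsLocalizedModule.restrictScalars P.primeCompl _
  haveI : Module.Finite (Localization.AtPrime P) (Localization.AtPrime q) :=
    Module.Finite.of_surjective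
      (Algebra.linearMap (Localization.AtPrime P) (Localization.AtPrime q))
      (localRingHom_surjective hf q)
  let e : LocalizedModule P.primeCompl M ≃ₗ[Localization.AtPrime P]
      LocalizedModule q.primeCompl M :=
    LinearEquiv.extendScalarsOfIsLocalization P.primeCompl (Localization.AtPrime P)
      (IsLocalizedModule.linearEquiv P.primeCompl (LocalizedModule.mkLinearMap P.primeCompl M)
        ((LocalizedModule.mkLinearMap q.primeCompl M).restrictScalars A))
  haveI : Module.Finite (Localization.AtPrime q) (LocalizedModule q.primeCompl M) :=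
    Module.Finite.of_isLocalizedModule q.primeCompl (LocalizedModule.mkLinearMap q.primeCompl M)
  unfold LocCoh.depth
  rw [Groth.Agent.H58.DepthBasic.idealDepth_congr e,
    Groth.Agent.H72.DepthFinite.idealDepth_eq_idealDepth_map (A := Localization.AtPrime P)
      (B := Localization.AtPrime q) (maximalIdeal (Localization.AtPrime P))
      (LocalizedModule q.primeCompl M), hmap]

omit [IsNoetherianRing A] in
include hf in
theorem height_comap (a : Ideal A) (q : Ideal B) [q.IsPrime] :
    ((a ⊔ q.comap (algebraMap A B)).map (Ideal.Quotient.mk (q.comap (algebraMap A B)))).height =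
      ((a.map (algebraMap A B) ⊔ q).map (Ideal.Quotient.mk q)).height := by
  set P := q.comap (algebraMap A B) with hP
  let e : A ⧸ P ≃+* B ⧸ q :=
    RingEquiv.ofBijective (Ideal.quotientMap q (algebraMap A B) le_rfl)
      ⟨Ideal.quotientMap_injective, Ideal.quotientMap_surjective hf⟩
  rw [← RingEquiv.height_map e]
  congr 1
  have he : (e : A ⧸ P →+* B ⧸ q) = Ideal.quotientMap q (algebraMap A B) le_rfl := rfl
  change Ideal.map (e : A ⧸ P →+* B ⧸ q) _ = _
  rw [he, Ideal.map_map, Ideal.quotientMap_comp_mk, ← Ideal.map_map, Ideal.map_sup,
    Ideal.map_comap_of_surjective _ hf q]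

include hf in
theorem adjDepth_comap (a : Ideal A) (q : PrimeSpectrum B) :
    LocCoh.adjDepth a M (PrimeSpectrum.comap (algebraMap A B) q) =
      LocCoh.adjDepth (a.map (algebraMap A B)) M q := by
  haveI := q.2
  unfold LocCoh.adjDepth
  exact congrArg₂ (· + ·) (depth_comap hf M q.asIdeal) (height_comap hf a q.asIdeal)

omit [IsNoetherianRing A] [Module.Finite B M] in
theorem adjDepth_eq_top (a : Ideal A) (p : PrimeSpectrum A)
    (hker : ¬ RingHom.ker (algebraMap A B) ≤ p.asIdeal) : LocCoh.adjDepth a M p = ⊤ := by
  haveI := p.2
  obtain ⟨c, hc, hcp⟩ := Set.not_subset.mp hker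
  haveI : Subsingleton (LocalizedModule p.asIdeal.primeCompl M) := by
    rw [LocalizedModule.subsingleton_iff]
    intro m
    refine ⟨c, hcp, ?_⟩
    rw [← algebraMap_smul B c m, (RingHom.mem_ker).mp hc, zero_smul]
  unfold LocCoh.adjDepth LocCoh.depth
  rw [Groth.Agent.H58.DepthBasic.idealDepth_eq_top_of_smul_top_eq _ _ (Subsingleton.elim _ _),
    top_add]

include hf in
/-- the `b`-minimum `a`-adjusted depth does not depend on the base ring. -/
theorem minAdjDepth_eq_map (a b : Ideal A) :
    LocCoh.minAdjDepth a b M =
      LocCoh.minAdjDepth (a.map (algebraMap A B)) (b.map (algebraMap A B)) M := by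
  apply le_antisymm
  · refine le_iInf₂ fun q hq => ?_
    rw [← adjDepth_comap hf M a q]
    refine iInf₂_le (PrimeSpectrum.comap (algebraMap A B) q) ?_
    intro hb
    exact hq (Ideal.map_le_iff_le_comap.mpr hb)
  · refine le_iInf₂ fun p hp => ?_
    by_cases hker : RingHom.ker (algebraMap A B) ≤ p.asIdeal
    · haveI := p.2
      have hprime : (p.asIdeal.map (algebraMap A B)).IsPrime :=
        Ideal.map_isPrime_of_surjective hf hker
      have hcomap : (p.asIdeal.map (algebraMap A B)).comap (algebraMap A B) = p.asIdeal := by
        rw [Ideal.comap_map_of_surjective _ hf, ← RingHom.ker_eq_comap_bot,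
          sup_eq_left.mpr hker]
      have hpq : PrimeSpectrum.comap (algebraMap A B) ⟨_, hprime⟩ = p :=
        PrimeSpectrum.ext hcomap
      rw [← hpq, adjDepth_comap hf M a]
      refine iInf₂_le (⟨_, hprime⟩ : PrimeSpectrum B) ?_
      intro hb
      apply hp
      have := Ideal.map_le_iff_le_comap.mp hb
      rwa [hcomap] at this
    · rw [adjDepth_eq_top M a p hker]
      exact le_top

end Groth.Agent.H81.AdjDepthBase
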