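import Mathlib
import Groth.Agent.H81.AttTop
import Groth.Agent.H17.DimParam
import Groth.Agent.H58.LCTorsion2

/-!
# The Matlis duals of the local cohomology modules `H^i_m(M)` over a complete local ring (helper81)

`Hom(H^i_m(M), E)` is a finite module whose support has dimension `≤ i`; for `i = dim M` the
dimension is exactly `dim M` and its associated primes are the associated primes of `M` of
maximal dimension.
-/

set_option autoImplicit false
set_option linter.unusedSectionVars false
set_option linter.style.haveILetI false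

namespace Groth.Agent.H81.AttTop2

universe u

open CategoryTheory IsLocalRing Groth.Agent.H58 Groth.Agent.H58.LC Groth.Agent.H81.AttTop
  Pointwise

variable {R : Type u} [CommRing R] [IsNoetherianRing R] [IsLocalRing R]
  {E : Type u} [AddCommGroup E] [Module R E]
  (f : ResidueField R →ₗ[R] E) (hf : InjHull.IsInjectiveHull f)

include f hf in
theorem finite_dual [IsAdicComplete (maximalIdeal R) R] (i : ℕ) (M : Type u) [AddCommGroup M]
    [Module R M] [Module.Finite R M] :
    Module.Finite R (LocCoh.H (maximalIdeal R) i M →ₗ[R] E) := by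
  haveI : IsArtinian R (LocCoh.H (maximalIdeal R) i M) :=
    Groth.Agent.H2.LCArtinian.isArtinian_H i M
  exact Groth.Agent.H2.MatlisDual.finite_dual_of_isArtinian f hf _

include f hf in
/-- the dual of `H^0_m(M)` has dimension `≤ 0` -/
theorem supportDim_dual_zero_le (M : Type u) [AddCommGroup M] [Module R M] [Module.Finite R M] :
    Module.supportDim R (LocCoh.H (maximalIdeal R) 0 M →ₗ[R] E) ≤ 0 := by
  haveI hA : IsArtinian R (LocCoh.H (maximalIdeal R) 0 M) :=
    Groth.Agent.H2.LCArtinian.isArtinian_H 0 M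
  haveI hN : IsNoetherian R (LocCoh.H (maximalIdeal R) 0 M) :=
    isNoetherian_of_linearEquiv (H0equiv (maximalIdeal R) (ModuleCat.of R M)).symm
  have hfl : IsFiniteLength R (LocCoh.H (maximalIdeal R) 0 M) :=
    isFiniteLength_iff_isNoetherian_isArtinian.mpr ⟨hN, hA⟩
  have h1 := Groth.Agent.H30.Matlis.length_dual_eq f hf hfl
  have hD : IsFiniteLength R (LocCoh.H (maximalIdeal R) 0 M →ₗ[R] E) := by
    apply Module.length_ne_top_iff.1
    rw [h1]
    exact Module.length_ne_top_iff.2 hfl
  haveI : Module.Finite R (LocCoh.H (maximalIdeal R) 0 M →ₗ[R] E) := by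
    obtain ⟨hn, _⟩ := isFiniteLength_iff_isNoetherian_isArtinian.mp hD
    infer_instance
  exact (Groth.Agent.H17.isFiniteLength_iff_supportDim_le_zero _).mp hD

include f hf in
/-- the inductive step -/
theorem supportDim_dual_succ_le [IsAdicComplete (maximalIdeal R) R] (i : ℕ) (M : Type u)
    [AddCommGroup M] [Module R M] [Module.Finite R M] (x : R) (hx : x ∈ maximalIdeal R)
    (hreg : IsSMulRegular M x)
    (ih : Module.supportDim R (LocCoh.H (maximalIdeal R) i
      (M ⧸ LinearMap.range (LinearMap.lsmul R M x)) →ₗ[R] E) ≤ (i : WithBot ℕ∞)) :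
    Module.supportDim R (LocCoh.H (maximalIdeal R) (i + 1) M →ₗ[R] E) ≤
      ((i + 1 : ℕ) : WithBot ℕ∞) := by
  haveI hinjE : Module.Injective R E := hf.isInjective
  set m := maximalIdeal R with hm
  have hS := shortExact_of (LinearMap.lsmul R M x) (LinearMap.range (LinearMap.lsmul R M x)).mkQ
    hreg (Submodule.mkQ_surjective _) (LinearMap.exact_map_mkQ_range _)
  -- the map `H^{i+1}(x)` is multiplication by `x`
  have hmapx : ∀ y : LocCoh.H m (i + 1) M,
      ((localCohomology m (i + 1)).map (ModuleCat.ofHom (LinearMap.lsmul R M x))).hom y = x • y := by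
    intro y
    have h1 : ModuleCat.ofHom (LinearMap.lsmul R M x) = x • 𝟙 (ModuleCat.of R M) := by
      apply ModuleCat.hom_ext
      apply LinearMap.ext
      intro z; rfl
    rw [h1, map_smul', CategoryTheory.Functor.map_id]
    rfl
  -- `x` kills `H^i(M/xM)`
  have hxkill : ∀ z : LocCoh.H m i (M ⧸ LinearMap.range (LinearMap.lsmul R M x)), x • z = 0 := by
    intro z
    refine smul_eq_zero_of_smul_id_eq_zero m i (ModuleCat.of R _) x ?_ z
    apply ModuleCat.hom_ext
    apply LinearMap.ext
    intro y
    obtain ⟨y', rfl⟩ := Submodule.mkQ_surjective _ y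
    show x • (LinearMap.range (LinearMap.lsmul R M x)).mkQ y' = 0
    rw [← map_smul, Submodule.mkQ_apply, Submodule.Quotient.mk_eq_zero]
    exact ⟨y', rfl⟩
  let D := LocCoh.H m (i + 1) M →ₗ[R] E
  let Ψ : (LocCoh.H m (i + 1) M →ₗ[R] E) →ₗ[R]
      (LocCoh.H m i (M ⧸ LinearMap.range (LinearMap.lsmul R M x)) →ₗ[R] E) :=
    LinearMap.lcomp R E (δ m i hS)
  have hle1 : (x • (⊤ : Submodule R (LocCoh.H m (i + 1) M →ₗ[R] E))) ≤ LinearMap.ker Ψ := by
    intro φ hφ
    obtain ⟨φ', -, rfl⟩ := (Submodule.mem_smul_pointwise_iff_exists _ _ _).mp hφ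
    rw [LinearMap.mem_ker]
    ext z
    show (x • φ') (δ m i hS z) = 0
    rw [LinearMap.smul_apply, ← map_smul, ← map_smul, hxkill z, map_zero, map_zero]
  have hle2 : LinearMap.ker Ψ ≤ (x • (⊤ : Submodule R (LocCoh.H m (i + 1) M →ₗ[R] E))) := by
    intro φ hφ
    rw [LinearMap.mem_ker] at hφ
    let μ : LocCoh.H m (i + 1) M →ₗ[R] LocCoh.H m (i + 1) M :=
      LinearMap.lsmul R (LocCoh.H m (i + 1) M) x
    have hker : LinearMap.ker μ ≤ LinearMap.ker φ := by
      intro y hy
      have hy' : x • y = 0 := hy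
      obtain ⟨z, rfl⟩ := exact₁ m i hS y (by rw [hmapx]; exact hy')
      rw [LinearMap.mem_ker]
      exact LinearMap.congr_fun hφ z
    let μ' : (LocCoh.H m (i + 1) M ⧸ LinearMap.ker μ) →ₗ[R] LocCoh.H m (i + 1) M :=
      (LinearMap.ker μ).liftQ μ le_rfl
    have hμ' : Function.Injective μ' := by
      rw [← LinearMap.ker_eq_bot]
      exact Submodule.ker_liftQ_eq_bot _ _ _ le_rfl
    obtain ⟨φ', hφ'⟩ := Module.Injective.out μ' hμ' ((LinearMap.ker μ).liftQ φ hker)
    refine (Submodule.mem_smul_pointwise_iff_exists _ _ _).mpr ⟨φ', Submodule.mem_top, ?_⟩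
    ext y
    have := hφ' (Submodule.Quotient.mk y)
    rw [Submodule.liftQ_apply, Submodule.liftQ_apply] at this
    rw [LinearMap.smul_apply, ← map_smul]
    exact this
  let Ψbar : QuotSMulTop x (LocCoh.H m (i + 1) M →ₗ[R] E) →ₗ[R]
      (LocCoh.H m i (M ⧸ LinearMap.range (LinearMap.lsmul R M x)) →ₗ[R] E) :=
    (x • (⊤ : Submodule R (LocCoh.H m (i + 1) M →ₗ[R] E))).liftQ Ψ hle1
  have hΨbar : Function.Injective Ψbar := by
    rw [← LinearMap.ker_eq_bot]
    exact Submodule.ker_liftQ_eq_bot _ _ _ hle2
  haveI : Module.Finite R (LocCoh.H m (i + 1) M →ₗ[R] E) := finite_dual f hf (i + 1) M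
  have hjac : x ∈ (Module.annihilator R (LocCoh.H m (i + 1) M →ₗ[R] E)).jacobson := by
    by_cases htop : Module.annihilator R (LocCoh.H m (i + 1) M →ₗ[R] E) = ⊤
    · rw [htop, Ideal.jacobson_top]
      trivial
    · rw [IsLocalRing.jacobson_eq_maximalIdeal _ htop]
      exact hx
  have h1 := Module.supportDim_le_supportDim_quotSMulTop_succ_of_mem_jacobson hjac
  have h2 := Module.supportDim_le_of_injective Ψbar hΨbar
  calc Module.supportDim R (LocCoh.H m (i + 1) M →ₗ[R] E)
      ≤ Module.supportDim R (QuotSMulTop x (LocCoh.H m (i + 1) M →ₗ[R] E)) + 1 := h1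
    _ ≤ (i : WithBot ℕ∞) + 1 := by gcongr; exact h2.trans ih
    _ = ((i + 1 : ℕ) : WithBot ℕ∞) := by push_cast; rfl

include f hf in
/-- **`dim Hom(H^i_m(M), E) ≤ i`** over a complete local ring. -/
theorem supportDim_dual_le [IsAdicComplete (maximalIdeal R) R] :
    ∀ (i : ℕ) (M : Type u) [AddCommGroup M] [Module R M] [Module.Finite R M],
      Module.supportDim R (LocCoh.H (maximalIdeal R) i M →ₗ[R] E) ≤ (i : WithBot ℕ∞) := by
  intro i
  induction i with
  | zero =>
    intro M _ _ _
    exact_mod_cast supportDim_dual_zero_le f hf M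
  | succ i ih =>
    intro M _ _ _
    have hbij := map_mkQ_torsionSub_bijective (maximalIdeal R) M i
    let e : LocCoh.H (maximalIdeal R) (i + 1) M ≃ₗ[R]
        LocCoh.H (maximalIdeal R) (i + 1) (M ⧸ DRing.torsionSub (maximalIdeal R) M) :=
      LinearEquiv.ofBijective _ hbij
    rw [Module.supportDim_eq_of_equiv (LinearEquiv.congrLeft E R e)]
    have h0 : DRing.torsionSub (maximalIdeal R) (M ⧸ DRing.torsionSub (maximalIdeal R) M) = ⊥ :=
      torsionSub_quotient_eq_bot (maximalIdeal R) M
    by_cases hsub : Subsingleton (M ⧸ DRing.torsionSub (maximalIdeal R) M)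
    · haveI := hsub
      haveI : Subsingleton (LocCoh.H (maximalIdeal R) (i + 1)
          (M ⧸ DRing.torsionSub (maximalIdeal R) M)) :=
        subsingleton_H_of_subsingleton (maximalIdeal R) (ModuleCat.of R _) (i + 1)
      haveI : Subsingleton (LocCoh.H (maximalIdeal R) (i + 1)
          (M ⧸ DRing.torsionSub (maximalIdeal R) M) →ₗ[R] E) :=
        ⟨fun a b => LinearMap.ext fun t => by rw [Subsingleton.elim t 0, map_zero, map_zero]⟩
      rw [Module.supportDim_eq_bot_of_subsingleton]
      exact bot_le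
    · have hhom : Subsingleton ((R ⧸ maximalIdeal R) →ₗ[R]
          (M ⧸ DRing.torsionSub (maximalIdeal R) M)) := by
        refine ⟨fun a b => ?_⟩
        have key : ∀ ψ : (R ⧸ maximalIdeal R) →ₗ[R] (M ⧸ DRing.torsionSub (maximalIdeal R) M),
            ψ = 0 := by
          intro ψ
          apply LinearMap.ext
          intro y
          have hy : ψ y ∈ DRing.torsionSub (maximalIdeal R)
              (M ⧸ DRing.torsionSub (maximalIdeal R) M) := by
            refine ⟨1, fun a ha => ?_⟩
            rw [pow_one] at ha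
            obtain ⟨r, rfl⟩ := Submodule.Quotient.mk_surjective _ y
            rw [← map_smul, ← Submodule.Quotient.mk_smul,
              (Submodule.Quotient.mk_eq_zero _).mpr (by
                rw [smul_eq_mul]; exact Ideal.mul_mem_right _ _ ha), map_zero]
          rw [h0, Submodule.mem_bot] at hy
          rw [hy, LinearMap.zero_apply]
        rw [key a, key b]
      obtain ⟨x, hxann, hreg⟩ := IsSMulRegular.subsingleton_linearMap_iff.mp hhom
      have hx : x ∈ maximalIdeal R := by rwa [Ideal.annihilator_quotient] at hxann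
      exact supportDim_dual_succ_le f hf i _ x hx hreg (ih _)

include f hf in
/-- **The Matlis duals of the `H^i_m(M)` over a complete local ring.** -/
theorem main [IsAdicComplete (maximalIdeal R) R] (M : Type u) [AddCommGroup M] [Module R M]
    [Module.Finite R M] (n : ℕ) (hn : Module.supportDim R M = n) :
    (∀ i : ℕ, Module.Finite R (LocCoh.H (maximalIdeal R) i M →ₗ[R] E) ∧
      Module.supportDim R (LocCoh.H (maximalIdeal R) i M →ₗ[R] E) ≤ (i : WithBot ℕ∞)) ∧
    Module.supportDim R (LocCoh.H (maximalIdeal R) n M →ₗ[R] E) = n ∧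
    associatedPrimes R (LocCoh.H (maximalIdeal R) n M →ₗ[R] E) =
      {p | p ∈ associatedPrimes R M ∧ ringKrullDim (R ⧸ p) = n} := by
  have hass := associatedPrimes_dual_eq f hf (maximalIdeal R) M n hn
  have hset : goodPrimes (maximalIdeal R) M n =
      {p | p ∈ associatedPrimes R M ∧ ringKrullDim (R ⧸ p) = n} := by
    ext p
    constructor
    · rintro ⟨hp, hann, hdim, -⟩
      refine ⟨?_, hdim⟩
      have hmin := mem_minimalPrimes_of_dim_eq M n hn.le ⟨p, hp⟩
        (Module.mem_support_iff_of_finite.mpr hann) hdim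
      exact Module.associatedPrimes.minimalPrimes_annihilator_subset_associatedPrimes R M hmin
    · rintro ⟨hass, hdim⟩
      have hp : p.IsPrime := hass.isPrime
      refine ⟨hp, ?_, hdim, ?_⟩
      · have := hass.annihilator_le
        rwa [Submodule.annihilator_top] at this
      · rw [sup_eq_left.mpr (IsLocalRing.le_maximalIdeal hp.ne_top),
          (IsLocalRing.maximalIdeal.isMaximal R).isPrime.radical]
  refine ⟨fun i => ⟨finite_dual f hf i M, supportDim_dual_le f hf i M⟩, ?_, ?_⟩
  · apply le_antisymm (supportDim_dual_le f hf n M)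
    obtain ⟨q, hq, hqn⟩ := NV.exists_prime_dim_eq (R := R) M n hn
    have hgood : q.asIdeal ∈ goodPrimes (maximalIdeal R) M n :=
      ⟨q.2, Module.mem_support_iff_of_finite.mp hq, hqn, by
        rw [sup_eq_left.mpr (IsLocalRing.le_maximalIdeal q.2.ne_top),
          (IsLocalRing.maximalIdeal.isMaximal R).isPrime.radical]⟩
    rw [← hass] at hgood
    haveI := finite_dual f hf n M
    have hsupp : q ∈ Module.support R (LocCoh.H (maximalIdeal R) n M →ₗ[R] E) := by
      rw [Module.mem_support_iff_of_finite]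
      have := hgood.annihilator_le
      rwa [Submodule.annihilator_top] at this
    rw [← hqn]
    exact ringKrullDim_quotient_le_supportDim _ q hsupp
  · rw [hass, hset]

end Groth.Agent.H81.AttTop2
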