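import Mathlib
import Groth.Prelude.Def_GrLC2
import Groth.Agent.H81.BassInjDim

/-!
# Bass numbers at a maximal ideal without localizing  (helper81)

* `length_eq_of_semilinear_bijective`: an additive bijection `g : W' → W` from an `R`-module to an
  `A`-module, semilinear over `f : R →+* A`, such that every scalar `a : A` acts on each element of
  `W` like some `f r`, preserves lengths.
* `extCongr`: `Ext` is invariant under isomorphisms in both variables (as a linear equivalence).
* `bassNum_eq_length_ext`: for a maximal ideal `m` of a Noetherian ring `R` and ANY module `M`,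
  `μ^i(m, M) = length_R Ext^i_R(R/m, M)`.
-/

set_option autoImplicit false
set_option linter.unusedSectionVars false
set_option linter.style.haveILetI false

namespace Groth.Agent.H81.BassMax

universe u

open CategoryTheory Abelian

section Len

variable {R A : Type*} [Ring R] [Ring A] (f : R →+* A)
  {W' W : Type*} [AddCommGroup W'] [Module R W'] [AddCommGroup W] [Module A W]

/-- an additive bijection, semilinear over `f`, such that every scalar of `A` acts pointwise like a
scalar coming from `R`, induces an isomorphism of submodule lattices -/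
def submoduleOrderIso (g : W' →+ W) (hg : Function.Bijective g)
    (hsemi : ∀ (r : R) (w : W'), g (r • w) = f r • g w)
    (hpt : ∀ (a : A) (w : W), ∃ r : R, a • w = f r • w) : Submodule R W' ≃o Submodule A W where
  toFun N :=
    { carrier := g '' N
      add_mem' := by
        rintro _ _ ⟨x, hx, rfl⟩ ⟨y, hy, rfl⟩
        exact ⟨x + y, N.add_mem hx hy, map_add g x y⟩
      zero_mem' := ⟨0, N.zero_mem, map_zero g⟩
      smul_mem' := by
        rintro a _ ⟨x, hx, rfl⟩
        obtain ⟨r, hr⟩ := hpt a (g x)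
        exact ⟨r • x, N.smul_mem r hx, by rw [hsemi, hr]⟩ }
  invFun P :=
    { carrier := g ⁻¹' P
      add_mem' := by
        intro x y hx hy
        change g (x + y) ∈ P
        rw [map_add]
        exact P.add_mem hx hy
      zero_mem' := by
        change g 0 ∈ P
        rw [map_zero]
        exact P.zero_mem
      smul_mem' := by
        intro r x hx
        change g (r • x) ∈ P
        rw [hsemi]
        exact P.smul_mem _ hx }
  left_inv N := by
    ext x
    constructor
    · rintro ⟨y, hy, hyx⟩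
      rw [← hg.1 hyx]
      exact hy
    · intro hx
      exact ⟨x, hx, rfl⟩
  right_inv P := by
    ext x
    constructor
    · rintro ⟨y, hy, rfl⟩
      exact hy
    · intro hx
      obtain ⟨y, rfl⟩ := hg.2 x
      exact ⟨y, hx, rfl⟩
  map_rel_iff' := by
    intro N N'
    constructor
    · intro h x hx
      obtain ⟨y, hy, hyx⟩ := h ⟨x, hx, rfl⟩
      rw [← hg.1 hyx]
      exact hy
    · rintro h _ ⟨x, hx, rfl⟩
      exact ⟨x, h hx, rfl⟩

theorem length_eq_of_semilinear_bijective (g : W' →+ W) (hg : Function.Bijective g)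
    (hsemi : ∀ (r : R) (w : W'), g (r • w) = f r • g w)
    (hpt : ∀ (a : A) (w : W), ∃ r : R, a • w = f r • w) :
    Module.length R W' = Module.length A W := by
  apply WithBot.coe_injective
  rw [Module.coe_length, Module.coe_length,
    Order.krullDim_eq_of_orderIso (submoduleOrderIso f g hg hsemi hpt)]

end Len

section ExtCongr

variable {A : Type u} [CommRing A]

/-- `Ext` is invariant under isomorphisms in both variables -/
noncomputable def extCongr {X X' Y Y' : ModuleCat.{u} A} (eX : X ≅ X') (eY : Y ≅ Y') (i : ℕ) :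
    Ext.{u} X Y i ≃ₗ[A] Ext.{u} X' Y' i where
  toFun x := (Ext.mk₀ eX.inv).comp (x.comp (Ext.mk₀ eY.hom) (add_zero i)) (zero_add i)
  invFun x := (Ext.mk₀ eX.hom).comp (x.comp (Ext.mk₀ eY.inv) (add_zero i)) (zero_add i)
  map_add' x y := by rw [Ext.add_comp, Ext.comp_add]
  map_smul' a x := by
    rw [Ext.smul_comp, Ext.comp_smul]
    rfl
  left_inv x := by
    change (Ext.mk₀ eX.hom).comp (((Ext.mk₀ eX.inv).comp (x.comp (Ext.mk₀ eY.hom) (add_zero i))
      (zero_add i)).comp (Ext.mk₀ eY.inv) (add_zero i)) (zero_add i) = x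
    rw [Ext.comp_assoc_of_third_deg_zero, Ext.comp_assoc_of_third_deg_zero, Ext.mk₀_comp_mk₀,
      eY.hom_inv_id, Ext.comp_mk₀_id, ← Ext.comp_assoc_of_second_deg_zero, Ext.mk₀_comp_mk₀,
      eX.hom_inv_id, Ext.mk₀_id_comp]
  right_inv x := by
    change (Ext.mk₀ eX.inv).comp (((Ext.mk₀ eX.hom).comp (x.comp (Ext.mk₀ eY.inv) (add_zero i))
      (zero_add i)).comp (Ext.mk₀ eY.hom) (add_zero i)) (zero_add i) = x
    rw [Ext.comp_assoc_of_third_deg_zero, Ext.comp_assoc_of_third_deg_zero, Ext.mk₀_comp_mk₀,
      eY.inv_hom_id, Ext.comp_mk₀_id, ← Ext.comp_assoc_of_second_deg_zero, Ext.mk₀_comp_mk₀,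
      eX.inv_hom_id, Ext.mk₀_id_comp]

end ExtCongr

section Main

variable {R : Type u} [CommRing R] [IsNoetherianRing R] (m : Ideal R) [hm : m.IsMaximal]
  (M : Type u) [AddCommGroup M] [Module R M]

/-- elements of `m` kill `Ext^i(R/m, M)` -/
theorem smul_ext_eq_zero (i : ℕ) (r : R) (hr : r ∈ m)
    (x : Ext.{u} (ModuleCat.of R (R ⧸ m)) (ModuleCat.of R M) i) : r • x = 0 := by
  have h1 : r • x = (Ext.mk₀ (r • 𝟙 (ModuleCat.of R (R ⧸ m)))).comp x (zero_add i) := by
    rw [Ext.mk₀_smul, Ext.smul_comp, Ext.mk₀_id_comp]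
  have h2 : r • 𝟙 (ModuleCat.of R (R ⧸ m)) = 0 := by
    apply ModuleCat.hom_ext
    apply LinearMap.ext
    intro z
    obtain ⟨z, rfl⟩ := Ideal.Quotient.mk_surjective z
    change r • Ideal.Quotient.mk m z = 0
    rw [Algebra.smul_def, Ideal.Quotient.algebraMap_eq, ← map_mul, Ideal.Quotient.eq_zero_iff_mem]
    exact m.mul_mem_right z hr
  rw [h1, h2, Ext.mk₀_zero, Ext.zero_comp]

/-- inverse modulo a maximal ideal -/
theorem exists_mul_add_eq_one {s : R} (hs : s ∉ m) : ∃ t : R, ∃ μ ∈ m, t * s + μ = 1 := by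
  have h1 : Ideal.span {s} ⊔ m = ⊤ := hm.1.2 _ (lt_of_le_of_ne le_sup_right (fun h => hs (by
    rw [h]
    exact Ideal.mem_sup_left (Ideal.mem_span_singleton_self s))))
  have h2 : (1 : R) ∈ Ideal.span {s} ⊔ m := by rw [h1]; trivial
  obtain ⟨a, ha, μ, hμ, hsum⟩ := Submodule.mem_sup.mp h2
  obtain ⟨t, rfl⟩ := Ideal.mem_span_singleton'.mp ha
  exact ⟨t, μ, hμ, hsum⟩

/-- **Bass numbers at a maximal ideal**: `μ^i(m, M) = length_R Ext^i_R(R/m, M)`. -/
theorem bassNum_eq_length_ext (i : ℕ) :
    haveI : m.IsPrime := hm.isPrime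
    GrLC.bassNum m M i =
      Module.length R (Ext.{u} (ModuleCat.of R (R ⧸ m)) (ModuleCat.of R M) i) := by
  haveI : m.IsPrime := hm.isPrime
  set S := m.primeCompl with hS
  set X := ModuleCat.of R (R ⧸ m) with hX
  set Y := ModuleCat.of R M with hY
  obtain ⟨hinj, hsurj⟩ := Groth.Agent.H81.ExtLoc.props S X i Y
  -- the comparison map
  let g : Ext.{u} X Y i →+ Ext.{u} ((Groth.Agent.H81.ExtLoc.LF S).obj X)
      ((Groth.Agent.H81.ExtLoc.LF S).obj Y) i :=
    (Groth.Agent.H81.ExtLoc.LF S).mapExtAddHom X Y i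
  have hsemi : ∀ (r : R) (w : Ext.{u} X Y i),
      g (r • w) = algebraMap R (Localization S) r • g w :=
    fun r w => Groth.Agent.H81.ExtLoc.mapExactFunctor_smul S X Y i r w
  have hkill : ∀ r ∈ m, ∀ w : Ext.{u} X Y i, r • w = 0 :=
    fun r hr w => smul_ext_eq_zero m M i r hr w
  have hginj : Function.Injective g := by
    rw [injective_iff_map_eq_zero]
    intro w hw
    obtain ⟨s, hs, hsw⟩ := hinj w hw
    obtain ⟨t, μ, hμ, hsum⟩ := exists_mul_add_eq_one m hs
    calc w = (t * s + μ) • w := by rw [hsum, one_smul]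
      _ = 0 := by rw [add_smul, mul_smul, hsw, smul_zero, hkill μ hμ, add_zero]
  have hgsurj : Function.Surjective g := by
    intro y
    obtain ⟨s, hs, x, hx⟩ := hsurj y
    obtain ⟨t, μ, hμ, hsum⟩ := exists_mul_add_eq_one m hs
    refine ⟨t • x, ?_⟩
    have hx' : g x = algebraMap R (Localization S) s • y := hx
    have hunit : IsUnit (algebraMap R (Localization S) s) :=
      IsLocalization.map_units (Localization S) ⟨s, hs⟩
    apply (hunit.smul_left_cancel).mp
    rw [← hx', ← hsemi, smul_smul]
    have h3 : (s * t) • x = x := by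
      calc (s * t) • x = (t * s + μ) • x - μ • x := by rw [add_smul, add_sub_cancel_right, mul_comm]
        _ = x := by rw [hsum, one_smul, hkill μ hμ, sub_zero]
    rw [h3]
  -- pointwise, scalars of the localization act through `R`
  have hpt : ∀ (a : Localization S) (w : Ext.{u} ((Groth.Agent.H81.ExtLoc.LF S).obj X)
      ((Groth.Agent.H81.ExtLoc.LF S).obj Y) i), ∃ r : R, a • w = algebraMap R (Localization S) r • w := by
    intro a w
    obtain ⟨r, s, rfl⟩ := IsLocalization.exists_mk'_eq S a
    obtain ⟨t, μ, hμ, hsum⟩ := exists_mul_add_eq_one m s.2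
    obtain ⟨w', rfl⟩ := hgsurj w
    refine ⟨r * t, ?_⟩
    have hunit : IsUnit (algebraMap R (Localization S) (s : R)) :=
      IsLocalization.map_units (Localization S) s
    apply (hunit.smul_left_cancel).mp
    rw [smul_smul, IsLocalization.mk'_spec', smul_smul, ← map_mul, ← hsemi, ← hsemi]
    congr 1
    have h3 : ((s : R) * (r * t)) • w' = r • w' := by
      have : (s : R) * (r * t) = r * (t * s) := by ring
      rw [this, mul_smul]
      congr 1
      calc (t * s) • w' = (t * (s : R) + μ) • w' - μ • w' := by rw [add_smul, add_sub_cancel_right]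
        _ = w' := by rw [hsum, one_smul, hkill μ hμ, sub_zero]
    exact h3.symm
  have hlen := length_eq_of_semilinear_bijective (algebraMap R (Localization S)) g
    ⟨hginj, hgsurj⟩ hsemi hpt
  rw [hlen]
  unfold GrLC.bassNum GrLC.bassNumLocal
  exact (extCongr (Groth.Agent.H81.BassInjDim.quotIso m)
    (Groth.Agent.H81.PdLoc.locIso S M) i).symm.length_eq

end Main

end Groth.Agent.H81.BassMax
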