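import Mathlib
import Groth.Agent.H77.GrComp
import Groth.Agent.H77.Irrel

/-!
# Uniqueness of graded Betti numbers of minimal graded free resolutions over a polynomial ring
-/

set_option autoImplicit false
set_option linter.unusedSectionVars false

namespace Groth.Agent.H81.BettiUniq

open GrSyz MvPolynomial Groth.Agent.H77 Groth.Agent.H77.GrComp

universe u

variable {k : Type u} [Field k] {σ : Type}
  {M : Type u} [AddCommGroup M] [Module k M] [Module (MvPolynomial σ k) M]
  [IsScalarTower k (MvPolynomial σ k) M]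
  {ℳ : ℤ → Submodule k M} [DirectSum.Decomposition ℳ] [SetLike.GradedSMul (stdGr k σ) ℳ]

lemma betti_eq_card (F : FreeRes (stdGr k σ) ℳ) (i : ℕ) (j : ℤ) :
    F.betti i j = Fintype.card {b : Fin (F.rk i) // F.deg i b = j} := by
  unfold FreeRes.betti
  rw [Fintype.card_subtype]

/-- Graded maps both ways with composite the identity modulo the irrelevant ideal force an
inequality of graded Betti numbers. -/
lemma betti_le (F G : FreeRes (stdGr k σ) ℳ) (i : ℕ)
    (φ : (Fin (F.rk i) → MvPolynomial σ k) →ₗ[MvPolynomial σ k] (Fin (G.rk i) → MvPolynomial σ k))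
    (ψ : (Fin (G.rk i) → MvPolynomial σ k) →ₗ[MvPolynomial σ k] (Fin (F.rk i) → MvPolynomial σ k))
    (hφ : IsGrMap F G φ) (hψ : IsGrMap G F ψ)
    (hc : ∀ v b, (ψ (φ v) - v) b ∈ (irrel (stdGr k σ)).toIdeal) (j : ℤ) :
    F.betti i j ≤ G.betti i j := by
  classical
  rw [betti_eq_card, betti_eq_card]
  set B := {b : Fin (F.rk i) // F.deg i b = j}
  set A := {a : Fin (G.rk i) // G.deg i a = j}
  let Mφ : Matrix A B k := fun a b => constantCoeff (φ (Pi.single b.1 1) a.1)
  let Mψ : Matrix B A k := fun b' a => constantCoeff (ψ (Pi.single a.1 1) b'.1)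
  have key : Mψ * Mφ = 1 := by
    ext b' b
    rw [Matrix.mul_apply]
    -- expand ψ (φ e_b)
    have hexp : ψ (φ (Pi.single b.1 1)) b'.1 =
        ∑ a : Fin (G.rk i), φ (Pi.single b.1 1) a * ψ (Pi.single a 1) b'.1 := by
      conv_lhs => rw [pi_eq_sum_univ' (φ (Pi.single b.1 1)), map_sum, Finset.sum_apply]
      apply Finset.sum_congr rfl
      intro a _
      rw [map_smul, Pi.smul_apply, smul_eq_mul]
    have h1 : constantCoeff (ψ (φ (Pi.single b.1 1)) b'.1) =
        (1 : Matrix B B k) b' b := by
      have hm := hc (Pi.single b.1 1) b'.1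
      have h0 := constantCoeff_eq_zero_of_mem_irrel hm
      rw [Pi.sub_apply, map_sub, sub_eq_zero] at h0
      rw [h0, Matrix.one_apply]
      by_cases hbb : b' = b
      · subst hbb
        simp
      · have : b.1 ≠ b'.1 := fun h => hbb (Subtype.ext h.symm)
        rw [Pi.single_eq_of_ne' this, if_neg hbb, map_zero]
    rw [← h1, hexp, map_sum]
    -- restrict the sum to degree j
    have hzero : ∀ a : Fin (G.rk i), G.deg i a ≠ j →
        constantCoeff (φ (Pi.single b.1 1) a * ψ (Pi.single a 1) b'.1) = 0 := by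
      intro a ha
      have hp : φ (Pi.single b.1 1) ∈ piece G i (F.deg i b.1) :=
        hφ _ _ (single_mem_piece F i b.1)
      have hpa := (mem_piece G).mp hp a
      have hne : F.deg i b.1 - G.deg i a ≠ 0 := by
        rw [b.2]
        intro h
        exact ha (by omega)
      rw [map_mul, constantCoeff_eq_zero_of_mem_stdGr_of_ne hpa hne, zero_mul]
    have hsub : ∑ a : Fin (G.rk i),
          constantCoeff (φ (Pi.single b.1 1) a * ψ (Pi.single a 1) b'.1) =
        ∑ a ∈ Finset.univ.filter (fun a : Fin (G.rk i) => G.deg i a = j),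
          constantCoeff (φ (Pi.single b.1 1) a * ψ (Pi.single a 1) b'.1) := by
      symm
      apply Finset.sum_subset (Finset.filter_subset _ _)
      intro a _ ha
      apply hzero a
      intro h
      exact ha (Finset.mem_filter.mpr ⟨Finset.mem_univ _, h⟩)
    rw [hsub, Finset.sum_subtype (Finset.univ.filter (fun a : Fin (G.rk i) => G.deg i a = j))
      (p := fun a : Fin (G.rk i) => G.deg i a = j) (by simp)]
    apply Finset.sum_congr rfl
    intro a _
    rw [map_mul, mul_comm]
  have hrank : (Mψ * Mφ).rank = Fintype.card B := by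
    rw [key, Matrix.rank_one]
  have h1 : (Mψ * Mφ).rank ≤ Mψ.rank := Matrix.rank_mul_le_left _ _
  have h2 : Mψ.rank ≤ Fintype.card A := Matrix.rank_le_card_width _
  exact (hrank ▸ h1).trans h2

/-- Two minimal graded free resolutions have the same graded Betti numbers. -/
theorem betti_eq (F G : FreeRes (stdGr k σ) ℳ)
    (hF : F.IsMinimal (irrel (stdGr k σ)).toIdeal) (hG : G.IsMinimal (irrel (stdGr k σ)).toIdeal)
    (i : ℕ) (j : ℤ) : F.betti i j = G.betti i j := by
  apply le_antisymm
  · obtain ⟨φ, ψ, hφ, hψ, hc⟩ := C_all F G hF i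
    exact betti_le F G i φ ψ hφ hψ hc j
  · obtain ⟨φ, ψ, hφ, hψ, hc⟩ := C_all G F hG i
    exact betti_le G F i φ ψ hφ hψ hc j

end Groth.Agent.H81.BettiUniq
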