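import Mathlib

/-!
Quotient complex of a degreewise injective chain map of `ℕ`-indexed chain complexes of modules,
its contraction when the map is a quasi-isomorphism with projective quotients, and the resulting
retraction / homotopy statements.
-/

set_option autoImplicit false

universe v u

namespace Groth.Agent.H81

open CategoryTheory

open scoped ZeroObject

section

variable {R : Type u} [Ring R] {A' A : ChainComplex (ModuleCat.{v} R) ℕ} (f : A' ⟶ A)

lemma f_comm_apply (i j : ℕ) (x : A'.X i) :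
    (A.d i j).hom ((f.f i).hom x) = (f.f j).hom ((A'.d i j).hom x) := by
  have h := congrArg (fun φ => φ.hom x) (f.comm i j)
  simpa only [ModuleCat.hom_comp, LinearMap.comp_apply] using h

lemma comp_f_apply {B : ChainComplex (ModuleCat.{v} R) ℕ} (φ : A ⟶ B) (q : ℕ) (x : A'.X q) :
    ((f ≫ φ).f q).hom x = (φ.f q).hom ((f.f q).hom x) := rfl

lemma range_le_comap (i j : ℕ) :
    LinearMap.range (f.f i).hom ≤ (LinearMap.range (f.f j).hom).comap (A.d i j).hom := by
  rintro _ ⟨x, rfl⟩
  exact ⟨(A'.d i j).hom x, (f_comm_apply f i j x).symm⟩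

/-- The degreewise quotient complex `A / f(A')`. -/
noncomputable def Qcx : ChainComplex (ModuleCat.{v} R) ℕ where
  X q := ModuleCat.of R (A.X q ⧸ LinearMap.range (f.f q).hom)
  d i j := ModuleCat.ofHom ((LinearMap.range (f.f i).hom).mapQ (LinearMap.range (f.f j).hom)
    (A.d i j).hom (range_le_comap f i j))
  shape i j h := by
    apply ModuleCat.hom_ext
    apply Submodule.linearMap_qext
    ext x
    simp [A.shape i j h]
  d_comp_d' i j k _ _ := by
    apply ModuleCat.hom_ext
    apply Submodule.linearMap_qext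
    ext x
    have h := congrArg (fun φ => φ.hom x) (A.d_comp_d i j k)
    simp only [ModuleCat.hom_comp, LinearMap.comp_apply] at h
    simp [h]

@[simp] lemma Qcx_d_mk (i j : ℕ) (x : A.X i) :
    ((Qcx f).d i j).hom (Submodule.Quotient.mk x) = Submodule.Quotient.mk ((A.d i j).hom x) := rfl

/-- The projection onto the quotient complex. -/
noncomputable def Qπ : A ⟶ Qcx f where
  f q := ModuleCat.ofHom (LinearMap.range (f.f q).hom).mkQ
  comm' i j _ := by
    apply ModuleCat.hom_ext
    ext x
    rfl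

@[simp] lemma Qπ_f_apply (q : ℕ) (x : A.X q) :
    ((Qπ f).f q).hom x = Submodule.Quotient.mk x := rfl

lemma Qπ_surjective (q : ℕ) : Function.Surjective ((Qπ f).f q).hom :=
  Submodule.Quotient.mk_surjective _

@[reassoc (attr := simp)] lemma f_Qπ : f ≫ Qπ f = 0 := by
  ext q x
  change (Submodule.Quotient.mk ((f.f q).hom x) : A.X q ⧸ LinearMap.range (f.f q).hom) = 0
  rw [Submodule.Quotient.mk_eq_zero]
  exact ⟨x, rfl⟩

/-- Descent of a chain map vanishing on `f` to the quotient complex. -/
noncomputable def Qdesc {B : ChainComplex (ModuleCat.{v} R) ℕ} (φ : A ⟶ B) (h : f ≫ φ = 0) :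
    Qcx f ⟶ B where
  f q := ModuleCat.ofHom ((LinearMap.range (f.f q).hom).liftQ (φ.f q).hom (by
    rintro _ ⟨x, rfl⟩
    have h1 := congrArg (fun ψ => (ψ.f q).hom x) h
    simpa using h1))
  comm' i j _ := by
    apply ModuleCat.hom_ext
    apply Submodule.linearMap_qext
    ext x
    exact f_comm_apply φ i j x

@[reassoc (attr := simp)] lemma Qπ_Qdesc {B : ChainComplex (ModuleCat.{v} R) ℕ} (φ : A ⟶ B)
    (h : f ≫ φ = 0) : Qπ f ≫ Qdesc f φ h = φ := by
  ext q x
  rfl

/-- Lift of a chain map killed by the projection to the quotient complex through `f`. -/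
noncomputable def Qlift (hf : ∀ q, Function.Injective (f.f q).hom)
    {B : ChainComplex (ModuleCat.{v} R) ℕ} (ψ : B ⟶ A) (h : ψ ≫ Qπ f = 0) : B ⟶ A' where
  f q := ModuleCat.ofHom ((LinearEquiv.ofInjective (f.f q).hom (hf q)).symm.toLinearMap ∘ₗ
    LinearMap.codRestrict (LinearMap.range (f.f q).hom) (ψ.f q).hom (by
      intro x
      have h1 := congrArg (fun χ => (χ.f q).hom x) h
      have h2 : (Submodule.Quotient.mk ((ψ.f q).hom x) :
          A.X q ⧸ LinearMap.range (f.f q).hom) = 0 := h1
      exact (Submodule.Quotient.mk_eq_zero _).mp h2))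
  comm' i j _ := by
    apply ModuleCat.hom_ext
    ext x
    apply hf j
    simp only [ModuleCat.hom_comp, ModuleCat.hom_ofHom, LinearMap.comp_apply,
      LinearEquiv.coe_coe]
    rw [← f_comm_apply]
    have e1 : ∀ (q : ℕ) (y : LinearMap.range (f.f q).hom),
        (f.f q).hom ((LinearEquiv.ofInjective (f.f q).hom (hf q)).symm y) = y := by
      intro q y
      have := (LinearEquiv.ofInjective (f.f q).hom (hf q)).apply_symm_apply y
      exact congrArg Subtype.val this
    rw [e1, e1]
    exact f_comm_apply ψ i j x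

@[reassoc (attr := simp)] lemma Qlift_f (hf : ∀ q, Function.Injective (f.f q).hom)
    {B : ChainComplex (ModuleCat.{v} R) ℕ} (ψ : B ⟶ A) (h : ψ ≫ Qπ f = 0) :
    Qlift f hf ψ h ≫ f = ψ := by
  ext q x
  have := (LinearEquiv.ofInjective (f.f q).hom (hf q)).apply_symm_apply
    (LinearMap.codRestrict (LinearMap.range (f.f q).hom) (ψ.f q).hom (by
      intro x
      have h1 := congrArg (fun χ => (χ.f q).hom x) h
      have h2 : (Submodule.Quotient.mk ((ψ.f q).hom x) :
          A.X q ⧸ LinearMap.range (f.f q).hom) = 0 := h1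
      exact (Submodule.Quotient.mk_eq_zero _).mp h2) x)
  exact congrArg Subtype.val this

lemma Qcx_shortExact (hf : ∀ q, Function.Injective (f.f q).hom) :
    (ShortComplex.mk f (Qπ f) (f_Qπ f)).ShortExact := by
  apply HomologicalComplex.shortExact_of_degreewise_shortExact
  intro i
  have hm : Mono ((ShortComplex.mk f (Qπ f) (f_Qπ f)).map
      (HomologicalComplex.eval (ModuleCat.{v} R) (ComplexShape.down ℕ) i)).f :=
    (ModuleCat.mono_iff_injective _).mpr (hf i)
  have he : Epi ((ShortComplex.mk f (Qπ f) (f_Qπ f)).map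
      (HomologicalComplex.eval (ModuleCat.{v} R) (ComplexShape.down ℕ) i)).g :=
    (ModuleCat.epi_iff_surjective _).mpr (Qπ_surjective f i)
  refine ⟨?_⟩
  rw [ShortComplex.moduleCat_exact_iff]
  intro x hx
  have h2 : (Submodule.Quotient.mk x : A.X i ⧸ LinearMap.range (f.f i).hom) = 0 := hx
  obtain ⟨y, hy⟩ := (Submodule.Quotient.mk_eq_zero _).mp h2
  exact ⟨y, hy⟩

lemma Qcx_acyclic (hf : ∀ q, Function.Injective (f.f q).hom) [QuasiIso f] :
    (Qcx f).Acyclic :=
  (Qcx_shortExact f hf).acyclic_X₃ (inferInstanceAs (QuasiIso f))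

/-- An acyclic `ℕ`-indexed chain complex of projectives, seen as a projective resolution of `0`. -/
noncomputable def resZero (K : ChainComplex (ModuleCat.{v} R) ℕ) [∀ n, Projective (K.X n)]
    (hK : K.Acyclic) : ProjectiveResolution (0 : ModuleCat.{v} R) where
  complex := K
  π := 0
  quasiIso := by
    rw [quasiIso_iff]
    intro i
    rw [quasiIsoAt_iff_exactAt' _ _ ?_]
    · exact hK i
    · rw [HomologicalComplex.exactAt_iff_isZero_homology]
      exact (HomologicalComplex.homologyFunctor _ _ i).map_isZero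
        ((ChainComplex.single₀ _).map_isZero (Limits.isZero_zero _))

/-- An acyclic `ℕ`-indexed chain complex of projectives is contractible. -/
noncomputable def contractionOfAcyclic (K : ChainComplex (ModuleCat.{v} R) ℕ)
    [∀ n, Projective (K.X n)] (hK : K.Acyclic) : Homotopy (𝟙 K) 0 :=
  ProjectiveResolution.liftHomotopyZero (P := resZero K hK) (Q := resZero K hK) (𝟙 K)
    (Limits.comp_zero)

/-- The contraction of the quotient complex. -/
noncomputable def Qcontr (hf : ∀ q, Function.Injective (f.f q).hom) [QuasiIso f]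
    [∀ q, Module.Projective R (A.X q ⧸ LinearMap.range (f.f q).hom)] :
    Homotopy (𝟙 (Qcx f)) 0 :=
  haveI : ∀ n, Projective ((Qcx f).X n) := fun n =>
    ModuleCat.projective_of_categoryTheory_projective
      (ModuleCat.of R (A.X n ⧸ LinearMap.range (f.f n).hom))
  contractionOfAcyclic (Qcx f) (Qcx_acyclic f hf)

lemma nullHomotopicMap_zero' {K L : ChainComplex (ModuleCat.{v} R) ℕ} :
    Homotopy.nullHomotopicMap (fun i j => (0 : K.X i ⟶ L.X j)) = 0 := by
  ext i : 1
  change dNext i (0 : ∀ i j, K.X i ⟶ L.X j) + prevD i (0 : ∀ i j, K.X i ⟶ L.X j) = 0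
  rw [map_zero, map_zero, add_zero]

lemma nullHomotopicMap_of_homotopy_id_zero {K : ChainComplex (ModuleCat.{v} R) ℕ}
    (s : Homotopy (𝟙 K) 0) : Homotopy.nullHomotopicMap s.hom = 𝟙 K := by
  ext i : 1
  have := s.comm i
  simp only [HomologicalComplex.zero_f, add_zero] at this
  rw [this]
  rfl

/-- A degreewise injective quasi-isomorphism with projective degreewise quotients has a
chain-level retraction. -/
theorem exists_retraction (hf : ∀ q, Function.Injective (f.f q).hom) [QuasiIso f]
    [∀ q, Module.Projective R (A.X q ⧸ LinearMap.range (f.f q).hom)] :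
    ∃ g : A ⟶ A', f ≫ g = 𝟙 A' := by
  have hσ : ∀ q, ∃ σ : (Qcx f).X q ⟶ A.X q, σ ≫ (Qπ f).f q = 𝟙 _ := by
    intro q
    haveI : Module.Projective R ((Qcx f).X q) :=
      inferInstanceAs (Module.Projective R (A.X q ⧸ LinearMap.range (f.f q).hom))
    obtain ⟨σ, hσ⟩ := Module.projective_lifting_property ((Qπ f).f q).hom LinearMap.id
      (Qπ_surjective f q)
    exact ⟨ModuleCat.ofHom σ, ModuleCat.hom_ext hσ⟩
  choose σ hσ using hσ
  let s := Qcontr f hf
  let k : ∀ i j, A.X i ⟶ A.X j := fun i j => (Qπ f).f i ≫ s.hom i j ≫ σ j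
  let e : A ⟶ A := 𝟙 A - Homotopy.nullHomotopicMap k
  have he1 : e ≫ Qπ f = 0 := by
    rw [Preadditive.sub_comp, Homotopy.nullHomotopicMap_comp, Category.id_comp]
    have : (fun i j => k i j ≫ (Qπ f).f j) = fun i j => (Qπ f).f i ≫ s.hom i j := by
      funext i j
      simp only [k, Category.assoc, hσ, Category.comp_id]
    rw [this, ← Homotopy.comp_nullHomotopicMap, nullHomotopicMap_of_homotopy_id_zero,
      Category.comp_id, sub_self]
  have he2 : f ≫ e = f := by
    rw [Preadditive.comp_sub, Category.comp_id, Homotopy.comp_nullHomotopicMap]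
    have : (fun i j => f.f i ≫ k i j) = fun i j => 0 := by
      funext i j
      simp only [k]
      rw [← Category.assoc, ← HomologicalComplex.comp_f, f_Qπ, HomologicalComplex.zero_f,
        Limits.zero_comp]
    rw [this, nullHomotopicMap_zero', sub_zero]
  refine ⟨Qlift f hf e he1, ?_⟩
  have hmono : Mono f := HomologicalComplex.mono_of_mono_f _
    (fun i => (ModuleCat.mono_iff_injective _).mpr (hf i))
  rw [← cancel_mono f, Category.assoc, Qlift_f, he2, Category.id_comp]

/-- Two chain-level retractions of such an `f` are homotopic, by a homotopy vanishing on the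
image of `f`. -/
theorem exists_homotopy_vanishing (hf : ∀ q, Function.Injective (f.f q).hom) [QuasiIso f]
    [∀ q, Module.Projective R (A.X q ⧸ LinearMap.range (f.f q).hom)]
    (g₁ g₂ : A ⟶ A') (h₁ : f ≫ g₁ = 𝟙 A') (h₂ : f ≫ g₂ = 𝟙 A') :
    ∃ H : Homotopy g₁ g₂, ∀ i j : ℕ, f.f i ≫ H.hom i j = 0 := by
  let s := Qcontr f hf
  have h0 : f ≫ (g₁ - g₂) = 0 := by rw [Preadditive.comp_sub, h₁, h₂, sub_self]
  let γ := Qdesc f (g₁ - g₂) h0
  have hγ : Qπ f ≫ γ = g₁ - g₂ := Qπ_Qdesc f _ h0
  let H0 : Homotopy (g₁ - g₂) 0 :=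
    (Homotopy.ofEq (by rw [Category.id_comp, hγ])).trans
      (((s.compRight γ).compLeft (Qπ f)).trans
        (Homotopy.ofEq (by rw [Limits.zero_comp, Limits.comp_zero])))
  refine ⟨Homotopy.equivSubZero.symm H0, ?_⟩
  intro i j
  change f.f i ≫ H0.hom i j = 0
  simp only [H0, Homotopy.trans_hom, Homotopy.ofEq_hom, Homotopy.compLeft_hom,
    Homotopy.compRight_hom, Pi.add_apply, Pi.zero_apply, zero_add, add_zero]
  rw [← Category.assoc, ← HomologicalComplex.comp_f, f_Qπ, HomologicalComplex.zero_f,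
    Limits.zero_comp]

/-- For a degreewise short exact sequence `A' → A → A''` with projective `A''_q` and `f` a
quasi-isomorphism, there is a chain map `h : A'' ⟶ A` such that `A = h(A'') ⊕ f(A')`. -/
theorem exists_section_bijective {A'' : ChainComplex (ModuleCat.{v} R) ℕ} (p : A ⟶ A'')
    [∀ q, Module.Projective R (A''.X q)]
    (hf : ∀ q, Function.Injective (f.f q).hom) (hp : ∀ q, Function.Surjective (p.f q).hom)
    (hfp : ∀ q, Function.Exact (f.f q).hom (p.f q).hom) [QuasiIso f] :
    ∃ h : A'' ⟶ A, ∀ q : ℕ,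
      Function.Bijective (fun x : A''.X q × A'.X q => (h.f q).hom x.1 + (f.f q).hom x.2) := by
  have hker : ∀ q, LinearMap.ker (p.f q).hom = LinearMap.range (f.f q).hom :=
    fun q => LinearMap.exact_iff.mp (hfp q)
  let P : ∀ q, ((A.X q) ⧸ LinearMap.range (f.f q).hom) ≃ₗ[R] A''.X q := fun q =>
    (Submodule.quotEquivOfEq _ _ (hker q).symm).trans
      ((p.f q).hom.quotKerEquivOfSurjective (hp q))
  have hP : ∀ q (a : A.X q), P q (Submodule.Quotient.mk a) = (p.f q).hom a := fun q a => rfl
  haveI key : ∀ q, Module.Projective R ((A.X q) ⧸ LinearMap.range (f.f q).hom) :=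
    fun q => Module.Projective.of_equiv (P q).symm
  obtain ⟨g, hg⟩ := exists_retraction f hf
  have hgf : ∀ q (x : A'.X q), (g.f q).hom ((f.f q).hom x) = x := by
    intro q x
    have := congrArg (fun ψ => (ψ.f q).hom x) hg
    exact this
  have hpf : ∀ q (x : A'.X q), (p.f q).hom ((f.f q).hom x) = 0 := by
    intro q x
    exact (hfp q _).mpr ⟨x, rfl⟩
  let E : ∀ q, A.X q →ₗ[R] A.X q := fun q => LinearMap.id - (f.f q).hom ∘ₗ (g.f q).hom
  have hE : ∀ q, LinearMap.range (f.f q).hom ≤ LinearMap.ker (E q) := by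
    rintro q _ ⟨x, rfl⟩
    simp [E, hgf]
  let hh : ∀ q, A''.X q →ₗ[R] A.X q := fun q =>
    (LinearMap.range (f.f q).hom).liftQ (E q) (hE q) ∘ₗ (P q).symm.toLinearMap
  have hhp : ∀ q (a : A.X q), hh q ((p.f q).hom a) = a - (f.f q).hom ((g.f q).hom a) := by
    intro q a
    rw [← hP]
    simp [hh, E]
  let h : A'' ⟶ A :=
    { f := fun q => ModuleCat.ofHom (hh q)
      comm' := by
        intro i j _
        apply ModuleCat.hom_ext
        ext x
        obtain ⟨a, rfl⟩ := hp i x
        change (A.d i j).hom (hh i ((p.f i).hom a)) = hh j ((A''.d i j).hom ((p.f i).hom a))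
        rw [f_comm_apply p i j a, hhp, hhp, map_sub, f_comm_apply f, f_comm_apply g] }
  have hph : ∀ q (x : A''.X q), (p.f q).hom (hh q x) = x := by
    intro q x
    obtain ⟨a, rfl⟩ := hp q x
    rw [hhp, map_sub, hpf, sub_zero]
  refine ⟨h, fun q => ⟨?_, ?_⟩⟩
  · rintro ⟨x, a'⟩ ⟨y, b'⟩ hxy
    change hh q x + (f.f q).hom a' = hh q y + (f.f q).hom b' at hxy
    have h1 := congrArg (p.f q).hom hxy
    simp only [map_add, hpf, hph, add_zero] at h1
    subst h1
    have h2 : (f.f q).hom a' = (f.f q).hom b' := add_left_cancel hxy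
    rw [hf q h2]
  · intro a
    refine ⟨((p.f q).hom a, (g.f q).hom a), ?_⟩
    change hh q ((p.f q).hom a) + (f.f q).hom ((g.f q).hom a) = a
    rw [hhp]
    abel

end

end Groth.Agent.H81
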