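import Mathlib
import Groth.Prelude.Def_W4c3biextchowCx

/-!
A chain homotopy between two chain maps induces a natural isomorphism between the functors they
induce on the groupoids attached to the complexes.
-/

set_option autoImplicit false

universe v u

namespace Groth.Agent.H81

open CategoryTheory W4c3biextchow

variable {R : Type u} [Ring R] {C D : ChainComplex (ModuleCat.{v} R) ℕ}

/-- Every morphism of the groupoid of a chain complex is an isomorphism. -/
def homIso {a b : Obj C} (φ : a ⟶ b) : a ≅ b where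
  hom := φ
  inv := ⟨-(φ : Hom C a b).cl, by rw [map_neg, (φ : Hom C a b).delta_cl]; abel⟩
  hom_inv_id := by
    apply Hom.ext
    rw [comp_cl, id_cl]
    exact add_neg_cancel _
  inv_hom_id := by
    apply Hom.ext
    rw [comp_cl, id_cl]
    exact neg_add_cancel _

lemma homotopy_comm_zero {φ ψ : C ⟶ D} (H : Homotopy φ ψ) (a : C.X 0) :
    (φ.f 0).hom a = (D.d 1 0).hom ((H.hom 0 1).hom a) + (ψ.f 0).hom a := by
  have h := H.comm 0
  rw [Homotopy.dNext_zero_chainComplex, Homotopy.prevD_chainComplex, zero_add] at h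
  have h2 := congrArg (fun χ => χ.hom a) h
  simpa only [ModuleCat.hom_add, ModuleCat.hom_comp, LinearMap.add_apply,
    LinearMap.comp_apply] using h2

lemma homotopy_comm_one {φ ψ : C ⟶ D} (H : Homotopy φ ψ) (x : C.X 1) :
    (φ.f 1).hom x = (H.hom 0 1).hom ((C.d 1 0).hom x) + (D.d 2 1).hom ((H.hom 1 2).hom x) +
      (ψ.f 1).hom x := by
  have h := H.comm 1
  rw [show (1 : ℕ) = 0 + 1 from rfl, Homotopy.dNext_succ_chainComplex, Homotopy.prevD_chainComplex] at h
  have h2 := congrArg (fun χ => χ.hom x) h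
  simpa only [ModuleCat.hom_add, ModuleCat.hom_comp, LinearMap.add_apply,
    LinearMap.comp_apply] using h2

/-- The component of the natural isomorphism attached to a homotopy. -/
def homOfHomotopy {φ ψ : C ⟶ D} (H : Homotopy φ ψ) (a : Obj C) :
    (cxFunctor φ).obj a ⟶ (cxFunctor ψ).obj a :=
  ⟨-Submodule.Quotient.mk ((H.hom 0 1).hom a.pt), by
    rw [map_neg, delta_mk, cxFunctor_obj_pt, cxFunctor_obj_pt, homotopy_comm_zero H a.pt]
    abel⟩

/-- A homotopy between chain maps induces a natural isomorphism of the attached functors. -/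
def natIsoOfHomotopy {φ ψ : C ⟶ D} (H : Homotopy φ ψ) : cxFunctor φ ≅ cxFunctor ψ :=
  NatIso.ofComponents (fun a => homIso (homOfHomotopy H a)) (by
    intro a b u
    apply Hom.ext
    change q1Map φ (u : Hom C a b).cl + -Submodule.Quotient.mk ((H.hom 0 1).hom b.pt) =
      -Submodule.Quotient.mk ((H.hom 0 1).hom a.pt) + q1Map ψ (u : Hom C a b).cl
    obtain ⟨x, hx⟩ := Submodule.Quotient.mk_surjective _ (u : Hom C a b).cl
    have hdx : (C.d 1 0).hom x = b.pt - a.pt := by
      rw [← delta_mk, hx]; exact (u : Hom C a b).delta_cl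
    rw [← hx, q1Map_mk, q1Map_mk, ← sub_eq_zero]
    have : (Submodule.Quotient.mk ((φ.f 1).hom x) +
        -Submodule.Quotient.mk ((H.hom 0 1).hom b.pt) -
        (-Submodule.Quotient.mk ((H.hom 0 1).hom a.pt) + Submodule.Quotient.mk ((ψ.f 1).hom x)) :
          Q1 D) = Submodule.Quotient.mk ((D.d 2 1).hom ((H.hom 1 2).hom x)) := by
      rw [homotopy_comm_one H x, hdx, map_sub]
      simp only [Submodule.Quotient.mk_add, Submodule.Quotient.mk_sub]
      abel
    rw [this, Submodule.Quotient.mk_eq_zero]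
    exact ⟨_, rfl⟩)

@[simp] lemma natIsoOfHomotopy_hom_app_cl {φ ψ : C ⟶ D} (H : Homotopy φ ψ) (a : Obj C) :
    ((natIsoOfHomotopy H).hom.app a : Hom D _ _).cl =
      -Submodule.Quotient.mk ((H.hom 0 1).hom a.pt) := rfl

end Groth.Agent.H81
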