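import Mathlib
import Groth.Agent.H98.Bass0.StarLocalSoc2
import Groth.Agent.H98.GrStar.HomComp

/-!
# Homogeneous isomorphisms over a *local ring from local data  (helper81)

* `exists_bijective_of_sum_bijective`: over a local ring `A`, if `K ≅ K'`, `A → End K` is bijective
  and a finite sum of maps `K → K'` is bijective, then one of the summands is bijective.
* `bijective_of_localized`: over a *local graded ring `(R, m)`, a homogeneous map (of some degree)
  of graded modules whose localization at `m` is bijective is bijective.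
* `exists_eq_sum_comp`: a linear map out of a finitely generated graded module is a finite sum of
  its homogeneous components.
* `exists_homogeneous_equiv`: if `C`, `C'` are finite graded modules over a Noetherian *local ring
  with `C_m ≅ C'_m` and `R_m → End(C_m)` bijective then there is a homogeneous isomorphism
  `C ≅ C'` of some degree.
-/

set_option autoImplicit false
set_option linter.unusedSectionVars false
set_option linter.style.haveILetI false

namespace Groth.Agent.H81.GrCanonUnique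

universe u v

section Local

variable {A : Type u} [CommRing A] [IsLocalRing A] {K K' : Type v} [AddCommGroup K] [Module A K]
  [AddCommGroup K'] [Module A K']

theorem isUnit_of_bijective_smul_id
    (hend : Function.Bijective (fun r : A => r • (LinearMap.id : K →ₗ[A] K))) (ρ : A)
    (hρ : Function.Bijective (ρ • (LinearMap.id : K →ₗ[A] K))) : IsUnit ρ := by
  let e := LinearEquiv.ofBijective (ρ • (LinearMap.id : K →ₗ[A] K)) hρ
  obtain ⟨ρ', hρ'⟩ := hend.2 e.symm.toLinearMap
  have h1 : (ρ * ρ') • (LinearMap.id : K →ₗ[A] K) = (1 : A) • LinearMap.id := by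
    apply LinearMap.ext
    intro x
    have h2 : ρ' • x = e.symm x := by
      have := LinearMap.congr_fun hρ' x
      simpa using this
    rw [LinearMap.smul_apply, LinearMap.smul_apply, LinearMap.id_apply, one_smul, mul_smul, h2]
    exact e.apply_symm_apply x
  have h3 : ρ * ρ' = 1 := hend.1 h1
  exact IsUnit.of_mul_eq_one _ h3

theorem exists_bijective_of_sum_bijective (ψ : K ≃ₗ[A] K')
    (hend : Function.Bijective (fun r : A => r • (LinearMap.id : K →ₗ[A] K)))
    {D : Type*} (s : Finset D) (θ : D → K →ₗ[A] K') (Θ : K →ₗ[A] K')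
    (hΘ : Θ = ∑ d ∈ s, θ d) (hsum : Function.Bijective Θ) :
    ∃ d ∈ s, Function.Bijective (θ d) := by
  classical
  subst hΘ
  have hr : ∀ d, ∃ r : A, r • (LinearMap.id : K →ₗ[A] K) = ψ.symm.toLinearMap ∘ₗ θ d :=
    fun d => hend.2 _
  choose r hr using hr
  have hθ : ∀ d x, θ d x = ψ (r d • x) := by
    intro d x
    have := LinearMap.congr_fun (hr d) x
    simp only [LinearMap.smul_apply, LinearMap.id_apply, LinearMap.comp_apply,
      LinearEquiv.coe_coe] at this
    rw [this, LinearEquiv.apply_symm_apply]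
  have hsum' : ∀ x, (∑ d ∈ s, θ d) x = ψ ((∑ d ∈ s, r d) • x) := by
    intro x
    rw [LinearMap.sum_apply, Finset.sum_smul, map_sum]
    exact Finset.sum_congr rfl fun d _ => hθ d x
  have hρ : Function.Bijective ((∑ d ∈ s, r d) • (LinearMap.id : K →ₗ[A] K)) := by
    have : ⇑((∑ d ∈ s, r d) • (LinearMap.id : K →ₗ[A] K)) = ψ.symm ∘ ⇑(∑ d ∈ s, θ d) := by
      funext x
      simp only [Function.comp_apply, hsum' x, LinearEquiv.symm_apply_apply, LinearMap.smul_apply,
        LinearMap.id_apply]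
    rw [this]
    exact ψ.symm.bijective.comp hsum
  have hunit := isUnit_of_bijective_smul_id hend _ hρ
  by_contra hcon
  push Not at hcon
  have hmem : ∀ d ∈ s, r d ∈ IsLocalRing.maximalIdeal A := by
    intro d hd
    rw [IsLocalRing.mem_maximalIdeal, mem_nonunits_iff]
    intro hu
    apply hcon d hd
    have : ⇑(θ d) = ψ ∘ (fun x => r d • x) := by
      funext x
      exact hθ d x
    rw [this]
    refine ψ.bijective.comp ?_
    obtain ⟨u, hu⟩ := hu
    refine ⟨fun x y hxy => ?_, fun y => ⟨(↑u⁻¹ : A) • y, ?_⟩⟩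
    · have h1 : (↑u⁻¹ : A) • (r d • x) = (↑u⁻¹ : A) • (r d • y) := congrArg _ hxy
      rwa [← mul_smul, ← mul_smul, ← hu, Units.inv_mul, one_smul, one_smul] at h1
    · show r d • ((↑u⁻¹ : A) • y) = y
      rw [← mul_smul, ← hu, Units.mul_inv, one_smul]
  have : ∑ d ∈ s, r d ∈ IsLocalRing.maximalIdeal A := Ideal.sum_mem _ hmem
  rw [IsLocalRing.mem_maximalIdeal, mem_nonunits_iff] at this
  exact this hunit

end Local

section Graded

open Groth.Agent.H98.GrStar Groth.Agent.H98.Bass0

variable {ι : Type} [AddCommGroup ι] [DecidableEq ι]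
variable {R : Type u} [CommRing R] [IsNoetherianRing R] (𝒜 : ι → AddSubgroup R) [GradedRing 𝒜]
variable {m : HomogeneousIdeal 𝒜} (hm : GrLC.IsStarLocal 𝒜 m)
variable {C : Type u} [AddCommGroup C] [Module R C] (𝒞 : ι → AddSubgroup C)
  [DirectSum.Decomposition 𝒞] [SetLike.GradedSMul 𝒜 𝒞]
variable {C' : Type u} [AddCommGroup C'] [Module R C'] (𝒞' : ι → AddSubgroup C')
  [DirectSum.Decomposition 𝒞'] [SetLike.GradedSMul 𝒜 𝒞']

include hm in
/-- over a *local ring, a homogeneous element with a multiple by an element outside `m` in a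
homogeneous submodule `P` lies in `P` -/
theorem mem_of_smul_mem (P : Submodule R C) (hP : P.IsHomogeneous 𝒞) {j : ι} {y : C}
    (hy : y ∈ 𝒞 j) {s : R} (hs : s ∉ m.toIdeal) (hsy : s • y ∈ P) : y ∈ P := by
  let J : Ideal R := Submodule.comap (LinearMap.toSpanSingleton R C y) P
  have hJmem : ∀ r : R, r ∈ J ↔ r • y ∈ P := fun r => Iff.rfl
  have hJ : J.IsHomogeneous 𝒜 := by
    intro e r hr
    rw [hJmem] at hr ⊢
    rw [← decompose_smul_of_mem 𝒜 𝒞 hy r e]
    exact hP (e + j) hr
  have htop : J = ⊤ := by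
    by_contra hne
    exact hs (le_of_isStarLocal 𝒜 hm J hJ hne ((hJmem s).mpr hsy))
  have h1 : (1 : R) ∈ J := by rw [htop]; trivial
  have := (hJmem 1).mp h1
  rwa [one_smul] at this

omit [IsNoetherianRing R] [SetLike.GradedSMul 𝒜 𝒞] [SetLike.GradedSMul 𝒜 𝒞'] in
theorem decompose_grHomDeg (Φ : C →ₗ[R] C') (d : ι) (hΦ : GrLC.IsGrHomDeg 𝒞 𝒞' Φ d) (x : C)
    (i : ι) : (DirectSum.decompose 𝒞' (Φ x) (d + i) : C') = Φ (DirectSum.decompose 𝒞 x i : C) :=
  decompose_map_shift 𝒞 𝒞' Φ.toAddMonoidHom d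
    (fun i x hx => by
      have := hΦ i x hx
      rwa [add_comm] at this) x i

omit [IsNoetherianRing R] [SetLike.GradedSMul 𝒜 𝒞] [SetLike.GradedSMul 𝒜 𝒞'] in
theorem ker_isHomogeneous_deg (Φ : C →ₗ[R] C') (d : ι) (hΦ : GrLC.IsGrHomDeg 𝒞 𝒞' Φ d) :
    (LinearMap.ker Φ).IsHomogeneous 𝒞 := by
  intro i x hx
  rw [LinearMap.mem_ker] at hx ⊢
  rw [← decompose_grHomDeg 𝒞 𝒞' Φ d hΦ x i, hx]
  simp

omit [IsNoetherianRing R] [SetLike.GradedSMul 𝒜 𝒞] [SetLike.GradedSMul 𝒜 𝒞'] in
theorem range_isHomogeneous_deg (Φ : C →ₗ[R] C') (d : ι) (hΦ : GrLC.IsGrHomDeg 𝒞 𝒞' Φ d) :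
    (LinearMap.range Φ).IsHomogeneous 𝒞' := by
  rintro k _ ⟨x, rfl⟩
  have := decompose_grHomDeg 𝒞 𝒞' Φ d hΦ x (k - d)
  rw [add_sub_cancel] at this
  rw [this]
  exact ⟨_, rfl⟩

variable [hp : m.toIdeal.IsPrime]

include hm in
theorem injective_of_localized (Φ : C →ₗ[R] C') (d : ι) (hΦ : GrLC.IsGrHomDeg 𝒞 𝒞' Φ d)
    (hinj : Function.Injective (LocalizedModule.map m.toIdeal.primeCompl Φ)) :
    Function.Injective Φ := by
  rw [← LinearMap.ker_eq_bot, Submodule.eq_bot_iff]
  intro x hx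
  apply eq_zero_of_decompose_eq_zero 𝒞
  intro i
  have hxi : (DirectSum.decompose 𝒞 x i : C) ∈ LinearMap.ker Φ :=
    ker_isHomogeneous_deg 𝒞 𝒞' Φ d hΦ i hx
  rw [LinearMap.mem_ker] at hxi
  have h0 : LocalizedModule.mk (DirectSum.decompose 𝒞 x i : C) (1 : m.toIdeal.primeCompl) = 0 := by
    apply hinj
    rw [LocalizedModule.map_mk, hxi, LocalizedModule.zero_mk, map_zero]
  rw [← LocalizedModule.mkLinearMap_apply,
    IsLocalizedModule.eq_zero_iff m.toIdeal.primeCompl] at h0
  obtain ⟨s, hs⟩ := h0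
  have hbot : (⊥ : Submodule R C).IsHomogeneous 𝒞 := by
    intro i x hx
    rw [Submodule.mem_bot] at hx ⊢
    rw [hx]
    simp
  have := mem_of_smul_mem 𝒜 hm 𝒞 ⊥ hbot (SetLike.coe_mem _) s.2
    (by rw [Submodule.mem_bot]; exact hs)
  exact (Submodule.mem_bot R).mp this

include hm in
theorem surjective_of_localized (Φ : C →ₗ[R] C') (d : ι) (hΦ : GrLC.IsGrHomDeg 𝒞 𝒞' Φ d)
    (hsurj : Function.Surjective (LocalizedModule.map m.toIdeal.primeCompl Φ)) :
    Function.Surjective Φ := by
  classical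
  rw [← LinearMap.range_eq_top, eq_top_iff]
  intro y _
  rw [← DirectSum.sum_support_decompose 𝒞' y]
  refine Submodule.sum_mem _ fun j _ => ?_
  obtain ⟨z, hz⟩ := hsurj (LocalizedModule.mk (DirectSum.decompose 𝒞' y j : C') 1)
  induction z using LocalizedModule.induction_on with
  | h x s =>
    rw [LocalizedModule.map_mk, LocalizedModule.mk_eq] at hz
    obtain ⟨u, hu⟩ := hz
    refine mem_of_smul_mem 𝒜 hm 𝒞' _ (range_isHomogeneous_deg 𝒞 𝒞' Φ d hΦ) (SetLike.coe_mem _)
      (u * s).2 ?_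
    refine ⟨(u : R) • x, ?_⟩
    rw [map_smul]
    rw [one_smul] at hu
    show (u : R) • Φ x = ((u * s : m.toIdeal.primeCompl) : R) • _
    rw [Submonoid.coe_mul, mul_smul]
    exact hu

include hm in
theorem bijective_of_localized (Φ : C →ₗ[R] C') (d : ι) (hΦ : GrLC.IsGrHomDeg 𝒞 𝒞' Φ d)
    (hbij : Function.Bijective (LocalizedModule.map m.toIdeal.primeCompl Φ)) :
    Function.Bijective Φ :=
  ⟨injective_of_localized 𝒜 hm 𝒞 𝒞' Φ d hΦ hbij.1,
    surjective_of_localized 𝒜 hm 𝒞 𝒞' Φ d hΦ hbij.2⟩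

omit [IsNoetherianRing R] hp in
/-- a linear map out of a finitely generated graded module is a finite sum of homogeneous
components -/
theorem exists_eq_sum_comp [Module.Finite R C] (φ : C →ₗ[R] C') :
    ∃ D : Finset ι, φ = ∑ d ∈ D, comp 𝒜 𝒞 𝒞' φ d := by
  classical
  obtain ⟨T, hT, hspan⟩ := exists_homogeneous_generators (R := R) 𝒞
  let D : Finset ι := T.biUnion (fun t =>
    (DirectSum.decompose 𝒞' (φ t.2)).support.image (fun j => j - t.1))
  refine ⟨D, ?_⟩
  apply LinearMap.ext_on hspan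
  rintro _ ⟨t, ht, rfl⟩
  rw [LinearMap.sum_apply]
  symm
  apply sum_comp_of_mem 𝒜 𝒞 𝒞' φ (hT t ht) D
  intro j hj
  refine Finset.mem_biUnion.mpr ⟨t, ht, Finset.mem_image.mpr ⟨j, ?_, rfl⟩⟩
  rw [DFinsupp.mem_support_iff]
  intro h0
  apply hj
  rw [gproj_apply, h0]
  rfl

include hm in
/-- **Homogeneous isomorphism from local data.**  Over a Noetherian *local ring `(R, m)`, finite
graded modules `C`, `C'` with `C_m ≅ C'_m` and `R_m → End(C_m)` bijective are isomorphic by a
homogeneous isomorphism of some degree. -/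
theorem exists_homogeneous_equiv [Module.Finite R C]
    (ψ : LocalizedModule m.toIdeal.primeCompl C ≃ₗ[Localization.AtPrime m.toIdeal]
      LocalizedModule m.toIdeal.primeCompl C')
    (hend : Function.Bijective (fun r : Localization.AtPrime m.toIdeal => r • (LinearMap.id :
      LocalizedModule m.toIdeal.primeCompl C →ₗ[Localization.AtPrime m.toIdeal]
        LocalizedModule m.toIdeal.primeCompl C))) :
    ∃ (g : ι) (φ : C ≃ₗ[R] C'), GrLC.IsGrHomDeg 𝒞 𝒞' φ.toLinearMap g := by
  classical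
  haveI : Module.FinitePresentation R C := Module.finitePresentation_of_finite R C
  let ψR : LocalizedModule m.toIdeal.primeCompl C →ₗ[R] LocalizedModule m.toIdeal.primeCompl C' :=
    LinearMap.restrictScalars R ψ.toLinearMap
  have hψR : ∀ x, ψR x = ψ x := fun _ => rfl
  obtain ⟨φ, s, hφ⟩ := Module.FinitePresentation.exists_lift_of_isLocalizedModule
    m.toIdeal.primeCompl (LocalizedModule.mkLinearMap m.toIdeal.primeCompl C')
    (ψR ∘ₗ LocalizedModule.mkLinearMap m.toIdeal.primeCompl C)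
  obtain ⟨D, hD⟩ := exists_eq_sum_comp 𝒜 𝒞 𝒞' φ
  -- the localized map is `s • ψ`
  have hmap : (LocalizedModule.map m.toIdeal.primeCompl φ).restrictScalars R = (s : R) • ψR := by
    apply IsLocalizedModule.ext m.toIdeal.primeCompl
      (LocalizedModule.mkLinearMap m.toIdeal.primeCompl C)
      (IsLocalizedModule.map_units (LocalizedModule.mkLinearMap m.toIdeal.primeCompl C'))
    apply LinearMap.ext
    intro c
    have h1 := LinearMap.congr_fun hφ c
    simp only [LinearMap.comp_apply, LinearMap.smul_apply, LocalizedModule.mkLinearMap_apply]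
      at h1 ⊢
    rw [LinearMap.restrictScalars_apply, LocalizedModule.map_mk, h1]
    rfl
  let θ : ι → LocalizedModule m.toIdeal.primeCompl C →ₗ[Localization.AtPrime m.toIdeal]
      LocalizedModule m.toIdeal.primeCompl C' := fun d =>
    LocalizedModule.map m.toIdeal.primeCompl (comp 𝒜 𝒞 𝒞' φ d)
  let Θ : LocalizedModule m.toIdeal.primeCompl C →ₗ[Localization.AtPrime m.toIdeal]
      LocalizedModule m.toIdeal.primeCompl C' :=
    LocalizedModule.map m.toIdeal.primeCompl φ
  have hΘ : Θ = ∑ d ∈ D, θ d := by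
    show LocalizedModule.map m.toIdeal.primeCompl φ =
      ∑ d ∈ D, LocalizedModule.map m.toIdeal.primeCompl (comp 𝒜 𝒞 𝒞' φ d)
    conv_lhs => rw [hD]
    rw [map_sum]
  have hbij : Function.Bijective Θ := by
    have hfun : ⇑Θ = (fun y => (s : R) • y) ∘ ⇑ψ := by
      funext x
      have := LinearMap.congr_fun hmap x
      rw [LinearMap.restrictScalars_apply, LinearMap.smul_apply, hψR] at this
      exact this
    rw [hfun]
    refine Function.Bijective.comp ?_ ψ.bijective
    have hu := IsLocalizedModule.map_units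
      (LocalizedModule.mkLinearMap m.toIdeal.primeCompl C') s
    exact (Module.End.isUnit_iff _).mp hu
  obtain ⟨d, -, hd⟩ := exists_bijective_of_sum_bijective ψ hend D θ Θ hΘ hbij
  have hcomp : GrLC.IsGrHomDeg 𝒞 𝒞' (comp 𝒜 𝒞 𝒞' φ d) d :=
    fun i x hx => comp_mem 𝒜 𝒞 𝒞' φ d hx
  have hb := bijective_of_localized 𝒜 hm 𝒞 𝒞' (comp 𝒜 𝒞 𝒞' φ d) d hcomp hd
  exact ⟨d, LinearEquiv.ofBijective _ hb, hcomp⟩

end Graded

end Groth.Agent.H81.GrCanonUnique
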