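import Mathlib
import Groth.Agent.H85.GradedAss
import Groth.Agent.H85.GrLCBridge
import Groth.Agent.H98.GrPieces
import Groth.Agent.H98.Canon.TopDeg
import Groth.Agent.H72.DepthLocIneq
import Groth.Agent.H81.GrCanonUnique

/-!
# Pieces of graded modules of depth `≥ 2` over standard graded rings  (helper81)

`R = ⊕_{n ≥ 0} R_n` Noetherian, `R_0` a field, `m = R_+ = (R_1)`, `C` a finite graded module with
`depth C_m ≥ 2`.  Then `dim_k C_j ≥ 2` for every `j` above a degree in which `C` is nonzero.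
-/

set_option autoImplicit false
set_option linter.unusedSectionVars false
set_option linter.style.haveILetI false

namespace Groth.Agent.H81.CanonPieces

universe u

open Groth.Agent.H85.GrLCBridge Groth.Agent.H85.GradedNN

variable {R : Type u} [CommRing R] [IsNoetherianRing R] (𝒜 : ℤ → AddSubgroup R) [GradedRing 𝒜]
  (hpos : ∀ n : ℤ, n < 0 → 𝒜 n = ⊥) (h0 : IsField (GrLC.deg0 𝒜))
  (m : HomogeneousIdeal 𝒜)
  (hmsp : m.toIdeal = Ideal.span (⋃ n ∈ Set.Ioi (0 : ℤ), (𝒜 n : Set R)))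
  (hgen : m.toIdeal = Ideal.span ((𝒜 1 : AddSubgroup R) : Set R))
variable {C : Type u} [AddCommGroup C] [Module R C] (𝒞 : ℤ → AddSubgroup C)
  [DirectSum.Decomposition 𝒞] [SetLike.GradedSMul 𝒜 𝒞]

instance subGradedSMul : SetLike.GradedSMul (sub 𝒜) 𝒞 where
  smul_mem := fun {_ _ _ _} ha hb => SetLike.GradedSMul.smul_mem (A := 𝒜) (B := 𝒞) ha hb

include hpos h0 hmsp hgen in
/-- a nonzero homogeneous element whose annihilator contains `R_1` up to multiples of one element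
cannot exist when `depth C_m ≥ 2`. -/
theorem false_of_principal [Module.Finite R C] [hmp : m.toIdeal.IsPrime]
    (hdepth : (2 : ℕ∞) ≤ LocCoh.depth (Localization.AtPrime m.toIdeal)
      (LocalizedModule m.toIdeal.primeCompl C))
    {d : ℤ} {η : C} (hη : η ∈ 𝒞 d) (hη0 : η ≠ 0) (x : R) (hx : x ∈ m.toIdeal)
    (hy : ∀ y ∈ 𝒜 1, ∃ c : R, (y - c * x) • η = 0) : False := by
  letI : Field (GrLC.deg0 𝒜) := h0.toField
  obtain ⟨q, hq, hqhom, hle⟩ :=
    exists_homogeneous_isAssociatedPrime (k := GrLC.deg0 𝒜) (sub 𝒜) 𝒞 hη hη0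
  haveI hqp : q.IsPrime := hq.isPrime
  have hqhom' : q.IsHomogeneous 𝒜 := fun i _ hr => hqhom i hr
  have hqm : q ≤ m.toIdeal := by
    rw [hmsp]
    exact le_irrI 𝒜 hpos h0 q hqhom' hqp.ne_top
  have h1 := Groth.Agent.H72.DepthLocIneq.depth_localization_le_height_of_mem_associatedPrimes
    C q m.toIdeal hqm hq
  have hmap : m.toIdeal.map (Ideal.Quotient.mk q) ≤ Ideal.span {Ideal.Quotient.mk q x} := by
    rw [hgen, Ideal.map_span, Ideal.span_le]
    rintro _ ⟨y, hy1, rfl⟩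
    obtain ⟨c, hc⟩ := hy y hy1
    have hmem : y - c * x ∈ q := by
      apply hle
      rw [Submodule.mem_colon_singleton, Submodule.mem_bot]
      exact hc
    have : Ideal.Quotient.mk q y = Ideal.Quotient.mk q c * Ideal.Quotient.mk q x := by
      rw [← map_mul, Ideal.Quotient.eq]
      exact hmem
    rw [this]
    exact Ideal.mul_mem_left _ _ (Ideal.subset_span rfl)
  have hnu : ¬ IsUnit (Ideal.Quotient.mk q x) := by
    intro hu
    have htop : m.toIdeal.map (Ideal.Quotient.mk q) = ⊤ :=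
      Ideal.eq_top_of_isUnit_mem _ (Ideal.mem_map_of_mem _ hx) hu
    have : m.toIdeal = ⊤ := by
      rw [← Ideal.comap_map_mk hqm, htop, Ideal.comap_top]
    exact hmp.ne_top this
  have h2 : (Ideal.span {Ideal.Quotient.mk q x}).height ≤ 1 :=
    Ideal.height_span_singleton_le_one hnu
  have h3 := hdepth.trans (h1.trans ((Ideal.height_mono hmap).trans h2))
  exact absurd h3 (by norm_num)

section Exists

open Groth.Agent.H98.GrStar Groth.Agent.H98.Canon

variable {E' : Type u} [AddCommGroup E'] [Module R E'] (𝓔 : ℤ → AddSubgroup E')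
  [DirectSum.Decomposition 𝓔] [SetLike.GradedSMul 𝒜 𝓔]
  (e : (R ⧸ m.toIdeal) →ₗ[R] E')

omit [IsNoetherianRing R] in
/-- the top graded piece of the end: `endDeg = a` implies the piece of degree `a` is nonzero -/
theorem ne_bot_of_endDeg_eq {G : Type u} [AddCommGroup G] (𝒢 : ℤ → AddSubgroup G) (a : ℤ)
    (ha : GrLC.endDeg 𝒢 = ((a : WithTop ℤ) : WithBot (WithTop ℤ))) : 𝒢 a ≠ ⊥ := by
  intro hbot
  have h1 : GrLC.endDeg 𝒢 ≤ (((a - 1 : ℤ) : WithTop ℤ) : WithBot (WithTop ℤ)) := by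
    apply endDeg_le_of_forall
    intro k hk
    by_contra hne
    have h2 := le_endDeg 𝒢 k hne
    rw [ha, WithBot.coe_le_coe, WithTop.coe_le_coe] at h2
    have : k = a := by omega
    exact hne (this ▸ hbot)
  rw [ha, WithBot.coe_le_coe, WithTop.coe_le_coe] at h1
  omega

include hpos hmsp in
/-- if `Hom_R(C, *E(R/m)) ≅ *H^n_m(R)` homogeneously and `*H^n_m(R)_a ≠ 0` then `C` is nonzero in
some degree `≤ -a`. -/
theorem exists_piece_ne_bot [Module.Finite R C]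
    (he : GrLC.IsStarEss (GrLC.quotGr 𝒜 m) 𝓔 e) (n : ℕ) (I : GrLC.StarInjRes 𝒜 𝒜)
    (φ : (C →ₗ[R] E') ≃ₗ[R] I.H m n)
    (hφ : GrLC.IsGrHom (fun d => (GrLC.homDeg 𝒜 𝒞 𝓔 d).toAddSubgroup) (I.Hgr m n) φ.toLinearMap)
    (a : ℤ) (ha : I.Hgr m n a ≠ ⊥) : ∃ l : ℤ, l ≤ -a ∧ 𝒞 l ≠ ⊥ := by
  classical
  by_contra hcon
  push Not at hcon
  apply ha
  rw [AddSubgroup.eq_bot_iff_forall]
  intro z hz
  letI : DirectSum.Decomposition (I.Hgr m n) := (Hgr_isInternal 𝒜 𝒜 I m n).chooseDecomposition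
  have hpos' : ∀ k : ℤ, k < 0 → ∀ r ∈ 𝒜 k, r = 0 := by
    intro k hk r hr
    rw [hpos k hk] at hr
    exact AddSubgroup.mem_bot.mp hr
  obtain ⟨D, hD⟩ := Groth.Agent.H81.GrCanonUnique.exists_eq_sum_comp 𝒜 𝒞 𝓔 (φ.symm z)
  -- the degree `a` component vanishes
  have hcomp : comp 𝒜 𝒞 𝓔 (φ.symm z) a = 0 := by
    apply LinearMap.ext
    intro c
    rw [← DirectSum.sum_support_decompose 𝒞 c, map_sum, LinearMap.zero_apply]
    refine Finset.sum_eq_zero fun i _ => ?_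
    by_cases hi : i ≤ -a
    · have h1 : ∀ w ∈ 𝒞 i, w = 0 := by
        intro w hw
        rw [hcon i hi] at hw
        exact AddSubgroup.mem_bot.mp hw
      rw [h1 _ (SetLike.coe_mem _), map_zero]
    · exact hull_eq_zero_of_pos 𝒜 hpos' hmsp 𝓔 e he (i + a) (by omega) _
        (comp_mem 𝒜 𝒞 𝓔 (φ.symm z) a (SetLike.coe_mem _))
  have hz' : z = ∑ d ∈ D, φ (comp 𝒜 𝒞 𝓔 (φ.symm z) d) := by
    rw [← map_sum, ← hD, LinearEquiv.apply_symm_apply]
  have hmem : ∀ d, φ (comp 𝒜 𝒞 𝓔 (φ.symm z) d) ∈ I.Hgr m n d := by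
    intro d
    apply hφ d
    intro i x hx
    exact comp_mem 𝒜 𝒞 𝓔 (φ.symm z) d hx
  have h1 : z = ((DirectSum.decompose (I.Hgr m n) z a : I.Hgr m n a) : I.H m n) :=
    (DirectSum.decompose_of_mem_same (I.Hgr m n) hz).symm
  rw [h1, hz', DirectSum.decompose_sum, DFinsupp.finsetSum_apply, AddSubgroup.val_finsetSum]
  refine Finset.sum_eq_zero fun d _ => ?_
  by_cases hda : d = a
  · rw [hda, hcomp, map_zero, DirectSum.decompose_zero]
    rfl
  · exact DirectSum.decompose_of_mem_ne (I.Hgr m n) (hmem d) hda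

end Exists

section Main

include hpos h0 in
/-- pieces of a finite graded module are finite-dimensional over `R_0` -/
theorem finite_comp [Module.Finite R C] (j : ℤ) :
    letI : Field (GrLC.deg0 𝒜) := h0.toField
    Module.Finite (GrLC.deg0 𝒜) (GrLC.comp 𝒜 𝒞 j) := by
  letI : Field (GrLC.deg0 𝒜) := h0.toField
  exact Groth.Agent.H98.finite_pieceSub (k := GrLC.deg0 𝒜) (sub 𝒜) 𝒞 (sub_neg 𝒜 hpos) (Groth.Agent.H85.GrLCBridge.sub_zero 𝒜) j

include hpos h0 hmsp hgen in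
/-- **Pieces above a nonzero degree have dimension at least two** when `depth C_m ≥ 2` and
`m = (R_1)`. -/
theorem two_le_finrank [Module.Finite R C] [hmp : m.toIdeal.IsPrime]
    (hdepth : (2 : ℕ∞) ≤ LocCoh.depth (Localization.AtPrime m.toIdeal)
      (LocalizedModule m.toIdeal.primeCompl C))
    (l₀ j : ℤ) (hl₀j : l₀ < j) (hl₀ : 𝒞 l₀ ≠ ⊥) :
    2 ≤ Module.finrank (GrLC.deg0 𝒜) (GrLC.comp 𝒜 𝒞 j) := by
  classical
  letI : Field (GrLC.deg0 𝒜) := h0.toField
  haveI hfin : Module.Finite (GrLC.deg0 𝒜) (GrLC.comp 𝒜 𝒞 j) := finite_comp 𝒜 hpos h0 𝒞 j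
  by_contra hlt
  have hle : Module.finrank (GrLC.deg0 𝒜) (GrLC.comp 𝒜 𝒞 j) ≤ 1 := by omega
  rw [finrank_le_one_iff] at hle
  obtain ⟨v, hv⟩ := hle
  obtain ⟨l, ⟨hlj, hl⟩, hmax⟩ := Int.exists_greatest_of_bdd (P := fun l => l < j ∧ 𝒞 l ≠ ⊥)
    ⟨j, fun z hz => hz.1.le⟩ ⟨l₀, hl₀j, hl₀⟩
  obtain ⟨ζ, hζ, hζ0⟩ : ∃ ζ ∈ 𝒞 l, ζ ≠ 0 := by
    by_contra hcon
    push Not at hcon
    exact hl ((AddSubgroup.eq_bot_iff_forall _).mpr hcon)
  have hmem : ∀ y ∈ 𝒜 1, y • ζ ∈ 𝒞 (1 + l) := by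
    intro y hy
    have := SetLike.GradedSMul.smul_mem (A := 𝒜) (B := 𝒞) hy hζ
    rwa [vadd_eq_add] at this
  by_cases hall : ∀ y ∈ 𝒜 1, y • ζ = 0
  · refine false_of_principal 𝒜 hpos h0 m hmsp hgen 𝒞 hdepth hζ hζ0 0 (zero_mem _) ?_
    intro y hy
    exact ⟨0, by rw [zero_mul, _root_.sub_zero]; exact hall y hy⟩
  · push Not at hall
    obtain ⟨x, hx1, hxζ⟩ := hall
    have hl1 : 1 + l = j := by
      by_contra hne
      have hlt' : 1 + l < j := by omega
      have hbot : 𝒞 (1 + l) = ⊥ := by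
        by_contra hnb
        have := hmax (1 + l) ⟨hlt', hnb⟩
        omega
      apply hxζ
      have := hmem x hx1
      rw [hbot] at this
      exact AddSubgroup.mem_bot.mp this
    have hηj : x • ζ ∈ 𝒞 j := hl1 ▸ hmem x hx1
    have hspan : ∀ w ∈ 𝒞 j, ∃ c : GrLC.deg0 𝒜, w = (c : R) • (x • ζ) := by
      obtain ⟨c₀, hc₀⟩ := hv ⟨x • ζ, hηj⟩
      have hc₀' : (c₀ : R) • (v : C) = x • ζ := congrArg Subtype.val hc₀
      have hc₀ne : c₀ ≠ 0 := by
        rintro rfl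
        apply hxζ
        rw [← hc₀']
        simp
      intro w hw
      obtain ⟨c, hc⟩ := hv ⟨w, hw⟩
      have hc' : (c : R) • (v : C) = w := congrArg Subtype.val hc
      refine ⟨c * c₀⁻¹, ?_⟩
      rw [← hc₀', ← hc', smul_smul]
      congr 1
      have : (c * c₀⁻¹) * c₀ = c := by
        rw [mul_assoc, inv_mul_cancel₀ hc₀ne, mul_one]
      exact_mod_cast (congrArg Subtype.val this).symm
    have hxm : x ∈ m.toIdeal := by
      rw [hgen]
      exact Ideal.subset_span hx1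
    refine false_of_principal 𝒜 hpos h0 m hmsp hgen 𝒞 hdepth hηj hxζ x hxm ?_
    intro y hy1
    obtain ⟨c, hc⟩ := hspan (y • ζ) (hl1 ▸ hmem y hy1)
    refine ⟨c, ?_⟩
    rw [sub_smul, mul_smul, smul_comm y x ζ, hc, smul_comm x (c : R) (x • ζ), sub_self]

end Main

end Groth.Agent.H81.CanonPieces
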