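import Mathlib
import Groth.Agent.H2.CanonModule
import Groth.Agent.H81.ExtHomLC
import Groth.Agent.H98.Bass1.ShiftChain

/-!
# Type of a canonical module and of the ring  (helper81)

`A` Noetherian local of dimension `d` with `H^i_m(A) = 0` for `i < d` (Cohen–Macaulay), `E` an
injective hull of the residue field `κ`, `K` a finite module with `Hom(K, E) ≃ H^d_m(A)`.
* `length_ext_residue_K`: `Ext^d(κ, K)` has length `1` (the type of `K` is `1`);
* `length_ext_residue_self`: `Ext^d(κ, A)` has length `dim_κ (κ ⊗ K)` (the type of `A` is `ν(K)`).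
-/

set_option autoImplicit false
set_option maxHeartbeats 400000
set_option linter.unusedSectionVars false
set_option linter.style.haveILetI false

namespace Groth.Agent.H81.CanonType

universe u

open CategoryTheory Abelian IsLocalRing TensorProduct Groth.Agent.H58.LC
  Groth.Agent.H2.CanonModule Groth.Agent.H2.LCExtVanish

variable {A : Type u} [CommRing A] [IsNoetherianRing A] [IsLocalRing A] {d : ℕ}
variable {E : Type u} [AddCommGroup E] [Module A E]
  (f : ResidueField A →ₗ[A] E) (hf : InjHull.IsInjectiveHull f)
variable {K : Type u} [AddCommGroup K] [Module A K]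

/-- the residue field is `m`-torsion -/
theorem isTors_residue : IsTors (maximalIdeal A) (ModuleCat.of A (ResidueField A)) := by
  intro x
  refine ⟨1, fun a ha => ?_⟩
  rw [pow_one] at ha
  obtain ⟨r, rfl⟩ := Ideal.Quotient.mk_surjective x
  change a • (Ideal.Quotient.mk (maximalIdeal A) r) = 0
  rw [Algebra.smul_def, Ideal.Quotient.algebraMap_eq, ← map_mul, Ideal.Quotient.eq_zero_iff_mem]
  exact Ideal.mul_mem_right _ _ ha

/-- the residue field has length one -/
theorem length_residue : Module.length A (ResidueField A) = 1 := by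
  haveI : IsSimpleModule A (A ⧸ maximalIdeal A) :=
    isSimpleModule_iff_quot_maximal.mpr ⟨maximalIdeal A, inferInstance, ⟨LinearEquiv.refl _ _⟩⟩
  exact Module.length_eq_one (R := A) (M := A ⧸ maximalIdeal A)

/-- `H^0_m(κ)` has length one -/
theorem length_H0_residue :
    Module.length A ((localCohomology (maximalIdeal A) 0).obj
      (ModuleCat.of A (ResidueField A))) = 1 := by
  have htop : DRing.torsionSub (maximalIdeal A) (ResidueField A) = ⊤ := by
    rw [eq_top_iff]
    intro x _
    exact isTors_residue x
  have e0 := H0equiv (maximalIdeal A) (ModuleCat.of A (ResidueField A))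
  rw [e0.length_eq]
  have e1 : (DRing.torsionSub (maximalIdeal A) (ResidueField A)) ≃ₗ[A] ResidueField A :=
    (LinearEquiv.ofEq _ _ htop).trans Submodule.topEquiv
  rw [e1.length_eq, length_residue]

include hf in
/-- a module whose Matlis dual has length one has length one -/
theorem length_eq_one_of_dual (X : Type u) [AddCommGroup X] [Module A X]
    (h : Module.length A (X →ₗ[A] E) = 1) : Module.length A X = 1 := by
  have hfl : IsFiniteLength A (X →ₗ[A] E) := by
    rw [← Module.length_ne_top_iff, h]
    exact ENat.one_ne_top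
  have h2 : Module.length A ((X →ₗ[A] E) →ₗ[A] E) = 1 := by
    rw [Groth.Agent.H30.Matlis.length_dual_eq f hf hfl, h]
  have hle : Module.length A X ≤ 1 := by
    rw [← h2]
    exact Module.length_le_of_injective _ (Groth.Agent.H30.Matlis.applyₗ_injective f hf X)
  have hnt : Nontrivial X := by
    by_contra hcon
    rw [not_nontrivial_iff_subsingleton] at hcon
    have : Subsingleton (X →ₗ[A] E) := ⟨fun φ ψ => LinearMap.ext fun x => by
      rw [Subsingleton.elim x 0, map_zero, map_zero]⟩
    rw [Module.length_eq_zero] at h
    exact zero_ne_one h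
  have hpos : 0 < Module.length A X := Module.length_pos
  exact le_antisymm hle (Order.one_le_iff_pos.mpr hpos)

section Main

variable (hd : ringKrullDim A = d)
  (hvan : ∀ i, i < d → Subsingleton ((localCohomology (maximalIdeal A) i).obj (ModuleCat.of A A)))
  (e : (K →ₗ[A] E) ≃ₗ[A] (localCohomology (maximalIdeal A) d).obj (ModuleCat.of A A))

include hf hd hvan e in
/-- **The type of the canonical module is one.** -/
theorem length_ext_residue_K [Module.Finite A K] :
    Module.length A (Ext.{u} (ModuleCat.of A (ResidueField A)) (ModuleCat.of A K) d) = 1 := by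
  obtain ⟨e₁⟩ := nonempty_dual' f hf hd hvan e 0 d (by omega) (ResidueField A)
  apply length_eq_one_of_dual f hf
  rw [← e₁.length_eq]
  exact length_H0_residue

include hf hd hvan e in
/-- `Ext^d(κ, A) ≅ Hom(κ ⊗ K, E)` -/
theorem nonempty_ext_residue_self_equiv :
    Nonempty (Ext.{u} (ModuleCat.of A (ResidueField A)) (ModuleCat.of A A) d ≃ₗ[A]
      ((ResidueField A ⊗[A] K) →ₗ[A] E)) := by
  have hVan : ∀ k, k + 1 = d → Groth.Agent.H81.ExtHomLC.Van (maximalIdeal A) (ModuleCat.of A A) k := by
    intro k hk F' _ _ hfin hsupp
    haveI := hfin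
    have hF := Groth.Agent.H81.ExtHomLC.isTors_of_support_subset (maximalIdeal A) F' hsupp
    exact subsingleton_ext_of_subsingleton_H (maximalIdeal A) (ModuleCat.of A F') hF d A hvan k
      (by omega)
  obtain ⟨e₁⟩ := Groth.Agent.H81.ExtHomLC.main (maximalIdeal A) (ModuleCat.of A (ResidueField A))
    isTors_residue d (ModuleCat.of A A) hVan
  have e₂ : (ResidueField A →ₗ[A] (localCohomology (maximalIdeal A) d).obj (ModuleCat.of A A))
      ≃ₗ[A] (ResidueField A →ₗ[A] (K →ₗ[A] E)) :=
    LinearEquiv.congrRight e.symm
  have e₃ : (ResidueField A →ₗ[A] (K →ₗ[A] E)) ≃ₗ[A] ((ResidueField A ⊗[A] K) →ₗ[A] E) :=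
    TensorProduct.lift.equiv (RingHom.id A) (ResidueField A) K E
  exact ⟨e₁.symm.trans (e₂.trans e₃)⟩

include hf hd hvan e in
/-- **The type of the ring is the number of generators of the canonical module.** -/
theorem length_ext_residue_self [Module.Finite A K] :
    Module.length A (Ext.{u} (ModuleCat.of A (ResidueField A)) (ModuleCat.of A A) d) =
      (Module.finrank (ResidueField A) (ResidueField A ⊗[A] K) : ℕ∞) := by
  obtain ⟨e₁⟩ := nonempty_ext_residue_self_equiv f hf hd hvan e
  rw [e₁.length_eq]
  have h1 : Module.length A (ResidueField A ⊗[A] K) =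
      (Module.finrank (ResidueField A) (ResidueField A ⊗[A] K) : ℕ∞) := by
    rw [Module.length_eq_of_surjective (S := A) (R := ResidueField A)
      (M := ResidueField A ⊗[A] K) IsLocalRing.residue_surjective,
      Module.length_eq_finrank]
  have hfl : IsFiniteLength A (ResidueField A ⊗[A] K) := by
    rw [← Module.length_ne_top_iff, h1]
    exact ENat.natCast_ne_top _
  rw [Groth.Agent.H30.Matlis.length_dual_eq f hf hfl, h1]

end Main

end Groth.Agent.H81.CanonType
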