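import Mathlib

/-!
Elementwise criteria for `Mono`/`Epi` of maps induced on homology by a morphism of
homological complexes of modules.
-/

set_option autoImplicit false

universe v u

namespace Groth.Agent.H81

open CategoryTheory

variable {R : Type u} [Ring R] {ι : Type*} {c : ComplexShape ι}
  {K L : HomologicalComplex (ModuleCat.{v} R) c} (φ : K ⟶ L)

theorem mono_homologyMap_iff (i j k : ι) (hi : c.prev j = i) (hk : c.next j = k) :
    Mono (HomologicalComplex.homologyMap φ j) ↔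
      ∀ x : K.X j, (K.d j k).hom x = 0 → (∃ y : L.X i, (φ.f j).hom x = (L.d i j).hom y) →
        ∃ x₁ : K.X i, x = (K.d i j).hom x₁ := by
  rw [HomologicalComplex.mono_homologyMap_iff_up_to_refinements φ i j k hi hk]
  constructor
  · intro H x hx ⟨y, hy⟩
    -- the module of pairs `(x, y)` with `d x = 0` and `φ x = d y`
    let T : Submodule R (K.X j × L.X i) :=
      LinearMap.ker ((K.d j k).hom ∘ₗ LinearMap.fst R _ _) ⊓
        LinearMap.ker ((φ.f j).hom ∘ₗ LinearMap.fst R _ _ - (L.d i j).hom ∘ₗ LinearMap.snd R _ _)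
    let x₂ : ModuleCat.of R T ⟶ K.X j := ModuleCat.ofHom (LinearMap.fst R _ _ ∘ₗ T.subtype)
    let y₁ : ModuleCat.of R T ⟶ L.X i := ModuleCat.ofHom (LinearMap.snd R _ _ ∘ₗ T.subtype)
    have h1 : x₂ ≫ K.d j k = 0 := by
      ext ⟨t, ht⟩
      exact ht.1
    have h2 : x₂ ≫ φ.f j = y₁ ≫ L.d i j := by
      ext ⟨t, ht⟩
      exact sub_eq_zero.mp (LinearMap.mem_ker.mp ht.2)
    obtain ⟨A', π, hπ, x₁, hx₁⟩ := H x₂ h1 y₁ h2
    have hsurj : Function.Surjective π.hom := (ModuleCat.epi_iff_surjective π).mp hπ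
    have hmem : ((x, y) : K.X j × L.X i) ∈ T := by
      refine ⟨?_, ?_⟩
      · simpa using hx
      · simpa [sub_eq_zero] using hy
    obtain ⟨a', ha'⟩ := hsurj ⟨(x, y), hmem⟩
    refine ⟨x₁.hom a', ?_⟩
    have := congrArg (fun f => f.hom a') hx₁
    simp only [ModuleCat.hom_comp, LinearMap.comp_apply] at this
    rw [← this, ha']
    rfl
  · intro H A x₂ hx₂ y₁ hy₁
    let T : Submodule R (A × K.X i) :=
      LinearMap.ker (x₂.hom ∘ₗ LinearMap.fst R _ _ - (K.d i j).hom ∘ₗ LinearMap.snd R _ _)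
    let π : ModuleCat.of R T ⟶ A := ModuleCat.ofHom (LinearMap.fst R _ _ ∘ₗ T.subtype)
    let x₁ : ModuleCat.of R T ⟶ K.X i := ModuleCat.ofHom (LinearMap.snd R _ _ ∘ₗ T.subtype)
    have hπ : Function.Surjective π.hom := by
      intro a
      have h1 : (K.d j k).hom (x₂.hom a) = 0 := by
        have := congrArg (fun f => f.hom a) hx₂
        simpa using this
      have h2 : (φ.f j).hom (x₂.hom a) = (L.d i j).hom (y₁.hom a) := by
        have := congrArg (fun f => f.hom a) hy₁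
        simpa using this
      obtain ⟨z, hz⟩ := H (x₂.hom a) h1 ⟨_, h2⟩
      refine ⟨⟨(a, z), ?_⟩, rfl⟩
      simp only [T, LinearMap.mem_ker, LinearMap.sub_apply, LinearMap.comp_apply, sub_eq_zero]
      exact hz
    refine ⟨ModuleCat.of R T, π, (ModuleCat.epi_iff_surjective π).mpr hπ, x₁, ?_⟩
    ext ⟨t, ht⟩
    simp only [T, LinearMap.mem_ker, LinearMap.sub_apply, LinearMap.comp_apply, sub_eq_zero] at ht
    exact ht

theorem epi_homologyMap_iff (i j k : ι) (hi : c.prev j = i) (hk : c.next j = k) :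
    Epi (HomologicalComplex.homologyMap φ j) ↔
      ∀ y : L.X j, (L.d j k).hom y = 0 →
        ∃ x : K.X j, (K.d j k).hom x = 0 ∧ ∃ y₁ : L.X i, y = (φ.f j).hom x + (L.d i j).hom y₁ := by
  rw [HomologicalComplex.epi_homologyMap_iff_up_to_refinements φ i j k hi hk]
  constructor
  · intro H y hy
    let T : Submodule R (L.X j) := LinearMap.ker (L.d j k).hom
    let y₂ : ModuleCat.of R T ⟶ L.X j := ModuleCat.ofHom T.subtype
    have h1 : y₂ ≫ L.d j k = 0 := by
      ext ⟨t, ht⟩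
      exact ht
    obtain ⟨A', π, hπ, x₂, hx₂, y₁, hy₁⟩ := H y₂ h1
    have hsurj : Function.Surjective π.hom := (ModuleCat.epi_iff_surjective π).mp hπ
    obtain ⟨a', ha'⟩ := hsurj ⟨y, hy⟩
    refine ⟨x₂.hom a', ?_, y₁.hom a', ?_⟩
    · have := congrArg (fun f => f.hom a') hx₂
      simpa using this
    · have := congrArg (fun f => f.hom a') hy₁
      simp only [ModuleCat.hom_comp, LinearMap.comp_apply, ModuleCat.hom_add,
        LinearMap.add_apply] at this
      rw [← this, ha']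
      rfl
  · intro H A y₂ hy₂
    let T : Submodule R (A × K.X j × L.X i) :=
      LinearMap.ker ((K.d j k).hom ∘ₗ LinearMap.fst R _ _ ∘ₗ LinearMap.snd R _ _) ⊓
        LinearMap.ker (y₂.hom ∘ₗ LinearMap.fst R _ _ -
          ((φ.f j).hom ∘ₗ LinearMap.fst R _ _ ∘ₗ LinearMap.snd R _ _ +
            (L.d i j).hom ∘ₗ LinearMap.snd R _ _ ∘ₗ LinearMap.snd R _ _))
    let π : ModuleCat.of R T ⟶ A := ModuleCat.ofHom (LinearMap.fst R _ _ ∘ₗ T.subtype)
    let x₂ : ModuleCat.of R T ⟶ K.X j :=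
      ModuleCat.ofHom (LinearMap.fst R _ _ ∘ₗ LinearMap.snd R _ _ ∘ₗ T.subtype)
    let y₁ : ModuleCat.of R T ⟶ L.X i :=
      ModuleCat.ofHom (LinearMap.snd R _ _ ∘ₗ LinearMap.snd R _ _ ∘ₗ T.subtype)
    have hπ : Function.Surjective π.hom := by
      intro a
      have h1 : (L.d j k).hom (y₂.hom a) = 0 := by
        have := congrArg (fun f => f.hom a) hy₂
        simpa using this
      obtain ⟨x, hx, z, hz⟩ := H (y₂.hom a) h1
      refine ⟨⟨(a, x, z), ?_, ?_⟩, rfl⟩
      · simpa using hx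
      · exact LinearMap.mem_ker.mpr (sub_eq_zero.mpr hz)
    refine ⟨ModuleCat.of R T, π, (ModuleCat.epi_iff_surjective π).mpr hπ, x₂, ?_, y₁, ?_⟩
    · ext ⟨t, ht⟩
      exact ht.1
    · ext ⟨t, ht⟩
      exact sub_eq_zero.mp (LinearMap.mem_ker.mp ht.2)

end Groth.Agent.H81
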