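import Mathlib

set_option autoImplicit false

namespace Groth.Agent.H81.ConsecCoeff

open Polynomial

variable {k : Type*} [Field k]

theorem mul_derivative_pow (P : k[X]) (n : ℕ) :
    P * derivative (P ^ n) = C (n : k) * P ^ n * derivative P := by
  cases n with
  | zero => simp
  | succ n =>
    rw [derivative_pow, pow_succ]
    simp only [Nat.add_sub_cancel]
    ring

theorem coeff_X_mul_derivative (p : k[X]) (s : ℕ) :
    (X * derivative p).coeff s = (s : k) * p.coeff s := by
  cases s with
  | zero => simp
  | succ s =>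
    rw [coeff_X_mul, coeff_derivative]
    push_cast
    ring

/-- the first-order ODE satisfied by `(1+X)^i (1+cX)^m`. -/
theorem ode (c : k) (i m : ℕ) :
    (1 + X) * (1 + C c * X) * derivative ((1 + X) ^ i * (1 + C c * X) ^ m) =
      (C (i : k) * (1 + C c * X) + C ((m : k) * c) * (1 + X)) *
        ((1 + X) ^ i * (1 + C c * X) ^ m) := by
  have h1 := mul_derivative_pow (1 + X : k[X]) i
  have h2 := mul_derivative_pow (1 + C c * X : k[X]) m
  have d1 : derivative (1 + X : k[X]) = 1 := by simp
  have d2 : derivative (1 + C c * X : k[X]) = C c := by simp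
  rw [d1] at h1
  rw [d2] at h2
  rw [derivative_mul]
  have : (1 + X) * (1 + C c * X) *
      (derivative ((1 + X) ^ i) * (1 + C c * X) ^ m + (1 + X) ^ i * derivative ((1 + C c * X) ^ m)) =
      (1 + C c * X) * (1 + C c * X) ^ m * ((1 + X) * derivative ((1 + X : k[X]) ^ i)) +
      (1 + X) * (1 + X) ^ i * ((1 + C c * X) * derivative ((1 + C c * X : k[X]) ^ m)) := by ring
  rw [this, h1, h2, C_mul]
  ring

/-- the three-term recursion for the coefficients of `(1+X)^i (1+cX)^m`. -/
theorem recursion (c : k) (i m s : ℕ) :
    let H : k[X] := (1 + X) ^ i * (1 + C c * X) ^ m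
    H.coeff (s + 2) * ((s : k) + 2) + (1 + c) * ((s : k) + 1) * H.coeff (s + 1) + c * (s : k) * H.coeff s =
      ((i : k) + (m : k) * c) * H.coeff (s + 1) + ((i : k) + (m : k)) * c * H.coeff s := by
  intro H
  have h := congrArg (fun p => p.coeff (s + 1)) (ode c i m)
  have hL : (1 + X) * (1 + C c * X) * derivative H =
      derivative H + C (1 + c) * (X * derivative H) + C c * (X * (X * derivative H)) := by
    rw [C_add, C_1]; ring
  have hR : (C (i : k) * (1 + C c * X) + C ((m : k) * c) * (1 + X)) * H =
      C ((i : k) + (m : k) * c) * H + C (((i : k) + (m : k)) * c) * (X * H) := by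
    simp only [C_add, C_mul]; ring
  change ((1 + X) * (1 + C c * X) * derivative H).coeff (s + 1) =
    ((C (i : k) * (1 + C c * X) + C ((m : k) * c) * (1 + X)) * H).coeff (s + 1) at h
  rw [hL, hR] at h
  simp only [coeff_add, coeff_C_mul, coeff_X_mul, coeff_X_mul_derivative, coeff_derivative] at h
  push_cast at h
  linear_combination h

theorem no_consecutive_zero [CharZero k] {c : k} (hc : c ≠ 0) (i m : ℕ) :
    ∀ l : ℕ, l + 1 ≤ i + m →
      ¬ (((1 + X : k[X]) ^ i * (1 + C c * X) ^ m).coeff l = 0 ∧
        ((1 + X : k[X]) ^ i * (1 + C c * X) ^ m).coeff (l + 1) = 0) := by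
  intro l
  induction l with
  | zero =>
    intro _ h
    have h0 := h.1
    rw [coeff_zero_eq_eval_zero] at h0
    simp at h0
  | succ s ih =>
    intro hs h
    have hr := recursion c i m s
    dsimp only at hr
    rw [h.1, h.2] at hr
    simp only [zero_mul, mul_zero, zero_add, add_zero] at hr
    -- hr : c * s * H_s = (i + m) * c * H_s
    have hne : ((i : k) + (m : k)) - (s : k) ≠ 0 := by
      have : ((i + m - s : ℕ) : k) ≠ 0 := by
        rw [Nat.cast_ne_zero]; omega
      rw [Nat.cast_sub (by omega)] at this
      push_cast at this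
      exact this
    have hz : ((1 + X : k[X]) ^ i * (1 + C c * X) ^ m).coeff s = 0 := by
      have : c * (((i : k) + (m : k)) - (s : k)) *
          ((1 + X : k[X]) ^ i * (1 + C c * X) ^ m).coeff s = 0 := by
        linear_combination -hr
      rcases mul_eq_zero.mp this with h' | h'
      · exact absurd h' (mul_ne_zero hc hne)
      · exact h'
    exact ih (by omega) ⟨hz, h.1⟩

end Groth.Agent.H81.ConsecCoeff
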