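import Mathlib
import Groth.Prelude.Def_W4c3irrattreebunCvg

set_option autoImplicit false

namespace Groth.Agent.H81.Cvg

open W4c3irrattreebun

universe u

variable (k k₀ K : Type u) [Field k] [Field k₀] [Field K] [Algebra k K] [Algebra k k₀] [Algebra k₀ K]
  [IsScalarTower k k₀ K]

/-- restriction of the constant field from `k₀` to `k`. -/
theorem exists_restrict {e : ℕ} (D : CovDiag.{u} k₀ K e) :
    ∃ D' : CovDiag.{u} k K e, (Algebra.IsSeparable K D.KC → Algebra.IsSeparable K D'.KC) := by
  letI algkC : Algebra k D.KC := ((algebraMap K D.KC).comp (algebraMap k K)).toAlgebra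
  letI algkB : Algebra k D.KB := ((algebraMap k₀ D.KB).comp (algebraMap k k₀)).toAlgebra
  haveI t1 : IsScalarTower k K D.KC := IsScalarTower.of_algebraMap_eq (fun x => rfl)
  haveI t2 : IsScalarTower k D.KB D.KC := IsScalarTower.of_algebraMap_eq (fun x => by
    change algebraMap K D.KC (algebraMap k K x) =
      algebraMap D.KB D.KC (algebraMap k₀ D.KB (algebraMap k k₀ x))
    rw [← IsScalarTower.algebraMap_apply k₀ D.KB D.KC, IsScalarTower.algebraMap_apply k₀ K D.KC,
      ← IsScalarTower.algebraMap_apply k k₀ K])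
  exact ⟨{ KC := D.KC, KB := D.KB, t := D.t, transc := D.transc, finrank_eq := D.finrank_eq },
    fun h => h⟩

/-- enlarging the constant field from `k` to an algebraic extension `k₀ ⊆ K`. -/
theorem exists_extend [Algebra.IsAlgebraic k k₀] {e : ℕ} (D : CovDiag.{u} k K e) :
    ∃ (e' : ℕ) (D' : CovDiag.{u} k₀ K e'), e' ≤ e ∧
      (Algebra.IsSeparable K D.KC → Algebra.IsSeparable K D'.KC) := by
  letI algk₀C : Algebra k₀ D.KC := ((algebraMap K D.KC).comp (algebraMap k₀ K)).toAlgebra
  haveI t1 : IsScalarTower k₀ K D.KC := IsScalarTower.of_algebraMap_eq (fun x => rfl)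
  haveI t0 : IsScalarTower k k₀ D.KC := IsScalarTower.of_algebraMap_eq (fun x => by
    change algebraMap k D.KC x = algebraMap K D.KC (algebraMap k₀ K (algebraMap k k₀ x))
    rw [← IsScalarTower.algebraMap_apply k k₀ K, ← IsScalarTower.algebraMap_apply k K D.KC])
  let KB' : IntermediateField D.KB D.KC :=
    IntermediateField.adjoin D.KB (Set.range (algebraMap k₀ D.KC))
  let f : k₀ →+* ↥KB' := (algebraMap k₀ D.KC).codRestrict KB'
    (fun x => IntermediateField.subset_adjoin _ _ ⟨x, rfl⟩)
  letI algk₀B : Algebra k₀ ↥KB' := f.toAlgebra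
  haveI t2 : IsScalarTower k₀ ↥KB' D.KC := IsScalarTower.of_algebraMap_eq (fun x => rfl)
  haveI halg : Algebra.IsAlgebraic D.KB ↥KB' := IntermediateField.isAlgebraic_adjoin (fun x hx => by
    obtain ⟨y, rfl⟩ := hx
    have hy : IsIntegral k y := Algebra.IsIntegral.isIntegral y
    have h1 : IsIntegral k (algebraMap k₀ D.KC y) := hy.map (IsScalarTower.toAlgHom k k₀ D.KC)
    exact h1.tower_top)
  have htr : Transcendental ↥KB' D.t := fun h => D.transc (h.restrictScalars D.KB)
  -- the two simple extensions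
  have hFE : IntermediateField.adjoin D.KB ({D.t} : Set D.KC) ≤
      (IntermediateField.adjoin ↥KB' ({D.t} : Set D.KC)).restrictScalars D.KB := by
    rw [IntermediateField.adjoin_le_iff]
    intro x hx
    rw [Set.mem_singleton_iff] at hx
    subst hx
    exact IntermediateField.mem_adjoin_simple_self _ _
  haveI hfinF : FiniteDimensional ↥(IntermediateField.adjoin D.KB ({D.t} : Set D.KC)) D.KC :=
    D.finiteT
  have hle := IntermediateField.finrank_le_of_le_left hFE
  have hfinE : Module.Finite
      ↥((IntermediateField.adjoin ↥KB' ({D.t} : Set D.KC)).restrictScalars D.KB) D.KC := by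
    letI := (IntermediateField.inclusion hFE).toRingHom.toAlgebra
    haveI : IsScalarTower ↥(IntermediateField.adjoin D.KB ({D.t} : Set D.KC))
      ↥((IntermediateField.adjoin ↥KB' ({D.t} : Set D.KC)).restrictScalars D.KB) D.KC :=
      IsScalarTower.of_algebraMap_eq fun x => rfl
    exact Module.Finite.of_restrictScalars_finite
      ↥(IntermediateField.adjoin D.KB ({D.t} : Set D.KC)) _ D.KC
  haveI hfinE' : Module.Finite ↥(IntermediateField.adjoin ↥KB' ({D.t} : Set D.KC)) D.KC := hfinE
  refine ⟨Module.finrank ↥(IntermediateField.adjoin ↥KB' ({D.t} : Set D.KC)) D.KC,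
    { KC := D.KC, KB := ↥KB', t := D.t, transc := htr, finrank_eq := rfl }, ?_, fun h => h⟩
  exact hle.trans (le_of_eq D.finrank_eq)

theorem sInf_eq_of_cofinal {A B : Set ℕ} (hBA : B ⊆ A) (hAB : ∀ e ∈ A, ∃ e' ∈ B, e' ≤ e) :
    sInf A = sInf B := by
  rcases A.eq_empty_or_nonempty with hA | hA
  · have hB : B = ∅ := Set.subset_eq_empty (hA ▸ hBA) rfl
    rw [hA, hB]
  · have hm := Nat.sInf_mem hA
    obtain ⟨e', he'B, he'⟩ := hAB _ hm
    have hBne : B.Nonempty := ⟨e', he'B⟩
    apply le_antisymm
    · exact Nat.sInf_le (hBA (Nat.sInf_mem hBne))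
    · exact (Nat.sInf_le he'B).trans he'

end Groth.Agent.H81.Cvg
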