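import Groth.Agent.S5171

/-!
# Depth and vanishing of local cohomology  (helper81)

`forall_subsingleton_H_iff_lt_idealDepth` : `H^j_J(G) = 0` for all `j ≤ t` iff `t < depth_J G`.
-/

set_option autoImplicit false
universe u

namespace Groth.Agent.H81.DepthLC

theorem forall_subsingleton_H_iff_lt_idealDepth (A : Type u) [CommRing A] [IsNoetherianRing A]
    (J : Ideal A) (G : Type u) [AddCommGroup G] [Module A G] [Module.Finite A G] (t : ℕ) :
    (∀ j : ℕ, j ≤ t → Subsingleton (LocCoh.H J j G)) ↔ (t : ℕ∞) < LocCoh.idealDepth J G := by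
  constructor
  · intro hvan
    by_cases htop : J • (⊤ : Submodule A G) = ⊤
    · rw [Groth.Agent.H15.idealDepth_eq_top_of_smul_top_eq J G htop]
      exact ENat.natCast_lt_top t
    · by_contra hcon
      rw [not_lt] at hcon
      obtain ⟨d, hd⟩ : ∃ d : ℕ, LocCoh.idealDepth J G = d := by
        cases hD : LocCoh.idealDepth J G with
        | top => rw [hD] at hcon; exact absurd hcon (not_le.mpr (ENat.natCast_lt_top t))
        | coe d => exact ⟨d, rfl⟩
      rw [hd] at hcon
      have hdt : d ≤ t := by exact_mod_cast hcon
      have hnt := Groth.Agent.H2.LCDepthNonvanish.nontrivial_H_of_idealDepth_eq J d G htop hd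
      exact absurd hnt (not_nontrivial_iff_subsingleton.mpr (hvan d hdt))
  · intro h j hj
    by_cases htop : J • (⊤ : Submodule A G) = ⊤
    · exact Groth.Agent.S5171.subsingleton_H_of_smul_top_eq_top A J G htop j
    · refine Groth.Agent.H2.LCInjective.subsingleton_H_of_lt_depth J (t + 1) G htop ?_ j
        (by omega)
      have := Order.add_one_le_of_lt h
      exact_mod_cast this

end Groth.Agent.H81.DepthLC
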