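import Mathlib
import Groth.Prelude.Def_CAlg
import Groth.Agent.H81.GrUnmixed

/-!
# Basic double links: `Ĩ = J + f I`

* `mulQuot`, `mulQuot_injective`, `exact_mulQuot_factor`: the exact sequence
  `0 → R/I --f--> R/(J + fI) → R/(J + fR) → 0` (when `J ⊆ I`, `J : f = J`).
* `height_eq_of_mem_associatedPrimes_sup_span`: if `R` and `R/J` are Cohen–Macaulay, `J : f = J` and
  all minimal primes of `J` have height `h`, then all associated primes of `R/(J + fR)` have
  height `h + 1`.
-/

set_option autoImplicit false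

namespace Groth.Agent.H81.DoubleLink

universe u

open IsLocalRing Submodule RingTheory.Sequence Pointwise

section Exact

variable {R : Type u} [CommRing R] (J I : Ideal R) (f : R)

/-- multiplication by `f` as a map `R/I → R/(J + fI)` -/
noncomputable def mulQuot : (R ⧸ I) →ₗ[R] (R ⧸ (J ⊔ Ideal.span {f} * I)) :=
  Submodule.mapQ I (J ⊔ Ideal.span {f} * I) (LinearMap.lsmul R R f) (by
    intro i hi
    rw [Submodule.mem_comap, LinearMap.lsmul_apply, smul_eq_mul]
    exact Submodule.mem_sup_right (Ideal.mul_mem_mul (Ideal.mem_span_singleton_self f) hi))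

theorem mulQuot_mk (r : R) :
    mulQuot J I f (Submodule.Quotient.mk r) = Submodule.Quotient.mk (f * r) := rfl

theorem mulQuot_injective (hJI : J ≤ I) (hJf : J.colon {f} = J) :
    Function.Injective (mulQuot J I f) := by
  rw [← LinearMap.ker_eq_bot, eq_bot_iff]
  intro m hm
  obtain ⟨r, rfl⟩ := Submodule.Quotient.mk_surjective _ m
  rw [LinearMap.mem_ker, mulQuot_mk, Submodule.Quotient.mk_eq_zero] at hm
  rw [Submodule.mem_bot, Submodule.Quotient.mk_eq_zero]
  obtain ⟨j, hj, z, hz, hjz⟩ := Submodule.mem_sup.mp hm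
  obtain ⟨i, hi, rfl⟩ := Ideal.mem_span_singleton_mul.mp hz
  have h1 : r - i ∈ J.colon {f} := by
    rw [mem_colon_singleton, smul_eq_mul]
    have : (r - i) * f = j := by linear_combination -hjz
    rw [this]
    exact hj
  rw [hJf] at h1
  have : r = (r - i) + i := by ring
  rw [this]
  exact add_mem (hJI h1) hi

/-- the projection `R/(J + fI) → R/(J + fR)` -/
noncomputable def proj : (R ⧸ (J ⊔ Ideal.span {f} * I)) →ₗ[R] (R ⧸ (J ⊔ Ideal.span {f})) :=
  Submodule.mapQ _ _ LinearMap.id (by
    intro x hx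
    rw [Submodule.mem_comap, LinearMap.id_apply]
    exact (sup_le_sup_left Ideal.mul_le_left J) hx)

theorem exact_mulQuot_proj : Function.Exact (mulQuot J I f) (proj J I f) := by
  intro m
  obtain ⟨r, rfl⟩ := Submodule.Quotient.mk_surjective _ m
  constructor
  · intro h
    have h' : r ∈ J ⊔ Ideal.span {f} := (Submodule.Quotient.mk_eq_zero _).mp h
    obtain ⟨j, hj, z, hz, rfl⟩ := Submodule.mem_sup.mp h'
    obtain ⟨t, rfl⟩ := Ideal.mem_span_singleton'.mp hz
    refine ⟨Submodule.Quotient.mk t, ?_⟩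
    rw [mulQuot_mk, Submodule.Quotient.eq]
    have : f * t - (j + t * f) = -j := by ring
    rw [this]
    exact neg_mem (Submodule.mem_sup_left hj)
  · rintro ⟨m', hm'⟩
    obtain ⟨t, rfl⟩ := Submodule.Quotient.mk_surjective _ m'
    rw [← hm', mulQuot_mk]
    refine (Submodule.Quotient.mk_eq_zero _).mpr ?_
    exact Submodule.mem_sup_right (Ideal.mul_mem_right _ _ (Ideal.mem_span_singleton_self f))

end Exact

section Height

variable {R : Type u} [CommRing R] [IsNoetherianRing R]

theorem mk_mk_eq_zero_iff' {A : Type u} [CommRing A] (𝔞 : Ideal A) (g a : A) :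
    (Submodule.Quotient.mk (Submodule.Quotient.mk a : A ⧸ 𝔞) : QuotSMulTop g (A ⧸ 𝔞)) = 0 ↔
      a ∈ 𝔞 ⊔ Ideal.span {g} := by
  have := LinkFlat.mk_mk_eq_zero_iff 𝔞 (Ideal.span {g}) a
  rw [← this]
  have h : (Ideal.span {g} • (⊤ : Submodule A (A ⧸ 𝔞))) = g • (⊤ : Submodule A (A ⧸ 𝔞)) :=
    Submodule.ideal_span_singleton_smul g ⊤
  rw [Submodule.Quotient.mk_eq_zero, Submodule.Quotient.mk_eq_zero, h]

/-- if `R` and `R/J` are Cohen–Macaulay, `J : f = J` and all minimal primes of `J` have height `h`,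
then all associated primes of `R/(J + fR)` have height `h + 1`. -/
theorem height_eq_of_mem_associatedPrimes_sup_span (hR : LocCoh.IsCohenMacaulayRing R)
    (J : Ideal R) (hRJ : LocCoh.IsCohenMacaulayRing (R ⧸ J)) (f : R) (hJf : J.colon {f} = J)
    (h : ℕ) (hJun : ∀ q ∈ J.minimalPrimes, q.height = h)
    (p : Ideal R) (hp : p ∈ associatedPrimes R (R ⧸ (J ⊔ Ideal.span {f}))) :
    p.height = h + 1 := by
  obtain ⟨hpp, y, hy⟩ := isAssociatedPrime_iff.mp hp
  obtain ⟨x, rfl⟩ := Ideal.Quotient.mk_surjective y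
  have hmem : ∀ r : R, r ∈ p ↔ r * x ∈ J ⊔ Ideal.span {f} := by
    intro r
    rw [hy, mem_colon_singleton, mem_bot,
      show r • (Ideal.Quotient.mk (J ⊔ Ideal.span {f}) x) =
        Ideal.Quotient.mk (J ⊔ Ideal.span {f}) (r * x) from rfl,
      Ideal.Quotient.eq_zero_iff_mem]
  have hJfp : J ⊔ Ideal.span {f} ≤ p := fun r hr => (hmem r).mpr (Ideal.mul_mem_right _ _ hr)
  have hJp : J ≤ p := le_sup_left.trans hJfp
  have hfp : f ∈ p := hJfp (Submodule.mem_sup_right (Ideal.mem_span_singleton_self f))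
  have hx : x ∉ J ⊔ Ideal.span {f} := by
    intro hx
    apply hpp.ne_top
    rw [eq_top_iff]
    intro r _
    exact (hmem r).mpr (Ideal.mul_mem_left _ _ hx)
  -- a minimal prime of `J` inside `p`
  obtain ⟨q', hq', hq'p⟩ := Ideal.exists_minimalPrimes_le hJp
  have hq'prime : q'.IsPrime := hq'.1.1
  have hfq' : f ∉ q' := by
    intro hfq
    have hass : q' ∈ associatedPrimes R (R ⧸ J) := by
      apply Module.associatedPrimes.minimalPrimes_annihilator_subset_associatedPrimes R (R ⧸ J)
      rw [Ideal.annihilator_quotient]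
      exact hq'
    obtain ⟨-, z', hz⟩ := isAssociatedPrime_iff.mp hass
    obtain ⟨z, rfl⟩ := Ideal.Quotient.mk_surjective z'
    have hzmem : ∀ r : R, r ∈ q' ↔ r * z ∈ J := by
      intro r
      rw [hz, mem_colon_singleton, mem_bot,
        show r • (Ideal.Quotient.mk J z) = Ideal.Quotient.mk J (r * z) from rfl,
        Ideal.Quotient.eq_zero_iff_mem]
    have h1 : z ∈ J.colon {f} := by
      rw [mem_colon_singleton, smul_eq_mul, mul_comm]
      exact (hzmem f).mp hfq
    rw [hJf] at h1
    apply hq'prime.ne_top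
    rw [eq_top_iff]
    intro r _
    exact (hzmem r).mpr (Ideal.mul_mem_left _ _ h1)
  have hlt : q' < p := lt_of_le_of_ne hq'p (fun h => hfq' (h ▸ hfp))
  have hlow : (h : ℕ∞) + 1 ≤ p.height := by
    have := Ideal.height_strict_mono_of_isPrime hlt
    rw [hJun q' hq'] at this
    exact Order.add_one_le_of_lt this
  -- the local ring `S = R_p`
  let S := Localization.AtPrime p
  have hS : LocCoh.IsCohenMacaulayLocalRing S := hR.isCohenMacaulayLocalRing_localization p
  set 𝔞 : Ideal S := J.map (algebraMap R S) with h𝔞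
  have h𝔞le : 𝔞 ≤ maximalIdeal S := by
    rw [← Localization.AtPrime.map_eq_maximalIdeal]
    exact Ideal.map_mono hJp
  have h𝔞ne : 𝔞 ≠ ⊤ :=
    fun h => (Ideal.IsPrime.ne_top' (I := maximalIdeal S)) (top_le_iff.mp (h ▸ h𝔞le))
  -- `S/𝔞` is a Cohen–Macaulay local ring
  set Q : Ideal (R ⧸ J) := p.map (Ideal.Quotient.mk J) with hQ
  have hker : RingHom.ker (Ideal.Quotient.mk J) ≤ p := by rw [Ideal.mk_ker]; exact hJp
  have hQp : Q.IsPrime := Ideal.map_isPrime_of_surjective Ideal.Quotient.mk_surjective hker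
  have hQc : Q.comap (Ideal.Quotient.mk J) = p := by
    rw [hQ, Ideal.comap_map_of_surjective' _ Ideal.Quotient.mk_surjective, sup_eq_left]
    exact hker
  obtain ⟨e⟩ := LiaisonCM.nonempty_ringEquiv_localization_quotient R J p Q hQc
  have hcm𝔞 : LocCoh.IsCohenMacaulayLocalRing (S ⧸ 𝔞) :=
    Groth.Agent.H49.isCohenMacaulayLocalRing_of_ringEquiv e
      (hRJ.isCohenMacaulayLocalRing_localization Q)
  have : IsLocalHom (algebraMap S (S ⧸ 𝔞)) :=
    IsLocalHom.of_surjective _ Ideal.Quotient.mk_surjective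
  have hCM : LocCoh.IsCohenMacaulayModule S (S ⧸ 𝔞) := by
    unfold LocCoh.IsCohenMacaulayModule
    rw [Groth.Agent.H29.DepthAB.depth_eq (A := S) (B := S ⧸ 𝔞) (S ⧸ 𝔞),
      Module.supportDim_quotient_eq_ringKrullDim, ← Module.supportDim_self_eq_ringKrullDim]
    exact hcm𝔞.supportDim_eq_depth
  set φf : S := algebraMap R S f with hφf
  have hφfm : φf ∈ maximalIdeal S := by
    rw [← Localization.AtPrime.map_eq_maximalIdeal]
    exact Ideal.mem_map_of_mem _ hfp
  -- membership in `𝔞` of images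
  have hmem𝔞 : ∀ a : R, algebraMap R S a ∈ 𝔞 → ∃ u : R, u ∉ p ∧ u * a ∈ J := by
    intro a ha
    rw [h𝔞, IsLocalization.mem_map_algebraMap_iff p.primeCompl] at ha
    obtain ⟨⟨⟨j, hj⟩, m⟩, hjm⟩ := ha
    have h0 : algebraMap R S (a * m - j) = 0 := by
      rw [map_sub, map_mul]
      simp only at hjm
      rw [hjm, sub_self]
    rw [IsLocalization.map_eq_zero_iff p.primeCompl] at h0
    obtain ⟨u, hu⟩ := h0
    refine ⟨u * m, fun hum => ?_, ?_⟩
    · rcases hpp.mem_or_mem hum with h1 | h1
      · exact u.2 h1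
      · exact m.2 h1
    · have : (u : R) * m * a = u * j := by linear_combination hu
      rw [this]
      exact Ideal.mul_mem_left _ _ hj
  -- `f` is regular on `S/𝔞`
  have hreg : IsSMulRegular (S ⧸ 𝔞) φf := by
    rw [isSMulRegular_iff_right_eq_zero_of_smul]
    intro m hm
    obtain ⟨s, rfl⟩ := Submodule.Quotient.mk_surjective _ m
    rw [← Submodule.Quotient.mk_smul, Submodule.Quotient.mk_eq_zero, smul_eq_mul] at hm
    rw [Submodule.Quotient.mk_eq_zero]
    obtain ⟨⟨a, t⟩, hat⟩ := IsLocalization.surj p.primeCompl s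
    simp only at hat
    have h1 : algebraMap R S (f * a) ∈ 𝔞 := by
      rw [map_mul, ← hat, ← mul_assoc]
      exact Ideal.mul_mem_right _ _ hm
    obtain ⟨u, hu, hua⟩ := hmem𝔞 _ h1
    have h2 : u * a ∈ J.colon {f} := by
      rw [mem_colon_singleton, smul_eq_mul]
      have : u * a * f = u * (f * a) := by ring
      rw [this]
      exact hua
    rw [hJf] at h2
    have h3 : algebraMap R S u * (s * algebraMap R S t) ∈ 𝔞 := by
      rw [hat, ← map_mul]
      exact Ideal.mem_map_of_mem _ h2
    have hunit : IsUnit (algebraMap R S u * algebraMap R S t) :=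
      (IsLocalization.map_units S (⟨u, hu⟩ : p.primeCompl)).mul (IsLocalization.map_units S t)
    have h4 : s * (algebraMap R S u * algebraMap R S t) ∈ 𝔞 := by
      have : s * (algebraMap R S u * algebraMap R S t) =
          algebraMap R S u * (s * algebraMap R S t) := by ring
      rw [this]
      exact h3
    exact (Ideal.mul_unit_mem_iff_mem _ hunit).mp h4
  -- depth of `(S/𝔞)/f` is zero
  let M' := QuotSMulTop φf (S ⧸ 𝔞)
  set ξ : M' := Submodule.Quotient.mk (Submodule.Quotient.mk (algebraMap R S x)) with hξ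
  have hsup : 𝔞 ⊔ Ideal.span {φf} = (J ⊔ Ideal.span {f}).map (algebraMap R S) := by
    rw [Ideal.map_sup, Ideal.map_span, Set.image_singleton]
  have hξ0 : ξ ≠ 0 := by
    intro h0
    rw [hξ, mk_mk_eq_zero_iff', hsup, IsLocalization.mem_map_algebraMap_iff p.primeCompl] at h0
    obtain ⟨⟨⟨j, hj⟩, m⟩, hjm⟩ := h0
    have h0 : algebraMap R S (x * m - j) = 0 := by
      rw [map_sub, map_mul]
      simp only at hjm
      rw [hjm, sub_self]
    rw [IsLocalization.map_eq_zero_iff p.primeCompl] at h0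
    obtain ⟨u, hu⟩ := h0
    have hum : (u : R) * m ∈ p := by
      rw [hmem]
      have : (u : R) * m * x = u * j := by linear_combination hu
      rw [this]
      exact Ideal.mul_mem_left _ _ hj
    rcases hpp.mem_or_mem hum with h1 | h1
    · exact u.2 h1
    · exact m.2 h1
  have hkill : ∀ y ∈ maximalIdeal S, y • ξ = 0 := by
    have hle : maximalIdeal S ≤ Submodule.colon (⊥ : Submodule S M') {ξ} := by
      rw [← Localization.AtPrime.map_eq_maximalIdeal, Ideal.map_le_iff_le_comap]
      intro r hr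
      rw [Ideal.mem_comap, mem_colon_singleton, mem_bot, hξ, ← Submodule.Quotient.mk_smul,
        ← Submodule.Quotient.mk_smul, smul_eq_mul, ← map_mul, mk_mk_eq_zero_iff', hsup]
      exact Ideal.mem_map_of_mem _ ((hmem r).mp hr)
    intro y hy
    have := hle hy
    rwa [mem_colon_singleton, mem_bot] at this
  have hM'nt : Nontrivial M' := ⟨⟨ξ, 0, hξ0⟩⟩
  have hne : maximalIdeal S • (⊤ : Submodule S M') ≠ ⊤ :=
    Groth.Agent.H29.CML.smul_top_ne_top M'
  have hdepth0 : LocCoh.depth S M' = 0 := by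
    apply le_antisymm _ bot_le
    show LocCoh.idealDepth (maximalIdeal S) M' ≤ 0
    refine Groth.Agent.H15.idealDepth_le_of_forall (I := maximalIdeal S) (M := M') hne 0 ?_
    intro rs hrs hmemrs
    cases rs with
    | nil => simp
    | cons z rs =>
      exfalso
      rw [isWeaklyRegular_cons_iff] at hrs
      have h1 := hkill z (hmemrs z List.mem_cons_self)
      have h2 : z • ξ = z • (0 : M') := by rw [h1, smul_zero]
      exact hξ0 (hrs.1 h2)
  have hdepth1 : LocCoh.depth S (S ⧸ 𝔞) = 1 := by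
    rw [← Groth.Agent.H29.CML.depth_quotSMulTop_add_one (S ⧸ 𝔞) φf hφfm hreg, hdepth0, zero_add]
  have hdim1 : ringKrullDim (S ⧸ 𝔞) = 1 := by
    rw [← Module.supportDim_quotient_eq_ringKrullDim, hCM, hdepth1]
    rfl
  -- the height of `𝔞` is at most `h`
  have h𝔞ht : 𝔞.height ≤ h := by
    have hdisj : Disjoint (p.primeCompl : Set R) (q' : Set R) := by
      rw [Set.disjoint_left]
      intro a ha haq
      exact ha (hq'p haq)
    have hunder : (q'.map (algebraMap R S)).under R = q' :=
      IsLocalization.under_map_of_isPrime_disjoint p.primeCompl S hq'prime hdisj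
    have hmin : q'.map (algebraMap R S) ∈ 𝔞.minimalPrimes := by
      rw [h𝔞, IsLocalization.minimalPrimes_map p.primeCompl S J, Set.mem_preimage, hunder]
      exact hq'
    have hht : (q'.map (algebraMap R S)).height = h := by
      rw [← IsLocalization.height_under p.primeCompl (q'.map (algebraMap R S)), hunder]
      exact hJun q' hq'
    rw [Ideal.height_eq_inf_minimalPrimes]
    exact (iInf₂_le _ hmin).trans (le_of_eq hht)
  have hup := Groth.Agent.H72.CMLocal.ringKrullDim_le_quotient_add_height S hS 𝔞 h𝔞ne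
  rw [hdim1, IsLocalization.AtPrime.ringKrullDim_eq_height p S] at hup
  have hup' : p.height ≤ 1 + 𝔞.height := by exact_mod_cast hup
  apply le_antisymm
  · calc p.height ≤ 1 + 𝔞.height := hup'
      _ ≤ 1 + h := by gcongr
      _ = h + 1 := add_comm _ _
  · exact hlow

end Height

end Groth.Agent.H81.DoubleLink
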