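import Mathlib
import Groth.Agent.H2.LCDepthNonvanish

/-!
# Local cohomology isomorphisms from a short exact sequence with vanishing third term (helper81)
-/

set_option autoImplicit false

namespace Groth.Agent.H81.LCIso

universe u

open CategoryTheory Groth.Agent.H58.LC

variable {R : Type u} [CommRing R] (I : Ideal R)

/-- if `0 → M₁ → M₂ → M₃ → 0` is exact and `H^j_I(M₃) = 0` for all `j ≤ i`, then
`H^i_I(M₁) ≃ H^i_I(M₂)`. -/
theorem nonempty_H_equiv {M₁ M₂ M₃ : Type u} [AddCommGroup M₁] [Module R M₁]
    [AddCommGroup M₂] [Module R M₂] [AddCommGroup M₃] [Module R M₃]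
    (f : M₁ →ₗ[R] M₂) (g : M₂ →ₗ[R] M₃) (hf : Function.Injective f)
    (hfg : Function.Exact f g) (hg : Function.Surjective g) (i : ℕ)
    (hvan : ∀ j, j ≤ i → Subsingleton (LocCoh.H I j M₃)) :
    Nonempty (LocCoh.H I i M₁ ≃ₗ[R] LocCoh.H I i M₂) := by
  let S : ShortComplex (ModuleCat.{u} R) :=
    ShortComplex.mk (ModuleCat.ofHom f) (ModuleCat.ofHom g) (by
      ext x
      exact hfg.apply_apply_eq_zero x)
  have hS : S.ShortExact := by
    refine ShortComplex.ShortExact.mk' ?_ ?_ ?_
    · rw [ShortComplex.ShortExact.moduleCat_exact_iff_function_exact]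
      exact hfg
    · exact (ModuleCat.mono_iff_injective _).2 hf
    · exact (ModuleCat.epi_iff_surjective _).2 hg
  have hinj : Function.Injective ((localCohomology I i).map S.f).hom := by
    cases i with
    | zero =>
      haveI : Mono S.f := hS.mono_f
      exact map_injective_of_mono I S.f
    | succ k =>
      rw [injective_iff_map_eq_zero]
      intro x hx
      obtain ⟨x₃, rfl⟩ := exact₁ I k hS x hx
      haveI : Subsingleton ((localCohomology I k).obj S.X₃) := hvan k (Nat.le_succ k)
      rw [Subsingleton.elim x₃ 0, map_zero]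
  have hsurj : Function.Surjective ((localCohomology I i).map S.f).hom := by
    intro y
    haveI : Subsingleton ((localCohomology I i).obj S.X₃) := hvan i le_rfl
    exact exact₂ I i hS y (Subsingleton.elim _ _)
  exact ⟨LinearEquiv.ofBijective ((localCohomology I i).map S.f).hom ⟨hinj, hsurj⟩⟩

end Groth.Agent.H81.LCIso
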