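import Mathlib
import Groth.Agent.H81.DoubleLink
import Groth.Agent.H81.GrAB
import Groth.Agent.H81.LCIso
import Groth.Agent.H54.Catenary

/-!
# Depth of `R/J` at a maximal ideal and local cohomology of basic double links (helper81)
-/

set_option autoImplicit false

namespace Groth.Agent.H81.DoubleLinkLC

universe u

open IsLocalRing

section Depth

variable {R : Type u} [CommRing R] [IsNoetherianRing R]

/-- the localisation of `R/J` at a prime `𝔪` is `R_𝔪/J R_𝔪` as `R_𝔪`-module -/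
noncomputable def localizedQuotEquiv (𝔪 : Ideal R) [𝔪.IsPrime] (J : Ideal R) :
    LocalizedModule 𝔪.primeCompl (R ⧸ J) ≃ₗ[Localization.AtPrime 𝔪]
      (Localization.AtPrime 𝔪 ⧸ J.map (algebraMap R (Localization.AtPrime 𝔪))) := by
  let A := Localization.AtPrime 𝔪
  let φ : (R ⧸ J) →ₗ[R] (A ⧸ Submodule.localized' A 𝔪.primeCompl (Algebra.linearMap R A) J) :=
    Submodule.toLocalizedQuotient' A 𝔪.primeCompl (Algebra.linearMap R A) J
  have e1 : LocalizedModule 𝔪.primeCompl (R ⧸ J) ≃ₗ[R]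
      (A ⧸ Submodule.localized' A 𝔪.primeCompl (Algebra.linearMap R A) J) :=
    IsLocalizedModule.iso 𝔪.primeCompl φ
  have e2 : (A ⧸ Submodule.localized' A 𝔪.primeCompl (Algebra.linearMap R A) J) ≃ₗ[A]
      (A ⧸ J.map (algebraMap R A)) :=
    Submodule.quotEquivOfEq _ _ (Ideal.localized'_eq_map A 𝔪.primeCompl J)
  exact (e1.extendScalarsOfIsLocalization 𝔪.primeCompl A).trans e2

/-- `ht 𝔪 ≤ depth_𝔪(R/J) + ht q` for `R`, `R/J` Cohen–Macaulay, `𝔪` maximal and `q` a minimal prime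
of `J` inside `𝔪`. -/
theorem height_le_idealDepth_quotient_add (hR : LocCoh.IsCohenMacaulayRing R) (𝔪 : Ideal R)
    [h𝔪 : 𝔪.IsMaximal] (J : Ideal R) (hRJ : LocCoh.IsCohenMacaulayRing (R ⧸ J))
    (q : Ideal R) (hq : q ∈ J.minimalPrimes) (hq𝔪 : q ≤ 𝔪) :
    𝔪.height ≤ LocCoh.idealDepth 𝔪 (R ⧸ J) + q.height := by
  have hJ𝔪 : J ≤ 𝔪 := hq.1.2.trans hq𝔪
  have hqp : q.IsPrime := hq.1.1
  let A := Localization.AtPrime 𝔪
  have hA : LocCoh.IsCohenMacaulayLocalRing A := hR.isCohenMacaulayLocalRing_localization 𝔪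
  set 𝔞 : Ideal A := J.map (algebraMap R A) with h𝔞
  have h𝔞le : 𝔞 ≤ maximalIdeal A := by
    rw [← Localization.AtPrime.map_eq_maximalIdeal]
    exact Ideal.map_mono hJ𝔪
  have h𝔞ne : 𝔞 ≠ ⊤ :=
    fun h => (Ideal.IsPrime.ne_top' (I := maximalIdeal A)) (top_le_iff.mp (h ▸ h𝔞le))
  set Q : Ideal (R ⧸ J) := 𝔪.map (Ideal.Quotient.mk J) with hQ
  have hker : RingHom.ker (Ideal.Quotient.mk J) ≤ 𝔪 := by rw [Ideal.mk_ker]; exact hJ𝔪
  have hQp : Q.IsPrime := Ideal.map_isPrime_of_surjective Ideal.Quotient.mk_surjective hker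
  have hQc : Q.comap (Ideal.Quotient.mk J) = 𝔪 := by
    rw [hQ, Ideal.comap_map_of_surjective' _ Ideal.Quotient.mk_surjective, sup_eq_left]
    exact hker
  obtain ⟨e⟩ := LiaisonCM.nonempty_ringEquiv_localization_quotient R J 𝔪 Q hQc
  have hcm𝔞 : LocCoh.IsCohenMacaulayLocalRing (A ⧸ 𝔞) :=
    Groth.Agent.H49.isCohenMacaulayLocalRing_of_ringEquiv e
      (hRJ.isCohenMacaulayLocalRing_localization Q)
  have : IsLocalHom (algebraMap A (A ⧸ 𝔞)) :=
    IsLocalHom.of_surjective _ Ideal.Quotient.mk_surjective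
  have hdepth : LocCoh.idealDepth 𝔪 (R ⧸ J) = LocCoh.depth (A ⧸ 𝔞) (A ⧸ 𝔞) := by
    rw [GrAB.idealDepth_eq_depth_localization 𝔪 (R ⧸ J)]
    rw [← Groth.Agent.H29.DepthAB.depth_eq (A := A) (B := A ⧸ 𝔞) (A ⧸ 𝔞)]
    exact Groth.Agent.H15.idealDepth_congr (localizedQuotEquiv 𝔪 J) _
  have hdim : ringKrullDim (A ⧸ 𝔞) = ((LocCoh.depth (A ⧸ 𝔞) (A ⧸ 𝔞) : ℕ∞) : WithBot ℕ∞) := by
    rw [← Module.supportDim_self_eq_ringKrullDim]
    exact hcm𝔞.supportDim_eq_depth
  have h1 := Groth.Agent.H72.CMLocal.ringKrullDim_le_quotient_add_height A hA 𝔞 h𝔞ne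
  rw [IsLocalization.AtPrime.ringKrullDim_eq_height 𝔪 A, hdim, ← hdepth] at h1
  have hdisj : Disjoint (𝔪.primeCompl : Set R) (q : Set R) := by
    rw [Set.disjoint_left]
    intro a ha haq
    exact ha (hq𝔪 haq)
  have hqA : (q.map (algebraMap R A)).IsPrime :=
    IsLocalization.isPrime_of_isPrime_disjoint 𝔪.primeCompl A q hqp hdisj
  have hunder : (q.map (algebraMap R A)).under R = q :=
    IsLocalization.under_map_of_isPrime_disjoint 𝔪.primeCompl A hqp hdisj
  have hht : (q.map (algebraMap R A)).height = q.height := by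
    rw [← IsLocalization.height_under 𝔪.primeCompl (q.map (algebraMap R A)), hunder]
  have h2 : 𝔞.height ≤ q.height := by
    rw [← hht]
    exact Ideal.height_mono (Ideal.map_mono hq.1.2)
  have h3 : ((𝔪.height : ℕ∞) : WithBot ℕ∞) ≤
      ((LocCoh.idealDepth 𝔪 (R ⧸ J) + q.height : ℕ∞) : WithBot ℕ∞) := by
    rw [WithBot.coe_add]
    exact h1.trans (add_le_add_right (WithBot.coe_le_coe.mpr h2) _)
  exact WithBot.coe_le_coe.mp h3

end Depth

section Proj

variable {R : Type u} [CommRing R] (J I : Ideal R) (f : R)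

theorem proj_surjective : Function.Surjective (DoubleLink.proj J I f) := by
  intro y
  obtain ⟨r, rfl⟩ := Submodule.Quotient.mk_surjective _ y
  exact ⟨Submodule.Quotient.mk r, rfl⟩

end Proj

section Main

/-- abbreviation for the polynomial ring -/
abbrev R (K : Type u) [Field K] (n : ℕ) : Type u := MvPolynomial (Fin (n + 1)) K

theorem nonempty_H_equiv_basicDoubleLink (K : Type u) [Field K] (n h : ℕ)
    (J I : Ideal (R K n))
    (hJ : J.IsHomogeneous (GrSyz.stdGr K (Fin (n + 1))))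
    (hJI : J ≤ I) (hJh : J.height = h)
    [LocCoh.IsCohenMacaulayRing (R K n ⧸ J)]
    (f : R K n) (d : ℕ) (hf : f ∈ GrSyz.stdGr K (Fin (n + 1)) (d : ℤ))
    (hJf : J.colon {f} = J) (i : ℕ) (hi : i + h < n) :
    Nonempty (LocCoh.H (GrSyz.irrel (GrSyz.stdGr K (Fin (n + 1)))).toIdeal i
        (R K n ⧸ (J ⊔ Ideal.span {f} * I)) ≃ₗ[R K n]
      LocCoh.H (GrSyz.irrel (GrSyz.stdGr K (Fin (n + 1)))).toIdeal i (R K n ⧸ I)) := by
  classical
  set 𝔪 : Ideal (R K n) := (GrSyz.irrel (GrSyz.stdGr K (Fin (n + 1)))).toIdeal with h𝔪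
  have h𝔪max : 𝔪.IsMaximal := Groth.Agent.H77.irrel_isMaximal
  have hKcm : LocCoh.IsCohenMacaulayRing K :=
    Groth.Agent.H72.CMLocal.isCohenMacaulayRing_of_local K
      (Groth.Agent.H26.CMFlat.isCohenMacaulayLocalRing_of_isRegularLocalRing K)
  have hR : LocCoh.IsCohenMacaulayRing (R K n) := Groth.Agent.S2092.result (n + 1)
  have hRJ : LocCoh.IsCohenMacaulayRing ((R K n) ⧸ J) := inferInstance
  -- the irrelevant ideal is the kernel of the constant coefficient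
  have h𝔪ker : RingHom.ker (MvPolynomial.constantCoeff : (R K n) →+* K) = 𝔪 := by
    have hmax : (RingHom.ker (MvPolynomial.constantCoeff : (R K n) →+* K)).IsMaximal :=
      RingHom.ker_isMaximal_of_surjective _ (fun c =>
        ⟨MvPolynomial.C c, MvPolynomial.constantCoeff_C _ c⟩)
    refine (h𝔪max.eq_of_le hmax.ne_top ?_).symm
    intro p hp
    rw [RingHom.mem_ker]
    exact Groth.Agent.H77.constantCoeff_eq_zero_of_mem_irrel hp
  by_cases htop : J ⊔ Ideal.span {f} = ⊤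
  · -- degenerate case: `f` is a unit modulo `J`, and `J + fI = I`
    have hI : J ⊔ Ideal.span {f} * I = I := by
      apply le_antisymm
      · exact sup_le hJI Ideal.mul_le_right
      · calc I = (J ⊔ Ideal.span {f}) * I := by rw [htop, Ideal.top_mul]
          _ = J * I ⊔ Ideal.span {f} * I := Ideal.sup_mul _ _ _
          _ ≤ J ⊔ Ideal.span {f} * I := sup_le_sup_right Ideal.mul_le_left _
    rw [hI]
    exact ⟨LinearEquiv.refl _ _⟩
  · have hhom : (J ⊔ Ideal.span {f}).IsHomogeneous (GrSyz.stdGr K (Fin (n + 1))) := by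
      refine hJ.sup ?_
      apply Ideal.homogeneous_span
      rintro x hx
      rw [Set.mem_singleton_iff] at hx
      subst hx
      exact ⟨_, hf⟩
    have hle𝔪 : J ⊔ Ideal.span {f} ≤ 𝔪 := by
      rw [← h𝔪ker]
      exact Groth.Agent.H81.GrUnmixed.le_ker_constantCoeff_of_isHomogeneous K (Fin (n + 1)) _ hhom htop
    have hJ𝔪 : J ≤ 𝔪 := le_sup_left.trans hle𝔪
    have hf𝔪 : f ∈ 𝔪 := hle𝔪 (Submodule.mem_sup_right (Ideal.mem_span_singleton_self f))
    -- a minimal prime of `J`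
    have hJne : J ≠ ⊤ := fun h => h𝔪max.ne_top (top_le_iff.mp (h ▸ hJ𝔪))
    obtain ⟨q, hq⟩ := Ideal.nonempty_minimalPrimes hJne
    have hqp : q.IsPrime := hq.1.1
    have hq𝔪 : q ≤ 𝔪 := by
      rw [← h𝔪ker]
      exact Groth.Agent.H81.GrUnmixed.le_ker_constantCoeff_of_isHomogeneous K (Fin (n + 1)) q
        (Groth.Agent.H81.GrUnmixed.isHomogeneous_of_mem_minimalPrimes K (Fin (n + 1)) J q hJ hq)
        hqp.ne_top
    have hqh : q.height = h := by
      rw [Groth.Agent.H81.GrUnmixed.height_eq_of_mem_minimalPrimes K (n + 1) J hJ hRJ q hq, hJh]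
    have h𝔪h : 𝔪.height = ((n + 1 : ℕ) : ℕ∞) :=
      Groth.Agent.H54.height_of_isMaximal_mvPolynomial K (n + 1) 𝔪
    have hdep := Groth.Agent.H81.DoubleLinkLC.height_le_idealDepth_quotient_add hR 𝔪 J hRJ q hq hq𝔪
    rw [h𝔪h, hqh] at hdep
    -- depth of `(R K n)/J` is at least `n + 1 - h`
    have hdepJ : (((n - h) + 1 : ℕ) : ℕ∞) ≤ LocCoh.idealDepth 𝔪 ((R K n) ⧸ J) := by
      have h1 : ((n + 1 : ℕ) : ℕ∞) = (((n - h) + 1 : ℕ) : ℕ∞) + (h : ℕ∞) := by
        have : n + 1 = (n - h) + 1 + h := by omega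
        rw [this]
        push_cast
        ring
      rw [h1] at hdep
      exact (ENat.add_le_add_iff_right (ENat.natCast_ne_top h)).mp hdep
    -- `f` is regular on `(R K n)/J`
    have hreg : IsSMulRegular ((R K n) ⧸ J) f := by
      rw [isSMulRegular_iff_right_eq_zero_of_smul]
      intro x hx
      obtain ⟨y, rfl⟩ := Ideal.Quotient.mk_surjective x
      have hx' : Ideal.Quotient.mk J (f * y) = 0 := hx
      rw [Ideal.Quotient.eq_zero_iff_mem] at hx' ⊢
      rw [← hJf, Submodule.mem_colon_singleton, smul_eq_mul, mul_comm]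
      exact hx'
    have hdep2 := Groth.Agent.H15.le_idealDepth_quotSMulTop 𝔪 ((R K n) ⧸ J) f hf𝔪 hreg (n - h) hdepJ
    -- `((R K n)/J)/f((R K n)/J) ≃ (R K n)/(J + fR)`
    have hequiv : Nonempty (QuotSMulTop f ((R K n) ⧸ J) ≃ₗ[(R K n)] ((R K n) ⧸ (J ⊔ Ideal.span {f}))) := by
      let φ : (R K n) →ₗ[(R K n)] QuotSMulTop f ((R K n) ⧸ J) :=
        (Submodule.mkQ _).comp (Submodule.mkQ J)
      have hφs : Function.Surjective φ :=
        (Submodule.mkQ_surjective _).comp (Submodule.mkQ_surjective _)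
      have hker : LinearMap.ker φ = J ⊔ Ideal.span {f} := by
        ext a
        rw [LinearMap.mem_ker]
        exact Groth.Agent.H81.DoubleLink.mk_mk_eq_zero_iff' J f a
      exact ⟨((LinearMap.quotKerEquivOfSurjective φ hφs).symm.trans
        (Submodule.quotEquivOfEq _ _ hker))⟩
    obtain ⟨eq3⟩ := hequiv
    have hdep3 : ((n - h : ℕ) : ℕ∞) ≤ LocCoh.idealDepth 𝔪 ((R K n) ⧸ (J ⊔ Ideal.span {f})) := by
      rw [← Groth.Agent.H15.idealDepth_congr eq3 𝔪]
      exact hdep2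
    have hne3 : 𝔪 • (⊤ : Submodule (R K n) ((R K n) ⧸ (J ⊔ Ideal.span {f}))) ≠ ⊤ := by
      intro htop'
      have h1 : (1 : (R K n) ⧸ (J ⊔ Ideal.span {f})) ∈ 𝔪 • (⊤ : Submodule (R K n) ((R K n) ⧸ (J ⊔ Ideal.span {f}))) := by
        rw [htop']; trivial
      have h2 : 𝔪 • (⊤ : Submodule (R K n) ((R K n) ⧸ (J ⊔ Ideal.span {f}))) ≤
          (Submodule.map (Submodule.mkQ (J ⊔ Ideal.span {f})) 𝔪) := by
        rw [Submodule.smul_le]
        intro r hr x _
        obtain ⟨y, rfl⟩ := Submodule.mkQ_surjective _ x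
        exact ⟨r * y, Ideal.mul_mem_right _ _ hr, rfl⟩
      obtain ⟨z, hz, hz1⟩ := h2 h1
      have h3 : z - 1 ∈ J ⊔ Ideal.span {f} := by
        rw [← Ideal.Quotient.eq_zero_iff_mem, map_sub, map_one]
        rw [sub_eq_zero]
        exact hz1
      have h4 : (1 : (R K n)) ∈ 𝔪 := by
        have := 𝔪.sub_mem hz (hle𝔪 h3)
        simpa using this
      exact h𝔪max.ne_top ((Ideal.eq_top_iff_one _).mpr h4)
    have hvan : ∀ j, j ≤ i → Subsingleton (LocCoh.H 𝔪 j ((R K n) ⧸ (J ⊔ Ideal.span {f}))) := by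
      intro j hj
      exact Groth.Agent.H2.LCInjective.subsingleton_H_of_lt_depth 𝔪 (n - h) _ hne3 hdep3 j
        (by omega)
    obtain ⟨e⟩ := Groth.Agent.H81.LCIso.nonempty_H_equiv 𝔪
      (Groth.Agent.H81.DoubleLink.mulQuot J I f) (Groth.Agent.H81.DoubleLink.proj J I f)
      (Groth.Agent.H81.DoubleLink.mulQuot_injective J I f hJI hJf)
      (Groth.Agent.H81.DoubleLink.exact_mulQuot_proj J I f)
      (Groth.Agent.H81.DoubleLinkLC.proj_surjective J I f) i hvan
    exact ⟨e.symm⟩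

end Main

end Groth.Agent.H81.DoubleLinkLC
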