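import Groth.Agent.H81.FaltingsFin
import Groth.Agent.H85.GradedCMUnmixed

/-!
# Finiteness of `H^i_I(M)` when `M` is Cohen–Macaulay off `V(I)`
-/
set_option autoImplicit false
set_option linter.unusedSectionVars false
universe u
open CategoryTheory IsLocalRing

namespace Groth.Agent.H81.FaltingsCM
open Groth.Agent.H58.LC

section Noeth
variable {A : Type u} [CommRing A] [IsNoetherianRing A]

theorem height_Ici_ne_top (p q : PrimeSpectrum A) (hpq : p ≤ q) :
    Order.height (⟨q, hpq⟩ : Set.Ici p) ≠ ⊤ := by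
  rw [Groth.Agent.H81.RelCodim.height_Ici_eq]
  have hne : q.asIdeal.map (Ideal.Quotient.mk p.asIdeal) ≠ ⊤ := by
    intro h
    have h1 := congrArg (Ideal.comap (Ideal.Quotient.mk p.asIdeal)) h
    rw [Ideal.comap_map_of_surjective _ Ideal.Quotient.mk_surjective, Ideal.comap_top,
      ← RingHom.ker_eq_comap_bot, Ideal.mk_ker, sup_eq_left.mpr hpq] at h1
    exact q.2.ne_top h1
  exact Ideal.height_ne_top hne

theorem exists_eq_relCodim (I : Ideal A) (p : PrimeSpectrum A) (h : SGA2.relCodim I p ≠ ⊤) :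
    ∃ (q : PrimeSpectrum A) (hpq : p ≤ q), I ≤ q.asIdeal ∧
      Order.height (⟨q, hpq⟩ : Set.Ici p) = SGA2.relCodim I p := by
  unfold SGA2.relCodim at h ⊢
  haveI : Nonempty {q : PrimeSpectrum A // p ≤ q ∧ I ≤ q.asIdeal} := by
    by_contra hne
    rw [not_nonempty_iff] at hne
    rw [iInf_of_empty] at h
    exact h rfl
  obtain ⟨q, hq⟩ := ENat.exists_eq_iInf
    (fun q : {q : PrimeSpectrum A // p ≤ q ∧ I ≤ q.asIdeal} =>
      Order.height (⟨q.1, q.2.1⟩ : Set.Ici p))
  exact ⟨q.1, q.2.1, q.2.2, hq⟩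

end Noeth

section Gor
variable {R : Type u} [CommRing R] [LocCoh.IsGorensteinRing R] {A : Type u} [CommRing A]
  [IsNoetherianRing A] (π : R →+* A) (hπ : Function.Surjective π)

include hπ in
/-- additivity of relative heights in a quotient of a Gorenstein ring (catenarity) -/
theorem height_Ici_add (p0 p q : PrimeSpectrum A) (h1 : p0 ≤ p) (h2 : p ≤ q) :
    Order.height (⟨q, h1.trans h2⟩ : Set.Ici p0) =
      Order.height (⟨p, h1⟩ : Set.Ici p0) + Order.height (⟨q, h2⟩ : Set.Ici p) := by
  haveI : IsNoetherianRing R := LocCoh.IsGorensteinRing.toIsNoetherian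
  obtain ⟨c1, hc1⟩ := ENat.ne_top_iff_exists.mp (height_Ici_ne_top p q h2)
  obtain ⟨c2, hc2⟩ := ENat.ne_top_iff_exists.mp (height_Ici_ne_top p0 p h1)
  obtain ⟨c3, hc3⟩ := ENat.ne_top_iff_exists.mp (height_Ici_ne_top p0 q (h1.trans h2))
  have e1 := Groth.Agent.H81.CodimOne.height_comap_eq_add π hπ c1 p q h2 hc1.symm
  have e2 := Groth.Agent.H81.CodimOne.height_comap_eq_add π hπ c2 p0 p h1 hc2.symm
  have e3 := Groth.Agent.H81.CodimOne.height_comap_eq_add π hπ c3 p0 q (h1.trans h2) hc3.symm
  haveI : (p0.asIdeal.comap π).IsPrime := Ideal.comap_isPrime π _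
  obtain ⟨n0, hn0⟩ := ENat.ne_top_iff_exists.mp
    (Ideal.height_ne_top_of_isPrime (I := p0.asIdeal.comap π))
  rw [← hn0] at e2 e3
  rw [e2] at e1
  rw [e1] at e3
  have : n0 + c2 + c1 = n0 + c3 := by exact_mod_cast e3
  rw [← hc1, ← hc2, ← hc3]
  have h4 : c3 = c2 + c1 := by omega
  exact_mod_cast h4

include hπ in
theorem relCodim_le_add (I : Ideal A) (p0 p : PrimeSpectrum A) (h : p0 ≤ p) :
    SGA2.relCodim I p0 ≤ Order.height (⟨p, h⟩ : Set.Ici p0) + SGA2.relCodim I p := by
  by_cases hc : SGA2.relCodim I p = ⊤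
  · rw [hc, add_top]; exact le_top
  obtain ⟨q, hpq, hIq, hq⟩ := exists_eq_relCodim I p hc
  rw [← hq, ← height_Ici_add π hπ p0 p q h hpq]
  exact Groth.Agent.H81.RelCodim.relCodim_le I p0 q (h.trans hpq) hIq

end Gor

section Main
variable (R : Type u) [CommRing R] [IsRegularRing R] (A : Type u) [CommRing A]
  [IsNoetherianRing A] (π : R →+* A) (hπ : Function.Surjective π)

include hπ in
theorem le_minAdjDepth_iff_minimalPrimes (I : Ideal A) (M : Type u) [AddCommGroup M]
    [Module A M] [Module.Finite A M]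
    (hCM : ∀ p : PrimeSpectrum A, ¬ I ≤ p.asIdeal →
      Subsingleton (LocalizedModule p.asIdeal.primeCompl M) ∨
        LocCoh.IsCohenMacaulayModule (Localization.AtPrime p.asIdeal)
          (LocalizedModule p.asIdeal.primeCompl M)) (n : ℕ) :
    ((n + 1 : ℕ) : ℕ∞) ≤ LocCoh.minAdjDepth I I M ↔
      ∀ p : PrimeSpectrum A, ¬ I ≤ p.asIdeal →
        p.asIdeal ∈ (Module.annihilator A M).minimalPrimes → (n : ℕ∞) < SGA2.relCodim I p := by
  haveI : LocCoh.IsGorensteinRing R := Groth.Agent.H89.GorReg.isGorensteinRing_of_isRegularRing R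
  constructor
  · intro h p hp hmin
    haveI := p.2
    have h1 : ((n + 1 : ℕ) : ℕ∞) ≤ LocCoh.adjDepth I M p := h.trans (iInf₂_le p hp)
    unfold LocCoh.adjDepth at h1
    rw [← Groth.Agent.H81.FaltingsFin.relCodim_eq_height] at h1
    have h2 := Groth.Agent.H58.X15.depth_localization_eq_zero_of_mem_associatedPrimes M p.asIdeal
      (Module.associatedPrimes.minimalPrimes_annihilator_subset_associatedPrimes A M hmin)
    have h3 : LocCoh.depth (Localization.AtPrime p.asIdeal)
        (LocalizedModule p.asIdeal.primeCompl M) = 0 := le_antisymm h2 zero_le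
    rw [h3, zero_add] at h1
    rw [← ENat.add_one_le_iff (ENat.natCast_ne_top n)]
    exact_mod_cast h1
  · intro h
    unfold LocCoh.minAdjDepth
    refine le_iInf₂ fun p hp => ?_
    haveI := p.2
    unfold LocCoh.adjDepth
    rw [← Groth.Agent.H81.FaltingsFin.relCodim_eq_height]
    rcases subsingleton_or_nontrivial (LocalizedModule p.asIdeal.primeCompl M) with hsub | hnt
    · unfold LocCoh.depth
      rw [Groth.Agent.H58.DepthBasic.idealDepth_eq_top_of_smul_top_eq _ _ (Subsingleton.elim _ _),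
        top_add]
      exact le_top
    · have hcm : LocCoh.IsCohenMacaulayModule (Localization.AtPrime p.asIdeal)
          (LocalizedModule p.asIdeal.primeCompl M) := by
        rcases hCM p hp with h1 | h1
        · exact absurd h1 (not_subsingleton _)
        · exact h1
      have hsupp : p ∈ Module.support A M := Module.mem_support_iff.mpr hnt
      have hann : Module.annihilator A M ≤ p.asIdeal := Module.mem_support_iff_of_finite.mp hsupp
      obtain ⟨p0I, hp0min, hp0le⟩ := Ideal.exists_minimalPrimes_le hann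
      haveI hp0prime : p0I.IsPrime := hp0min.1.1
      set p0 : PrimeSpectrum A := ⟨p0I, hp0prime⟩ with hp0def
      have hp0p : p0 ≤ p := hp0le
      have hp0 : ¬ I ≤ p0.asIdeal := fun hI => hp (hI.trans hp0le)
      have h0 := h p0 hp0 hp0min
      have h1 := relCodim_le_add π hπ I p0 p hp0p
      have hP' : (p.asIdeal.map (Ideal.Quotient.mk p0I)).IsPrime :=
        Ideal.map_isPrime_of_surjective Ideal.Quotient.mk_surjective
          (by rw [Ideal.mk_ker]; exact hp0le)
      have hcomap : p.asIdeal = (p.asIdeal.map (Ideal.Quotient.mk p0I)).comap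
          (Ideal.Quotient.mk p0I) := by
        rw [Ideal.comap_map_of_surjective _ Ideal.Quotient.mk_surjective,
          ← RingHom.ker_eq_comap_bot, Ideal.mk_ker, sup_eq_left.mpr hp0le]
      have h2 := Groth.Agent.H85.GradedCM.height_le_supportDim_localization (M := M) p0I
        hp0min.1.2 p.asIdeal (p.asIdeal.map (Ideal.Quotient.mk p0I)) hcomap
      rw [hcm, WithBot.coe_le_coe] at h2
      have h3 : Order.height (⟨p, hp0p⟩ : Set.Ici p0) ≤
          LocCoh.depth (Localization.AtPrime p.asIdeal)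
            (LocalizedModule p.asIdeal.primeCompl M) := by
        rw [Groth.Agent.H81.RelCodim.height_Ici_eq]
        exact h2
      have h4 : ((n + 1 : ℕ) : ℕ∞) ≤ SGA2.relCodim I p0 := by
        rw [Nat.cast_add, Nat.cast_one]
        exact Order.add_one_le_of_lt h0
      refine h4.trans (h1.trans ?_)
      gcongr

include hπ in
theorem finite_iff_relCodim (I : Ideal A) (M : Type u) [AddCommGroup M]
    [Module A M] [Module.Finite A M]
    (hCM : ∀ p : PrimeSpectrum A, ¬ I ≤ p.asIdeal →
      Subsingleton (LocalizedModule p.asIdeal.primeCompl M) ∨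
        LocCoh.IsCohenMacaulayModule (Localization.AtPrime p.asIdeal)
          (LocalizedModule p.asIdeal.primeCompl M)) (n : ℕ) :
    (∀ i : ℕ, i ≤ n → Module.Finite A (LocCoh.H I i M)) ↔
      ∀ p : PrimeSpectrum A, ¬ I ≤ p.asIdeal →
        p.asIdeal ∈ (Module.annihilator A M).minimalPrimes → (n : ℕ∞) < SGA2.relCodim I p := by
  rw [Groth.Agent.H81.FaltingsFin.finite_iff_le_minAdjDepth R A π hπ I M n]
  exact le_minAdjDepth_iff_minimalPrimes R A π hπ I M hCM n

end Main

end Groth.Agent.H81.FaltingsCM
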