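import Groth.Agent.S11660
import Groth.Agent.S5164
import Groth.Agent.H81.DepthLC
import Groth.Agent.H58.LCFaltings

/-!
# Finiteness of `H^i_I(M)` for `i ≤ n` over an image of a regular ring (Faltings)
-/
set_option autoImplicit false
set_option linter.unusedSectionVars false
universe u
open CategoryTheory IsLocalRing

namespace Groth.Agent.H81.FaltingsFin
open Groth.Agent.H58.LC

section RelCodim
variable {A : Type u} [CommRing A]

/-- `c(p)` is the height of `(I + p)/p` in `A/p`. -/
theorem relCodim_eq_height (I : Ideal A) (p : PrimeSpectrum A) :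
    SGA2.relCodim I p = ((I ⊔ p.asIdeal).map (Ideal.Quotient.mk p.asIdeal)).height := by
  haveI := p.2
  apply le_antisymm
  · rw [Ideal.height_eq_inf_minimalPrimes]
    refine le_iInf₂ fun Q hQ => ?_
    haveI : Q.IsPrime := hQ.1.1
    set q : PrimeSpectrum A := ⟨Q.comap (Ideal.Quotient.mk p.asIdeal), inferInstance⟩ with hq
    have hpq : p ≤ q := by
      show p.asIdeal ≤ Q.comap (Ideal.Quotient.mk p.asIdeal)
      intro x hx
      rw [Ideal.mem_comap, Ideal.Quotient.eq_zero_iff_mem.mpr hx]
      exact Q.zero_mem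
    have hIq : I ≤ q.asIdeal := by
      show I ≤ Q.comap (Ideal.Quotient.mk p.asIdeal)
      rw [← Ideal.map_le_iff_le_comap]
      exact (Ideal.map_mono le_sup_left).trans hQ.1.2
    have h1 := Groth.Agent.H81.RelCodim.relCodim_le I p q hpq hIq
    rw [Groth.Agent.H81.RelCodim.height_Ici_eq] at h1
    have h2 : q.asIdeal.map (Ideal.Quotient.mk p.asIdeal) = Q :=
      Ideal.map_comap_of_surjective _ Ideal.Quotient.mk_surjective Q
    rwa [h2] at h1
  · unfold SGA2.relCodim
    refine le_iInf fun q => ?_
    rw [Groth.Agent.H81.RelCodim.height_Ici_eq]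
    apply Ideal.height_mono
    apply Ideal.map_mono
    exact sup_le q.2.2 q.2.1

theorem height_Ici_eq_one_of_covBy (p q : PrimeSpectrum A) (h : p ⋖ q) :
    Order.height (⟨q, h.le⟩ : Set.Ici p) = 1 := by
  apply le_antisymm
  · have : Order.height (⟨q, h.le⟩ : Set.Ici p) ≤ ((1 : ℕ) : ℕ∞) := by
      rw [Order.height_le_coe_iff]
      intro y hy
      have hyp : y.1 = p := by
        by_contra hne
        exact h.2 (lt_of_le_of_ne y.2 (Ne.symm hne)) hy
      have hmin : IsMin y := by
        intro z _
        show y.1 ≤ z.1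
        rw [hyp]
        exact z.2
      rw [Order.height_eq_zero.mpr hmin]
      exact_mod_cast zero_lt_one
    exact_mod_cast this
  · rw [Order.one_le_iff_ne_zero, Order.height_ne_zero]
    intro hmin
    have h1 : (⟨q, h.le⟩ : Set.Ici p) ≤ ⟨p, le_refl p⟩ :=
      hmin (show (⟨p, le_refl p⟩ : Set.Ici p) ≤ ⟨q, h.le⟩ from h.le)
    have h2 : q ≤ p := h1
    exact absurd h.lt (not_lt_of_ge h2)

theorem relCodim_le_one_of_covBy (I : Ideal A) (p q : PrimeSpectrum A) (h : p ⋖ q)
    (hIq : I ≤ q.asIdeal) : SGA2.relCodim I p ≤ 1 := by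
  have := Groth.Agent.H81.RelCodim.relCodim_le I p q h.le hIq
  rwa [height_Ici_eq_one_of_covBy p q h] at this

theorem exists_covBy_of_relCodim_eq_one (I : Ideal A) (p : PrimeSpectrum A)
    (h : SGA2.relCodim I p = 1) : ∃ q : PrimeSpectrum A, I ≤ q.asIdeal ∧ p ⋖ q := by
  unfold SGA2.relCodim at h
  haveI : Nonempty {q : PrimeSpectrum A // p ≤ q ∧ I ≤ q.asIdeal} := by
    by_contra hne
    rw [not_nonempty_iff] at hne
    rw [iInf_of_empty] at h
    exact absurd h (by simp)
  obtain ⟨q, hq⟩ := ENat.exists_eq_iInf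
    (fun q : {q : PrimeSpectrum A // p ≤ q ∧ I ≤ q.asIdeal} =>
      Order.height (⟨q.1, q.2.1⟩ : Set.Ici p))
  rw [h] at hq
  obtain ⟨y, hy, hy0⟩ := Groth.Agent.H81.CodimOne.exists_covBy_of_height_eq
    (⟨q.1, q.2.1⟩ : Set.Ici p) 0 (by simpa using hq)
  have hmin : IsMin y := Order.height_eq_zero.mp (by exact_mod_cast hy0)
  have hyp : y = ⟨p, le_refl p⟩ :=
    le_antisymm (hmin (show (⟨p, le_refl p⟩ : Set.Ici p) ≤ y from y.2)) y.2
  subst hyp
  exact ⟨q.1, q.2.2, Groth.Agent.H81.CodimOne.covBy_of_covBy_Ici p _ _ hy⟩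

end RelCodim

section Main
variable (R : Type u) [CommRing R] [IsRegularRing R] (A : Type u) [CommRing A]
  [IsNoetherianRing A] (π : R →+* A) (hπ : Function.Surjective π)

include hπ in
/-- Faltings' annihilator theorem in elementwise form. -/
theorem radKills_of_lt_minAdjDepth (a b : Ideal A) (M : Type u) [AddCommGroup M] [Module A M]
    [Module.Finite A M] (i : ℕ) (hi : (i : ℕ∞) < LocCoh.minAdjDepth a b M) :
    RadKills b (LocCoh.H a i M) := by
  rw [← radKills_iff]
  by_contra hcon
  have h1 : LocCoh.finDimRel a b M ≤ (i : ℕ∞) := iInf₂_le i hcon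
  have h2 := Groth.Agent.S11660.result R A π hπ a b M
  exact absurd (lt_of_lt_of_le hi (h2.trans h1)) (lt_irrefl _)

include hπ in
/-- `H^i_I(M)` is finite for all `i ≤ n` iff `n < λ_I^I(M)`. -/
theorem finite_iff_le_minAdjDepth (I : Ideal A) (M : Type u) [AddCommGroup M] [Module A M]
    [Module.Finite A M] (n : ℕ) :
    (∀ i : ℕ, i ≤ n → Module.Finite A (LocCoh.H I i M)) ↔
      ((n + 1 : ℕ) : ℕ∞) ≤ LocCoh.minAdjDepth I I M := by
  constructor
  · intro h
    obtain ⟨J, hJ, hkill⟩ := (faltings_iff I M n).mp h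
    refine le_trans ?_ (finDimRel_le_minAdjDepth I I M)
    unfold LocCoh.finDimRel
    refine le_iInf₂ fun i hi => ?_
    by_contra hlt
    rw [not_le] at hlt
    have hin : i ≤ n := by
      have : i < n + 1 := by exact_mod_cast hlt
      omega
    apply hi
    rw [radKills_iff]
    intro r hr
    obtain ⟨k, hk⟩ := hJ hr
    exact ⟨k, fun x => hkill i hin _ hk x⟩
  · intro h
    apply finite_H_of_radKills I n M
    intro i hi
    apply radKills_of_lt_minAdjDepth R A π hπ I I M i
    refine lt_of_lt_of_le ?_ h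
    exact_mod_cast Nat.lt_succ_of_le hi

include hπ in
/-- the codimension-one form of the depth condition -/
theorem le_minAdjDepth_iff_covBy (I : Ideal A) (M : Type u) [AddCommGroup M] [Module A M]
    [Module.Finite A M] (n : ℕ) :
    ((n + 1 : ℕ) : ℕ∞) ≤ LocCoh.minAdjDepth I I M ↔
      ∀ p q : PrimeSpectrum A, ¬ I ≤ p.asIdeal → I ≤ q.asIdeal → p ⋖ q →
        (n : ℕ∞) ≤ LocCoh.depth (Localization.AtPrime p.asIdeal)
          (LocalizedModule p.asIdeal.primeCompl M) := by
  constructor
  · intro h p q hp hq hpq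
    have h1 : ((n + 1 : ℕ) : ℕ∞) ≤ LocCoh.adjDepth I M p := h.trans (iInf₂_le p hp)
    unfold LocCoh.adjDepth at h1
    rw [← relCodim_eq_height] at h1
    have h2 := relCodim_le_one_of_covBy I p q hpq hq
    have h3 : ((n : ℕ∞) + 1) ≤ LocCoh.depth (Localization.AtPrime p.asIdeal)
        (LocalizedModule p.asIdeal.primeCompl M) + 1 := by
      refine le_trans (by exact_mod_cast h1) ?_
      gcongr
    exact (ENat.add_le_add_iff_right (by simp)).mp h3
  · intro h
    unfold LocCoh.minAdjDepth
    refine le_iInf₂ fun p hp => ?_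
    haveI := p.2
    unfold LocCoh.adjDepth
    rw [← relCodim_eq_height]
    by_cases hc : SGA2.relCodim I p = ⊤
    · rw [hc, add_top]; exact le_top
    by_cases hd : LocCoh.depth (Localization.AtPrime p.asIdeal)
        (LocalizedModule p.asIdeal.primeCompl M) = ⊤
    · rw [hd, top_add]; exact le_top
    obtain ⟨c, hc'⟩ := ENat.ne_top_iff_exists.mp hc
    obtain ⟨d, hd'⟩ := ENat.ne_top_iff_exists.mp hd
    rw [← hc', ← hd']
    by_contra hcon
    rw [not_le] at hcon
    have hdc : d + c ≤ n := by
      have : d + c < n + 1 := by exact_mod_cast hcon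
      omega
    -- the codimension one vanishing in degree `d + c`
    have hone : ∀ p' : PrimeSpectrum A, ¬ I ≤ p'.asIdeal → SGA2.relCodim I p' = 1 →
        ∀ j : ℕ, j + 1 = d + c → Subsingleton (LocCoh.H
          (IsLocalRing.maximalIdeal (Localization.AtPrime p'.asIdeal)) j
          (LocalizedModule p'.asIdeal.primeCompl M)) := by
      intro p' hp' hc1 j hj
      obtain ⟨q, hq, hpq⟩ := exists_covBy_of_relCodim_eq_one I p' hc1
      have h1 := h p' q hp' hq hpq
      apply Groth.Agent.H81.FaltingsReg.subsingleton_H_local M p' j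
      refine lt_of_lt_of_le ?_ h1
      have : j < n := by omega
      exact_mod_cast this
    have hvan := (Groth.Agent.S5164.result R A π hπ I M (d + c)).mpr hone p hp c d hc'.symm rfl
    -- contradiction with `depth M_p = d`
    haveI : Module.Finite (Localization.AtPrime p.asIdeal)
        (LocalizedModule p.asIdeal.primeCompl M) :=
      Module.Finite.of_isLocalizedModule p.asIdeal.primeCompl
        (LocalizedModule.mkLinearMap p.asIdeal.primeCompl M)
    have hlt := (Groth.Agent.H81.DepthLC.forall_subsingleton_H_iff_lt_idealDepth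
      (Localization.AtPrime p.asIdeal) (maximalIdeal (Localization.AtPrime p.asIdeal))
      (LocalizedModule p.asIdeal.primeCompl M) d).mp (by
        intro j hj
        rcases Nat.lt_or_ge j d with hjd | hjd
        · apply Groth.Agent.H81.FaltingsReg.subsingleton_H_local M p j
          rw [← hd']
          exact_mod_cast hjd
        · obtain rfl : j = d := by omega
          exact hvan)
    change (d : ℕ∞) < LocCoh.depth (Localization.AtPrime p.asIdeal)
      (LocalizedModule p.asIdeal.primeCompl M) at hlt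
    rw [← hd'] at hlt
    exact lt_irrefl _ hlt

end Main

end Groth.Agent.H81.FaltingsFin
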