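import Mathlib
import Groth.Agent.Lead.FittingLoc

set_option autoImplicit false

namespace Groth.Agent.H81.FittSemilinear

open Groth.Agent.Lead

universe u u' v v'

variable {A : Type u} {B : Type u'} [CommRing A] [CommRing B] (σ : A →+* B)
  {N : Type v} {N' : Type v'} [AddCommGroup N] [Module A N] [AddCommGroup N'] [Module B N']

theorem map_le (hσ : Function.Surjective σ) (e : N →ₛₗ[σ] N') (he : Function.Surjective e) (k : ℕ) :
    (Fitt.ideal A N k).map σ ≤ Fitt.ideal B N' k := by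
  haveI : RingHomSurjective σ := ⟨hσ⟩
  rw [Ideal.map_le_iff_le_comap]
  unfold Fitt.ideal
  rw [Ideal.span_le]
  rintro d ⟨n, x, a, hx, hrel, rfl⟩
  rw [SetLike.mem_coe, Ideal.mem_comap]
  apply Ideal.subset_span
  refine ⟨n, fun j => e (x j), a.map σ, ?_, ?_, ?_⟩
  · have h1 : Set.range (fun j => e (x j)) = e '' Set.range x := by
      ext y; constructor
      · rintro ⟨j, rfl⟩; exact ⟨x j, ⟨j, rfl⟩, rfl⟩
      · rintro ⟨_, ⟨j, rfl⟩, rfl⟩; exact ⟨j, rfl⟩
    rw [h1, ← Submodule.map_span, hx, Submodule.map_top, LinearMap.range_eq_top]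
    exact he
  · intro i hi
    have := congrArg e (hrel i hi)
    rw [map_sum, map_zero] at this
    rw [← this]
    refine Finset.sum_congr rfl (fun j _ => ?_)
    rw [LinearMap.map_smulₛₗ]
    rfl
  · rw [RingHom.map_det]
    rfl

theorem le_map (hσ : Function.Bijective σ) (e : N →ₛₗ[σ] N') (he : Function.Bijective e) (k : ℕ) :
    Fitt.ideal B N' k ≤ (Fitt.ideal A N k).map σ := by
  haveI : RingHomSurjective σ := ⟨hσ.2⟩
  unfold Fitt.ideal
  rw [Ideal.span_le]
  rintro d ⟨n, x', a', hx', hrel', rfl⟩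
  choose x hxe using fun j => he.2 (x' j)
  choose a hae using fun i j => hσ.2 (a' i j)
  have hdet : (Matrix.of a').det = σ (Matrix.of a).det := by
    rw [RingHom.map_det]
    congr 1
    ext i j
    rw [RingHom.mapMatrix_apply, Matrix.map_apply, Matrix.of_apply, Matrix.of_apply, hae]
  have ha' : a' = Matrix.of a' := rfl
  rw [SetLike.mem_coe, ha', hdet]
  apply Ideal.mem_map_of_mem
  apply Ideal.subset_span
  refine ⟨n, x, Matrix.of a, ?_, ?_, rfl⟩
  · rw [eq_top_iff]
    rintro y -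
    have h1 : Set.range x' = e '' Set.range x := by
      ext z; constructor
      · rintro ⟨j, rfl⟩; exact ⟨x j, ⟨j, rfl⟩, hxe j⟩
      · rintro ⟨_, ⟨j, rfl⟩, rfl⟩; exact ⟨j, (hxe j).symm⟩
    have h2 : e y ∈ Submodule.span B (Set.range x') := by rw [hx']; trivial
    rw [h1, ← Submodule.map_span] at h2
    obtain ⟨y₀, hy₀, hy₀e⟩ := h2
    rw [← he.1 hy₀e]
    exact hy₀
  · intro i hi
    apply he.1
    rw [map_sum, map_zero, ← hrel' i hi]
    refine Finset.sum_congr rfl (fun j _ => ?_)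
    rw [LinearMap.map_smulₛₗ, hxe]
    simp [hae]

theorem map_eq (hσ : Function.Bijective σ) (e : N →ₛₗ[σ] N') (he : Function.Bijective e) (k : ℕ) :
    (Fitt.ideal A N k).map σ = Fitt.ideal B N' k :=
  le_antisymm (map_le σ hσ.2 e he.2 k) (le_map σ hσ e he k)

end Groth.Agent.H81.FittSemilinear
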