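import Groth.Agent.H81.LocDual
import Groth.Agent.H2.GorensteinCM
import Groth.Agent.H72.CMLocal
import Groth.Agent.H2.GorensteinGlobal

/-!
# Annihilators of local cohomology via local duality  (helper81)

`R` a Noetherian local ring, quotient of a Gorenstein local ring `R'`, `M` a finite `R`-module.
`radical_annihilator_iff` : `J ⊆ √Ann H^i_m(M)` iff `H^{i - dim R/p}_{pR_p}(M_p) = 0` for all primes
`p ⊉ J`.
-/

set_option autoImplicit false
set_option linter.style.haveILetI false
set_option linter.unusedSectionVars false
universe u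
open CategoryTheory Abelian IsLocalRing

namespace Groth.Agent.H81.LCAnnDual

section L1

variable (R : Type u) [CommRing R] [LocCoh.IsGorensteinRing R]
  (M : Type u) [AddCommGroup M] [Module R M] [Module.Finite R M]

/-- above the height of `P`, `Ext_R^e(M, R)` is `(R ∖ P)`-torsion. -/
theorem forall_exists_smul_eq_zero_of_lt (P : Ideal R) [P.IsPrime] (n e : ℕ)
    (hn : P.height = n) (he : n < e) (x : Ext.{u} (ModuleCat.of R M) (ModuleCat.of R R) e) :
    ∃ s ∈ P.primeCompl, s • x = 0 := by
  haveI : IsNoetherianRing R := LocCoh.IsGorensteinRing.toIsNoetherian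
  haveI : LocCoh.IsGorensteinLocalRing (Localization.AtPrime P) :=
    LocCoh.IsGorensteinRing.isGorensteinLocalRing_localization P
  have hd : ringKrullDim (Localization.AtPrime P) = n := by
    rw [IsLocalization.AtPrime.ringKrullDim_eq_height P (Localization.AtPrime P), hn]
    rfl
  have hinj := Groth.Agent.H2.GorensteinCM.hasInjectiveDimensionLT_of_ringKrullDim
    (Localization.AtPrime P) n hd
  have hsub : Subsingleton (Ext.{u}
      (ModuleCat.of (Localization.AtPrime P) (LocalizedModule P.primeCompl M))
      (ModuleCat.of (Localization.AtPrime P) (Localization.AtPrime P)) e) :=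
    ⟨fun a b => by
      rw [Ext.eq_zero_of_hasInjectiveDimensionLT a (n + 1) (by omega),
        Ext.eq_zero_of_hasInjectiveDimensionLT b (n + 1) (by omega)]⟩
  exact (LocDual.subsingleton_ext_localized_iff P.primeCompl M (LocalizedModule P.primeCompl M)
    (LocalizedModule.mkLinearMap P.primeCompl M) e).mp hsub x

end L1

theorem exists_nat_of_add_eq (x : WithBot ℕ∞) (n d : ℕ) (h : (d : WithBot ℕ∞) = x + (n : ℕ∞)) :
    ∃ δ : ℕ, x = δ ∧ δ + n = d := by
  induction x with
  | bot => simp at h
  | coe y =>
    induction y with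
    | top =>
      exfalso
      have : (d : WithBot ℕ∞) = ((⊤ : ℕ∞) : WithBot ℕ∞) := by
        rw [h]; norm_cast
      have h2 : ((d : ℕ∞) : WithBot ℕ∞) = ((⊤ : ℕ∞) : WithBot ℕ∞) := this
      rw [WithBot.coe_inj] at h2
      exact ENat.natCast_ne_top d h2
    | coe m =>
      refine ⟨m, rfl, ?_⟩
      have h2 : ((d : ℕ∞) : WithBot ℕ∞) = (((m + n : ℕ) : ℕ∞) : WithBot ℕ∞) := by
        rw [show ((d : ℕ∞) : WithBot ℕ∞) = (d : WithBot ℕ∞) from rfl, h]
        push_cast
        rfl
      rw [WithBot.coe_inj] at h2
      exact_mod_cast h2.symm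

/-- an element killing the Matlis dual kills the module. -/
theorem smul_eq_zero_of_forall_hom {T : Type u} [CommRing T] [IsLocalRing T]
    (E : Type u) [AddCommGroup E] [Module T E] [Module.Injective T E]
    (f : ResidueField T →ₗ[T] E) (hf : Function.Injective f)
    (X : Type u) [AddCommGroup X] [Module T X] (a : T) (h : ∀ ψ : X →ₗ[T] E, a • ψ = 0) :
    ∀ x : X, a • x = 0 := by
  let Y : Submodule T X := LinearMap.range (a • (LinearMap.id : X →ₗ[T] X))
  have hY : Subsingleton Y := by
    apply LocDual.subsingleton_of_subsingleton_hom E f hf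
    refine ⟨fun ψ₁ ψ₂ => ?_⟩
    have key : ∀ ψ : Y →ₗ[T] E, ψ = 0 := by
      intro ψ
      obtain ⟨ψ', hψ'⟩ := Module.Injective.out Y.subtype (Submodule.injective_subtype _) ψ
      ext ⟨y, x, rfl⟩
      have h1 := hψ' ⟨(a • (LinearMap.id : X →ₗ[T] X)) x, x, rfl⟩
      rw [← h1]
      have h2 := LinearMap.congr_fun (h ψ') x
      simpa using h2
    rw [key ψ₁, key ψ₂]
  intro x
  have : (⟨a • x, x, rfl⟩ : Y) = 0 := Subsingleton.elim _ _
  exact congrArg Subtype.val this

section Main

variable (R' : Type u) [CommRing R'] [LocCoh.IsGorensteinLocalRing R'] (R : Type u) [CommRing R]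
  [IsNoetherianRing R] [IsLocalRing R] [Algebra R' R]
  (hg : Function.Surjective (algebraMap R' R)) (M : Type u) [AddCommGroup M] [Module R M]
  [Module R' M] [IsScalarTower R' R M] [Module.Finite R M]

include hg in
/-- the dimension formula `dim R/p + ht P = dim R'`. -/
theorem dim_formula (p : Ideal R) [p.IsPrime] (d n : ℕ) (hd : ringKrullDim R' = d)
    (hn : (p.comap (algebraMap R' R)).height = n) :
    ∃ δ : ℕ, ringKrullDim (R ⧸ p) = δ ∧ δ + n = d := by
  have hCM := Groth.Agent.H2.GorensteinCM.isCohenMacaulayLocalRing R'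
  have h1 := Groth.Agent.H72.CMLocal.ringKrullDim_eq_quotient_add_height R' hCM
    (p.comap (algebraMap R' R))
  rw [hd, hn] at h1
  have h2 : ringKrullDim (R' ⧸ p.comap (algebraMap R' R)) = ringKrullDim (R ⧸ p) := by
    apply ringKrullDim_eq_of_ringEquiv
    exact RingEquiv.ofBijective (Ideal.quotientMap p (algebraMap R' R) le_rfl)
      ⟨Ideal.quotientMap_injective, Ideal.quotientMap_surjective hg⟩
  rw [h2] at h1
  exact exists_nat_of_add_eq _ n d h1

include hg in
theorem map_maximalIdeal : (maximalIdeal R').map (algebraMap R' R) = maximalIdeal R := by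
  have h1 : ((maximalIdeal R).comap (algebraMap R' R)).IsMaximal :=
    Ideal.comap_isMaximal_of_surjective _ hg
  have h2 : (maximalIdeal R).comap (algebraMap R' R) = maximalIdeal R' :=
    IsLocalRing.eq_maximalIdeal h1
  rw [← h2, Ideal.map_comap_of_surjective _ hg]

include hg in
/-- annihilators of `H^i_m(M)` and of `Ext^{d-i}(M, R')` correspond. -/
theorem forall_smul_H_eq_zero_iff (d e i : ℕ) (hd : ringKrullDim R' = d) (hei : i + e = d)
    (a' : R') :
    (∀ x : LocCoh.H (maximalIdeal R) i M, algebraMap R' R a' • x = 0) ↔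
      ∀ y : Ext.{u} (ModuleCat.of R' M) (ModuleCat.of R' R') e, a' • y = 0 := by
  haveI : Module.Finite R' R := Module.Finite.of_surjective (Algebra.linearMap R' R) hg
  haveI : Module.Finite R' M := Module.Finite.trans R M
  have key := Groth.Agent.H58.LC.indepProp (R := R') (R' := R) (maximalIdeal R') i M
  rw [map_maximalIdeal R' R hg] at key
  obtain ⟨φ, hφ⟩ := key
  obtain ⟨E, _, _, f, hf⟩ := Groth.Agent.H2.exists_isInjectiveHull (R := R') (ResidueField R')
  obtain ⟨D⟩ := Groth.Agent.H2.GorDuality.nonempty_dual R' d hd E f hf e i hei M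
  haveI : Module.Injective R' E := hf.isInjective
  constructor
  · intro h
    apply smul_eq_zero_of_forall_hom E f hf.injective
    intro ψ
    obtain ⟨z, rfl⟩ := D.surjective ψ
    obtain ⟨x, rfl⟩ := φ.surjective z
    rw [← map_smul, ← hφ, h x, map_zero, map_zero]
  · intro h x
    apply φ.injective
    rw [hφ, map_zero]
    apply D.injective
    rw [map_smul, map_zero]
    ext y
    rw [LinearMap.smul_apply, ← map_smul, h y, map_zero, LinearMap.zero_apply]

include hg in
theorem subsingleton_H_of_dim_lt (d i : ℕ) (hd : ringKrullDim R' = d) (hi : d < i) :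
    Subsingleton (LocCoh.H (maximalIdeal R) i M) := by
  rw [LocDual.subsingleton_H_iff_base R' R (map_maximalIdeal R' R hg) M i]
  exact LocDual.subsingleton_H_of_lt R' M d i hd hi

end Main

section Main2

variable (R' : Type u) [CommRing R'] [LocCoh.IsGorensteinLocalRing R'] (R : Type u) [CommRing R]
  [IsNoetherianRing R] [IsLocalRing R] [Algebra R' R]
  (hg : Function.Surjective (algebraMap R' R)) (M : Type u) [AddCommGroup M] [Module R M]
  [Module R' M] [IsScalarTower R' R M] [Module.Finite R M]

include hg in
theorem radical_annihilator_iff (J : Ideal R) (i : ℕ) :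
    J ≤ (Module.annihilator R (LocCoh.H (maximalIdeal R) i M)).radical ↔
      ∀ (p : Ideal R) [p.IsPrime], ¬ J ≤ p → ∀ j : ℕ,
        (j : WithBot ℕ∞) + ringKrullDim (R ⧸ p) = i →
        Subsingleton (LocCoh.H (maximalIdeal (Localization.AtPrime p)) j
          (LocalizedModule p.primeCompl M)) := by
  obtain ⟨m₀, hm₀⟩ := (inferInstance : LocCoh.IsGorensteinLocalRing R').exists_hasInjectiveDimensionLT
  haveI : LocCoh.IsGorensteinRing R' :=
    Groth.Agent.H2.GorensteinGlobal.isGorensteinRing_of_hasInjectiveDimensionLT R' m₀ hm₀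
  obtain ⟨d, hd⟩ := Groth.Agent.H2.GorensteinGlobal.exists_nat_ringKrullDim_eq R'
  haveI : Module.Finite R' R := Module.Finite.of_surjective (Algebra.linearMap R' R) hg
  haveI : Module.Finite R' M := Module.Finite.trans R M
  have hfin : ∀ (p : Ideal R) [p.IsPrime], ∃ n : ℕ, (p.comap (algebraMap R' R)).height = n := by
    intro p _
    obtain ⟨n, hn⟩ := ENat.ne_top_iff_exists.mp
      (Ideal.height_ne_top (I := p.comap (algebraMap R' R)) (Ideal.IsPrime.ne_top inferInstance))
    exact ⟨n, hn.symm⟩
  by_cases hid : d < i
  · have hsub := subsingleton_H_of_dim_lt R' R hg M d i hd hid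
    constructor
    · intro _ p _ hp j hj
      obtain ⟨n, hn⟩ := hfin p
      obtain ⟨δ, hδ, hδn⟩ := dim_formula R' R hg p d n hd hn
      rw [hδ] at hj
      have hj' : j + δ = i := by exact_mod_cast hj
      exact LocDual.subsingleton_H_localization_of_lt R' R hg M p n j hn (by omega)
    · intro _
      have : Module.annihilator R (LocCoh.H (maximalIdeal R) i M) = ⊤ := by
        rw [Module.annihilator_eq_top_iff]
        exact hsub
      rw [this, Ideal.radical_top]
      exact le_top
  · rw [not_lt] at hid
    obtain ⟨e, he⟩ : ∃ e, i + e = d := ⟨d - i, by omega⟩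
    constructor
    · intro hJ p _ hp j hj
      obtain ⟨a, haJ, hap⟩ := SetLike.not_le_iff_exists.mp hp
      obtain ⟨a', rfl⟩ := hg a
      obtain ⟨N, hN⟩ := hJ haJ
      have h1 : ∀ x : LocCoh.H (maximalIdeal R) i M, algebraMap R' R (a' ^ N) • x = 0 := by
        intro x
        rw [map_pow]
        exact Module.mem_annihilator.mp hN x
      have h2 := (forall_smul_H_eq_zero_iff R' R hg M d e i hd he (a' ^ N)).mp h1
      obtain ⟨n, hn⟩ := hfin p
      obtain ⟨δ, hδ, hδn⟩ := dim_formula R' R hg p d n hd hn
      rw [hδ] at hj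
      have hj' : j + δ = i := by exact_mod_cast hj
      rw [LocDual.subsingleton_H_localization_iff R' R hg M p n e j hn (by omega)]
      intro x
      refine ⟨a' ^ N, ?_, h2 x⟩
      intro hmem
      have : algebraMap R' R a' ^ N ∈ p := by
        rw [← map_pow]
        exact hmem
      exact hap (Ideal.IsPrime.mem_of_pow_mem inferInstance N this)
    · intro H a haJ
      obtain ⟨a', rfl⟩ := hg a
      haveI : Module.Finite R' (ModuleCat.of R' M) := ‹_›
      haveI : Module.Finite R' (ModuleCat.of R' R') := Module.Finite.self R'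
      suffices hX : ∃ N : ℕ, ∀ y : Ext.{u} (ModuleCat.of R' M) (ModuleCat.of R' R') e,
          a' ^ N • y = 0 by
        obtain ⟨N, hN⟩ := hX
        refine ⟨N, ?_⟩
        rw [Module.mem_annihilator]
        intro x
        rw [← map_pow]
        exact (forall_smul_H_eq_zero_iff R' R hg M d e i hd he (a' ^ N)).mpr hN x
      have hrad : a' ∈ (Module.annihilator R'
          (Ext.{u} (ModuleCat.of R' M) (ModuleCat.of R' R') e)).radical := by
        rw [Ideal.radical_eq_sInf, Ideal.mem_sInf]
        rintro P ⟨hPann, hPprime⟩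
        by_contra haP
        -- the kernel of `R' → R` kills `Ext`
        have hker : RingHom.ker (algebraMap R' R) ≤ P := by
          refine le_trans ?_ hPann
          intro r hr
          rw [Module.mem_annihilator]
          intro y
          have h0 : r • 𝟙 (ModuleCat.of R' M) = 0 := by
            ext m
            show r • m = 0
            rw [← algebraMap_smul R r m, RingHom.mem_ker.mp hr, zero_smul]
          have h1 : (Ext.mk₀ (r • 𝟙 (ModuleCat.of R' M))).comp y (zero_add e) = r • y := by
            rw [Ext.mk₀_smul, Ext.smul_comp, Ext.mk₀_id_comp]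
          rw [← h1, h0, Ext.mk₀_zero, Ext.zero_comp]
        haveI hpprime : (P.map (algebraMap R' R)).IsPrime :=
          Ideal.map_isPrime_of_surjective hg hker
        have hcomap : (P.map (algebraMap R' R)).comap (algebraMap R' R) = P := by
          rw [Ideal.comap_map_of_surjective' _ hg, sup_eq_left]
          exact hker
        have hp : ¬ J ≤ P.map (algebraMap R' R) := by
          intro hle
          have : a' ∈ (P.map (algebraMap R' R)).comap (algebraMap R' R) := hle haJ
          rw [hcomap] at this
          exact haP this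
        obtain ⟨n, hn⟩ := hfin (P.map (algebraMap R' R))
        obtain ⟨δ, hδ, hδn⟩ := dim_formula R' R hg (P.map (algebraMap R' R)) d n hd hn
        have htors : ∀ y : Ext.{u} (ModuleCat.of R' M) (ModuleCat.of R' R') e,
            ∃ s ∈ ((P.map (algebraMap R' R)).comap (algebraMap R' R)).primeCompl, s • y = 0 := by
          by_cases hen : e ≤ n
          · have hj : ((n - e : ℕ) : WithBot ℕ∞) + ringKrullDim (R ⧸ P.map (algebraMap R' R)) = i := by
              rw [hδ]
              have : (n - e) + δ = i := by omega
              exact_mod_cast this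
            have h3 := H (P.map (algebraMap R' R)) hp (n - e) hj
            rw [LocDual.subsingleton_H_localization_iff R' R hg M (P.map (algebraMap R' R)) n e
              (n - e) hn (by omega)] at h3
            exact h3
          · rw [not_le] at hen
            exact forall_exists_smul_eq_zero_of_lt R' M _ n e hn hen
        have htors' : ∀ y : Ext.{u} (ModuleCat.of R' M) (ModuleCat.of R' R') e,
            ∃ s ∉ P, s • y = 0 := by
          intro y
          obtain ⟨s, hs, hsy⟩ := htors y
          refine ⟨s, fun hsP => hs ?_, hsy⟩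
          show s ∈ (P.map (algebraMap R' R)).comap (algebraMap R' R)
          rw [hcomap]
          exact hsP
        have hnot : (⟨P, hPprime⟩ : PrimeSpectrum R') ∉ Module.support R'
            (Ext.{u} (ModuleCat.of R' M) (ModuleCat.of R' R') e) := by
          rw [Module.notMem_support_iff']
          exact htors'
        rw [Module.mem_support_iff_of_finite] at hnot
        exact hnot hPann
      obtain ⟨N, hN⟩ := hrad
      exact ⟨N, fun y => Module.mem_annihilator.mp hN y⟩

end Main2

end Groth.Agent.H81.LCAnnDual
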