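import Groth.Agent.H81.LCFinLen
import Groth.Agent.H81.LCAnnDual
import Groth.Agent.H81.DepthLC
import Groth.Agent.H81.FaltingsCM
import Groth.Agent.H24.SupportLoc
import Groth.Agent.H29.CM

/-!
# Generalized Cohen–Macaulay modules over a quotient of a Gorenstein local ring
-/
set_option autoImplicit false
set_option linter.unusedSectionVars false
universe u
open CategoryTheory IsLocalRing

namespace Groth.Agent.H81.GenCM

section Dim
variable {R : Type u} [CommRing R] (M : Type u) [AddCommGroup M] [Module R M]

/-- `dim M_p + dim R/p ≤ dim M` for `p` in the support of `M`. -/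
theorem supportDim_localization_add_le (p : PrimeSpectrum R) (hp : p ∈ Module.support R M) :
    Module.supportDim (Localization.AtPrime p.asIdeal) (LocalizedModule p.asIdeal.primeCompl M) +
      ringKrullDim (R ⧸ p.asIdeal) ≤ Module.supportDim R M := by
  haveI := p.2
  set x : Module.support R M := ⟨p, hp⟩ with hx
  haveI : Nonempty (Module.support R M) := ⟨x⟩
  have h1 : Module.supportDim (Localization.AtPrime p.asIdeal)
      (LocalizedModule p.asIdeal.primeCompl M) ≤ ((Order.height x : ℕ∞) : WithBot ℕ∞) := by
    rw [Order.height_eq_krullDim_Iic]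
    unfold Module.supportDim
    let f : Module.support (Localization.AtPrime p.asIdeal)
        (LocalizedModule p.asIdeal.primeCompl M) → Set.Iic x := fun q =>
      ⟨⟨PrimeSpectrum.comap (algebraMap R (Localization.AtPrime p.asIdeal)) q.1,
        (Groth.Agent.H24.mem_support_localizedModule_iff p.asIdeal q.1).mp q.2⟩, by
        show PrimeSpectrum.comap (algebraMap R (Localization.AtPrime p.asIdeal)) q.1 ≤ p
        have h1 : q.1.asIdeal ≤ maximalIdeal (Localization.AtPrime p.asIdeal) :=
          IsLocalRing.le_maximalIdeal q.1.2.ne_top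
        have h2 := Ideal.comap_mono (f := algebraMap R (Localization.AtPrime p.asIdeal)) h1
        have h3 : Ideal.comap (algebraMap R (Localization.AtPrime p.asIdeal))
            (maximalIdeal (Localization.AtPrime p.asIdeal)) = p.asIdeal :=
          IsLocalization.AtPrime.under_maximalIdeal (Localization.AtPrime p.asIdeal) p.asIdeal
        rw [h3] at h2
        exact h2⟩
    apply Order.krullDim_le_of_strictMono f
    apply Monotone.strictMono_of_injective
    · intro q₁ q₂ h
      show PrimeSpectrum.comap (algebraMap R (Localization.AtPrime p.asIdeal)) q₁.1 ≤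
        PrimeSpectrum.comap (algebraMap R (Localization.AtPrime p.asIdeal)) q₂.1
      exact Ideal.comap_mono h
    · intro q₁ q₂ h
      have h' : PrimeSpectrum.comap (algebraMap R (Localization.AtPrime p.asIdeal)) q₁.1 =
          PrimeSpectrum.comap (algebraMap R (Localization.AtPrime p.asIdeal)) q₂.1 :=
        congrArg (fun z : Set.Iic x => z.1.1) h
      exact Subtype.ext (PrimeSpectrum.localization_comap_injective
        (Localization.AtPrime p.asIdeal) p.asIdeal.primeCompl h')
  have h2 : ringKrullDim (R ⧸ p.asIdeal) ≤ ((Order.coheight x : ℕ∞) : WithBot ℕ∞) := by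
    rw [Order.coheight_eq_krullDim_Ici]
    unfold ringKrullDim
    let f : PrimeSpectrum (R ⧸ p.asIdeal) → Set.Ici x := fun Q =>
      ⟨⟨PrimeSpectrum.comap (Ideal.Quotient.mk p.asIdeal) Q, by
        refine Module.mem_support_mono ?_ hp
        show p.asIdeal ≤ Q.asIdeal.comap (Ideal.Quotient.mk p.asIdeal)
        intro a ha
        rw [Ideal.mem_comap, Ideal.Quotient.eq_zero_iff_mem.mpr ha]
        exact Q.asIdeal.zero_mem⟩, by
        show p.asIdeal ≤ Q.asIdeal.comap (Ideal.Quotient.mk p.asIdeal)
        intro a ha
        rw [Ideal.mem_comap, Ideal.Quotient.eq_zero_iff_mem.mpr ha]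
        exact Q.asIdeal.zero_mem⟩
    apply Order.krullDim_le_of_strictMono f
    apply Monotone.strictMono_of_injective
    · intro Q₁ Q₂ h
      show PrimeSpectrum.comap (Ideal.Quotient.mk p.asIdeal) Q₁ ≤
        PrimeSpectrum.comap (Ideal.Quotient.mk p.asIdeal) Q₂
      exact Ideal.comap_mono h
    · intro Q₁ Q₂ h
      have h' : PrimeSpectrum.comap (Ideal.Quotient.mk p.asIdeal) Q₁ =
          PrimeSpectrum.comap (Ideal.Quotient.mk p.asIdeal) Q₂ :=
        congrArg (fun z : Set.Ici x => z.1.1) h
      exact PrimeSpectrum.comap_injective_of_surjective _ Ideal.Quotient.mk_surjective h'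
  have h3 : ((Order.height x + Order.coheight x : ℕ∞) : WithBot ℕ∞) ≤
      Module.supportDim R M := by
    unfold Module.supportDim
    rw [Order.krullDim_eq_iSup_height_add_coheight_of_nonempty, WithBot.coe_le_coe]
    exact le_iSup (fun a : Module.support R M => Order.height a + Order.coheight a) x
  refine le_trans (add_le_add h1 h2) ?_
  rw [← WithBot.coe_add]
  exact h3

end Dim

section Main
variable (R' : Type u) [CommRing R'] [LocCoh.IsGorensteinLocalRing R'] (R : Type u) [CommRing R]
  [IsNoetherianRing R] [IsLocalRing R] [Algebra R' R]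
  (hg : Function.Surjective (algebraMap R' R)) (M : Type u) [AddCommGroup M] [Module R M]
  [Module R' M] [IsScalarTower R' R M] [Module.Finite R M]

include hg in
/-- `dim R/p₀ = ht(p/p₀) + dim R/p` (catenarity and equidimensionality of `R/p₀`). -/
theorem dim_quot_eq_add (p0 p : PrimeSpectrum R) (h : p0 ≤ p) :
    ∃ c δ : ℕ, Order.height (⟨p, h⟩ : Set.Ici p0) = c ∧ ringKrullDim (R ⧸ p.asIdeal) = δ ∧
      ringKrullDim (R ⧸ p0.asIdeal) = ((c + δ : ℕ) : WithBot ℕ∞) := by
  haveI := p.2
  haveI := p0.2
  obtain ⟨m₀, hm₀⟩ :=
    (inferInstance : LocCoh.IsGorensteinLocalRing R').exists_hasInjectiveDimensionLT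
  haveI : LocCoh.IsGorensteinRing R' :=
    Groth.Agent.H2.GorensteinGlobal.isGorensteinRing_of_hasInjectiveDimensionLT R' m₀ hm₀
  haveI : IsNoetherianRing R' := LocCoh.IsGorensteinRing.toIsNoetherian
  obtain ⟨d, hd⟩ := Groth.Agent.H2.GorensteinGlobal.exists_nat_ringKrullDim_eq R'
  haveI : (p.asIdeal.comap (algebraMap R' R)).IsPrime := Ideal.comap_isPrime _ _
  haveI : (p0.asIdeal.comap (algebraMap R' R)).IsPrime := Ideal.comap_isPrime _ _
  obtain ⟨n, hn⟩ := ENat.ne_top_iff_exists.mp
    (Ideal.height_ne_top_of_isPrime (I := p.asIdeal.comap (algebraMap R' R)))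
  obtain ⟨n0, hn0⟩ := ENat.ne_top_iff_exists.mp
    (Ideal.height_ne_top_of_isPrime (I := p0.asIdeal.comap (algebraMap R' R)))
  obtain ⟨δ, hδ, hδn⟩ := Groth.Agent.H81.LCAnnDual.dim_formula R' R hg p.asIdeal d n hd hn.symm
  obtain ⟨δ0, hδ0, hδn0⟩ :=
    Groth.Agent.H81.LCAnnDual.dim_formula R' R hg p0.asIdeal d n0 hd hn0.symm
  obtain ⟨c, hc⟩ := ENat.ne_top_iff_exists.mp
    (Groth.Agent.H81.FaltingsCM.height_Ici_ne_top p0 p h)
  have e1 := Groth.Agent.H81.CodimOne.height_comap_eq_add (algebraMap R' R) hg c p0 p h hc.symm
  rw [← hn, ← hn0] at e1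
  have e2 : n = n0 + c := by exact_mod_cast e1
  refine ⟨c, δ, hc.symm, hδ, ?_⟩
  rw [hδ0]
  have : δ0 = c + δ := by omega
  rw [this]

/-- numerical data of a prime `p ≠ m` in the support of `M` -/
theorem exists_data (p : PrimeSpectrum R)
    (hnt : Nontrivial (LocalizedModule p.asIdeal.primeCompl M)) :
    ∃ d s : ℕ, LocCoh.depth (Localization.AtPrime p.asIdeal)
        (LocalizedModule p.asIdeal.primeCompl M) = d ∧
      Module.supportDim (Localization.AtPrime p.asIdeal)
        (LocalizedModule p.asIdeal.primeCompl M) = s ∧ d ≤ s := by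
  haveI := p.2
  haveI : Module.Finite (Localization.AtPrime p.asIdeal)
      (LocalizedModule p.asIdeal.primeCompl M) :=
    Module.Finite.of_isLocalizedModule p.asIdeal.primeCompl
      (LocalizedModule.mkLinearMap p.asIdeal.primeCompl M)
  obtain ⟨s, hs⟩ := Groth.Agent.H29.CML.exists_nat_supportDim_eq
    (A := Localization.AtPrime p.asIdeal) (LocalizedModule p.asIdeal.primeCompl M)
  have h1 := Groth.Agent.H58.X72.DepthCM.depth_le_supportDim
    (A := Localization.AtPrime p.asIdeal) (LocalizedModule p.asIdeal.primeCompl M)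
  rw [hs] at h1
  have h2 : LocCoh.depth (Localization.AtPrime p.asIdeal)
      (LocalizedModule p.asIdeal.primeCompl M) ≤ (s : ℕ∞) := by exact_mod_cast h1
  obtain ⟨d, hd⟩ := ENat.ne_top_iff_exists.mp
    (ne_top_of_le_ne_top (ENat.natCast_ne_top s) h2)
  refine ⟨d, s, hd.symm, hs, ?_⟩
  rw [← hd] at h2
  exact_mod_cast h2

include hg in
theorem genCM_iff (n : ℕ) (hn : Module.supportDim R M = n) :
    (∀ i : ℕ, i < n → IsFiniteLength R (LocCoh.H (maximalIdeal R) i M)) ↔
      ((∀ p ∈ (Module.annihilator R M).minimalPrimes, ringKrullDim (R ⧸ p) = n) ∧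
        ∀ (p : Ideal R) [p.IsPrime], p ≠ maximalIdeal R → Module.annihilator R M ≤ p →
          LocCoh.IsCohenMacaulayModule (Localization.AtPrime p)
            (LocalizedModule p.primeCompl M)) := by
  have hL : (∀ i : ℕ, i < n → IsFiniteLength R (LocCoh.H (maximalIdeal R) i M)) ↔
      ∀ i : ℕ, i < n → ∀ (p : Ideal R) [p.IsPrime], ¬ maximalIdeal R ≤ p → ∀ j : ℕ,
        (j : WithBot ℕ∞) + ringKrullDim (R ⧸ p) = i →
        Subsingleton (LocCoh.H (maximalIdeal (Localization.AtPrime p)) j
          (LocalizedModule p.primeCompl M)) := by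
    refine forall_congr' fun i => forall_congr' fun _ => ?_
    rw [Groth.Agent.H81.LCFinLen.isFiniteLength_H_iff R' R hg M i,
      Groth.Agent.H81.LCAnnDual.radical_annihilator_iff R' R hg M (maximalIdeal R) i]
  rw [hL]
  have hne_max : ∀ (p : Ideal R) [p.IsPrime], p ≠ maximalIdeal R → ¬ maximalIdeal R ≤ p := by
    intro p _ hp hle
    exact hp (le_antisymm (IsLocalRing.le_maximalIdeal Ideal.IsPrime.ne_top') hle)
  constructor
  · intro H1
    -- Claim A
    have claimA : ∀ (P : PrimeSpectrum R), P.asIdeal ≠ maximalIdeal R →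
        Module.annihilator R M ≤ P.asIdeal →
        ∃ d s δ : ℕ, LocCoh.depth (Localization.AtPrime P.asIdeal)
          (LocalizedModule P.asIdeal.primeCompl M) = d ∧
          Module.supportDim (Localization.AtPrime P.asIdeal)
            (LocalizedModule P.asIdeal.primeCompl M) = s ∧
          ringKrullDim (R ⧸ P.asIdeal) = δ ∧ d = s ∧ s + δ = n := by
      intro P hPm hann
      haveI := P.2
      have hsupp : P ∈ Module.support R M := Module.mem_support_iff_of_finite.mpr hann
      have hnt : Nontrivial (LocalizedModule P.asIdeal.primeCompl M) :=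
        Module.mem_support_iff.mp hsupp
      obtain ⟨d, s, hd, hs, hds⟩ := exists_data R M P hnt
      obtain ⟨c, δ, -, hδ, -⟩ := dim_quot_eq_add R' R hg P P le_rfl
      have hle := supportDim_localization_add_le M P hsupp
      rw [hs, hδ, hn] at hle
      have hle' : s + δ ≤ n := by exact_mod_cast hle
      have hge : n ≤ d + δ := by
        by_contra hlt
        rw [not_le] at hlt
        have hvan := H1 (d + δ) hlt P.asIdeal (hne_max P.asIdeal hPm) d (by
          rw [hδ]; norm_cast)
        haveI : Module.Finite (Localization.AtPrime P.asIdeal)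
            (LocalizedModule P.asIdeal.primeCompl M) :=
          Module.Finite.of_isLocalizedModule P.asIdeal.primeCompl
            (LocalizedModule.mkLinearMap P.asIdeal.primeCompl M)
        have h2 := (Groth.Agent.H81.DepthLC.forall_subsingleton_H_iff_lt_idealDepth
          (Localization.AtPrime P.asIdeal) (maximalIdeal (Localization.AtPrime P.asIdeal))
          (LocalizedModule P.asIdeal.primeCompl M) d).mp (by
            intro j hj
            rcases Nat.lt_or_ge j d with hjd | hjd
            · apply Groth.Agent.H81.FaltingsReg.subsingleton_H_local M P j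
              rw [hd]
              exact_mod_cast hjd
            · obtain rfl : j = d := by omega
              exact hvan)
        change (d : ℕ∞) < LocCoh.depth (Localization.AtPrime P.asIdeal)
          (LocalizedModule P.asIdeal.primeCompl M) at h2
        rw [hd] at h2
        exact lt_irrefl _ h2
      exact ⟨d, s, δ, hd, hs, hδ, by omega, by omega⟩
    constructor
    · intro p hp
      haveI hpp : p.IsPrime := hp.1.1
      by_cases hpm : p = maximalIdeal R
      · -- the support is the closed point
        subst hpm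
        haveI : Subsingleton (Module.support R M) := by
          refine ⟨fun a b => ?_⟩
          have key : ∀ z : Module.support R M, z.1.asIdeal = maximalIdeal R := by
            intro z
            haveI := z.1.2
            have h1 : Module.annihilator R M ≤ z.1.asIdeal :=
              Module.mem_support_iff_of_finite.mp z.2
            exact le_antisymm (IsLocalRing.le_maximalIdeal Ideal.IsPrime.ne_top')
              (hp.2 ⟨z.1.2, h1⟩ (IsLocalRing.le_maximalIdeal Ideal.IsPrime.ne_top'))
          exact Subtype.ext (PrimeSpectrum.ext ((key a).trans (key b).symm))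
        have h0 : Module.supportDim R M ≤ 0 := Order.krullDim_nonpos_of_subsingleton
        rw [hn] at h0
        have hn0 : n = 0 := by
          have : (n : WithBot ℕ∞) ≤ ((0 : ℕ) : WithBot ℕ∞) := by exact_mod_cast h0
          have h2 : n ≤ 0 := by exact_mod_cast this
          omega
        rw [hn0]
        haveI : (maximalIdeal R).IsMaximal := inferInstance
        letI : Field (R ⧸ maximalIdeal R) := Ideal.Quotient.field (maximalIdeal R)
        rw [ringKrullDim_eq_zero_of_field]
        rfl
      · obtain ⟨d, s, δ, hd, hs, hδ, hds, hsn⟩ := claimA ⟨p, hpp⟩ hpm hp.1.2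
        have h0 := Groth.Agent.H58.X15.depth_localization_eq_zero_of_mem_associatedPrimes M p
          (Module.associatedPrimes.minimalPrimes_annihilator_subset_associatedPrimes R M hp)
        have hd' : LocCoh.depth (Localization.AtPrime p) (LocalizedModule p.primeCompl M) =
            (d : ℕ∞) := hd
        rw [hd'] at h0
        have hd0 : d = 0 := by
          have : d ≤ 0 := by exact_mod_cast h0
          omega
        have hδ' : ringKrullDim (R ⧸ p) = (δ : WithBot ℕ∞) := hδ
        rw [hδ']
        have : δ = n := by omega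
        rw [this]
    · intro p _ hpm hann
      obtain ⟨d, s, δ, hd, hs, hδ, hds, hsn⟩ := claimA ⟨p, inferInstance⟩ hpm hann
      unfold LocCoh.IsCohenMacaulayModule
      have hd' : LocCoh.depth (Localization.AtPrime p) (LocalizedModule p.primeCompl M) =
          (d : ℕ∞) := hd
      have hs' : Module.supportDim (Localization.AtPrime p) (LocalizedModule p.primeCompl M) =
          (s : WithBot ℕ∞) := hs
      rw [hd', hs', hds]
      rfl
  · rintro ⟨Heq, HCM⟩ i hi p _ hpm j hj
    set P : PrimeSpectrum R := ⟨p, inferInstance⟩ with hP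
    rcases subsingleton_or_nontrivial (LocalizedModule p.primeCompl M) with hsub | hnt
    · exact Groth.Agent.H81.FaltingsReg.subsingleton_H_of_subsingleton _ j _
    · have hsupp : P ∈ Module.support R M := Module.mem_support_iff.mpr hnt
      have hann : Module.annihilator R M ≤ p := Module.mem_support_iff_of_finite.mp hsupp
      have hpne : p ≠ maximalIdeal R := fun h => hpm (le_of_eq h.symm)
      have hcm := HCM p hpne hann
      obtain ⟨d, s, hd, hs, hds⟩ := exists_data R M P hnt
      unfold LocCoh.IsCohenMacaulayModule at hcm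
      have hd' : LocCoh.depth (Localization.AtPrime p) (LocalizedModule p.primeCompl M) =
          (d : ℕ∞) := hd
      have hs' : Module.supportDim (Localization.AtPrime p) (LocalizedModule p.primeCompl M) =
          (s : WithBot ℕ∞) := hs
      rw [hd', hs'] at hcm
      have hsd : s = d := by exact_mod_cast hcm
      obtain ⟨p0I, hp0min, hp0le⟩ := Ideal.exists_minimalPrimes_le hann
      haveI hp0prime : p0I.IsPrime := hp0min.1.1
      set p0 : PrimeSpectrum R := ⟨p0I, hp0prime⟩ with hp0def
      have hp0p : p0 ≤ P := hp0le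
      obtain ⟨c, δ, hc, hδ, hδ0⟩ := dim_quot_eq_add R' R hg p0 P hp0p
      have hn0 := Heq p0I hp0min
      have hδ0' : ringKrullDim (R ⧸ p0I) = ((c + δ : ℕ) : WithBot ℕ∞) := hδ0
      rw [hδ0'] at hn0
      have hcn : c + δ = n := by exact_mod_cast hn0
      have hδ' : ringKrullDim (R ⧸ p) = (δ : WithBot ℕ∞) := hδ
      rw [hδ'] at hj
      have hji : j + δ = i := by exact_mod_cast hj
      -- `c ≤ s`
      have hP' : (p.map (Ideal.Quotient.mk p0I)).IsPrime :=
        Ideal.map_isPrime_of_surjective Ideal.Quotient.mk_surjective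
          (by rw [Ideal.mk_ker]; exact hp0le)
      have hcomap : p = (p.map (Ideal.Quotient.mk p0I)).comap (Ideal.Quotient.mk p0I) := by
        rw [Ideal.comap_map_of_surjective _ Ideal.Quotient.mk_surjective,
          ← RingHom.ker_eq_comap_bot, Ideal.mk_ker, sup_eq_left.mpr hp0le]
      have h2 := Groth.Agent.H85.GradedCM.height_le_supportDim_localization (M := M) p0I
        hp0min.1.2 p (p.map (Ideal.Quotient.mk p0I)) hcomap
      rw [hs', ← Groth.Agent.H81.RelCodim.height_Ici_eq p0 P hp0p, hc] at h2
      have hcs : c ≤ s := by exact_mod_cast h2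
      apply Groth.Agent.H81.FaltingsReg.subsingleton_H_local M P j
      show (j : ℕ∞) < LocCoh.depth (Localization.AtPrime p) (LocalizedModule p.primeCompl M)
      rw [hd']
      have : j < d := by omega
      exact_mod_cast this

end Main

end Groth.Agent.H81.GenCM
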