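import Mathlib
import Groth.Prelude.Def_CAlg
import Groth.Agent.H81.LiaisonCM
import Groth.Agent.H81.LinkExt
import Groth.Agent.H81.TorsionIdeal
import Groth.Agent.H81.LiaisonGor
import Groth.Agent.H26.GorRegSeq
import Groth.Agent.H2.DepthSES

/-!
# Geometric linkage: the sum of two geometrically linked ideals is Gorenstein  (helper81)

Local core: `A` Gorenstein local, `𝔧₁ = 0 : 𝔧₂`, `𝔧₂ = 0 : 𝔧₁`, `A/𝔧ᵢ` Cohen–Macaulay, and
`𝔧₁ + 𝔧₂` a proper ideal containing a regular element.  Then `A/(𝔧₁ + 𝔧₂)` is Gorenstein of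
dimension `dim A - 1`.
-/

set_option autoImplicit false
set_option linter.style.haveILetI false
set_option linter.unusedSectionVars false

namespace Groth.Agent.H81.GeomLink

universe u

open IsLocalRing Submodule RingTheory.Sequence CategoryTheory

section Elementary

variable {A : Type u} [CommRing A] {𝔧₁ 𝔧₂ : Ideal A}

theorem mul_eq_zero_of_mem (h12 : (Submodule.annihilator 𝔧₁ : Ideal A) = 𝔧₂) {u v : A}
    (hu : u ∈ 𝔧₁) (hv : v ∈ 𝔧₂) : u * v = 0 := by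
  rw [← h12] at hv
  have := Submodule.mem_annihilator.mp hv u hu
  rwa [smul_eq_mul, mul_comm] at this

/-- the intersection is zero as soon as the sum contains a regular element -/
theorem eq_zero_of_mem_of_mem (h12 : (Submodule.annihilator 𝔧₁ : Ideal A) = 𝔧₂) {a b : A}
    (ha : a ∈ 𝔧₁) (hb : b ∈ 𝔧₂) (hreg : IsSMulRegular A (a + b)) {y : A} (h1 : y ∈ 𝔧₁)
    (h2 : y ∈ 𝔧₂) : y = 0 := by
  apply hreg
  show (a + b) * y = (a + b) * 0
  rw [mul_zero, add_mul, mul_eq_zero_of_mem h12 ha h2, mul_comm b y, mul_eq_zero_of_mem h12 h1 hb,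
    add_zero]

end Elementary

section Colon1

variable (A : Type u) [CommRing A] [LocCoh.IsGorensteinLocalRing A] (𝔧₁ 𝔧₂ : Ideal A)
  (h12 : (Submodule.annihilator 𝔧₁ : Ideal A) = 𝔧₂)
  (hd1 : ringKrullDim (A ⧸ 𝔧₁) = ringKrullDim A)
  [LocCoh.IsCohenMacaulayLocalRing (A ⧸ 𝔧₁)]
  (x : A) (hreg : IsSMulRegular A x)

include h12 hd1 hreg in
/-- `((x) : 𝔧₁) = 𝔧₂ + (x)` -/
theorem colon_eq_sup :
    Submodule.colon (Ideal.span {x}) (𝔧₁ : Set A) = 𝔧₂ ⊔ Ideal.span {x} := by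
  have := LinkExt.annihilator_sup_eq_colon A 𝔧₁ hd1 [x]
    ((isWeaklyRegular_singleton_iff A x).mpr hreg)
  rw [Ideal.ofList_singleton, h12] at this
  exact this.symm

include h12 hd1 hreg in
/-- `𝔧₂ ∩ (x) = x 𝔧₂`, in the form: `r x ∈ 𝔧₂ → r ∈ 𝔧₂` -/
theorem mem_of_mul_mem {r : A} (hr : r * x ∈ 𝔧₂) : r ∈ 𝔧₂ := by
  have h1 := LinkExt.annihilator_inf_eq_mul A 𝔧₁ hd1 [x]
    ((isWeaklyRegular_singleton_iff A x).mpr hreg)
  rw [Ideal.ofList_singleton, h12] at h1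
  have h2 : r * x ∈ 𝔧₂ ⊓ Ideal.span {x} :=
    Submodule.mem_inf.mpr ⟨hr, Ideal.mul_mem_left _ _ (Ideal.mem_span_singleton_self _)⟩
  rw [h1, Ideal.mem_span_singleton_mul] at h2
  obtain ⟨z, hz, hzr⟩ := h2
  have : r = z := by
    apply hreg
    show x * r = x * z
    rw [hzr, mul_comm]
  rw [this]
  exact hz

end Colon1

section Colon2

variable (A : Type u) [CommRing A] [LocCoh.IsGorensteinLocalRing A] (𝔧₁ 𝔧₂ : Ideal A)
  (h12 : (Submodule.annihilator 𝔧₁ : Ideal A) = 𝔧₂) (h21 : (Submodule.annihilator 𝔧₂ : Ideal A) = 𝔧₁)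
  (hd1 : ringKrullDim (A ⧸ 𝔧₁) = ringKrullDim A) (hd2 : ringKrullDim (A ⧸ 𝔧₂) = ringKrullDim A)
  [LocCoh.IsCohenMacaulayLocalRing (A ⧸ 𝔧₁)] [LocCoh.IsCohenMacaulayLocalRing (A ⧸ 𝔧₂)]
  (a b : A) (ha : a ∈ 𝔧₁) (hb : b ∈ 𝔧₂) (hreg : IsSMulRegular A (a + b))

include h12 h21 hd1 hd2 ha hb hreg

/-- `((x) : 𝔧₁ + 𝔧₂) ⊆ (a, b)` for `x = a + b` -/
theorem mem_span_pair_of_mem_colon {y : A}
    (hy : y ∈ Submodule.colon (Ideal.span {a + b}) ((𝔧₁ ⊔ 𝔧₂ : Ideal A) : Set A)) :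
    ∃ r s : A, y = r * a + s * b := by
  have hy1 : y ∈ Submodule.colon (Ideal.span {a + b}) (𝔧₁ : Set A) := by
    rw [Submodule.mem_colon] at hy ⊢
    exact fun p hp => hy p (Submodule.mem_sup_left hp)
  have hy2 : y ∈ Submodule.colon (Ideal.span {a + b}) (𝔧₂ : Set A) := by
    rw [Submodule.mem_colon] at hy ⊢
    exact fun p hp => hy p (Submodule.mem_sup_right hp)
  rw [colon_eq_sup A 𝔧₁ 𝔧₂ h12 hd1 (a + b) hreg] at hy1
  rw [colon_eq_sup A 𝔧₂ 𝔧₁ h21 hd2 (a + b) hreg] at hy2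
  obtain ⟨j₂, hj₂, z, hz, rfl⟩ := Submodule.mem_sup.mp hy1
  obtain ⟨r, rfl⟩ := Ideal.mem_span_singleton'.mp hz
  obtain ⟨j₁, hj₁, z', hz', hyy⟩ := Submodule.mem_sup.mp hy2
  obtain ⟨s, rfl⟩ := Ideal.mem_span_singleton'.mp hz'
  -- `j₂ + r b - s b = j₁ + s a - r a` lies in both ideals
  have hmem2 : j₂ + r * b - s * b ∈ 𝔧₂ :=
    sub_mem (add_mem hj₂ (Ideal.mul_mem_left _ _ hb)) (Ideal.mul_mem_left _ _ hb)
  have hmem1 : j₂ + r * b - s * b ∈ 𝔧₁ := by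
    have : j₂ + r * b - s * b = j₁ + s * a - r * a := by linear_combination hyy.symm
    rw [this]
    exact sub_mem (add_mem hj₁ (Ideal.mul_mem_left _ _ ha)) (Ideal.mul_mem_left _ _ ha)
  have h0 := eq_zero_of_mem_of_mem h12 ha hb hreg hmem1 hmem2
  refine ⟨r, s, ?_⟩
  linear_combination h0

/-- `r a = 0 → r ∈ 𝔧₂` -/
theorem mem_of_mul_left_eq_zero {r : A} (hr : r * a = 0) : r ∈ 𝔧₂ := by
  apply mem_of_mul_mem A 𝔧₁ 𝔧₂ h12 hd1 (a + b) hreg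
  rw [mul_add, hr, zero_add]
  exact Ideal.mul_mem_left _ _ hb

/-- `r b = 0 → r ∈ 𝔧₁` -/
theorem mem_of_mul_right_eq_zero {r : A} (hr : r * b = 0) : r ∈ 𝔧₁ := by
  apply mem_of_mul_mem A 𝔧₂ 𝔧₁ h21 hd2 (a + b) hreg
  rw [mul_add, hr, add_zero]
  exact Ideal.mul_mem_left _ _ ha

/-- `((x) : a) = 𝔧₁ + 𝔧₂` for `x = a + b` -/
theorem mem_sup_iff_mul_mem (y : A) :
    y ∈ 𝔧₁ ⊔ 𝔧₂ ↔ y * a ∈ Ideal.span {a + b} := by
  constructor
  · intro hy
    obtain ⟨j₁, hj₁, j₂, hj₂, rfl⟩ := Submodule.mem_sup.mp hy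
    rw [Ideal.mem_span_singleton']
    refine ⟨j₁, ?_⟩
    have h1 : j₁ * b = 0 := mul_eq_zero_of_mem h12 hj₁ hb
    have h2 : a * j₂ = 0 := mul_eq_zero_of_mem h12 ha hj₂
    linear_combination h1 - h2
  · intro hy
    obtain ⟨t, ht⟩ := Ideal.mem_span_singleton'.mp hy
    -- `(y - t) a = t b` lies in both ideals
    have hmem1 : (y - t) * a ∈ 𝔧₁ := Ideal.mul_mem_left _ _ ha
    have hmem2 : (y - t) * a ∈ 𝔧₂ := by
      have : (y - t) * a = t * b := by linear_combination -ht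
      rw [this]
      exact Ideal.mul_mem_left _ _ hb
    have h0 := eq_zero_of_mem_of_mem h12 ha hb hreg hmem1 hmem2
    have h0' : t * b = 0 := by linear_combination ht + h0
    have h1 := mem_of_mul_left_eq_zero A 𝔧₁ 𝔧₂ h12 h21 hd1 hd2 a b ha hb hreg h0
    have h2 := mem_of_mul_right_eq_zero A 𝔧₁ 𝔧₂ h12 h21 hd1 hd2 a b ha hb hreg h0'
    have : y = t + (y - t) := by ring
    rw [this]
    exact Submodule.add_mem_sup h2 h1

end Colon2

section CM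

variable (A : Type u) [CommRing A] [hA : LocCoh.IsGorensteinLocalRing A] (𝔧₁ 𝔧₂ : Ideal A)
  (h12 : (Submodule.annihilator 𝔧₁ : Ideal A) = 𝔧₂) (h21 : (Submodule.annihilator 𝔧₂ : Ideal A) = 𝔧₁)
  (hd1 : ringKrullDim (A ⧸ 𝔧₁) = ringKrullDim A) (hd2 : ringKrullDim (A ⧸ 𝔧₂) = ringKrullDim A)
  [h1cm : LocCoh.IsCohenMacaulayLocalRing (A ⧸ 𝔧₁)] [h2cm : LocCoh.IsCohenMacaulayLocalRing (A ⧸ 𝔧₂)]
  (a b : A) (ha : a ∈ 𝔧₁) (hb : b ∈ 𝔧₂) (hreg : IsSMulRegular A (a + b))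
  (hne : 𝔧₁ ⊔ 𝔧₂ ≠ ⊤)

/-- depth over `A` of a Cohen–Macaulay quotient of full dimension -/
theorem depth_quotient_eq (𝔧 : Ideal A) (d : ℕ) (hd : ringKrullDim A = d)
    (hdim : ringKrullDim (A ⧸ 𝔧) = ringKrullDim A)
    [hcm : LocCoh.IsCohenMacaulayLocalRing (A ⧸ 𝔧)] : LocCoh.depth A (A ⧸ 𝔧) = d := by
  haveI : IsLocalRing (A ⧸ 𝔧) := hcm.toIsLocalRing
  haveI : IsLocalHom (algebraMap A (A ⧸ 𝔧)) :=
    IsLocalHom.of_surjective _ Ideal.Quotient.mk_surjective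
  have h := hcm.supportDim_eq_depth
  rw [Module.supportDim_self_eq_ringKrullDim, hdim, hd,
    ← Groth.Agent.H29.DepthAB.depth_eq (A := A) (B := A ⧸ 𝔧) (A ⧸ 𝔧)] at h
  have : ((d : ℕ∞) : WithBot ℕ∞) = ((LocCoh.depth A (A ⧸ 𝔧) : ℕ∞) : WithBot ℕ∞) := by
    exact_mod_cast h
  exact (WithBot.coe_injective this).symm

include h12 h21 hd1 hd2 ha hb hreg hne in
/-- `A/(𝔧₁ + 𝔧₂)` is Cohen–Macaulay of dimension `dim A - 1` -/
theorem isCohenMacaulayLocalRing_quotient_sup :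
    LocCoh.IsCohenMacaulayLocalRing (A ⧸ (𝔧₁ ⊔ 𝔧₂)) ∧
      ringKrullDim (A ⧸ (𝔧₁ ⊔ 𝔧₂)) + 1 = ringKrullDim A := by
  set S : Ideal A := 𝔧₁ ⊔ 𝔧₂ with hS
  haveI : IsLocalRing A := hA.toIsLocalRing
  haveI : IsNoetherianRing A := hA.toIsNoetherian
  obtain ⟨d, hd⟩ : ∃ d : ℕ, ringKrullDim A = d := by
    obtain ⟨d, hd⟩ := Groth.Agent.H29.CML.exists_nat_supportDim_eq (A := A) A
    exact ⟨d, by rw [← Module.supportDim_self_eq_ringKrullDim, hd]⟩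
  have hdepthA : LocCoh.depth A A = d := Groth.Agent.H2.GorensteinExt.depth_eq_of_gorenstein A d hd
  have hdepth1 : LocCoh.depth A (A ⧸ 𝔧₁) = d := depth_quotient_eq A 𝔧₁ d hd hd1
  have hdepth2 : LocCoh.depth A (A ⧸ 𝔧₂) = d := depth_quotient_eq A 𝔧₂ d hd hd2
  have hSm : S ≤ maximalIdeal A := IsLocalRing.le_maximalIdeal hne
  have hxS : a + b ∈ S := Submodule.add_mem_sup ha hb
  have hxm : a + b ∈ maximalIdeal A := hSm hxS
  -- dimensions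
  have hdimx := ringKrullDim_quotient_span_singleton_succ_eq_ringKrullDim hreg hxm
  have hxle : Ideal.span {a + b} ≤ S := (Ideal.span_singleton_le_iff_mem _).mpr hxS
  have hdimS : ringKrullDim (A ⧸ S) ≤ ringKrullDim (A ⧸ Ideal.span {a + b}) :=
    ringKrullDim_le_of_surjective (Ideal.Quotient.factor hxle)
      (Ideal.Quotient.factor_surjective hxle)
  have hntS : Nontrivial (A ⧸ S) := Ideal.Quotient.nontrivial_iff.mpr hne
  have hlocS : IsLocalRing (A ⧸ S) :=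
    IsLocalRing.of_surjective' (Ideal.Quotient.mk S) Ideal.Quotient.mk_surjective
  have hlhS : IsLocalHom (algebraMap A (A ⧸ S)) :=
    IsLocalHom.of_surjective _ Ideal.Quotient.mk_surjective
  have hntx : Nontrivial (A ⧸ Ideal.span {a + b}) :=
    Ideal.Quotient.nontrivial_iff.mpr (fun h => hne (top_le_iff.mp (h ▸ hxle)))
  obtain ⟨e, he⟩ : ∃ e : ℕ, ringKrullDim (A ⧸ Ideal.span {a + b}) = e := by
    haveI : IsLocalRing (A ⧸ Ideal.span {a + b}) :=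
      IsLocalRing.of_surjective' (Ideal.Quotient.mk _) Ideal.Quotient.mk_surjective
    obtain ⟨e, he⟩ := Groth.Agent.H29.CML.exists_nat_supportDim_eq
      (A := A ⧸ Ideal.span {a + b}) (A ⧸ Ideal.span {a + b})
    exact ⟨e, by rw [← Module.supportDim_self_eq_ringKrullDim, he]⟩
  have hde : d = e + 1 := by
    rw [he, hd] at hdimx
    exact_mod_cast hdimx.symm
  -- depth of `𝔧₂`
  have hdepthJ : (d : ℕ∞) ≤ LocCoh.depth A 𝔧₂ := by
    have := (Groth.Agent.H2.DepthSES.depth_lemma (maximalIdeal A) (𝔧₂.subtype) (Submodule.mkQ 𝔧₂)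
      𝔧₂.injective_subtype (Submodule.mkQ_surjective 𝔧₂)
      (LinearMap.exact_subtype_mkQ 𝔧₂)).2.2
    refine le_trans ?_ this
    rw [le_min_iff]
    constructor
    · exact le_of_eq hdepthA.symm
    · show (d : ℕ∞) ≤ LocCoh.depth A (A ⧸ 𝔧₂) + 1
      rw [hdepth2]
      exact le_self_add
  -- the sequence `0 → 𝔧₂ → A/𝔧₁ → A/S → 0`
  have h1S : 𝔧₁ ≤ S := le_sup_left
  let f : 𝔧₂ →ₗ[A] (A ⧸ 𝔧₁) := (Submodule.mkQ 𝔧₁).comp 𝔧₂.subtype
  let g : (A ⧸ 𝔧₁) →ₗ[A] (A ⧸ S) := Submodule.mapQ 𝔧₁ S LinearMap.id (by simpa using h1S)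
  have hf : Function.Injective f := by
    rw [injective_iff_map_eq_zero]
    intro y hy
    have hy1 : (y : A) ∈ 𝔧₁ := by
      have : Submodule.mkQ 𝔧₁ (y : A) = 0 := hy
      rwa [Submodule.mkQ_apply, Submodule.Quotient.mk_eq_zero] at this
    exact Subtype.ext (eq_zero_of_mem_of_mem h12 ha hb hreg hy1 y.2)
  have hg : Function.Surjective g := by
    intro z
    obtain ⟨z, rfl⟩ := Submodule.mkQ_surjective S z
    exact ⟨Submodule.mkQ 𝔧₁ z, rfl⟩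
  have hfg : Function.Exact f g := by
    intro z
    obtain ⟨z, rfl⟩ := Submodule.mkQ_surjective 𝔧₁ z
    constructor
    · intro hz
      have hzS : z ∈ S := by
        have : Submodule.mkQ S z = 0 := hz
        rwa [Submodule.mkQ_apply, Submodule.Quotient.mk_eq_zero] at this
      obtain ⟨j₁, hj₁, j₂, hj₂, rfl⟩ := Submodule.mem_sup.mp hzS
      refine ⟨⟨j₂, hj₂⟩, ?_⟩
      show Submodule.mkQ 𝔧₁ j₂ = Submodule.mkQ 𝔧₁ (j₁ + j₂)
      rw [map_add, (Submodule.mkQ_apply 𝔧₁ j₁), (Submodule.Quotient.mk_eq_zero 𝔧₁).mpr hj₁, zero_add]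
    · rintro ⟨y, hy⟩
      rw [← hy]
      show Submodule.mkQ S (y : A) = 0
      rw [Submodule.mkQ_apply, Submodule.Quotient.mk_eq_zero]
      exact Submodule.mem_sup_right y.2
  have hdepthS : (e : ℕ∞) ≤ LocCoh.depth A (A ⧸ S) := by
    have := (Groth.Agent.H2.DepthSES.depth_lemma (maximalIdeal A) f g hf hg hfg).2.1
    refine le_trans ?_ this
    rw [le_min_iff]
    constructor
    · show (e : ℕ∞) ≤ LocCoh.depth A (A ⧸ 𝔧₁)
      rw [hdepth1, hde]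
      exact_mod_cast Nat.le_succ e
    · have h3 : ((e + 1 : ℕ) : ℕ∞) ≤ LocCoh.depth A 𝔧₂ := by rw [← hde]; exact hdepthJ
      have h4 : ((e + 1 : ℕ) : ℕ∞) - 1 ≤ LocCoh.depth A 𝔧₂ - 1 := tsub_le_tsub_right h3 1
      refine le_trans ?_ h4
      have h5 : ((e + 1 : ℕ) : ℕ∞) - 1 = (e : ℕ∞) := by
        have : ((e + 1 : ℕ) : ℕ∞) - 1 = ((e + 1 - 1 : ℕ) : ℕ∞) := by
          rw [ENat.natCast_sub]; rfl
        rw [this]; simp
      rw [h5]
  -- conclusion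
  have h2 : ((LocCoh.depth A (A ⧸ S) : ℕ∞) : WithBot ℕ∞) ≤ Module.supportDim A (A ⧸ S) :=
    Groth.Agent.H29.CML.depth_le_supportDim (A ⧸ S)
  have h3 : Module.supportDim A (A ⧸ S) ≤ (e : WithBot ℕ∞) := by
    rw [Module.supportDim_quotient_eq_ringKrullDim, ← he]
    exact hdimS
  have h1' : ((e : ℕ∞) : WithBot ℕ∞) ≤ ((LocCoh.depth A (A ⧸ S) : ℕ∞) : WithBot ℕ∞) :=
    WithBot.coe_le_coe.mpr hdepthS
  have heq : Module.supportDim A (A ⧸ S) = ((LocCoh.depth A (A ⧸ S) : ℕ∞) : WithBot ℕ∞) :=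
    le_antisymm (h3.trans (by exact_mod_cast h1')) h2
  have hdimSe : ringKrullDim (A ⧸ S) = e := by
    rw [← Module.supportDim_quotient_eq_ringKrullDim]
    exact le_antisymm h3 (le_trans (by exact_mod_cast h1') h2)
  refine ⟨@LocCoh.IsCohenMacaulayLocalRing.mk _ _ inferInstance hlocS ?_, ?_⟩
  · rw [← Groth.Agent.H29.DepthAB.depth_eq (A := A) (B := A ⧸ S) (A ⧸ S),
      Module.supportDim_self_eq_ringKrullDim, ← Module.supportDim_quotient_eq_ringKrullDim]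
    exact heq
  · rw [hdimSe, hd, hde]
    norm_cast

end CM

section Gor

variable (A : Type u) [CommRing A] [hA : LocCoh.IsGorensteinLocalRing A] (𝔧₁ 𝔧₂ : Ideal A)
  (h12 : (Submodule.annihilator 𝔧₁ : Ideal A) = 𝔧₂) (h21 : (Submodule.annihilator 𝔧₂ : Ideal A) = 𝔧₁)
  (hd1 : ringKrullDim (A ⧸ 𝔧₁) = ringKrullDim A) (hd2 : ringKrullDim (A ⧸ 𝔧₂) = ringKrullDim A)
  [h1cm : LocCoh.IsCohenMacaulayLocalRing (A ⧸ 𝔧₁)] [h2cm : LocCoh.IsCohenMacaulayLocalRing (A ⧸ 𝔧₂)]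
  (a b : A) (ha : a ∈ 𝔧₁) (hb : b ∈ 𝔧₂) (hreg : IsSMulRegular A (a + b))
  (hne : 𝔧₁ ⊔ 𝔧₂ ≠ ⊤)

include h12 h21 hd1 hd2 ha hb hreg hne in
/-- **local core**: `A/(𝔧₁ + 𝔧₂)` is Gorenstein -/
theorem isGorensteinLocalRing_quotient_sup :
    LocCoh.IsGorensteinLocalRing (A ⧸ (𝔧₁ ⊔ 𝔧₂)) := by
  obtain ⟨hcmS, hdimS⟩ := isCohenMacaulayLocalRing_quotient_sup A 𝔧₁ 𝔧₂ h12 h21 hd1 hd2 a b ha hb
    hreg hne
  set S : Ideal A := 𝔧₁ ⊔ 𝔧₂ with hS
  haveI : IsLocalRing A := hA.toIsLocalRing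
  haveI : IsNoetherianRing A := hA.toIsNoetherian
  have hSm : S ≤ maximalIdeal A := IsLocalRing.le_maximalIdeal hne
  have hxS : a + b ∈ S := Submodule.add_mem_sup ha hb
  have hxm : a + b ∈ maximalIdeal A := hSm hxS
  set X : Ideal A := Ideal.span {a + b} with hX
  have hxle : X ≤ S := (Ideal.span_singleton_le_iff_mem _).mpr hxS
  have hdimx : ringKrullDim (A ⧸ X) + 1 = ringKrullDim A :=
    ringKrullDim_quotient_span_singleton_succ_eq_ringKrullDim hreg hxm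
  have hG' : LocCoh.IsGorensteinLocalRing (A ⧸ X) := by
    have := Groth.Agent.H26.GorRegSeq.isGorensteinLocalRing_quotient_ofList [a + b] hA
      (by intro r hr; rw [List.mem_singleton] at hr; rw [hr]; exact hxm)
      ((isWeaklyRegular_singleton_iff A (a + b)).mpr hreg)
    rwa [Ideal.ofList_singleton] at this
  haveI : IsLocalRing (A ⧸ X) := hG'.toIsLocalRing
  haveI : IsNoetherianRing (A ⧸ X) := hG'.toIsNoetherian
  set 𝔟 : Ideal (A ⧸ X) := S.map (Ideal.Quotient.mk X) with h𝔟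
  let e : (A ⧸ X) ⧸ 𝔟 ≃+* A ⧸ S := DoubleQuot.quotQuotEquivQuotOfLE hxle
  have hcm' : LocCoh.IsCohenMacaulayLocalRing ((A ⧸ X) ⧸ 𝔟) :=
    Groth.Agent.H49.isCohenMacaulayLocalRing_of_ringEquiv e.symm hcmS
  have hdim' : ringKrullDim ((A ⧸ X) ⧸ 𝔟) = ringKrullDim (A ⧸ X) := by
    rw [ringKrullDim_eq_of_ringEquiv e]
    obtain ⟨e₁, he₁⟩ : ∃ e₁ : ℕ, ringKrullDim (A ⧸ X) = e₁ := by
      obtain ⟨e₁, he₁⟩ := Groth.Agent.H29.CML.exists_nat_supportDim_eq (A := A ⧸ X) (A ⧸ X)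
      exact ⟨e₁, by rw [← Module.supportDim_self_eq_ringKrullDim, he₁]⟩
    haveI : IsLocalRing (A ⧸ S) := hcmS.toIsLocalRing
    haveI : IsNoetherianRing (A ⧸ S) := hcmS.toIsNoetherian
    obtain ⟨e₂, he₂⟩ : ∃ e₂ : ℕ, ringKrullDim (A ⧸ S) = e₂ := by
      obtain ⟨e₂, he₂⟩ := Groth.Agent.H29.CML.exists_nat_supportDim_eq (A := A ⧸ S) (A ⧸ S)
      exact ⟨e₂, by rw [← Module.supportDim_self_eq_ringKrullDim, he₂]⟩
    rw [he₁, he₂]
    rw [he₁] at hdimx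
    rw [he₂, ← hdimx] at hdimS
    have : e₂ + 1 = e₁ + 1 := by exact_mod_cast hdimS
    have : e₂ = e₁ := by omega
    rw [this]
  have hext : ∀ i : ℕ, 1 ≤ i →
      Subsingleton (Abelian.Ext (ModuleCat.of (A ⧸ X) ((A ⧸ X) ⧸ 𝔟)) (ModuleCat.of (A ⧸ X) (A ⧸ X)) i) :=
    fun i hi => LinkExt.subsingleton_ext_quotient (A ⧸ X) 𝔟 hdim' i hi
  obtain ⟨n, hn⟩ := hG'.exists_hasInjectiveDimensionLT
  have hab : Ideal.Quotient.mk X b = - Ideal.Quotient.mk X a := by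
    rw [eq_neg_iff_add_eq_zero, add_comm, ← map_add, Ideal.Quotient.eq_zero_iff_mem]
    exact Ideal.mem_span_singleton_self _
  have h1 : ∀ y' : A ⧸ X, y' ∈ 𝔟 ↔ y' * Ideal.Quotient.mk X a = 0 := by
    intro y'
    obtain ⟨y, rfl⟩ := Ideal.Quotient.mk_surjective y'
    rw [h𝔟, Ideal.mem_quotient_iff_mem hxle, ← map_mul, Ideal.Quotient.eq_zero_iff_mem]
    exact mem_sup_iff_mul_mem A 𝔧₁ 𝔧₂ h12 h21 hd1 hd2 a b ha hb hreg y
  have h2 : ∀ y' : A ⧸ X, (∀ s' ∈ 𝔟, s' * y' = 0) → ∃ c', y' = c' * Ideal.Quotient.mk X a := by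
    intro y' hy'
    obtain ⟨y, rfl⟩ := Ideal.Quotient.mk_surjective y'
    have hy : y ∈ Submodule.colon X ((𝔧₁ ⊔ 𝔧₂ : Ideal A) : Set A) := by
      rw [Submodule.mem_colon]
      intro p hp
      have := hy' (Ideal.Quotient.mk X p) (Ideal.mem_map_of_mem _ hp)
      rw [← map_mul, Ideal.Quotient.eq_zero_iff_mem] at this
      rwa [smul_eq_mul, mul_comm]
    obtain ⟨r, s, hrs⟩ := mem_span_pair_of_mem_colon A 𝔧₁ 𝔧₂ h12 h21 hd1 hd2 a b ha hb hreg hy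
    refine ⟨Ideal.Quotient.mk X r - Ideal.Quotient.mk X s, ?_⟩
    rw [hrs, map_add, map_mul, map_mul, hab]
    ring
  have hfin := TorsionIdeal.hasInjectiveDimensionLT_quotient_annihilator 𝔟 n
    (Ideal.Quotient.mk X a) h1 h2 hext hn
  haveI : IsLocalRing ((A ⧸ X) ⧸ 𝔟) := hcm'.toIsLocalRing
  have hG'' : LocCoh.IsGorensteinLocalRing ((A ⧸ X) ⧸ 𝔟) :=
    @LocCoh.IsGorensteinLocalRing.mk _ _ inferInstance inferInstance ⟨n, hfin⟩
  exact LiaisonGor.isGorensteinLocalRing_of_ringEquiv e hG''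

end Gor

section Global

variable (B : Type u) [CommRing B]

/-- at a prime `P ⊇ J₁ + J₂` of a Gorenstein ring `B` with `J₁ = 0 : J₂`, `J₂ = 0 : J₁`, `B/Jᵢ`
Cohen–Macaulay and `a + b` regular (`a ∈ J₁`, `b ∈ J₂`): the local ring of `B/(J₁ + J₂)` is
Gorenstein of dimension `dim B_P - 1`. -/
theorem local_at_prime [hB : LocCoh.IsGorensteinRing B] (J₁ J₂ : Ideal B)
    (h12 : (Submodule.annihilator J₁ : Ideal B) = J₂) (h21 : (Submodule.annihilator J₂ : Ideal B) = J₁)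
    (hcm1 : LocCoh.IsCohenMacaulayRing (B ⧸ J₁)) (hcm2 : LocCoh.IsCohenMacaulayRing (B ⧸ J₂))
    (a b : B) (ha : a ∈ J₁) (hb : b ∈ J₂) (hreg : IsSMulRegular B (a + b))
    (P : Ideal B) [hPp : P.IsPrime] (hP : J₁ ⊔ J₂ ≤ P) :
    LocCoh.IsGorensteinLocalRing
        (Localization.AtPrime P ⧸ (J₁ ⊔ J₂).map (algebraMap B (Localization.AtPrime P))) ∧
      ringKrullDim
          (Localization.AtPrime P ⧸ (J₁ ⊔ J₂).map (algebraMap B (Localization.AtPrime P))) + 1 =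
        ringKrullDim (Localization.AtPrime P) := by
  haveI : IsNoetherianRing B := hB.toIsNoetherian
  let A := Localization.AtPrime P
  have hG : LocCoh.IsGorensteinLocalRing A := hB.isGorensteinLocalRing_localization P
  have hAcm : LocCoh.IsCohenMacaulayLocalRing A :=
    Groth.Agent.H2.GorensteinCM.isCohenMacaulayLocalRing A
  set 𝔧₁ : Ideal A := J₁.map (algebraMap B A) with h𝔧₁
  set 𝔧₂ : Ideal A := J₂.map (algebraMap B A) with h𝔧₂
  have hann1 : (Submodule.annihilator 𝔧₁ : Ideal A) = 𝔧₂ := by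
    rw [h𝔧₁, LiaisonDual.annihilator_map_eq_map_annihilator P.primeCompl A J₁
      (IsNoetherian.noetherian J₁), h12]
  have hann2 : (Submodule.annihilator 𝔧₂ : Ideal A) = 𝔧₁ := by
    rw [h𝔧₂, LiaisonDual.annihilator_map_eq_map_annihilator P.primeCompl A J₂
      (IsNoetherian.noetherian J₂), h21]
  have hJ1P : J₁ ≤ P := le_sup_left.trans hP
  have hJ2P : J₂ ≤ P := le_sup_right.trans hP
  have hmapsup : (J₁ ⊔ J₂).map (algebraMap B A) = 𝔧₁ ⊔ 𝔧₂ := Ideal.map_sup _ _ _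
  have hne : 𝔧₁ ⊔ 𝔧₂ ≠ ⊤ := by
    have : 𝔧₁ ⊔ 𝔧₂ ≤ maximalIdeal A := by
      rw [← hmapsup, ← Localization.AtPrime.map_eq_maximalIdeal]
      exact Ideal.map_mono hP
    exact fun h => (Ideal.IsPrime.ne_top' (I := maximalIdeal A)) (top_le_iff.mp (h ▸ this))
  have hne1 : 𝔧₁ ≠ ⊤ := fun h => hne (by rw [h, top_sup_eq])
  have hne2 : 𝔧₂ ≠ ⊤ := fun h => hne (by rw [h, sup_top_eq])
  -- Cohen–Macaulayness of the two quotients
  have hcmq : ∀ (J : Ideal B), J ≤ P → LocCoh.IsCohenMacaulayRing (B ⧸ J) →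
      LocCoh.IsCohenMacaulayLocalRing (A ⧸ J.map (algebraMap B A)) := by
    intro J hJP hcm
    set Q : Ideal (B ⧸ J) := P.map (Ideal.Quotient.mk J) with hQ
    have hker : RingHom.ker (Ideal.Quotient.mk J) ≤ P := by rw [Ideal.mk_ker]; exact hJP
    have hQp : Q.IsPrime :=
      Ideal.map_isPrime_of_surjective Ideal.Quotient.mk_surjective hker
    have hQc : Q.comap (Ideal.Quotient.mk J) = P := by
      rw [hQ, Ideal.comap_map_of_surjective' _ Ideal.Quotient.mk_surjective, sup_eq_left]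
      exact hker
    obtain ⟨e2⟩ := LiaisonCM.nonempty_ringEquiv_localization_quotient B J P Q hQc
    exact Groth.Agent.H49.isCohenMacaulayLocalRing_of_ringEquiv e2
      (hcm.isCohenMacaulayLocalRing_localization Q)
  have h1cm : LocCoh.IsCohenMacaulayLocalRing (A ⧸ 𝔧₁) := hcmq J₁ hJ1P hcm1
  have h2cm : LocCoh.IsCohenMacaulayLocalRing (A ⧸ 𝔧₂) := hcmq J₂ hJ2P hcm2
  have hd1 : ringKrullDim (A ⧸ 𝔧₁) = ringKrullDim A := by
    have := LiaisonCM.ringKrullDim_quotient_annihilator_eq A hAcm.supportDim_eq_depth 𝔧₂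
      (by rw [hann2]; exact hne1)
    rwa [hann2] at this
  have hd2 : ringKrullDim (A ⧸ 𝔧₂) = ringKrullDim A := by
    have := LiaisonCM.ringKrullDim_quotient_annihilator_eq A hAcm.supportDim_eq_depth 𝔧₁
      (by rw [hann1]; exact hne2)
    rwa [hann1] at this
  have ha' : algebraMap B A a ∈ 𝔧₁ := Ideal.mem_map_of_mem _ ha
  have hb' : algebraMap B A b ∈ 𝔧₂ := Ideal.mem_map_of_mem _ hb
  have hreg' : IsSMulRegular A (algebraMap B A a + algebraMap B A b) := by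
    rw [← map_add]
    exact hreg.of_flat
  rw [hmapsup]
  exact ⟨isGorensteinLocalRing_quotient_sup A 𝔧₁ 𝔧₂ hann1 hann2 hd1 hd2 _ _ ha' hb' hreg' hne,
    (isCohenMacaulayLocalRing_quotient_sup A 𝔧₁ 𝔧₂ hann1 hann2 hd1 hd2 _ _ ha' hb' hreg' hne).2⟩

/-- **global form**: over a Gorenstein ring `B`, if `J₁ = 0 : J₂`, `J₂ = 0 : J₁`, `B/Jᵢ` are
Cohen–Macaulay and `J₁ + J₂` contains a regular element, then `B/(J₁ + J₂)` is Gorenstein. -/
theorem isGorensteinRing_quotient_sup [hB : LocCoh.IsGorensteinRing B] (J₁ J₂ : Ideal B)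
    (h12 : (Submodule.annihilator J₁ : Ideal B) = J₂) (h21 : (Submodule.annihilator J₂ : Ideal B) = J₁)
    (hcm1 : LocCoh.IsCohenMacaulayRing (B ⧸ J₁)) (hcm2 : LocCoh.IsCohenMacaulayRing (B ⧸ J₂))
    (a b : B) (ha : a ∈ J₁) (hb : b ∈ J₂) (hreg : IsSMulRegular B (a + b)) :
    LocCoh.IsGorensteinRing (B ⧸ (J₁ ⊔ J₂)) := by
  haveI : IsNoetherianRing B := hB.toIsNoetherian
  refine @LocCoh.IsGorensteinRing.mk _ _ inferInstance (fun Q' hQ' => ?_)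
  set P : Ideal B := Q'.comap (Ideal.Quotient.mk (J₁ ⊔ J₂)) with hP
  have hPp : P.IsPrime := Ideal.comap_isPrime _ _
  have hSP : J₁ ⊔ J₂ ≤ P := by
    intro x hx
    rw [hP, Ideal.mem_comap, Ideal.Quotient.eq_zero_iff_mem.mpr hx]
    exact zero_mem _
  obtain ⟨e⟩ := LiaisonCM.nonempty_ringEquiv_localization_quotient B (J₁ ⊔ J₂) P Q' rfl
  exact LiaisonGor.isGorensteinLocalRing_of_ringEquiv e.symm
    (local_at_prime B J₁ J₂ h12 h21 hcm1 hcm2 a b ha hb hreg P hSP).1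

end Global

end Groth.Agent.H81.GeomLink
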