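import Mathlib
import Groth.Agent.H81.GeomLink
import Groth.Agent.H81.ACILink
import Groth.Agent.H81.GrUnmixed
import Groth.Agent.H15.DepthFlat
import Groth.Agent.H29.NormFlatDimD
import Groth.Agent.H72.CMLocal

/-!
# Geometric linkage in a polynomial ring  (helper81)

`I₁, I₂` homogeneous of height `c` with Cohen–Macaulay quotients and no common minimal prime,
`R/(I₁ ∩ I₂)` Gorenstein: then `I₁ + I₂` has height `c + 1` and Gorenstein quotient.
-/

set_option autoImplicit false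
set_option linter.style.haveILetI false
set_option linter.unusedSectionVars false

namespace Groth.Agent.H81.GeomLinkPoly

universe u

open IsLocalRing Submodule

section General

variable {R : Type u} [CommRing R] [IsNoetherianRing R]

/-- `(I₁ ∩ I₂) : I₁ = I₂` if no associated prime of `R/I₂` contains `I₁` -/
theorem colon_inf_eq (I₁ I₂ : Ideal R)
    (h : ∀ p ∈ associatedPrimes R (R ⧸ I₂), ¬ I₁ ≤ p) :
    (I₁ ⊓ I₂).colon (I₁ : Set R) = I₂ := by
  apply le_antisymm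
  · intro y hy
    by_contra hy2
    have hne : (Ideal.Quotient.mk I₂ y) ≠ 0 := fun h0 => hy2 (Ideal.Quotient.eq_zero_iff_mem.mp h0)
    obtain ⟨p, hp, hle⟩ := exists_le_isAssociatedPrime_of_isNoetherianRing R
      (Ideal.Quotient.mk I₂ y) hne
    apply h p hp
    intro z hz
    apply hle
    rw [mem_colon_singleton, mem_bot]
    rw [mem_colon] at hy
    have := hy z hz
    rw [smul_eq_mul] at this
    show z • (Ideal.Quotient.mk I₂ y) = 0
    rw [Algebra.smul_def, Ideal.Quotient.algebraMap_eq, ← map_mul, Ideal.Quotient.eq_zero_iff_mem,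
      mul_comm]
    exact this.2
  · intro y hy
    rw [mem_colon]
    intro z hz
    rw [smul_eq_mul]
    exact ⟨Ideal.mul_mem_left _ _ hz, Ideal.mul_mem_right _ _ hy⟩

end General

section Dim

/-- a local ring modulo an ideal over which the maximal ideal is minimal has dimension zero -/
theorem ringKrullDim_quotient_eq_zero_of_maximalIdeal_mem_minimalPrimes {A : Type u} [CommRing A]
    [IsLocalRing A] (S : Ideal A) (h : maximalIdeal A ∈ S.minimalPrimes) :
    ringKrullDim (A ⧸ S) = 0 := by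
  have hne : S ≠ ⊤ := fun htop => h.1.1.ne_top (top_le_iff.mp (htop ▸ h.1.2))
  haveI : Nontrivial (A ⧸ S) := Ideal.Quotient.nontrivial_iff.mpr hne
  have h0 : Ring.KrullDimLE 0 (A ⧸ S) := by
    rw [Ring.krullDimLE_zero_iff]
    intro 𝔮' h𝔮'
    set 𝔮 : Ideal A := 𝔮'.comap (Ideal.Quotient.mk S) with h𝔮
    have h𝔮p : 𝔮.IsPrime := Ideal.comap_isPrime _ _
    have hS𝔮 : S ≤ 𝔮 := by
      intro x hx
      rw [h𝔮, Ideal.mem_comap, Ideal.Quotient.eq_zero_iff_mem.mpr hx]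
      exact zero_mem _
    have h𝔮m : 𝔮 ≤ maximalIdeal A := IsLocalRing.le_maximalIdeal h𝔮p.ne_top
    have heq : 𝔮 = maximalIdeal A := le_antisymm h𝔮m (h.2 ⟨h𝔮p, hS𝔮⟩ h𝔮m)
    have hmap : 𝔮' = (maximalIdeal A).map (Ideal.Quotient.mk S) := by
      rw [← heq, h𝔮, Ideal.map_comap_of_surjective _ Ideal.Quotient.mk_surjective]
    rw [hmap]
    rcases Ideal.map_eq_top_or_isMaximal_of_surjective (Ideal.Quotient.mk S)
      Ideal.Quotient.mk_surjective (maximalIdeal.isMaximal A) with h1 | h1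
    · exact absurd (hmap ▸ h1) h𝔮'.ne_top
    · exact h1
  apply le_antisymm
  · exact (Ring.krullDimLE_iff).mp h0
  · exact ringKrullDim_nonneg_of_nontrivial

end Dim

section Main

variable (K : Type u) [Field K] (n c : ℕ)

theorem height_sup_and_isGorensteinRing
    (I₁ I₂ : Ideal (MvPolynomial (Fin (n + 1)) K))
    (hI₁ : I₁.IsHomogeneous (GrSyz.stdGr K (Fin (n + 1))))
    (hI₂ : I₂.IsHomogeneous (GrSyz.stdGr K (Fin (n + 1))))
    [hcm₁ : LocCoh.IsCohenMacaulayRing (MvPolynomial (Fin (n + 1)) K ⧸ I₁)]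
    [hcm₂ : LocCoh.IsCohenMacaulayRing (MvPolynomial (Fin (n + 1)) K ⧸ I₂)]
    (h₁ : I₁.height = c) (h₂ : I₂.height = c)
    (hdisj : Disjoint I₁.minimalPrimes I₂.minimalPrimes)
    [hG : LocCoh.IsGorensteinRing (MvPolynomial (Fin (n + 1)) K ⧸ (I₁ ⊓ I₂))] :
    (I₁ ⊔ I₂).height = c + 1 ∧
      LocCoh.IsGorensteinRing (MvPolynomial (Fin (n + 1)) K ⧸ (I₁ ⊔ I₂)) := by
  classical
  let R := MvPolynomial (Fin (n + 1)) K
  set 𝔞 : Ideal R := I₁ ⊓ I₂ with h𝔞
  have h𝔞1 : 𝔞 ≤ I₁ := inf_le_left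
  have h𝔞2 : 𝔞 ≤ I₂ := inf_le_right
  -- minimal primes have height `c`
  have hht1 : ∀ q ∈ I₁.minimalPrimes, q.height = c := fun q hq => by
    rw [GrUnmixed.height_eq_of_mem_minimalPrimes K (n + 1) I₁ hI₁ hcm₁ q hq, h₁]
  have hht2 : ∀ q ∈ I₂.minimalPrimes, q.height = c := fun q hq => by
    rw [GrUnmixed.height_eq_of_mem_minimalPrimes K (n + 1) I₂ hI₂ hcm₂ q hq, h₂]
  -- no associated prime of `R/I₂` contains `I₁` and conversely
  have hass2 : ∀ p ∈ associatedPrimes R (R ⧸ I₂), ¬ I₁ ≤ p := by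
    intro p hp hle
    have hpp : p.IsPrime := hp.isPrime
    have hmin := Liaison.mem_minimalPrimes_of_mem_associatedPrimes_quotient I₂
      (fun P _ => hcm₂.isCohenMacaulayLocalRing_localization P) p hp
    have hmin1 := LiaisonDual.mem_minimalPrimes_of_height_eq I₁ p hle c h₁ (hht2 p hmin)
    exact (Set.disjoint_left.mp hdisj) hmin1 hmin
  have hass1 : ∀ p ∈ associatedPrimes R (R ⧸ I₁), ¬ I₂ ≤ p := by
    intro p hp hle
    have hpp : p.IsPrime := hp.isPrime
    have hmin := Liaison.mem_minimalPrimes_of_mem_associatedPrimes_quotient I₁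
      (fun P _ => hcm₁.isCohenMacaulayLocalRing_localization P) p hp
    have hmin2 := LiaisonDual.mem_minimalPrimes_of_height_eq I₂ p hle c h₂ (hht1 p hmin)
    exact (Set.disjoint_left.mp hdisj) hmin hmin2
  have hcol1 : 𝔞.colon (I₁ : Set R) = I₂ := colon_inf_eq I₁ I₂ hass2
  have hcol2 : 𝔞.colon (I₂ : Set R) = I₁ := by
    have := colon_inf_eq I₂ I₁ hass1
    rwa [inf_comm] at this
  -- the quotient ring
  let B := R ⧸ 𝔞
  set J₁ : Ideal B := I₁.map (Ideal.Quotient.mk 𝔞) with hJ₁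
  set J₂ : Ideal B := I₂.map (Ideal.Quotient.mk 𝔞) with hJ₂
  have hann12 : (Submodule.annihilator J₁ : Ideal B) = J₂ := by
    ext y
    obtain ⟨x, rfl⟩ := Ideal.Quotient.mk_surjective y
    rw [hJ₁, ← LiaisonDual.mem_colon_iff_mk_mem_annihilator, hcol1, hJ₂,
      Ideal.mem_quotient_iff_mem h𝔞2]
  have hann21 : (Submodule.annihilator J₂ : Ideal B) = J₁ := by
    ext y
    obtain ⟨x, rfl⟩ := Ideal.Quotient.mk_surjective y
    rw [hJ₂, ← LiaisonDual.mem_colon_iff_mk_mem_annihilator, hcol2, hJ₁,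
      Ideal.mem_quotient_iff_mem h𝔞1]
  have hcmB1 : LocCoh.IsCohenMacaulayRing (B ⧸ J₁) :=
    Groth.Agent.H26.FormalFibreQuot.isCohenMacaulayRing_of_ringEquiv
      (DoubleQuot.quotQuotEquivQuotOfLE h𝔞1).symm hcm₁
  have hcmB2 : LocCoh.IsCohenMacaulayRing (B ⧸ J₂) :=
    Groth.Agent.H26.FormalFibreQuot.isCohenMacaulayRing_of_ringEquiv
      (DoubleQuot.quotQuotEquivQuotOfLE h𝔞2).symm hcm₂
  -- a regular element in `J₁ + J₂`
  have hinf : ∀ m : B, m ∈ J₁ → m ∈ J₂ → m = 0 := by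
    intro m hm1 hm2
    obtain ⟨x, rfl⟩ := Ideal.Quotient.mk_surjective m
    rw [hJ₁, Ideal.mem_quotient_iff_mem h𝔞1] at hm1
    rw [hJ₂, Ideal.mem_quotient_iff_mem h𝔞2] at hm2
    exact Ideal.Quotient.eq_zero_iff_mem.mpr ⟨hm1, hm2⟩
  obtain ⟨x, hxS, hxreg⟩ : ∃ x ∈ J₁ ⊔ J₂, IsSMulRegular B x := by
    by_contra hcon
    push Not at hcon
    obtain ⟨m, hm0, hm⟩ :=
      Groth.Agent.H15.exists_ne_zero_smul_eq_zero_of_forall_not_isSMulRegular (J₁ ⊔ J₂) B hcon
    apply hm0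
    apply hinf
    · rw [← hann21, Submodule.mem_annihilator]
      intro j hj
      rw [smul_eq_mul, mul_comm]
      exact hm j (Submodule.mem_sup_right hj)
    · rw [← hann12, Submodule.mem_annihilator]
      intro j hj
      rw [smul_eq_mul, mul_comm]
      exact hm j (Submodule.mem_sup_left hj)
  obtain ⟨a, ha, b, hb, rfl⟩ := Submodule.mem_sup.mp hxS
  -- Gorenstein
  have hmapsup : (I₁ ⊔ I₂).map (Ideal.Quotient.mk 𝔞) = J₁ ⊔ J₂ := Ideal.map_sup _ _ _
  have h𝔞S : 𝔞 ≤ I₁ ⊔ I₂ := h𝔞1.trans le_sup_left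
  have hGB : LocCoh.IsGorensteinRing (B ⧸ (J₁ ⊔ J₂)) :=
    GeomLink.isGorensteinRing_quotient_sup B J₁ J₂ hann12 hann21 hcmB1 hcmB2 a b ha hb hxreg
  have hGR : LocCoh.IsGorensteinRing (R ⧸ (I₁ ⊔ I₂)) := by
    rw [← hmapsup] at hGB
    exact ACILink.isGorensteinRing_of_ringEquiv (DoubleQuot.quotQuotEquivQuotOfLE h𝔞S) hGB
  refine ⟨?_, hGR⟩
  -- the height: every minimal prime of `I₁ + I₂` has height `c + 1`
  have hKcm : LocCoh.IsCohenMacaulayRing K :=
    Groth.Agent.H72.CMLocal.isCohenMacaulayRing_of_local K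
      (Groth.Agent.H26.CMFlat.isCohenMacaulayLocalRing_of_isRegularLocalRing K)
  have hRcm : LocCoh.IsCohenMacaulayRing R := Groth.Agent.S2092.result (n + 1)
  have hminht : ∀ q ∈ 𝔞.minimalPrimes, q.height = c := by
    intro q hq
    have hqp : q.IsPrime := hq.1.1
    rcases (Ideal.IsPrime.inf_le hqp).mp hq.1.2 with h | h
    · exact hht1 q ⟨⟨hqp, h⟩, fun q' hq' hle => hq.2 ⟨hq'.1, h𝔞1.trans hq'.2⟩ hle⟩
    · exact hht2 q ⟨⟨hqp, h⟩, fun q' hq' hle => hq.2 ⟨hq'.1, h𝔞2.trans hq'.2⟩ hle⟩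
  have key : ∀ p ∈ (I₁ ⊔ I₂).minimalPrimes, p.height = c + 1 := by
    intro p hp
    have hpp : p.IsPrime := hp.1.1
    have h𝔞p : 𝔞 ≤ p := h𝔞S.trans hp.1.2
    set P : Ideal B := p.map (Ideal.Quotient.mk 𝔞) with hP
    have hker : RingHom.ker (Ideal.Quotient.mk 𝔞) ≤ p := by rw [Ideal.mk_ker]; exact h𝔞p
    have hPp : P.IsPrime := Ideal.map_isPrime_of_surjective Ideal.Quotient.mk_surjective hker
    have hPc : P.comap (Ideal.Quotient.mk 𝔞) = p := by
      rw [hP, Ideal.comap_map_of_surjective' _ Ideal.Quotient.mk_surjective, sup_eq_left]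
      exact hker
    have hSP : J₁ ⊔ J₂ ≤ P := by
      rw [← hmapsup]
      exact Ideal.map_mono hp.1.2
    have hPmin : P ∈ (J₁ ⊔ J₂).minimalPrimes := by
      refine ⟨⟨hPp, hSP⟩, fun P₁ hP₁ hle => ?_⟩
      have hP₁p : P₁.IsPrime := hP₁.1
      have h1 : I₁ ⊔ I₂ ≤ P₁.comap (Ideal.Quotient.mk 𝔞) := by
        rw [← Ideal.map_le_iff_le_comap, hmapsup]
        exact hP₁.2
      have h2 : P₁.comap (Ideal.Quotient.mk 𝔞) ≤ p := by
        rw [← hPc]
        exact Ideal.comap_mono hle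
      have h3 := hp.2 ⟨Ideal.comap_isPrime _ _, h1⟩ h2
      calc P = p.map (Ideal.Quotient.mk 𝔞) := rfl
        _ ≤ (P₁.comap (Ideal.Quotient.mk 𝔞)).map (Ideal.Quotient.mk 𝔞) := Ideal.map_mono h3
        _ = P₁ := Ideal.map_comap_of_surjective _ Ideal.Quotient.mk_surjective _
    obtain ⟨-, hdimloc⟩ :=
      GeomLink.local_at_prime B J₁ J₂ hann12 hann21 hcmB1 hcmB2 a b ha hb hxreg P hSP
    have hmaxmin : maximalIdeal (Localization.AtPrime P) ∈
        ((J₁ ⊔ J₂).map (algebraMap B (Localization.AtPrime P))).minimalPrimes := by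
      rw [IsLocalization.minimalPrimes_map P.primeCompl (Localization.AtPrime P) (J₁ ⊔ J₂),
        Set.mem_preimage, IsLocalization.AtPrime.under_maximalIdeal (Localization.AtPrime P) P]
      exact hPmin
    rw [ringKrullDim_quotient_eq_zero_of_maximalIdeal_mem_minimalPrimes _ hmaxmin, zero_add]
      at hdimloc
    -- transfer to `F = R_p`
    let F := Localization.AtPrime p
    have hFcm : LocCoh.IsCohenMacaulayLocalRing F := hRcm.isCohenMacaulayLocalRing_localization p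
    haveI : IsLocalRing F := hFcm.toIsLocalRing
    haveI : IsNoetherianRing F := hFcm.toIsNoetherian
    obtain ⟨e⟩ := LiaisonCM.nonempty_ringEquiv_localization_quotient R 𝔞 p P hPc
    have hdimF : ringKrullDim (F ⧸ 𝔞.map (algebraMap R F)) = 1 := by
      rw [← ringKrullDim_eq_of_ringEquiv e, ← hdimloc]
    have hneF : 𝔞.map (algebraMap R F) ≠ ⊤ := by
      have : 𝔞.map (algebraMap R F) ≤ maximalIdeal F := by
        rw [← Localization.AtPrime.map_eq_maximalIdeal]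
        exact Ideal.map_mono h𝔞p
      exact fun h => (Ideal.IsPrime.ne_top' (I := maximalIdeal F)) (top_le_iff.mp (h ▸ this))
    obtain ⟨𝔮, h𝔮, h𝔮dim⟩ :=
      Groth.Agent.H29.NormFlatDim.exists_minimalPrimes_ringKrullDim_eq (𝔞.map (algebraMap R F)) hneF
    have h𝔮p : 𝔮.IsPrime := h𝔮.1.1
    have h𝔮ht : 𝔮.height = c := by
      rw [← IsLocalization.height_under p.primeCompl 𝔮]
      apply hminht
      rw [IsLocalization.minimalPrimes_map p.primeCompl F 𝔞, Set.mem_preimage] at h𝔮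
      exact h𝔮
    have hform := Groth.Agent.H72.CMLocal.ringKrullDim_eq_quotient_add_height F hFcm 𝔮
    rw [h𝔮dim, hdimF, h𝔮ht, IsLocalization.AtPrime.ringKrullDim_eq_height p F] at hform
    have : (p.height : WithBot ℕ∞) = ((1 + c : ℕ) : WithBot ℕ∞) := by
      rw [hform]; push_cast; rfl
    have h4 : p.height = ((1 + c : ℕ) : ℕ∞) := by exact_mod_cast this
    rw [h4]
    push_cast
    ring
  -- `I₁ + I₂` is proper
  have hne1 : I₁ ≠ ⊤ := by
    rintro rfl
    rw [Ideal.height_top] at h₁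
    exact ENat.top_ne_natCast c h₁
  have hne2 : I₂ ≠ ⊤ := by
    rintro rfl
    rw [Ideal.height_top] at h₂
    exact ENat.top_ne_natCast c h₂
  have hSne : I₁ ⊔ I₂ ≠ ⊤ := by
    have hle : I₁ ⊔ I₂ ≤ RingHom.ker (MvPolynomial.constantCoeff : R →+* K) :=
      sup_le (GrUnmixed.le_ker_constantCoeff_of_isHomogeneous K (Fin (n + 1)) I₁ hI₁ hne1)
        (GrUnmixed.le_ker_constantCoeff_of_isHomogeneous K (Fin (n + 1)) I₂ hI₂ hne2)
    intro htop
    have h1 : (1 : R) ∈ RingHom.ker (MvPolynomial.constantCoeff : R →+* K) :=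
      hle (htop ▸ Submodule.mem_top)
    rw [RingHom.mem_ker, map_one] at h1
    exact one_ne_zero h1
  obtain ⟨p₀, hp₀⟩ := Ideal.nonempty_minimalPrimes hSne
  rw [Ideal.height_eq_inf_minimalPrimes]
  apply le_antisymm
  · exact (iInf₂_le p₀ hp₀).trans (le_of_eq (key p₀ hp₀))
  · exact le_iInf₂ fun q hq => le_of_eq (key q hq).symm

end Main

end Groth.Agent.H81.GeomLinkPoly
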