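import Mathlib
import Groth.Agent.H81.CanonPieces
import Groth.Agent.H98.Canon.HullSoc
import Groth.Agent.H85.GrLCBase

/-!
# The perfect pairing `R_d × *E(k)_{-d} → *E(k)_0`  (helper81)

`R = ⊕_{n ≥ 0} R_n` Noetherian, `R_0 = k` a field, `m = R_+`, `E = *E_R(k)`.
* `exists_smul_ne_zero_of_mem`: a nonzero `x ∈ E_j` has `r x ≠ 0` for some `r ∈ R_{-j}`;
* `exists_mem_smul_ne_zero`: a nonzero `r ∈ R_d` has `r x ≠ 0` for some `x ∈ E_{-d}`;
* `exists_eq_smul_e_one`: `E_0 = k · e(1)`;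
* `finrank_hull_eq`: `dim_k E_{-d} = dim_k R_d`.
-/

set_option autoImplicit false
set_option linter.unusedSectionVars false
set_option linter.style.haveILetI false

namespace Groth.Agent.H81.HullPairing

universe u

open Groth.Agent.H98.GrStar Groth.Agent.H98.Canon

variable {R : Type u} [CommRing R] [IsNoetherianRing R] (𝒜 : ℤ → AddSubgroup R) [GradedRing 𝒜]
  (hpos : ∀ n : ℤ, n < 0 → 𝒜 n = ⊥) (h0 : IsField (GrLC.deg0 𝒜))
  {m : HomogeneousIdeal 𝒜} (hm : GrLC.IsStarLocal 𝒜 m)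
  (hmsp : m.toIdeal = Ideal.span (⋃ n ∈ Set.Ioi (0 : ℤ), (𝒜 n : Set R)))
variable {E' : Type u} [AddCommGroup E'] [Module R E'] (𝓔 : ℤ → AddSubgroup E')
  [DirectSum.Decomposition 𝓔] [SetLike.GradedSMul 𝒜 𝓔]
  (e : (R ⧸ m.toIdeal) →ₗ[R] E') (he : GrLC.IsStarInjHull 𝒜 (GrLC.quotGr 𝒜 m) 𝓔 e)

include hpos in
theorem hpos' : ∀ k : ℤ, k < 0 → ∀ r ∈ 𝒜 k, r = 0 := by
  intro k hk r hr
  rw [hpos k hk] at hr
  exact AddSubgroup.mem_bot.mp hr

include hpos hmsp he in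
theorem eq_zero_of_pos (j : ℤ) (hj : 0 < j) (y : E') (hy : y ∈ 𝓔 j) : y = 0 :=
  hull_eq_zero_of_pos 𝒜 (hpos' 𝒜 hpos) hmsp 𝓔 e he.toIsStarEss j hj y hy

omit [IsNoetherianRing R] in
/-- a nonzero element lies in at most one piece -/
theorem eq_of_mem_of_mem {i j : ℤ} {y : E'} (hi : y ∈ 𝓔 i) (hj : y ∈ 𝓔 j) (hy : y ≠ 0) : i = j := by
  by_contra hne
  apply hy
  have h1 := DirectSum.decompose_of_mem_same 𝓔 hi
  have h2 := DirectSum.decompose_of_mem_ne 𝓔 hj (Ne.symm hne)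
  rw [← h1, h2]

include hpos hmsp he in
/-- essentiality: a nonzero homogeneous element of `E` has a nonzero multiple in degree zero -/
theorem exists_smul_ne_zero_of_mem {j : ℤ} {x : E'} (hx : x ∈ 𝓔 j) (hx0 : x ≠ 0) :
    ∃ r ∈ 𝒜 (-j), r • x ≠ 0 := by
  obtain ⟨d, r, hr, hrx, ⟨k, hk⟩⟩ :=
    exists_homog_mul_mem_range_of_homog 𝒜 (quotIdealGMod 𝒜 m).gr 𝓔 e he.toIsStarEss hx hx0
  have h1 : r • x ∈ 𝓔 (d + j) := by
    have := SetLike.GradedSMul.smul_mem (A := 𝒜) (B := 𝓔) hr hx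
    rwa [vadd_eq_add] at this
  have h2 : r • x ∈ 𝓔 0 := by
    rw [← hk]
    exact e_mem_zero 𝒜 (hpos' 𝒜 hpos) hmsp 𝓔 e he.toIsStarEss k
  have h3 : d + j = 0 := eq_of_mem_of_mem 𝓔 h1 h2 hrx
  have h4 : d = -j := by omega
  exact ⟨r, h4 ▸ hr, hrx⟩

include hpos hm hmsp he in
/-- faithfulness: a nonzero homogeneous element of `R` acts nontrivially on the piece of opposite
degree -/
theorem exists_mem_smul_ne_zero {d : ℤ} {r : R} (hr : r ∈ 𝒜 d) (hr0 : r ≠ 0) :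
    ∃ x ∈ 𝓔 (-d), r • x ≠ 0 := by
  classical
  obtain ⟨x, hx⟩ := exists_smul_ne_zero 𝒜 𝓔 e hm he hr hr0
  have h1 : ∃ j : ℤ, r • ((DirectSum.decompose 𝓔 x j : 𝓔 j) : E') ≠ 0 := by
    by_contra hcon
    push Not at hcon
    apply hx
    rw [← DirectSum.sum_support_decompose 𝓔 x, Finset.smul_sum]
    exact Finset.sum_eq_zero fun j _ => hcon j
  obtain ⟨j, hj⟩ := h1
  set xj : E' := ((DirectSum.decompose 𝓔 x j : 𝓔 j) : E') with hxj
  have hxjmem : xj ∈ 𝓔 j := SetLike.coe_mem _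
  have hy : r • xj ∈ 𝓔 (d + j) := by
    have := SetLike.GradedSMul.smul_mem (A := 𝒜) (B := 𝓔) hr hxjmem
    rwa [vadd_eq_add] at this
  obtain ⟨s, hs, hsy⟩ := exists_smul_ne_zero_of_mem 𝒜 hpos hmsp 𝓔 e he hy hj
  refine ⟨s • xj, ?_, ?_⟩
  · have := SetLike.GradedSMul.smul_mem (A := 𝒜) (B := 𝓔) hs hxjmem
    rw [vadd_eq_add] at this
    have h2 : -(d + j) + j = -d := by ring
    rwa [h2] at this
  · rwa [smul_comm]

include hpos h0 hmsp he in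
/-- `E_0 = k · e(1)` -/
theorem exists_eq_smul_e_one (hne : m.toIdeal ≠ ⊤) {y : E'} (hy : y ∈ 𝓔 0) :
    ∃ c ∈ 𝒜 0, y = c • e 1 := by
  classical
  haveI : m.toIdeal.IsMaximal := Groth.Agent.H85.GrLCBase.isMaximal_irr 𝒜 hpos h0 m hne hmsp
  have hkill : ∀ r ∈ m.toIdeal, r • y = 0 := by
    intro r hr
    rw [hmsp] at hr
    refine Submodule.span_induction (p := fun r _ => r • y = 0) ?_ ?_ ?_ ?_ hr
    · intro s hs
      simp only [Set.mem_iUnion, Set.mem_Ioi, SetLike.mem_coe, exists_prop] at hs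
      obtain ⟨j, hj, hs⟩ := hs
      apply eq_zero_of_pos 𝒜 hpos hmsp 𝓔 e he (j + 0) (by omega)
      have := SetLike.GradedSMul.smul_mem (A := 𝒜) (B := 𝓔) hs hy
      rwa [vadd_eq_add] at this
    · exact zero_smul _ _
    · intro a b _ _ ha hb
      rw [add_smul, ha, hb, add_zero]
    · intro a b _ hb
      rw [smul_eq_mul, mul_smul, hb, smul_zero]
  obtain ⟨k, hk⟩ := mem_range_of_smul_eq_zero 𝒜 𝓔 m e he.toIsStarEss y hkill
  obtain ⟨s, rfl⟩ := Ideal.Quotient.mk_surjective k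
  refine ⟨(DirectSum.decompose 𝒜 s 0 : R), SetLike.coe_mem _, ?_⟩
  have h1 : Ideal.Quotient.mk m.toIdeal s =
      Ideal.Quotient.mk m.toIdeal (DirectSum.decompose 𝒜 s 0 : R) := by
    rw [Ideal.Quotient.eq]
    exact sub_decompose_zero_mem 𝒜 (hpos' 𝒜 hpos) hmsp s
  rw [← hk, h1, ← map_smul]
  congr 1
  rw [Algebra.smul_def, mul_one]
  rfl

omit [IsNoetherianRing R] in
include he in
theorem e_one_ne_zero (hne : m.toIdeal ≠ ⊤) : e 1 ≠ 0 := by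
  intro h
  have h1 : (1 : R ⧸ m.toIdeal) = 0 := he.injective (by rw [h, map_zero])
  apply hne
  rw [Ideal.eq_top_iff_one, ← Ideal.Quotient.eq_zero_iff_mem]
  exact h1

section Finrank

include hpos h0 hmsp he in
/-- `E_0` is one-dimensional -/
theorem finrank_zero (hne : m.toIdeal ≠ ⊤) :
    letI : Field (GrLC.deg0 𝒜) := h0.toField
    Module.finrank (GrLC.deg0 𝒜) (GrLC.comp 𝒜 𝓔 0) = 1 := by
  letI : Field (GrLC.deg0 𝒜) := h0.toField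
  have hmem : e 1 ∈ 𝓔 0 := e_mem_zero 𝒜 (hpos' 𝒜 hpos) hmsp 𝓔 e he.toIsStarEss 1
  have hv : (⟨e 1, hmem⟩ : GrLC.comp 𝒜 𝓔 0) ≠ 0 := by
    intro h
    exact e_one_ne_zero 𝒜 𝓔 e he hne (congrArg Subtype.val h)
  rw [finrank_eq_one_iff_of_nonzero' _ hv]
  rintro ⟨w, hw⟩
  obtain ⟨c, hc, hwc⟩ := exists_eq_smul_e_one 𝒜 hpos h0 hmsp 𝓔 e he hne hw
  refine ⟨⟨c, hc⟩, Subtype.ext ?_⟩
  exact hwc.symm

omit [IsNoetherianRing R] in
/-- multiplication `R_d × E_j → E_{d+j}` -/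
theorem smul_mem_add {d j l : ℤ} (hl : d + j = l) {r : R} (hr : r ∈ 𝒜 d) {x : E'} (hx : x ∈ 𝓔 j) :
    r • x ∈ 𝓔 l := by
  have := SetLike.GradedSMul.smul_mem (A := 𝒜) (B := 𝓔) hr hx
  rw [vadd_eq_add, hl] at this
  exact this

/-- the pairing as a map `E_{-d} → Hom_k(R_d, E_0)` -/
def pairE (d : ℤ) : GrLC.comp 𝒜 𝓔 (-d) →ₗ[GrLC.deg0 𝒜]
    (GrLC.comp 𝒜 𝒜 d →ₗ[GrLC.deg0 𝒜] GrLC.comp 𝒜 𝓔 0) where
  toFun x :=
    { toFun := fun r => ⟨(r : R) • (x : E'), smul_mem_add 𝒜 𝓔 (by omega) r.2 x.2⟩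
      map_add' := fun r s => Subtype.ext (add_smul (r : R) (s : R) (x : E'))
      map_smul' := fun c r => Subtype.ext (mul_smul (c : R) (r : R) (x : E')) }
  map_add' x y := by
    apply LinearMap.ext
    intro r
    exact Subtype.ext (smul_add (r : R) (x : E') (y : E'))
  map_smul' c x := by
    apply LinearMap.ext
    intro r
    exact Subtype.ext (smul_comm (r : R) (c : R) (x : E'))

/-- the pairing as a map `R_d → Hom_k(E_{-d}, E_0)` -/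
def pairR (d : ℤ) : GrLC.comp 𝒜 𝒜 d →ₗ[GrLC.deg0 𝒜]
    (GrLC.comp 𝒜 𝓔 (-d) →ₗ[GrLC.deg0 𝒜] GrLC.comp 𝒜 𝓔 0) where
  toFun r :=
    { toFun := fun x => ⟨(r : R) • (x : E'), smul_mem_add 𝒜 𝓔 (by omega) r.2 x.2⟩
      map_add' := fun x y => Subtype.ext (smul_add (r : R) (x : E') (y : E'))
      map_smul' := fun c x => Subtype.ext (smul_comm (r : R) (c : R) (x : E')) }
  map_add' r s := by
    apply LinearMap.ext
    intro x
    exact Subtype.ext (add_smul (r : R) (s : R) (x : E'))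
  map_smul' c r := by
    apply LinearMap.ext
    intro x
    exact Subtype.ext (mul_smul (c : R) (r : R) (x : E'))

include hpos hmsp he in
theorem pairE_injective (d : ℤ) : Function.Injective (pairE 𝒜 𝓔 d) := by
  rw [injective_iff_map_eq_zero]
  rintro ⟨x, hx⟩ h
  by_contra hne
  have hx0 : x ≠ 0 := fun h0 => hne (Subtype.ext h0)
  obtain ⟨r, hr, hrx⟩ := exists_smul_ne_zero_of_mem 𝒜 hpos hmsp 𝓔 e he hx hx0
  rw [neg_neg] at hr
  have := congrArg (fun F => ((F ⟨r, hr⟩ : GrLC.comp 𝒜 𝓔 0) : E')) h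
  exact hrx this

include hpos hm hmsp he in
theorem pairR_injective (d : ℤ) : Function.Injective (pairR 𝒜 𝓔 d) := by
  rw [injective_iff_map_eq_zero]
  rintro ⟨r, hr⟩ h
  by_contra hne
  have hr0 : r ≠ 0 := fun h0 => hne (Subtype.ext h0)
  obtain ⟨x, hx, hrx⟩ := exists_mem_smul_ne_zero 𝒜 hpos hm hmsp 𝓔 e he hr hr0
  have := congrArg (fun F => ((F ⟨x, hx⟩ : GrLC.comp 𝒜 𝓔 0) : E')) h
  exact hrx this

include hpos h0 hmsp he in
/-- the pieces of `*E(k)` are finite-dimensional -/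
theorem finite_hull (hne : m.toIdeal ≠ ⊤) (d : ℤ) :
    letI : Field (GrLC.deg0 𝒜) := h0.toField
    Module.Finite (GrLC.deg0 𝒜) (GrLC.comp 𝒜 𝓔 (-d)) := by
  letI : Field (GrLC.deg0 𝒜) := h0.toField
  haveI hfinR : Module.Finite (GrLC.deg0 𝒜) (GrLC.comp 𝒜 𝒜 d) :=
    Groth.Agent.H81.CanonPieces.finite_comp 𝒜 hpos h0 𝒜 d
  have h1 := finrank_zero 𝒜 hpos h0 hmsp 𝓔 e he hne
  haveI hfin0 : Module.Finite (GrLC.deg0 𝒜) (GrLC.comp 𝒜 𝓔 0) :=
    Module.finite_of_finrank_pos (by rw [h1]; exact Nat.one_pos)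
  haveI hfinHom : Module.Finite (GrLC.deg0 𝒜)
      (GrLC.comp 𝒜 𝒜 d →ₗ[GrLC.deg0 𝒜] GrLC.comp 𝒜 𝓔 0) := inferInstance
  exact Module.Finite.of_injective (pairE 𝒜 𝓔 d) (pairE_injective 𝒜 hpos hmsp 𝓔 e he d)

include hpos h0 hm hmsp he in
/-- **`dim_k E_{-d} = dim_k R_d`** -/
theorem finrank_hull_eq (hne : m.toIdeal ≠ ⊤) (d : ℤ) :
    Module.finrank (GrLC.deg0 𝒜) (GrLC.comp 𝒜 𝓔 (-d)) =
      Module.finrank (GrLC.deg0 𝒜) (GrLC.comp 𝒜 𝒜 d) := by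
  letI : Field (GrLC.deg0 𝒜) := h0.toField
  haveI hfinR : Module.Finite (GrLC.deg0 𝒜) (GrLC.comp 𝒜 𝒜 d) :=
    Groth.Agent.H81.CanonPieces.finite_comp 𝒜 hpos h0 𝒜 d
  have h1 := finrank_zero 𝒜 hpos h0 hmsp 𝓔 e he hne
  haveI hfin0 : Module.Finite (GrLC.deg0 𝒜) (GrLC.comp 𝒜 𝓔 0) :=
    Module.finite_of_finrank_pos (by rw [h1]; exact Nat.one_pos)
  haveI hfinHom : Module.Finite (GrLC.deg0 𝒜)
      (GrLC.comp 𝒜 𝒜 d →ₗ[GrLC.deg0 𝒜] GrLC.comp 𝒜 𝓔 0) := inferInstance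
  haveI hfinE : Module.Finite (GrLC.deg0 𝒜) (GrLC.comp 𝒜 𝓔 (-d)) :=
    Module.Finite.of_injective (pairE 𝒜 𝓔 d) (pairE_injective 𝒜 hpos hmsp 𝓔 e he d)
  apply le_antisymm
  · have := LinearMap.finrank_le_finrank_of_injective (pairE_injective 𝒜 hpos hmsp 𝓔 e he d)
    rwa [Module.finrank_linearMap, h1, mul_one] at this
  · have := LinearMap.finrank_le_finrank_of_injective (pairR_injective 𝒜 hpos hm hmsp 𝓔 e he d)
    rwa [Module.finrank_linearMap, h1, mul_one] at this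

end Finrank

end Groth.Agent.H81.HullPairing
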