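import Groth.Agent.H58.LCGV
import Groth.Agent.H58.LCLes
import Groth.Agent.H58.LCTorsion
import Groth.Agent.H98.LCRes.TopLC

set_option autoImplicit false
set_option linter.unusedSectionVars false
set_option linter.style.haveILetI false
universe u

/-!
# Top local cohomology is a tensor product

`R` Noetherian, `I` an ideal, `n` such that `H^{n+1}_I` vanishes on finitely generated modules
(e.g. `n ≥ dim R`).  Then `H^n_I` is right exact on finitely generated modules and the natural map
`Θ : M ⊗_R H^n_I(R) → H^n_I(M)`, `x ⊗ h ↦ H^n_I(r ↦ r x)(h)`, is bijective for finitely generated `M`.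
-/

namespace Groth.Agent.H81.TopTensor

open CategoryTheory Groth.Agent.H58.LC TensorProduct

variable {R : Type u} [CommRing R] (I : Ideal R) (n : ℕ)

section Hmap

variable {M N P : Type u} [AddCommGroup M] [Module R M] [AddCommGroup N] [Module R N]
  [AddCommGroup P] [Module R P]

/-- the map on `H^n_I` induced by a linear map -/
noncomputable def Hmap (f : M →ₗ[R] N) : LocCoh.H I n M →ₗ[R] LocCoh.H I n N :=
  ((localCohomology I n).map (ModuleCat.ofHom f)).hom

theorem Hmap_id : Hmap I n (LinearMap.id : M →ₗ[R] M) = LinearMap.id := by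
  unfold Hmap
  rw [ModuleCat.ofHom_id, CategoryTheory.Functor.map_id]
  rfl

theorem Hmap_comp (g : N →ₗ[R] P) (f : M →ₗ[R] N) :
    Hmap I n (g ∘ₗ f) = Hmap I n g ∘ₗ Hmap I n f := by
  unfold Hmap
  rw [ModuleCat.ofHom_comp, CategoryTheory.Functor.map_comp]
  rfl

theorem Hmap_comp_apply (g : N →ₗ[R] P) (f : M →ₗ[R] N) (x : LocCoh.H I n M) :
    Hmap I n (g ∘ₗ f) x = Hmap I n g (Hmap I n f x) := by
  rw [Hmap_comp]
  rfl

theorem Hmap_add (f g : M →ₗ[R] N) : Hmap I n (f + g) = Hmap I n f + Hmap I n g := by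
  ext x
  unfold Hmap
  rw [ModuleCat.ofHom_add, map_add']
  rfl

theorem Hmap_zero : Hmap I n (0 : M →ₗ[R] N) = 0 := by
  ext x
  unfold Hmap
  have : ModuleCat.ofHom (0 : M →ₗ[R] N) = 0 := rfl
  rw [this, map_zero']
  rfl

theorem Hmap_smul (r : R) (f : M →ₗ[R] N) : Hmap I n (r • f) = r • Hmap I n f := by
  ext x
  unfold Hmap
  have : ModuleCat.ofHom (r • f) = r • ModuleCat.ofHom f := rfl
  rw [this, map_smul']
  rfl

theorem Hmap_sum {α : Type*} (s : Finset α) (f : α → (M →ₗ[R] N)) :
    Hmap I n (∑ j ∈ s, f j) = ∑ j ∈ s, Hmap I n (f j) := by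
  classical
  induction s using Finset.induction_on with
  | empty => rw [Finset.sum_empty, Finset.sum_empty, Hmap_zero]
  | insert j s hj ih => rw [Finset.sum_insert hj, Finset.sum_insert hj, Hmap_add, ih]

end Hmap

section Mu

variable (M : Type u) [AddCommGroup M] [Module R M]

/-- `x ↦ H^n_I(r ↦ r x)` -/
noncomputable def mu : M →ₗ[R] (LocCoh.H I n R →ₗ[R] LocCoh.H I n M) where
  toFun x := Hmap I n (LinearMap.toSpanSingleton R M x)
  map_add' x y := by
    rw [LinearMap.toSpanSingleton_add, Hmap_add]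
  map_smul' r x := by
    rw [RingHom.id_apply, ← Hmap_smul]
    congr 1
    ext
    simp [smul_comm]

variable {M}

theorem mu_apply (x : M) (h : LocCoh.H I n R) :
    mu I n M x h = Hmap I n (LinearMap.toSpanSingleton R M x) h := rfl

variable {N : Type u} [AddCommGroup N] [Module R N]

/-- naturality of `mu` -/
theorem Hmap_mu (g : M →ₗ[R] N) (x : M) (h : LocCoh.H I n R) :
    Hmap I n g (mu I n M x h) = mu I n N (g x) h := by
  rw [mu_apply, mu_apply, ← Hmap_comp_apply]
  congr 2
  ext
  simp

/-- on the ring itself `mu` is scalar multiplication -/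
theorem mu_self (c : R) (h : LocCoh.H I n R) : mu I n R c h = c • h := by
  rw [mu_apply]
  have : LinearMap.toSpanSingleton R R c = c • (LinearMap.id : R →ₗ[R] R) := by
    ext
    simp
  rw [this, Hmap_smul, Hmap_id]
  rfl

variable (M)

/-- the comparison map `M ⊗ H^n_I(R) → H^n_I(M)` -/
noncomputable def Theta : M ⊗[R] LocCoh.H I n R →ₗ[R] LocCoh.H I n M :=
  TensorProduct.lift (mu I n M)

variable {M}

theorem Theta_tmul (x : M) (h : LocCoh.H I n R) : Theta I n M (x ⊗ₜ[R] h) = mu I n M x h := rfl

end Mu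

section Free

variable (s : ℕ)

theorem sum_single_proj :
    (∑ i : Fin s, (LinearMap.single R (fun _ : Fin s => R) i) ∘ₗ (LinearMap.proj i) :
      (Fin s → R) →ₗ[R] (Fin s → R)) = LinearMap.id := by
  classical
  ext j k
  simp [Pi.single_apply, Finset.sum_apply]

/-- `H^n_I(R^s)` is the sum of the images of the coordinate inclusions -/
theorem eq_sum_single_proj (y : LocCoh.H I n (Fin s → R)) :
    y = ∑ i : Fin s, Hmap I n (LinearMap.single R (fun _ : Fin s => R) i)
      (Hmap I n (LinearMap.proj i : (Fin s → R) →ₗ[R] R) y) := by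
  have h : Hmap I n (∑ i : Fin s, (LinearMap.single R (fun _ : Fin s => R) i) ∘ₗ
      (LinearMap.proj i) : (Fin s → R) →ₗ[R] (Fin s → R)) y = y := by
    rw [sum_single_proj, Hmap_id, LinearMap.id_apply]
  rw [Hmap_sum, LinearMap.sum_apply] at h
  conv_lhs => rw [← h]
  exact Finset.sum_congr rfl fun i _ => Hmap_comp_apply I n _ _ y

theorem proj_sum_single (h : Fin s → LocCoh.H I n R) (i₀ : Fin s) :
    Hmap I n (LinearMap.proj i₀ : (Fin s → R) →ₗ[R] R)
      (∑ i : Fin s, Hmap I n (LinearMap.single R (fun _ : Fin s => R) i) (h i)) = h i₀ := by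
  classical
  rw [map_sum]
  rw [Finset.sum_eq_single i₀]
  · rw [← Hmap_comp_apply]
    have : (LinearMap.proj i₀ : (Fin s → R) →ₗ[R] R) ∘ₗ
        LinearMap.single R (fun _ : Fin s => R) i₀ = LinearMap.id := by
      ext
      simp
    rw [this, Hmap_id]
    rfl
  · intro i _ hi
    rw [← Hmap_comp_apply]
    have : (LinearMap.proj i₀ : (Fin s → R) →ₗ[R] R) ∘ₗ
        LinearMap.single R (fun _ : Fin s => R) i = 0 := by
      ext
      simp [hi]
    rw [this, Hmap_zero]
    rfl
  · intro h'
    exact absurd (Finset.mem_univ _) h'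

/-- `mu` on `R^s` in coordinates -/
theorem mu_pi (u : Fin s → R) (g : LocCoh.H I n R) :
    mu I n (Fin s → R) u g =
      ∑ i : Fin s, Hmap I n (LinearMap.single R (fun _ : Fin s => R) i) (u i • g) := by
  classical
  rw [eq_sum_single_proj I n s (mu I n (Fin s → R) u g)]
  refine Finset.sum_congr rfl fun i _ => ?_
  rw [Hmap_mu, LinearMap.proj_apply, mu_self]

end Free

section Main

variable [IsNoetherianRing R]
  (hcd : ∀ (N : Type u) [AddCommGroup N] [Module R N] [Module.Finite R N],
    Subsingleton (LocCoh.H I (n + 1) N))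
  (M : Type u) [AddCommGroup M] [Module R M]

/-- the presentation map `R^s → M` attached to a finite family -/
noncomputable def pres {s : ℕ} (x : Fin s → M) : (Fin s → R) →ₗ[R] M :=
  ∑ i : Fin s, (LinearMap.toSpanSingleton R M (x i)) ∘ₗ (LinearMap.proj i)

theorem pres_apply {s : ℕ} (x : Fin s → M) (u : Fin s → R) :
    pres (R := R) M x u = ∑ i : Fin s, u i • x i := by
  simp [pres, LinearMap.sum_apply]

theorem pres_single {s : ℕ} (x : Fin s → M) (i : Fin s) :
    pres (R := R) M x ∘ₗ LinearMap.single R (fun _ : Fin s => R) i = LinearMap.toSpanSingleton R M (x i) := by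
  classical
  ext
  simp [pres_apply, Pi.single_apply]

theorem pres_surjective {s : ℕ} (x : Fin s → M) (hx : Submodule.span R (Set.range x) = ⊤) :
    Function.Surjective (pres (R := R) M x) := by
  intro m
  have hm : m ∈ Submodule.span R (Set.range x) := by rw [hx]; trivial
  rw [Submodule.mem_span_range_iff_exists_fun] at hm
  obtain ⟨c, hc⟩ := hm
  exact ⟨c, by rw [pres_apply, hc]⟩

include hcd in
/-- right exactness: `H^n_I(R^s) → H^n_I(M)` is surjective, in explicit form -/
theorem exists_repr [Module.Finite R M] {s : ℕ} (x : Fin s → M)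
    (hx : Submodule.span R (Set.range x) = ⊤) (z : LocCoh.H I n M) :
    ∃ h : Fin s → LocCoh.H I n R, z = ∑ i : Fin s, mu I n M (x i) (h i) := by
  have hπ := pres_surjective M x hx
  have hS := shortExact_of (LinearMap.ker (pres (R := R) M x)).subtype (pres (R := R) M x)
    (Submodule.injective_subtype _) hπ (LinearMap.exact_subtype_ker_map (pres (R := R) M x))
  haveI : Subsingleton ((localCohomology I (n + 1)).obj
      (ModuleCat.of R (LinearMap.ker (pres (R := R) M x)))) := hcd (LinearMap.ker (pres (R := R) M x))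
  obtain ⟨y, hy⟩ := exact₃ I n hS z (Subsingleton.elim _ _)
  refine ⟨fun i => Hmap I n (LinearMap.proj i : (Fin s → R) →ₗ[R] R) y, ?_⟩
  have hy' : Hmap I n (pres (R := R) M x) y = z := hy
  rw [← hy', eq_sum_single_proj I n s y, map_sum]
  refine Finset.sum_congr rfl fun i _ => ?_
  rw [← Hmap_comp_apply, pres_single, ← mu_apply, ← eq_sum_single_proj I n s y]

include hcd in
theorem Theta_surjective [Module.Finite R M] : Function.Surjective (Theta I n M) := by
  obtain ⟨s, x, hx⟩ := Module.Finite.exists_fin (R := R) (M := M)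
  intro z
  obtain ⟨h, rfl⟩ := exists_repr I n hcd M x hx z
  exact ⟨∑ i : Fin s, x i ⊗ₜ[R] h i, by rw [map_sum]; rfl⟩

theorem exists_tmul_sum {s : ℕ} (x : Fin s → M) (hx : Submodule.span R (Set.range x) = ⊤)
    (w : M ⊗[R] LocCoh.H I n R) :
    ∃ h : Fin s → LocCoh.H I n R, w = ∑ i : Fin s, x i ⊗ₜ[R] h i := by
  induction w using TensorProduct.induction_on with
  | zero => exact ⟨0, by simp⟩
  | tmul m t =>
    obtain ⟨c, rfl⟩ := pres_surjective M x hx m
    refine ⟨fun i => c i • t, ?_⟩
    rw [pres_apply, TensorProduct.sum_tmul]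
    exact Finset.sum_congr rfl fun i _ => TensorProduct.smul_tmul _ _ _
  | add a b ha hb =>
    obtain ⟨h, rfl⟩ := ha
    obtain ⟨h', rfl⟩ := hb
    refine ⟨h + h', ?_⟩
    rw [← Finset.sum_add_distrib]
    exact Finset.sum_congr rfl fun i _ => (TensorProduct.tmul_add _ _ _).symm

include hcd in
theorem Theta_injective [Module.Finite R M] : Function.Injective (Theta I n M) := by
  classical
  obtain ⟨s, x, hx⟩ := Module.Finite.exists_fin (R := R) (M := M)
  rw [injective_iff_map_eq_zero]
  intro w hw
  obtain ⟨h, rfl⟩ := exists_tmul_sum I n M x hx w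
  have hπ := pres_surjective M x hx
  have hS := shortExact_of (LinearMap.ker (pres (R := R) M x)).subtype (pres (R := R) M x)
    (Submodule.injective_subtype _) hπ (LinearMap.exact_subtype_ker_map (pres (R := R) M x))
  set y : LocCoh.H I n (Fin s → R) :=
    ∑ i : Fin s, Hmap I n (LinearMap.single R (fun _ : Fin s => R) i) (h i) with hy
  have hyz : Hmap I n (pres (R := R) M x) y = 0 := by
    rw [hy, map_sum]
    rw [map_sum] at hw
    rw [← hw]
    refine Finset.sum_congr rfl fun i _ => ?_
    rw [← Hmap_comp_apply, pres_single]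
    rfl
  obtain ⟨v, hv⟩ := exact₂ I n hS y hyz
  have hv' : Hmap I n (LinearMap.ker (pres (R := R) M x)).subtype v = y := hv
  -- generators of the kernel
  obtain ⟨t, y', hy'⟩ := Module.Finite.exists_fin (R := R) (M := LinearMap.ker (pres (R := R) M x))
  obtain ⟨g, hg⟩ := exists_repr I n hcd (LinearMap.ker (pres (R := R) M x)) y' hy' v
  have hy2 : y = ∑ l : Fin t, ∑ i : Fin s,
      Hmap I n (LinearMap.single R (fun _ : Fin s => R) i) (((y' l : Fin s → R) i) • g l) := by
    rw [← hv', hg, map_sum]
    refine Finset.sum_congr rfl fun l _ => ?_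
    rw [Hmap_mu, Submodule.subtype_apply, mu_pi]
  have hcoord : ∀ i₀ : Fin s, h i₀ = ∑ l : Fin t, ((y' l : Fin s → R) i₀) • g l := by
    intro i₀
    have h1 := proj_sum_single I n s h i₀
    rw [← hy, hy2, map_sum] at h1
    rw [← h1]
    refine Finset.sum_congr rfl fun l _ => ?_
    exact proj_sum_single I n s (fun i => ((y' l : Fin s → R) i) • g l) i₀
  calc ∑ i : Fin s, x i ⊗ₜ[R] h i
      = ∑ i : Fin s, ∑ l : Fin t, x i ⊗ₜ[R] (((y' l : Fin s → R) i) • g l) := by
        refine Finset.sum_congr rfl fun i _ => ?_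
        rw [hcoord i, TensorProduct.tmul_sum]
    _ = ∑ l : Fin t, ∑ i : Fin s, (((y' l : Fin s → R) i) • x i) ⊗ₜ[R] g l := by
        rw [Finset.sum_comm]
        refine Finset.sum_congr rfl fun l _ => Finset.sum_congr rfl fun i _ => ?_
        exact (TensorProduct.smul_tmul _ _ _).symm
    _ = ∑ l : Fin t, (pres (R := R) M x (y' l : Fin s → R)) ⊗ₜ[R] g l := by
        refine Finset.sum_congr rfl fun l _ => ?_
        rw [pres_apply, TensorProduct.sum_tmul]
    _ = 0 := by
        refine Finset.sum_eq_zero fun l _ => ?_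
        have : pres (R := R) M x (y' l : Fin s → R) = 0 := (y' l).2
        rw [this, TensorProduct.zero_tmul]

include hcd in
/-- **Top local cohomology is a tensor product.** -/
theorem Theta_bijective [Module.Finite R M] : Function.Bijective (Theta I n M) :=
  ⟨Theta_injective I n hcd M, Theta_surjective I n hcd M⟩

end Main

section Dim

variable [IsNoetherianRing R]

/-- the vanishing hypothesis holds when `n ≥ dim R` -/
theorem subsingleton_succ_of_dim_le (hdim : ringKrullDim R ≤ (n : WithBot ℕ∞))
    (N : Type u) [AddCommGroup N] [Module R N] : Subsingleton (LocCoh.H I (n + 1) N) := by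
  apply gv I (n + 1) N
  refine lt_of_le_of_lt ((Module.supportDim_le_ringKrullDim R _).trans hdim) ?_
  exact_mod_cast Nat.lt_succ_self n

end Dim

end Groth.Agent.H81.TopTensor
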