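import Groth.Agent.H81.TopTensor
import Groth.Agent.H98.Ver.GrRes
import Groth.Agent.H98.GrStar.Shift
import Groth.Agent.H98.LCRes.Natural

set_option autoImplicit false
set_option linter.unusedSectionVars false
set_option linter.style.haveILetI false
universe u

/-!
# The graded comparison `M ⊗ *H^n_a(R) → *H^n_a(M)`

For *injective resolutions `I` of `R` and `EM` of a graded module `M`, the canonical identifications
of `I.H a i`, `EM.H a i` with ordinary local cohomology transport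
`mu x = H^i_a(r ↦ r x)` to maps `I.H a i → EM.H a i` which are homogeneous: for `x ∈ M_g`,
`mu x` carries `I.Hgr a i b` into `EM.Hgr a i (b + g)`.
-/

namespace Groth.Agent.H81.GrTopTensor

open DirectSum CategoryTheory TensorProduct Groth.Agent.H98.LCRes Groth.Agent.H98.GrStar
  Groth.Agent.H98.Ver Groth.Agent.H81.TopTensor

variable {ι : Type} [AddCommGroup ι] [DecidableEq ι]
variable {R : Type u} [CommRing R] [IsNoetherianRing R]
  {σ : Type u} [SetLike σ R] [AddSubgroupClass σ R]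
  {𝒜 : ι → σ} [GradedRing 𝒜]

section Equiv

variable {M : Type u} [AddCommGroup M] [Module R M] {τ : Type u} [SetLike τ M] [AddSubgroupClass τ M]
  {ℳ : ι → τ} [DirectSum.Decomposition ℳ] [SetLike.GradedSMul 𝒜 ℳ]

/-- a *injective resolution (pieces of any kind) is a resolution by `Γ_a`-acyclic modules -/
def toAcycRes' (E : GrLC.StarInjRes 𝒜 ℳ) (a : HomogeneousIdeal 𝒜) : AcycRes a.toIdeal M where
  X n := (E.X n).carrier
  d := E.d
  ε := E.ε
  ε_injective := E.ε_injective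
  exact_zero := E.exact_zero
  exact_succ := E.exact_succ
  acyclic n j := locCoh_subsingleton_of_isStarInj 𝒜 (E.X n).gr a (E.starInj n) (j + 1) (by omega)

/-- the canonical identification of `*H^i_a(M)` with `H^i_a(M)` -/
noncomputable def lcEquiv (E : GrLC.StarInjRes 𝒜 ℳ) (a : HomogeneousIdeal 𝒜) :
    (i : ℕ) → E.H a i ≃ₗ[R] LocCoh.H a.toIdeal i M
  | 0 => (toAcycRes' E a).equiv 0
  | k + 1 => (toAcycRes' E a).equiv (k + 1)

end Equiv

section Graded

variable {τR : Type u} [SetLike τR R] [AddSubgroupClass τR R]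
  {ℛ : ι → τR} [DirectSum.Decomposition ℛ] [SetLike.GradedSMul 𝒜 ℛ]
  (hℛ : ∀ (g : ι) (r : R), r ∈ ℛ g → r ∈ 𝒜 g)
variable {M : Type u} [AddCommGroup M] [Module R M]
  {ℳ : ι → AddSubgroup M} [DirectSum.Decomposition ℳ] [SetLike.GradedSMul 𝒜 ℳ]

/-- the pieces of `R` as additive subgroups -/
def ringGr (ℛ : ι → τR) : ι → AddSubgroup R := fun g => AddSubgroup.ofClass (ℛ g)

instance ringGrDecomposition : DirectSum.Decomposition (ringGr ℛ) where
  decompose' := fun x => (DirectSum.decompose ℛ x : DirectSum ι fun i => ℛ i)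
  left_inv := DirectSum.Decomposition.left_inv (ℳ := ℛ)
  right_inv := DirectSum.Decomposition.right_inv (ℳ := ℛ)

instance ringGrGradedSMul : SetLike.GradedSMul 𝒜 (ringGr ℛ) where
  smul_mem := by
    intro i j a b ha hb
    exact SetLike.GradedSMul.smul_mem (A := 𝒜) (B := ℛ) ha hb

/-- the shifted pieces of `R` -/
abbrev shiftR (ℛ : ι → τR) (g₀ : ι) : ι → AddSubgroup R := shiftGr (ringGr ℛ) g₀

noncomputable instance shiftRDecomposition (g₀ : ι) : DirectSum.Decomposition (shiftR ℛ g₀) :=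
  (shiftGr_isInternal (ringGr ℛ) g₀).chooseDecomposition

instance shiftRGradedSMul (g₀ : ι) : SetLike.GradedSMul 𝒜 (shiftR ℛ g₀) where
  smul_mem := by
    intro d k r y hr hy
    rw [vadd_eq_add, mem_shiftGr, add_sub_assoc]
    have := SetLike.GradedSMul.smul_mem (A := 𝒜) (B := ringGr ℛ) hr hy
    rwa [vadd_eq_add] at this

/-- the resolution of `R`, regraded as a graded acyclic resolution of the shifted module `R(-g₀)` -/
noncomputable def shiftRes (I : GrLC.StarInjRes 𝒜 ℛ) (a : HomogeneousIdeal 𝒜) (g₀ : ι) :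
    GrAcycRes 𝒜 (shiftR ℛ g₀) a where
  X n := shiftGMod 𝒜 (I.X n) g₀
  d := I.d
  ε := I.ε
  d_grHom n := fun k x hx => I.d_grHom n (k - g₀) x hx
  ε_grHom := fun k x hx => I.ε_grHom (k - g₀) x hx
  ε_injective := I.ε_injective
  exact_zero := I.exact_zero
  exact_succ := I.exact_succ
  acyclic n j := locCoh_subsingleton_of_isStarInj 𝒜 (I.X n).gr a (I.starInj n) (j + 1) (by omega)

include hℛ in
theorem toSpanSingleton_isGrHom {g₀ : ι} {x : M} (hx : x ∈ ℳ g₀) :
    GrLC.IsGrHom (shiftR ℛ g₀) ℳ (LinearMap.toSpanSingleton R M x) := by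
  intro k r hr
  have hr' : r ∈ 𝒜 (k - g₀) := hℛ _ r hr
  have := SetLike.GradedSMul.smul_mem (A := 𝒜) (B := ℳ) hr' hx
  rw [vadd_eq_add, sub_add_cancel] at this
  exact this

include hℛ in
/-- **Homogeneity of `mu`.** -/
theorem mu_mem_Hgr (I : GrLC.StarInjRes 𝒜 ℛ) (EM : GrLC.StarInjRes 𝒜 ℳ) (a : HomogeneousIdeal 𝒜)
    (i : ℕ) {g₀ : ι} {x : M} (hx : x ∈ ℳ g₀) (b : ι) (z : I.H a i) (hz : z ∈ I.Hgr a i b) :
    (lcEquiv EM a i).symm (mu a.toIdeal i M x (lcEquiv I a i z)) ∈ EM.Hgr a i (b + g₀) := by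
  obtain ⟨φ, hφ, h0, hd⟩ := (shiftRes I a g₀).exists_lift EM (LinearMap.toSpanSingleton R M x)
    (toSpanSingleton_isGrHom hℛ hx)
  let h : AcycRes.Hom (shiftRes I a g₀).toAcycRes (toAcycRes' EM a)
      (LinearMap.toSpanSingleton R M x) := { φ := φ, comm_ε := h0, comm := hd }
  obtain ⟨c, hc, rfl⟩ := hz
  have hcm : (c : (I.X i).carrier) ∈ (I.X i).gr (b + g₀ - g₀) := by
    rw [add_sub_cancel_right]
    exact hc
  have hφc : φ i (c : (I.X i).carrier) ∈ (EM.X i).gr (b + g₀) := hφ i (b + g₀) _ hcm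
  cases i with
  | zero =>
    let c' : (toAcycRes' I a).cocyc 0 := c
    have hnat := h.naturality 0 ((toAcycRes' I a).toH 0 c')
    have key : ((toAcycRes' EM a).equiv 0).symm (Hmap a.toIdeal 0 (LinearMap.toSpanSingleton R M x)
        ((toAcycRes' I a).equiv 0 ((toAcycRes' I a).toH 0 c'))) =
        h.mapH 0 ((toAcycRes' I a).toH 0 c') :=
      (LinearEquiv.symm_apply_eq ((toAcycRes' EM a).equiv 0)).mpr hnat.symm
    have hmem : h.mapH 0 ((toAcycRes' I a).toH 0 c') ∈ EM.Hgr a 0 (b + g₀) :=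
      ⟨h.mapCocyc 0 c', hφc, rfl⟩
    rw [← key] at hmem
    exact hmem
  | succ k =>
    let c' : (toAcycRes' I a).cocyc (k + 1) := c
    have hnat := h.naturality (k + 1) ((toAcycRes' I a).toH (k + 1) c')
    have key : ((toAcycRes' EM a).equiv (k + 1)).symm
        (Hmap a.toIdeal (k + 1) (LinearMap.toSpanSingleton R M x)
        ((toAcycRes' I a).equiv (k + 1) ((toAcycRes' I a).toH (k + 1) c'))) =
        h.mapH (k + 1) ((toAcycRes' I a).toH (k + 1) c') :=
      (LinearEquiv.symm_apply_eq ((toAcycRes' EM a).equiv (k + 1))).mpr hnat.symm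
    have hmem : h.mapH (k + 1) ((toAcycRes' I a).toH (k + 1) c') ∈ EM.Hgr a (k + 1) (b + g₀) :=
      ⟨h.mapCocyc (k + 1) c', hφc, rfl⟩
    rw [← key] at hmem
    exact hmem

/-- `mu` transported to the graded local cohomology modules -/
noncomputable def grMu (I : GrLC.StarInjRes 𝒜 ℛ) (EM : GrLC.StarInjRes 𝒜 ℳ)
    (a : HomogeneousIdeal 𝒜) (i : ℕ) : M →ₗ[R] (I.H a i →ₗ[R] EM.H a i) :=
  (LinearEquiv.arrowCongr (lcEquiv I a i).symm (lcEquiv EM a i).symm).toLinearMap ∘ₗ
    mu a.toIdeal i M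

theorem grMu_apply (I : GrLC.StarInjRes 𝒜 ℛ) (EM : GrLC.StarInjRes 𝒜 ℳ)
    (a : HomogeneousIdeal 𝒜) (i : ℕ) (x : M) (z : I.H a i) :
    grMu I EM a i x z = (lcEquiv EM a i).symm (mu a.toIdeal i M x (lcEquiv I a i z)) := by
  simp [grMu, LinearEquiv.arrowCongr_apply]

include hℛ in
theorem grMu_mem (I : GrLC.StarInjRes 𝒜 ℛ) (EM : GrLC.StarInjRes 𝒜 ℳ) (a : HomogeneousIdeal 𝒜)
    (i : ℕ) {g₀ : ι} {x : M} (hx : x ∈ ℳ g₀) (b : ι) (z : I.H a i) (hz : z ∈ I.Hgr a i b) :
    grMu I EM a i x z ∈ EM.Hgr a i (b + g₀) := by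
  rw [grMu_apply]
  exact mu_mem_Hgr hℛ I EM a i hx b z hz

/-- **`M ⊗ *H^n_a(R) ≅ *H^n_a(M)`** for finitely generated `M` when `H^{n+1}_a` vanishes on
finitely generated modules. -/
theorem lift_grMu_bijective (I : GrLC.StarInjRes 𝒜 ℛ) (EM : GrLC.StarInjRes 𝒜 ℳ)
    (a : HomogeneousIdeal 𝒜) (n : ℕ) [Module.Finite R M]
    (hcd : ∀ (N : Type u) [AddCommGroup N] [Module R N] [Module.Finite R N],
      Subsingleton (LocCoh.H a.toIdeal (n + 1) N)) :
    Function.Bijective (TensorProduct.lift (grMu I EM a n)) := by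
  have heq : TensorProduct.lift (grMu I EM a n) =
      (lcEquiv EM a n).symm.toLinearMap ∘ₗ Theta a.toIdeal n M ∘ₗ
        (LinearMap.lTensor M (lcEquiv I a n).toLinearMap) := by
    apply TensorProduct.ext'
    intro x z
    rw [TensorProduct.lift.tmul, grMu_apply]
    rfl
  rw [heq]
  have h1 : Function.Bijective (LinearMap.lTensor M (lcEquiv I a n).toLinearMap) := by
    have : (LinearMap.lTensor M (lcEquiv I a n).toLinearMap) =
        (TensorProduct.congr (LinearEquiv.refl R M) (lcEquiv I a n)).toLinearMap := by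
      apply TensorProduct.ext'
      intro x z
      rfl
    rw [this]
    exact (TensorProduct.congr (LinearEquiv.refl R M) (lcEquiv I a n)).bijective
  exact (lcEquiv EM a n).symm.bijective.comp ((Theta_bijective a.toIdeal n hcd M).comp h1)

end Graded

end Groth.Agent.H81.GrTopTensor
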