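import Mathlib
import Groth.Agent.H81.BassMax
import Groth.Agent.H81.ExtHomLC
import Groth.Prelude.Def_Wider

/-!
# The top Bass number at a maximal ideal is the length of the socle of local cohomology (helper81)

`R` Noetherian, `m` maximal, `M` any module with `H^i_m(M) = 0` for `i < n`.  Then
`μ^n(m, M) = length_R { z ∈ H^n_m(M) | m z = 0 }`.
-/

set_option autoImplicit false
set_option linter.unusedSectionVars false
set_option linter.style.haveILetI false

namespace Groth.Agent.H81.SocleType

universe u

open CategoryTheory Abelian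

section HomQuot

variable {R : Type u} [CommRing R] (I : Ideal R) (W : Type u) [AddCommGroup W] [Module R W]

/-- evaluation at `1` : `Hom(R/I, W) → W` -/
noncomputable def evalOne : ((R ⧸ I) →ₗ[R] W) →ₗ[R] W := LinearMap.applyₗ (1 : R ⧸ I)

theorem evalOne_apply (φ : (R ⧸ I) →ₗ[R] W) : evalOne I W φ = φ 1 := rfl

theorem evalOne_injective : Function.Injective (evalOne I W) := by
  intro φ ψ h
  apply LinearMap.ext
  intro z
  obtain ⟨a, rfl⟩ := Ideal.Quotient.mk_surjective z
  have h1 : Ideal.Quotient.mk I a = a • (1 : R ⧸ I) := by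
    rw [Algebra.smul_def, mul_one]
    rfl
  rw [h1, map_smul, map_smul]
  congr 1

theorem range_evalOne :
    LinearMap.range (evalOne I W) = Submodule.torsionBySet R W (I : Set R) := by
  apply le_antisymm
  · rintro _ ⟨φ, rfl⟩
    rw [Submodule.mem_torsionBySet_iff]
    rintro ⟨a, ha⟩
    change a • φ 1 = 0
    rw [← map_smul]
    have : a • (1 : R ⧸ I) = 0 := by
      rw [Algebra.smul_def, mul_one, Ideal.Quotient.algebraMap_eq, Ideal.Quotient.eq_zero_iff_mem]
      exact ha
    rw [this, map_zero]
  · intro x hx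
    rw [Submodule.mem_torsionBySet_iff] at hx
    have hker : I ≤ LinearMap.ker (LinearMap.toSpanSingleton R W x) := by
      intro a ha
      rw [LinearMap.mem_ker, LinearMap.toSpanSingleton_apply]
      exact hx ⟨a, ha⟩
    refine ⟨Submodule.liftQ I (LinearMap.toSpanSingleton R W x) hker, ?_⟩
    change Submodule.liftQ I (LinearMap.toSpanSingleton R W x) hker (Submodule.Quotient.mk 1) = x
    rw [Submodule.liftQ_apply, LinearMap.toSpanSingleton_apply, one_smul]

/-- `Hom_R(R/I, W) ≅ W[I]` -/
noncomputable def homQuotEquiv :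
    ((R ⧸ I) →ₗ[R] W) ≃ₗ[R] Submodule.torsionBySet R W (I : Set R) :=
  (LinearEquiv.ofInjective (evalOne I W) (evalOne_injective I W)).trans
    (LinearEquiv.ofEq _ _ (range_evalOne I W))

end HomQuot

section Main

variable {R : Type u} [CommRing R] [IsNoetherianRing R] (m : Ideal R) [hm : m.IsMaximal]
  (M : Type u) [AddCommGroup M] [Module R M] (n : ℕ)

theorem isTors_quot : Groth.Agent.H58.LC.IsTors m (ModuleCat.of R (R ⧸ m)) := by
  intro x
  refine ⟨1, fun a ha => ?_⟩
  rw [pow_one] at ha
  obtain ⟨r, rfl⟩ := Ideal.Quotient.mk_surjective x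
  change a • (Ideal.Quotient.mk m r) = 0
  rw [Algebra.smul_def, Ideal.Quotient.algebraMap_eq, ← map_mul, Ideal.Quotient.eq_zero_iff_mem]
  exact Ideal.mul_mem_right _ _ ha

/-- **The top Bass number is the length of the socle of `H^n_m(M)`.** -/
theorem bassNum_eq_length_socle (hvan : ∀ i, i < n → Subsingleton (LocCoh.H m i M)) :
    haveI : m.IsPrime := hm.isPrime
    GrLC.bassNum m M n =
      Module.length R (Submodule.torsionBySet R (LocCoh.H m n M) (m : Set R)) := by
  haveI : m.IsPrime := hm.isPrime
  rw [Groth.Agent.H81.BassMax.bassNum_eq_length_ext m M n]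
  have hVan : ∀ k, k + 1 = n → Groth.Agent.H81.ExtHomLC.Van m (ModuleCat.of R M) k := by
    intro k hk F' _ _ hfin hsupp
    haveI := hfin
    have hF := Groth.Agent.H81.ExtHomLC.isTors_of_support_subset m F' hsupp
    exact Groth.Agent.H2.LCExtVanish.subsingleton_ext_of_subsingleton_H m (ModuleCat.of R F') hF n M
      hvan k (by omega)
  obtain ⟨e₁⟩ := Groth.Agent.H81.ExtHomLC.main m (ModuleCat.of R (R ⧸ m)) (isTors_quot m) n
    (ModuleCat.of R M) hVan
  rw [← e₁.length_eq]
  exact (homQuotEquiv m (LocCoh.H m n M)).length_eq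

end Main

end Groth.Agent.H81.SocleType
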