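import Mathlib
import Groth.Agent.H81.HullPairing
import Groth.Agent.H85.StdGraded
import Groth.Agent.H98.Ver.Basic

/-!
# The socle of a Veronese of `*E(k)(-a)` over a standard graded ring  (helper81)

`R` standard graded over the field `R_0`, `E = *E_R(k)`, `R'` the `q`-th Veronese subring.  If a
graded `R'`-module `H'` is identified, through an injective `φ`-semilinear map `Ψ : H' → E`, with
`⊕_j E_{jq - a}` (degree `j` onto degree `jq - a`), then the socle `{w | m' w = 0}` of `H'` is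
carried onto `E_{-ρ}`, where `0 ≤ ρ < q` and `ρ ≡ a mod q`.
-/

set_option autoImplicit false
set_option linter.unusedSectionVars false
set_option linter.style.haveILetI false

namespace Groth.Agent.H81.VerSocle

universe u

open Groth.Agent.H98.GrStar Groth.Agent.H98.Canon Groth.Agent.H81.HullPairing
  Groth.Agent.H85.GrLCBridge Groth.Agent.H98.Ver

variable {R : Type u} [CommRing R] [IsNoetherianRing R] (𝒜 : ℤ → AddSubgroup R) [GradedRing 𝒜]
  (hpos : ∀ n : ℤ, n < 0 → 𝒜 n = ⊥) (h0 : IsField (GrLC.deg0 𝒜))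
  {m : HomogeneousIdeal 𝒜} (hm : GrLC.IsStarLocal 𝒜 m)
  (hmsp : m.toIdeal = Ideal.span (⋃ n ∈ Set.Ioi (0 : ℤ), (𝒜 n : Set R)))
  (hstd : Ideal.span (⋃ n ∈ Set.Ioi (0 : ℤ), (𝒜 n : Set R)) =
    Ideal.span ((𝒜 1 : AddSubgroup R) : Set R))
variable {E' : Type u} [AddCommGroup E'] [Module R E'] (𝓔 : ℤ → AddSubgroup E')
  [DirectSum.Decomposition 𝓔] [SetLike.GradedSMul 𝒜 𝓔]
  (e : (R ⧸ m.toIdeal) →ₗ[R] E') (he : GrLC.IsStarInjHull 𝒜 (GrLC.quotGr 𝒜 m) 𝓔 e)

include h0 hstd in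
/-- over a standard graded ring, an element killed by `R_c` (`c ≥ 0`) is killed by `R_{c+b}` -/
theorem smul_eq_zero_of_kill (x : E') (c : ℤ) (hc : 0 ≤ c) (hx : ∀ r ∈ 𝒜 c, r • x = 0) :
    ∀ (b : ℕ), ∀ r ∈ 𝒜 (c + b), r • x = 0 := by
  letI : Field (GrLC.deg0 𝒜) := h0.toField
  intro b
  induction b with
  | zero =>
    intro r hr
    rw [Nat.cast_zero, add_zero] at hr
    exact hx r hr
  | succ b ih =>
    intro r hr
    have hr' : r ∈ sub 𝒜 ((c + b) + 1) := by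
      have : c + ((b + 1 : ℕ) : ℤ) = c + b + 1 := by push_cast; ring
      rw [this] at hr
      exact hr
    have h1 := Groth.Agent.H85.StdGraded.mem_prodSpan (sub 𝒜) hstd (by omega : 0 ≤ c + (b : ℤ)) hr'
    refine Submodule.span_induction (p := fun r _ => r • x = 0) ?_ ?_ ?_ ?_ h1
    · rintro _ ⟨y, _, w, hw, rfl⟩
      rw [mul_smul, ih w hw, smul_zero]
    · exact zero_smul _ _
    · intro a b _ _ ha hb
      rw [add_smul, ha, hb, add_zero]
    · intro l z _ hz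
      have : (l • z) • x = (l : R) • (z • x) := by
        rw [← mul_smul]
        rfl
      rw [this, hz, smul_zero]

include hpos h0 hmsp hstd he in
/-- a nonzero homogeneous element of `E` killed by `R_q` has degree in `(-q, 0]` -/
theorem lt_of_kill {l : ℤ} {x : E'} (hx : x ∈ 𝓔 l) (hx0 : x ≠ 0) (q : ℤ) (hq : 0 < q)
    (hkill : ∀ r ∈ 𝒜 q, r • x = 0) : -q < l ∧ l ≤ 0 := by
  have hl : l ≤ 0 := by
    by_contra hcon
    exact hx0 (eq_zero_of_pos 𝒜 hpos hmsp 𝓔 e he l (by omega) x hx)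
  refine ⟨?_, hl⟩
  by_contra hcon
  obtain ⟨r, hr, hrx⟩ := exists_smul_ne_zero_of_mem 𝒜 hpos hmsp 𝓔 e he hx hx0
  have h1 : -l = q + ((-l - q).toNat : ℤ) := by
    rw [Int.toNat_of_nonneg (by omega)]
    ring
  rw [h1] at hr
  exact hrx (smul_eq_zero_of_kill 𝒜 h0 hstd x q hq.le hkill _ r hr)

section Ver

variable {R' : Type u} [CommRing R'] (𝒜' : ℤ → AddSubgroup R') [GradedRing 𝒜']
  {φ : R' →+* R} {q : ℕ} (hv : IsVer 𝒜 𝒜' φ q)
  (m' : HomogeneousIdeal 𝒜')
  (hm'sp : m'.toIdeal = Ideal.span (⋃ j ∈ Set.Ioi (0 : ℤ), (𝒜' j : Set R')))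
variable {H' : Type u} [AddCommGroup H'] [Module R' H'] (ℋ' : ℤ → AddSubgroup H')
  [DirectSum.Decomposition ℋ'] [SetLike.GradedSMul 𝒜' ℋ']
  (Ψ : H' →ₛₗ[φ] E') (hΨinj : Function.Injective Ψ) (a ρ : ℤ)
  (hρ0 : 0 ≤ ρ) (hρq : ρ < q) (hρa : (q : ℤ) ∣ a - ρ)
  (hΨ1 : ∀ j : ℤ, ∀ w ∈ ℋ' j, Ψ w ∈ 𝓔 (j * q - a))
  (hΨ2 : ∀ j : ℤ, ∀ x ∈ 𝓔 (j * q - a), ∃ w ∈ ℋ' j, Ψ w = x)

include hpos h0 hmsp hstd he hv hm'sp hΨinj hρ0 hρq hρa hΨ1 hΨ2 in
/-- **The socle of the Veronese of `E(-a)` is `E_{-ρ}`.** -/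
theorem map_socle_eq :
    (Submodule.torsionBySet R' H' (m'.toIdeal : Set R')).toAddSubgroup.map (Ψ : H' →+ E') =
      𝓔 (-ρ) := by
  classical
  have hq : (0 : ℤ) < q := by exact_mod_cast hv.pos
  obtain ⟨c, hc⟩ := hρa
  ext x
  constructor
  · rintro ⟨w, hw, rfl⟩
    have hw' : ∀ r' ∈ m'.toIdeal, r' • w = 0 := by
      intro r' hr'
      have := (Submodule.mem_torsionBySet_iff _ _).mp hw
      exact this ⟨r', hr'⟩
    change Ψ w ∈ 𝓔 (-ρ)
    rw [← DirectSum.sum_support_decompose ℋ' w, map_sum]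
    refine sum_mem fun j _ => ?_
    set wj : H' := ((DirectSum.decompose ℋ' w j : ℋ' j) : H') with hwj
    by_cases hx0 : Ψ wj = 0
    · rw [hx0]; exact zero_mem _
    have hxmem : Ψ wj ∈ 𝓔 (j * q - a) := hΨ1 j wj (SetLike.coe_mem _)
    have hkill : ∀ r ∈ 𝒜 (q : ℤ), r • Ψ wj = 0 := by
      intro r hr
      have hr1 : r ∈ 𝒜 ((1 : ℤ) * q) := by rwa [one_mul]
      obtain ⟨s, hs, rfl⟩ := hv.exists_of_mem hr1
      have hsm : s ∈ m'.toIdeal := by
        rw [hm'sp]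
        apply Ideal.subset_span
        simp only [Set.mem_iUnion, Set.mem_Ioi, SetLike.mem_coe, exists_prop]
        exact ⟨1, one_pos, hs⟩
      have h2 := decompose_smul_homog 𝒜' ℋ' hs w j
      rw [hw' s hsm, DirectSum.decompose_zero] at h2
      have h3 : s • wj = 0 := h2.symm
      rw [← map_smulₛₗ, h3, map_zero]
    obtain ⟨h4, h5⟩ := lt_of_kill 𝒜 hpos h0 hmsp hstd 𝓔 e he hxmem hx0 q hq hkill
    have h6 : j * q - a = (j - c) * q - ρ := by
      have : a = q * c + ρ := by omega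
      rw [this]; ring
    rw [h6] at h4 h5
    have h7 : j - c < 1 := by
      by_contra hcon
      have : (1 : ℤ) * q ≤ (j - c) * q := mul_le_mul_of_nonneg_right (by omega) hq.le
      omega
    have h8 : -1 < j - c := by
      by_contra hcon
      have : (j - c) * q ≤ (-1 : ℤ) * q := mul_le_mul_of_nonneg_right (by omega) hq.le
      omega
    have h9 : j - c = 0 := by omega
    rw [h6, h9, zero_mul, zero_sub] at hxmem
    exact hxmem
  · intro hx
    have h1 : -ρ = c * q - a := by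
      have : a = q * c + ρ := by omega
      rw [this]; ring
    rw [h1] at hx
    obtain ⟨w, hw, rfl⟩ := hΨ2 c x hx
    refine ⟨w, ?_, rfl⟩
    change w ∈ Submodule.torsionBySet R' H' (m'.toIdeal : Set R')
    rw [Submodule.mem_torsionBySet_iff]
    rintro ⟨r', hr'⟩
    change r' • w = 0
    apply hΨinj
    rw [map_smulₛₗ, map_zero]
    have hr'' := hr'
    rw [hm'sp] at hr''
    refine Submodule.span_induction (p := fun r' _ => φ r' • Ψ w = 0) ?_ ?_ ?_ ?_ hr''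
    · intro s hs
      simp only [Set.mem_iUnion, Set.mem_Ioi, SetLike.mem_coe, exists_prop] at hs
      obtain ⟨j, hj, hs⟩ := hs
      have hφs : φ s ∈ 𝒜 (j * q) := hv.map_mem hs
      apply eq_zero_of_pos 𝒜 hpos hmsp 𝓔 e he (j * q + (c * q - a))
      · have : (1 : ℤ) * q ≤ j * q := mul_le_mul_of_nonneg_right (by omega) hq.le
        omega
      · exact smul_mem_add 𝒜 𝓔 rfl hφs hx
    · rw [map_zero, zero_smul]
    · intro a b _ _ ha hb
      rw [map_add, add_smul, ha, hb, add_zero]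
    · intro a b _ hb
      rw [smul_eq_mul, map_mul, mul_smul, hb, smul_zero]

end Ver

end Groth.Agent.H81.VerSocle
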