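import Mathlib
import Groth.Agent.H81.VerSocle
import Groth.Agent.H81.SocleType
import Groth.Agent.H98.Ver.Finrank
import Groth.Agent.H98.Bass0.GorTop2
import Groth.Agent.H98.GrStar.Res
import Groth.Agent.H98.GrStar.HighVanish
import Groth.Agent.H2.GorensteinCM

/-!
# The type of a Veronese subring of a standard graded Gorenstein ring  (helper81)
-/

set_option autoImplicit false
set_option linter.unusedSectionVars false
set_option linter.style.haveILetI false
set_option maxHeartbeats 800000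

namespace Groth.Agent.H81.VerType

universe u

open Groth.Agent.H98.GrStar Groth.Agent.H98.Canon Groth.Agent.H81.HullPairing
  Groth.Agent.H98.Ver Groth.Agent.H98.Bass0

section Torsion

variable {R : Type u} [CommRing R] {X Y : Type u} [AddCommGroup X] [Module R X]
  [AddCommGroup Y] [Module R Y]

/-- a linear equivalence restricts to the torsion submodules -/
def torsionEquiv (ψ : X ≃ₗ[R] Y) (s : Set R) :
    Submodule.torsionBySet R X s ≃ₗ[R] Submodule.torsionBySet R Y s where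
  toFun x := ⟨ψ x, by
    rw [Submodule.mem_torsionBySet_iff]
    intro a
    rw [← map_smul, (Submodule.mem_torsionBySet_iff _ _).mp x.2 a, map_zero]⟩
  invFun y := ⟨ψ.symm y, by
    rw [Submodule.mem_torsionBySet_iff]
    intro a
    rw [← map_smul, (Submodule.mem_torsionBySet_iff _ _).mp y.2 a, map_zero]⟩
  map_add' x y := Subtype.ext (map_add ψ _ _)
  map_smul' c x := Subtype.ext (map_smul ψ _ _)
  left_inv x := Subtype.ext (ψ.symm_apply_apply _)
  right_inv y := Subtype.ext (ψ.apply_symm_apply _)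

end Torsion

section Gor

variable (R : Type u) [CommRing R] [hG : LocCoh.IsGorensteinRing R]

theorem isCohenMacaulayRing_of_gorenstein : LocCoh.IsCohenMacaulayRing R :=
  haveI : IsNoetherianRing R := inferInstance
  ⟨fun p _ => by
      haveI := hG.isGorensteinLocalRing_localization p
      exact Groth.Agent.H2.GorensteinCM.isCohenMacaulayLocalRing _⟩

end Gor

section Lengths

variable {R : Type u} [CommRing R] {𝒜 : ℤ → AddSubgroup R} [GradedRing 𝒜]
variable {R' : Type u} [CommRing R'] {𝒜' : ℤ → AddSubgroup R'} [GradedRing 𝒜']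
variable {φ : R' →+* R} {q : ℕ} (hv : IsVer 𝒜 𝒜' φ q)

/-- the isomorphism of degree-zero subrings as a ring homomorphism -/
def deg0RingHom : GrLC.deg0 𝒜' →+* GrLC.deg0 𝒜 where
  toFun := deg0Map hv
  map_one' := Subtype.ext (map_one φ)
  map_mul' _ _ := Subtype.ext (map_mul φ _ _)
  map_zero' := Subtype.ext (map_zero φ)
  map_add' _ _ := Subtype.ext (map_add φ _ _)

include hv in
/-- a `φ`-semilinear injection carrying `P'` onto `P` preserves the length over the degree-zero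
subrings -/
theorem length_eq_of_semilinear {A : Type u} [AddCommGroup A] [Module R' A]
    {B : Type u} [AddCommGroup B] [Module R B]
    (P' : Submodule (GrLC.deg0 𝒜') A) (P : Submodule (GrLC.deg0 𝒜) B)
    (Θ : A →ₛₗ[φ] B) (hΘ : Function.Injective Θ)
    (hP : P'.toAddSubgroup.map (Θ : A →+ B) = P.toAddSubgroup) :
    Module.length (GrLC.deg0 𝒜') P' = Module.length (GrLC.deg0 𝒜) P := by
  have hmem : ∀ x : P', Θ (x : A) ∈ P := by
    intro x
    have : Θ (x : A) ∈ P.toAddSubgroup := by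
      rw [← hP]
      exact ⟨x, x.2, rfl⟩
    exact this
  let J₀ : P' →+ P :=
    { toFun := fun x => ⟨Θ (x : A), hmem x⟩
      map_zero' := Subtype.ext (map_zero Θ)
      map_add' := fun a b => Subtype.ext (map_add Θ (a : A) (b : A)) }
  have hJ : Function.Bijective J₀ := by
    constructor
    · intro a b hab
      apply Subtype.ext
      apply hΘ
      exact congrArg Subtype.val hab
    · intro y
      have : (y : B) ∈ P.toAddSubgroup := y.2
      rw [← hP] at this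
      obtain ⟨x, hx, hxy⟩ := this
      exact ⟨⟨x, hx⟩, Subtype.ext hxy⟩
  refine Groth.Agent.H81.BassMax.length_eq_of_semilinear_bijective (deg0RingHom hv) J₀ hJ ?_ ?_
  · intro c x
    apply Subtype.ext
    change Θ ((c : R') • (x : A)) = φ (c : R') • Θ (x : A)
    exact map_smulₛₗ Θ _ _
  · intro a w
    obtain ⟨c, rfl⟩ := (deg0Map_bijective hv).2 a
    exact ⟨c, rfl⟩

omit [GradedRing 𝒜] in
/-- the length of the socle over `R'` is its length over the degree zero subring -/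
theorem length_socle_eq (hpos' : ∀ k : ℤ, k < 0 → ∀ r ∈ 𝒜' k, r = 0) (m' : HomogeneousIdeal 𝒜')
    (hm'sp : m'.toIdeal = Ideal.span (⋃ j ∈ Set.Ioi (0 : ℤ), (𝒜' j : Set R')))
    (X : Type u) [AddCommGroup X] [Module R' X] :
    Module.length R' (Submodule.torsionBySet R' X (m'.toIdeal : Set R')) =
      Module.length (GrLC.deg0 𝒜')
        ((Submodule.torsionBySet R' X (m'.toIdeal : Set R')).restrictScalars (GrLC.deg0 𝒜')) := by
  classical
  set S := Submodule.torsionBySet R' X (m'.toIdeal : Set R') with hS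
  let g : ↥(S.restrictScalars (GrLC.deg0 𝒜')) →+ ↥S :=
    { toFun := fun x => ⟨x.1, x.2⟩
      map_zero' := rfl
      map_add' := fun _ _ => rfl }
  have hg : Function.Bijective g :=
    ⟨fun a b hab => Subtype.ext (congrArg Subtype.val hab), fun y => ⟨⟨y.1, y.2⟩, rfl⟩⟩
  symm
  refine Groth.Agent.H81.BassMax.length_eq_of_semilinear_bijective (GrLC.deg0 𝒜').subtype g hg ?_ ?_
  · intro c x
    rfl
  · intro a w
    refine ⟨⟨(DirectSum.decompose 𝒜' a 0 : R'), SetLike.coe_mem _⟩, ?_⟩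
    have h1 : a - (DirectSum.decompose 𝒜' a 0 : R') ∈ m'.toIdeal :=
      sub_decompose_zero_mem 𝒜' hpos' hm'sp a
    have h2 : (a - (DirectSum.decompose 𝒜' a 0 : R')) • w = 0 := by
      apply Subtype.ext
      exact (Submodule.mem_torsionBySet_iff _ _).mp w.2 ⟨_, h1⟩
    rw [sub_smul, sub_eq_zero] at h2
    exact h2

end Lengths

section Main

open GrLC

/-- **Type of the Veronese subring** of a standard graded Gorenstein ring. -/
theorem bassNum_veronese (R : Type u) [CommRing R] [LocCoh.IsGorensteinRing R]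
    (𝒜 : ℤ → AddSubgroup R) [GradedRing 𝒜] (hpos : ∀ n : ℤ, n < 0 → 𝒜 n = ⊥)
    (h0 : IsField (GrLC.deg0 𝒜)) (m : HomogeneousIdeal 𝒜) (hm : GrLC.IsStarLocal 𝒜 m)
    (hmsp : m.toIdeal = Ideal.span (⋃ n ∈ Set.Ioi (0 : ℤ), (𝒜 n : Set R)))
    (hstd : Ideal.span (⋃ n ∈ Set.Ioi (0 : ℤ), (𝒜 n : Set R)) =
      Ideal.span ((𝒜 1 : AddSubgroup R) : Set R))
    (n : ℕ) (hn : ringKrullDim R = n) (I : GrLC.StarInjRes 𝒜 𝒜) (a : ℤ)
    (ha : GrLC.endDeg (I.Hgr m n) = ((a : WithTop ℤ) : WithBot (WithTop ℤ)))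
    (q : ℕ) (hq : 0 < q) (R' : Type u) [CommRing R'] (𝒜' : ℤ → AddSubgroup R') [GradedRing 𝒜']
    (φ : R' →+* R) (hφ : Function.Injective φ)
    (hdeg : ∀ j : ℤ, (𝒜' j).map (φ : R' →+ R) = 𝒜 (j * q))
    (m' : HomogeneousIdeal 𝒜') [hm'max : m'.toIdeal.IsMaximal]
    (hm'sp : m'.toIdeal = Ideal.span (⋃ j ∈ Set.Ioi (0 : ℤ), (𝒜' j : Set R')))
    (ρ : ℤ) (hρ0 : 0 ≤ ρ) (hρq : ρ < q) (hρa : (q : ℤ) ∣ a - ρ) :
    GrLC.bassNum m'.toIdeal R' n =
      (Module.finrank (GrLC.deg0 𝒜) (GrLC.comp 𝒜 𝒜 ρ) : ℕ∞) := by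
  classical
  haveI : IsNoetherianRing R := inferInstance
  haveI hCM : LocCoh.IsCohenMacaulayRing R := isCohenMacaulayRing_of_gorenstein R
  have hv : IsVer 𝒜 𝒜' φ q := ⟨hφ, hdeg, hq⟩
  haveI : IsNoetherianRing R' := Groth.Agent.H98.Ver.isNoetherianRing hv
  have hmne : m.toIdeal ≠ ⊤ := ne_top_of_isStarLocal 𝒜 hm
  haveI hmmax : m.toIdeal.IsMaximal :=
    Groth.Agent.H85.GrLCBase.isMaximal_irr 𝒜 hpos h0 m hmne hmsp
  obtain ⟨Eh, e, he⟩ := exists_isStarInjHull 𝒜 (quotIdealGMod 𝒜 m).gr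
  have hht : m.toIdeal.height = n := Groth.Agent.H85.GrLCBase.height_irr_eq 𝒜 m hm n hn
  obtain ⟨g, φG, hφG⟩ := exists_top_H_equiv R 𝒜 m hm n hht I Eh.carrier Eh.gr e he
  letI decH : DirectSum.Decomposition (I.Hgr m n) :=
    (Hgr_isInternal 𝒜 𝒜 I m n).chooseDecomposition
  -- the inverse shifts degrees by `-g`
  have hsymm : ∀ k x, x ∈ Eh.gr k → φG.symm x ∈ I.Hgr m n (k + -g) := by
    intro k x hx
    have := symm_mem_of_shift (I.Hgr m n) Eh.gr φG.toAddEquiv g
      (fun i y hy => by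
        have := hφG i y hy
        rwa [add_comm] at this) k x hx
    rwa [sub_eq_add_neg] at this
  have hga : g = -a := by
    have h1 := endDeg_eq_of_hull_equiv 𝒜 (hpos' 𝒜 hpos) hm hmsp Eh.gr e he.toIsStarEss I n (-g)
      φG.symm hsymm
    rw [ha, WithBot.coe_inj, WithTop.coe_inj] at h1
    omega
  subst hga
  -- the Veronese side
  let F : GrLC.StarInjRes 𝒜' 𝒜' := res 𝒜' 𝒜'
  let g₀ : R' →ₛₗ[φ] R :=
    { toFun := φ
      map_add' := map_add φ
      map_smul' := fun c x => by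
        change φ (c * x) = φ c * φ x
        exact map_mul φ c x }
  have hle := Groth.Agent.H98.Ver.map_irrel_le hv m hmsp m' hm'sp
  have hpow := Groth.Agent.H98.Ver.exists_pow_irrel_le hv m hmsp m' hm'sp
  have hsemi : ∀ p : ℕ, ∃ Θ : F.H m' p →ₛₗ[φ] I.H m p, Function.Injective Θ ∧
      ∀ j : ℤ, (F.Hgr m' p j).map (Θ : F.H m' p →+ I.H m p) = I.Hgr m p (j * q) :=
    fun p => Groth.Agent.H98.Ver.exists_semilinear hv g₀ hφ hdeg I m m' hle hpow F p
  -- vanishing below `n`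
  have hvanF : ∀ i, i < n → Subsingleton (F.H m' i) := by
    intro i hi
    obtain ⟨Θ, hΘinj, -⟩ := hsemi i
    haveI := Groth.Agent.H85.GrLCBase.subsingleton_H_of_cm 𝒜 m hm n hn I i hi
    exact hΘinj.subsingleton
  have hvan : ∀ i, i < n → Subsingleton (LocCoh.H m'.toIdeal i R') := by
    intro i hi
    obtain ⟨ψ⟩ := nonempty_H_equiv_locCoh F m' i
    haveI := hvanF i hi
    exact ψ.symm.toEquiv.subsingleton
  obtain ⟨ψ⟩ := nonempty_H_equiv_locCoh F m' n
  rw [Groth.Agent.H81.SocleType.bassNum_eq_length_socle m'.toIdeal R' n hvan,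
    ← (torsionEquiv ψ (m'.toIdeal : Set R')).length_eq]
  obtain ⟨Θ, hΘinj, hΘ⟩ := hsemi n
  -- the composite `Ψ : H' → E`
  let Ψ : F.H m' n →ₛₗ[φ] Eh.carrier :=
    LinearMap.comp (σ₁₂ := φ) (σ₂₃ := RingHom.id R) (σ₁₃ := φ) φG.toLinearMap Θ
  have hΨinj : Function.Injective Ψ := φG.injective.comp hΘinj
  letI decH' : DirectSum.Decomposition (F.Hgr m' n) :=
    (Hgr_isInternal 𝒜' 𝒜' F m' n).chooseDecomposition
  letI gsH' : SetLike.GradedSMul 𝒜' (F.Hgr m' n) :=
    ⟨fun {i j r z} hr hz => by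
      rw [vadd_eq_add]
      exact smul_mem_Hgr F m' hr n z hz⟩
  have hΨ1 : ∀ j : ℤ, ∀ w ∈ F.Hgr m' n j, Ψ w ∈ Eh.gr (j * q - a) := by
    intro j w hw
    have h1 : Θ w ∈ I.Hgr m n (j * q) := by
      rw [← hΘ j]
      exact ⟨w, hw, rfl⟩
    have := hφG (j * q) (Θ w) h1
    rwa [← sub_eq_add_neg] at this
  have hΨ2 : ∀ j : ℤ, ∀ x ∈ Eh.gr (j * q - a), ∃ w ∈ F.Hgr m' n j, Ψ w = x := by
    intro j x hx
    have h1 := hsymm (j * q - a) x hx
    have h2 : j * (q : ℤ) - a + - -a = j * q := by ring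
    rw [h2, ← hΘ j] at h1
    obtain ⟨w, hw, hwx⟩ := h1
    refine ⟨w, hw, ?_⟩
    change φG (Θ w) = x
    have : Θ w = φG.symm x := hwx
    rw [this, LinearEquiv.apply_symm_apply]
  have hsoc := Groth.Agent.H81.VerSocle.map_socle_eq 𝒜 hpos h0 hmsp hstd Eh.gr e he 𝒜' hv m' hm'sp
    (F.Hgr m' n) Ψ hΨinj a ρ hρ0 hρq hρa hΨ1 hΨ2
  -- negative pieces of `R'` vanish
  have hpos'' : ∀ k : ℤ, k < 0 → ∀ r ∈ 𝒜' k, r = 0 := by
    intro k hk r hr
    have h1 : φ r ∈ 𝒜 (k * q) := hv.map_mem hr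
    have hq' : (0 : ℤ) < q := by exact_mod_cast hq
    rw [hpos (k * q) (mul_neg_of_neg_of_pos hk hq')] at h1
    apply hφ
    rw [map_zero]
    exact AddSubgroup.mem_bot.mp h1
  letI : Field (GrLC.deg0 𝒜) := h0.toField
  haveI hfin : Module.Finite (GrLC.deg0 𝒜) (GrLC.comp 𝒜 Eh.gr (-ρ)) :=
    finite_hull 𝒜 hpos h0 hmsp Eh.gr e he hmne ρ
  rw [length_socle_eq hpos'' m' hm'sp (F.H m' n),
    length_eq_of_semilinear hv _ (GrLC.comp 𝒜 Eh.gr (-ρ)) Ψ hΨinj hsoc,
    Module.length_eq_finrank, finrank_hull_eq 𝒜 hpos h0 hm hmsp Eh.gr e he hmne ρ]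

end Main

end Groth.Agent.H81.VerType
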