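import Groth.Agent.H98.GrStar.HomComp
import Groth.Prelude.Def_GrSeg
import Groth.Prelude.Def_GrLC

set_option autoImplicit false
set_option linter.unusedSectionVars false
set_option linter.style.haveILetI false
universe u

/-!
# Graded duality: `(M ⊗ H)^* ≅ Hom_R(M, H^*)`

Abstract form of `(H^n_m(M))^* ≅ Hom_R(M, K_R)`.  `HR`, `HM` graded `R`-modules over a `k`-algebra `R`,
`K` a graded dual of `HR`, `D` a graded dual of `HM` (`GrSeg.IsGDual`), and
`μ : M → Hom_R(HR, HM)` a homogeneous `R`-bilinear map inducing a bijection `M ⊗_R HR → HM`, with `M`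
finitely generated graded.  Then `D ≅ Hom_R(M, K)` by an `R`-isomorphism carrying `D_d` into the maps
homogeneous of degree `d`.
-/

namespace Groth.Agent.H81.GrDualHom

open DirectSum TensorProduct Groth.Agent.H98.GrStar

section Nondeg

variable {ι : Type} [AddCommGroup ι] [DecidableEq ι]
variable {k : Type u} [Field k] {R : Type u} [CommRing R] [Algebra k R]
  {M : Type u} [AddCommGroup M] [Module R M] [Module k M] [IsScalarTower k R M]
  {ℳ : ι → AddSubgroup M} [DirectSum.Decomposition ℳ]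
  {D : Type u} [AddCommGroup D] [Module R D] [Module k D] [IsScalarTower k R D]
  {𝒟 : ι → AddSubgroup D} [DirectSum.Decomposition 𝒟]
  {β : D →ₗ[k] M →ₗ[k] k} (hD : GrSeg.IsGDual R ℳ 𝒟 β)

include hD in
/-- two functionals, one from `D_n`, the other vanishing off `M_{-n}`, agree if they agree on
`M_{-n}` -/
theorem eq_of_eq_on_piece {n : ι} {d : D} (hd : d ∈ 𝒟 n) (Λ : M →+ k)
    (hΛ : ∀ m : ι, m ≠ -n → ∀ x ∈ ℳ m, Λ x = 0) (h : ∀ x ∈ ℳ (-n), β d x = Λ x) (x : M) :
    β d x = Λ x := by
  induction x using DirectSum.Decomposition.inductionOn ℳ with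
  | zero => simp
  | @homogeneous m x =>
    by_cases hm : m = -n
    · subst hm
      exact h x x.2
    · rw [hD.vanish n d hd m hm x x.2, hΛ m hm x x.2]
  | add x y hx hy => rw [map_add, map_add, hx, hy]

include hD in
/-- nondegeneracy on the `D` side -/
theorem nondeg (d : D) (h : ∀ x, β d x = 0) : d = 0 := by
  classical
  rw [← DirectSum.sum_support_decompose 𝒟 d]
  apply Finset.sum_eq_zero
  intro n _
  apply hD.eq_zero n _ (SetLike.coe_mem _)
  intro x hx
  have hsum : β d x = ∑ i ∈ (DirectSum.decompose 𝒟 d).support,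
      β ((DirectSum.decompose 𝒟 d i : 𝒟 i) : D) x := by
    conv_lhs => rw [← DirectSum.sum_support_decompose 𝒟 d]
    rw [map_sum, LinearMap.sum_apply]
  rw [h x] at hsum
  by_cases hn : n ∈ (DirectSum.decompose 𝒟 d).support
  · rw [Finset.sum_eq_single n] at hsum
    · exact hsum.symm
    · intro i _ hi
      exact hD.vanish i _ (SetLike.coe_mem _) (-n) (fun h' => hi (neg_injective h').symm) x hx
    · intro h'
      exact absurd hn h'
  · rw [DFinsupp.notMem_support_iff] at hn
    rw [hn]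
    simp

end Nondeg

section Main

variable {k : Type u} [Field k] {R : Type u} [CommRing R] [Algebra k R]
  {σ : Type u} [SetLike σ R] [AddSubgroupClass σ R] (𝒜 : ℤ → σ) [GradedRing 𝒜]
  {HR : Type u} [AddCommGroup HR] [Module R HR] [Module k HR] [IsScalarTower k R HR]
  {ℋ : ℤ → AddSubgroup HR} [DirectSum.Decomposition ℋ]
  {HM : Type u} [AddCommGroup HM] [Module R HM] [Module k HM] [IsScalarTower k R HM]
  {ℋM : ℤ → AddSubgroup HM} [DirectSum.Decomposition ℋM]
  {M : Type u} [AddCommGroup M] [Module R M]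
  {ℳ : ℤ → AddSubgroup M} [DirectSum.Decomposition ℳ] [SetLike.GradedSMul 𝒜 ℳ]
  {K : Type u} [AddCommGroup K] [Module R K] [Module k K] [IsScalarTower k R K]
  {𝒦 : ℤ → AddSubgroup K} [DirectSum.Decomposition 𝒦] [SetLike.GradedSMul 𝒜 𝒦]
  {D : Type u} [AddCommGroup D] [Module R D] [Module k D] [IsScalarTower k R D]
  {𝒟 : ℤ → AddSubgroup D} [DirectSum.Decomposition 𝒟]
  {βK : K →ₗ[k] HR →ₗ[k] k} (hK : GrSeg.IsGDual R ℋ 𝒦 βK)
  {βD : D →ₗ[k] HM →ₗ[k] k} (hD : GrSeg.IsGDual R ℋM 𝒟 βD)
  {μ : M →ₗ[R] (HR →ₗ[R] HM)}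
  (hμ : ∀ (g₀ : ℤ) (x : M), x ∈ ℳ g₀ → ∀ (b : ℤ) (z : HR), z ∈ ℋ b → μ x z ∈ ℋM (b + g₀))

/-- the relation defining `ε d x` -/
def Rel (βK : K →ₗ[k] HR →ₗ[k] k) (βD : D →ₗ[k] HM →ₗ[k] k) (μ : M →ₗ[R] (HR →ₗ[R] HM))
    (d : D) (x : M) (κ : K) : Prop := ∀ h : HR, βK κ h = βD d (μ x h)

include hK hD hμ in
/-- representability for homogeneous `d`, `x`, with the degree of the representing element -/
theorem exists_rel_homog {δ a : ℤ} {d : D} (hd : d ∈ 𝒟 δ) {x : M} (hx : x ∈ ℳ a) :
    ∃ κ ∈ 𝒦 (a + δ), Rel βK βD μ d x κ := by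
  let g : HR →ₗ[k] k := (βD d) ∘ₗ ((μ x).restrictScalars k)
  obtain ⟨κ, hκ, hκg⟩ := hK.exists_eq (a + δ) g
  refine ⟨κ, hκ, ?_⟩
  intro h
  have := eq_of_eq_on_piece hK hκ (g : HR →+ k) ?_ hκg h
  · exact this
  · intro b hb z hz
    change βD d (μ x z) = 0
    apply hD.vanish δ d hd (b + a) _ _ (hμ a x hx b z hz)
    intro h'
    apply hb
    omega

include hK in
theorem rel_unique {d : D} {x : M} {κ κ' : K} (h : Rel βK βD μ d x κ) (h' : Rel βK βD μ d x κ') :
    κ = κ' := by
  rw [← sub_eq_zero]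
  apply nondeg hK
  intro z
  rw [map_sub, LinearMap.sub_apply, h z, h' z, sub_self]

theorem rel_add_left {d d' : D} {x : M} {κ κ' : K} (h : Rel βK βD μ d x κ)
    (h' : Rel βK βD μ d' x κ') : Rel βK βD μ (d + d') x (κ + κ') := by
  intro z
  rw [map_add, LinearMap.add_apply, map_add, LinearMap.add_apply, h z, h' z]

theorem rel_add_right {d : D} {x x' : M} {κ κ' : K} (h : Rel βK βD μ d x κ)
    (h' : Rel βK βD μ d x' κ') : Rel βK βD μ d (x + x') (κ + κ') := by
  intro z
  rw [map_add, LinearMap.add_apply, map_add, LinearMap.add_apply, map_add, h z, h' z]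

theorem rel_zero_left (x : M) : Rel βK βD μ (0 : D) x (0 : K) := by
  intro z
  simp

theorem rel_zero_right (d : D) : Rel βK βD μ d (0 : M) (0 : K) := by
  intro z
  simp

include hK hD in
theorem rel_smul_right {d : D} {x : M} {κ : K} (r : R) (h : Rel βK βD μ d x κ) :
    Rel βK βD μ d (r • x) (r • κ) := by
  intro z
  rw [hK.map_smul, h (r • z)]
  congr 1
  rw [map_smul, map_smul, LinearMap.smul_apply]

include hK hD in
theorem rel_smul_left {d : D} {x : M} {κ : K} (r : R) (h : Rel βK βD μ d x κ) :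
    Rel βK βD μ (r • d) x (r • κ) := by
  intro z
  rw [hK.map_smul, h (r • z), hD.map_smul, map_smul]

include hK hD hμ in
theorem exists_rel (d : D) (x : M) : ∃ κ : K, Rel βK βD μ d x κ := by
  induction d using DirectSum.Decomposition.inductionOn 𝒟 with
  | zero => exact ⟨0, rel_zero_left x⟩
  | @homogeneous δ d =>
    induction x using DirectSum.Decomposition.inductionOn ℳ with
    | zero => exact ⟨0, rel_zero_right _⟩
    | @homogeneous a x =>
      obtain ⟨κ, -, hκ⟩ := exists_rel_homog hK hD hμ d.2 x.2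
      exact ⟨κ, hκ⟩
    | add x y hx hy =>
      obtain ⟨κ, hκ⟩ := hx
      obtain ⟨κ', hκ'⟩ := hy
      exact ⟨κ + κ', rel_add_right hκ hκ'⟩
  | add d d' hd hd' =>
    obtain ⟨κ, hκ⟩ := hd
    obtain ⟨κ', hκ'⟩ := hd'
    exact ⟨κ + κ', rel_add_left hκ hκ'⟩

/-- the comparison map `D → Hom_R(M, K)` -/
noncomputable def eps : D →ₗ[R] (M →ₗ[R] K) where
  toFun d :=
    { toFun := fun x => (exists_rel hK hD hμ d x).choose
      map_add' := fun x y => rel_unique hK
        (exists_rel hK hD hμ d (x + y)).choose_spec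
        (rel_add_right (exists_rel hK hD hμ d x).choose_spec
          (exists_rel hK hD hμ d y).choose_spec)
      map_smul' := fun r x => rel_unique hK
        (exists_rel hK hD hμ d (r • x)).choose_spec
        (rel_smul_right hK hD r
          (exists_rel hK hD hμ d x).choose_spec) }
  map_add' d d' := by
    ext x
    exact rel_unique hK
      (exists_rel hK hD hμ (d + d') x).choose_spec
      (rel_add_left (exists_rel hK hD hμ d x).choose_spec
        (exists_rel hK hD hμ d' x).choose_spec)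
  map_smul' r d := by
    ext x
    exact rel_unique hK
      (exists_rel hK hD hμ (r • d) x).choose_spec
      (rel_smul_left hK hD r
        (exists_rel hK hD hμ d x).choose_spec)

theorem eps_spec (d : D) (x : M) :
    Rel βK βD μ d x (eps hK hD hμ d x) :=
  (exists_rel hK hD hμ d x).choose_spec

/-- `eps` is homogeneous -/
theorem eps_mem {δ a : ℤ} {d : D} (hd : d ∈ 𝒟 δ) {x : M} (hx : x ∈ ℳ a) :
    eps hK hD hμ d x ∈ 𝒦 (a + δ) := by
  obtain ⟨κ, hκ, hrel⟩ := exists_rel_homog hK hD hμ hd hx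
  rw [rel_unique hK (eps_spec hK hD hμ d x) hrel]
  exact hκ

variable (hbij : Function.Bijective (TensorProduct.lift μ))

include hbij in
theorem eps_injective : Function.Injective (eps hK hD hμ) := by
  rw [injective_iff_map_eq_zero]
  intro d hd
  apply nondeg hD
  intro z
  obtain ⟨w, rfl⟩ := hbij.2 z
  induction w using TensorProduct.induction_on with
  | zero => simp
  | tmul x h =>
    rw [TensorProduct.lift.tmul, ← eps_spec hK hD hμ d x h, hd]
    simp
  | add a b ha hb => rw [map_add, map_add, ha, hb, add_zero]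

/-- the pairing `M ⊗ HR → k` attached to `φ : M → K` -/
noncomputable def psi (φ : M →ₗ[R] K) : M ⊗[R] HR →+ k :=
  TensorProduct.liftAddHom
    { toFun := fun x => ((βK (φ x)) : HR →+ k)
      map_zero' := by ext; simp
      map_add' := fun x y => by ext; simp }
    (fun r x h => by
      change βK (φ (r • x)) h = βK (φ x) (r • h)
      rw [map_smul, hK.map_smul])

theorem psi_tmul (φ : M →ₗ[R] K) (x : M) (h : HR) : psi hK φ (x ⊗ₜ[R] h) = βK (φ x) h := rfl

theorem psi_smul (φ : M →ₗ[R] K) (c : k) (w : M ⊗[R] HR) :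
    psi hK φ (algebraMap k R c • w) = c • psi hK φ w := by
  induction w using TensorProduct.induction_on with
  | zero => simp
  | tmul x h =>
    rw [TensorProduct.smul_tmul', psi_tmul, psi_tmul, map_smul, algebraMap_smul, map_smul,
      LinearMap.smul_apply]
  | add a b ha hb => rw [smul_add, map_add, map_add, ha, hb, smul_add]

/-- the functional on `HM` attached to `φ : M → K` -/
noncomputable def lam (φ : M →ₗ[R] K) : HM →ₗ[k] k where
  toFun z := psi hK φ ((LinearEquiv.ofBijective (TensorProduct.lift μ) hbij).symm z)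
  map_add' z z' := by rw [map_add, map_add]
  map_smul' c z := by
    rw [RingHom.id_apply, ← algebraMap_smul R c z, map_smul, psi_smul]

theorem lam_mu (φ : M →ₗ[R] K) (x : M) (h : HR) :
    lam hK hbij φ (μ x h) = βK (φ x) h := by
  change psi hK φ ((LinearEquiv.ofBijective (TensorProduct.lift μ) hbij).symm (μ x h)) = _
  have : (LinearEquiv.ofBijective (TensorProduct.lift μ) hbij).symm (μ x h) = x ⊗ₜ[R] h := by
    rw [LinearEquiv.symm_apply_eq]
    rfl
  rw [this, psi_tmul]

include hK hμ in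
/-- the functional attached to a map of degree `δ` vanishes off degree `-δ` -/
theorem lam_vanish {δ : ℤ} (φ : M →ₗ[R] K) (hφ : GrLC.IsGrHomDeg ℳ 𝒦 φ δ) (c : ℤ) (hc : c ≠ -δ)
    (z : HM) (hz : z ∈ ℋM c) : lam hK hbij φ z = 0 := by
  have key : ∀ w : M ⊗[R] HR,
      lam hK hbij φ (gproj ℋM c (TensorProduct.lift μ w)) = 0 := by
    intro w
    induction w using TensorProduct.induction_on with
    | zero => simp
    | tmul x h =>
      rw [TensorProduct.lift.tmul]
      induction x using DirectSum.Decomposition.inductionOn ℳ with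
      | zero => simp
      | @homogeneous a x =>
        induction h using DirectSum.Decomposition.inductionOn ℋ with
        | zero => simp
        | @homogeneous b h =>
          have hmem := hμ a x x.2 b h h.2
          by_cases hab : b + a = c
          · rw [hab] at hmem
            rw [gproj_apply, DirectSum.decompose_of_mem_same ℋM hmem, lam_mu]
            apply hK.vanish (a + δ) _ (hφ a x x.2) b _ h h.2
            intro h'
            apply hc
            omega
          · rw [gproj_apply, DirectSum.decompose_of_mem_ne ℋM hmem hab, map_zero]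
        | add h h' ih ih' => rw [map_add, map_add, map_add, ih, ih', add_zero]
      | add x y ih ih' =>
        rw [map_add, LinearMap.add_apply, map_add, map_add, ih, ih', add_zero]
    | add a b ha hb => rw [map_add, map_add, map_add, ha, hb, add_zero]
  obtain ⟨w, rfl⟩ := hbij.2 z
  have := key w
  rwa [gproj_apply, DirectSum.decompose_of_mem_same ℋM hz] at this

include hbij in
/-- maps of pure degree are in the range of `eps` -/
theorem mem_range_of_homog {δ : ℤ} (φ : M →ₗ[R] K) (hφ : GrLC.IsGrHomDeg ℳ 𝒦 φ δ) :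
    φ ∈ LinearMap.range (eps hK hD hμ) := by
  obtain ⟨d, hd, hdΛ⟩ := hD.exists_eq δ (lam hK hbij φ)
  have hall : ∀ z : HM, βD d z = lam hK hbij φ z :=
    eq_of_eq_on_piece hD hd ((lam hK hbij φ : HM →ₗ[k] k) : HM →+ k)
      (fun c hc z hz => lam_vanish hK hμ hbij φ hφ c hc z hz) hdΛ
  refine ⟨d, ?_⟩
  ext x
  rw [← sub_eq_zero]
  apply nondeg hK
  intro h
  rw [map_sub, LinearMap.sub_apply, eps_spec hK hD hμ d x h, hall, lam_mu,
    sub_self]

include 𝒜 hbij in
theorem eps_surjective [Module.Finite R M] :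
    Function.Surjective (eps hK hD hμ) := by
  classical
  intro φ
  -- decompose `φ` into homogeneous components
  obtain ⟨T, hT, hspan⟩ := exists_homogeneous_generators (R := R) ℳ
  let Dg : Finset ℤ := T.biUnion (fun t =>
    (DirectSum.decompose 𝒦 (φ t.2)).support.image (fun j => j - t.1))
  have hφ : φ = ∑ d ∈ Dg, comp 𝒜 ℳ 𝒦 φ d := by
    apply LinearMap.ext_on hspan
    rintro _ ⟨t, ht, rfl⟩
    rw [LinearMap.sum_apply]
    symm
    apply sum_comp_of_mem 𝒜 ℳ 𝒦 φ (hT t ht) Dg
    intro j hj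
    refine Finset.mem_biUnion.mpr ⟨t, ht, Finset.mem_image.mpr ⟨j, ?_, rfl⟩⟩
    rw [DFinsupp.mem_support_iff]
    intro h0
    apply hj
    rw [gproj_apply, h0]
    rfl
  rw [← LinearMap.mem_range, hφ]
  refine Submodule.sum_mem _ fun d _ => ?_
  apply mem_range_of_homog hK hD hμ hbij (comp 𝒜 ℳ 𝒦 φ d) (δ := d)
  intro a x hx
  exact comp_mem 𝒜 ℳ 𝒦 φ d hx

include hK hD hμ hbij in
/-- **Graded duality.** -/
theorem exists_equiv_hom [Module.Finite R M] :
    ∃ ε : D ≃ₗ[R] (M →ₗ[R] K),
      GrLC.IsGrHom 𝒟 (fun d : ℤ => (GrLC.homDeg 𝒜 ℳ 𝒦 d).toAddSubgroup) ε.toLinearMap := by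
  refine ⟨LinearEquiv.ofBijective (eps hK hD hμ)
    ⟨eps_injective hK hD hμ hbij,
      eps_surjective 𝒜 hK hD hμ hbij⟩, ?_⟩
  intro δ d hd
  change eps hK hD hμ d ∈ GrLC.homDeg 𝒜 ℳ 𝒦 δ
  intro a x hx
  exact eps_mem hK hD hμ hd hx

end Main

end Groth.Agent.H81.GrDualHom
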