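import Mathlib
import Groth.Agent.H81.BassInjDim
import Groth.Agent.H98.Bass1.Final
import Groth.Agent.H98.Bass0.ExtLoc

/-!
# Ordinary injective dimension of *injective graded modules  (helper81)

`R` Noetherian graded by a finitely generated free abelian group `ι` of rank `r`, `M` *injective.
* `bassNum_homogeneous_eq_zero`: `μ^i(q, M) = 0` for `i ≥ 1` and `q` a homogeneous prime.
* `bassNum_eq_zero`: `μ^i(p, M) = 0` for `i ≥ r + 1` and every prime `p`.
* `hasInjectiveDimensionLT`: `inj dim_R M ≤ r`.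
* `bassNum_zero_eq_zero_iff`: `μ^0(q, M) = 0 ↔ q ∉ Ass M` (any module over a Noetherian ring).
-/

set_option autoImplicit false
set_option linter.unusedSectionVars false
set_option linter.style.haveILetI false

namespace Groth.Agent.H81.GrInjDim

universe u

open CategoryTheory Abelian Groth.Agent.H98.GrStar Groth.Agent.H98.Bass0 Groth.Agent.H98.Bass1
  Groth.Agent.H81.BassInjDim

section Ass

variable {R : Type u} [CommRing R] [IsNoetherianRing R] (q : Ideal R) [q.IsPrime]
  (M : Type u) [AddCommGroup M] [Module R M]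

/-- `μ^0(q, M) = 0` iff `q` is not an associated prime of `M` -/
theorem bassNum_zero_eq_zero_iff : GrLC.bassNum q M 0 = 0 ↔ q ∉ associatedPrimes R M := by
  rw [bassNum_eq_zero_iff_forall]
  constructor
  · intro h hq
    obtain ⟨-, m, hm⟩ := (isAssociatedPrime_iff.mp hq)
    -- the map `R/q → M`, `1 ↦ m`
    let f : (R ⧸ q) →ₗ[R] M := Submodule.liftQ q (LinearMap.toSpanSingleton R M m) (by
      intro r hr
      rw [hm, Submodule.mem_colon_singleton] at hr
      rw [LinearMap.mem_ker, LinearMap.toSpanSingleton_apply]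
      simpa using hr)
    have hf1 : f (1 : R ⧸ q) = m := by
      show LinearMap.toSpanSingleton R M m 1 = m
      rw [LinearMap.toSpanSingleton_apply, one_smul]
    obtain ⟨s, hs, hsx⟩ := h (Ext.mk₀ (ModuleCat.ofHom f))
    rw [← Ext.mk₀_smul] at hsx
    have h0 : s • ModuleCat.ofHom f = 0 := (Ext.mk₀_bijective _ _).1 (by rw [hsx, Ext.mk₀_zero])
    have h1 : s • m = 0 := by
      have := congrArg (fun g => g.hom (1 : R ⧸ q)) h0
      simpa [hf1] using this
    apply hs
    show s ∈ q
    rw [hm, Submodule.mem_colon_singleton]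
    simpa using h1
  · intro hq x
    by_contra hcon
    push Not at hcon
    apply hq
    obtain ⟨g, rfl⟩ := (Ext.mk₀_bijective _ _).2 x
    show IsAssociatedPrime q M
    rw [isAssociatedPrime_iff]
    refine ⟨inferInstance, g.hom (Submodule.Quotient.mk 1), ?_⟩
    ext r
    rw [Submodule.mem_colon_singleton]
    constructor
    · intro hr
      have : r • g.hom (Submodule.Quotient.mk (1 : R)) = 0 := by
        rw [← map_smul, ← Submodule.Quotient.mk_smul, smul_eq_mul, mul_one,
          (Submodule.Quotient.mk_eq_zero q).mpr hr, map_zero]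
      simpa using this
    · intro hr
      by_contra hrq
      apply hcon r hrq
      rw [← Ext.mk₀_smul]
      have h0 : r • g = 0 := by
        apply ModuleCat.hom_ext
        apply LinearMap.ext
        intro y
        obtain ⟨a, rfl⟩ := Submodule.Quotient.mk_surjective _ y
        have ha : (Submodule.Quotient.mk a : R ⧸ q) = a • Submodule.Quotient.mk (1 : R) := by
          rw [← Submodule.Quotient.mk_smul, smul_eq_mul, mul_one]
        show r • g.hom (Submodule.Quotient.mk a) = 0
        rw [ha, map_smul, smul_comm]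
        have : r • g.hom (Submodule.Quotient.mk (1 : R)) = 0 := by simpa using hr
        rw [this, smul_zero]
      rw [h0, Ext.mk₀_zero]

end Ass

section Graded

variable {ι : Type} [AddCommGroup ι] [DecidableEq ι]
variable {R : Type u} [CommRing R] [IsNoetherianRing R] (𝒜 : ι → AddSubgroup R) [GradedRing 𝒜]
variable {M : Type u} [AddCommGroup M] [Module R M] (ℳ : ι → AddSubgroup M)
  [DirectSum.Decomposition ℳ] [SetLike.GradedSMul 𝒜 ℳ]

/-- Bass numbers `μ^i`, `i ≥ 1`, of a *injective module vanish at homogeneous primes -/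
theorem bassNum_homogeneous_eq_zero (hM : GrLC.IsStarInj 𝒜 ℳ) (q : HomogeneousIdeal 𝒜)
    [q.toIdeal.IsPrime] (i : ℕ) (hi : 1 ≤ i) : GrLC.bassNum q.toIdeal M i = 0 := by
  have hfin : Module.Finite R (quotIdealGMod 𝒜 q).carrier :=
    inferInstanceAs (Module.Finite R (R ⧸ q.toIdeal))
  have h := ext_loc_subsingleton 𝒜 ℳ q.toIdeal.primeCompl hM i hi (quotIdealGMod 𝒜 q) hfin
  unfold GrLC.bassNum GrLC.bassNumLocal
  rw [Module.length_eq_zero_iff]
  exact subsingleton_ext_of_iso_left (locQuotEquivRes q.toIdeal).toModuleIso i h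

variable [Module.Free ℤ ι] [Module.Finite ℤ ι]

omit [IsNoetherianRing R] in
/-- the homogeneous core of a prime is prime (finitely generated free grading group) -/
theorem isPrime_core (p : Ideal R) [hp : p.IsPrime] :
    (Ideal.homogeneousCore 𝒜 p).toIdeal.IsPrime := by
  apply isPrime_of_homogeneous 𝒜 _ (Ideal.homogeneousCore 𝒜 p).isHomogeneous
  · exact ne_top_of_le_ne_top hp.ne_top (Ideal.toIdeal_homogeneousCore_le 𝒜 p)
  · intro x y hx hy hxy
    rcases hp.mem_or_mem (Ideal.toIdeal_homogeneousCore_le 𝒜 p hxy) with h | h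
    · exact Or.inl (Ideal.mem_homogeneousCore_of_homogeneous_of_mem hx h)
    · exact Or.inr (Ideal.mem_homogeneousCore_of_homogeneous_of_mem hy h)

/-- the core data of a prime: `ht(p/p*) = d ≤ rank ι` -/
theorem exists_height_core (p : Ideal R) [p.IsPrime] :
    haveI : (Ideal.homogeneousCore 𝒜 p).toIdeal.IsPrime := isPrime_core 𝒜 p
    ∃ d : ℕ, (p.map (Ideal.Quotient.mk (Ideal.homogeneousCore 𝒜 p).toIdeal)).height = d ∧
      d ≤ Module.finrank ℤ ι := by
  haveI : (Ideal.homogeneousCore 𝒜 p).toIdeal.IsPrime := isPrime_core 𝒜 p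
  have hle := height_map_le (Ideal.homogeneousCore 𝒜 p) p (Ideal.toIdeal_homogeneousCore_le 𝒜 p)
    (fun g x hx hxp => Ideal.mem_homogeneousCore_of_homogeneous_of_mem ⟨g, hx⟩ hxp)
  have hle' : (p.map (Ideal.Quotient.mk (Ideal.homogeneousCore 𝒜 p).toIdeal)).height ≤
      (Module.finrank ℤ ι : ℕ∞) := by
    have : ((Module.finrank ℤ ι : ℕ) : WithBot ℕ∞) = ((Module.finrank ℤ ι : ℕ∞) : WithBot ℕ∞) := rfl
    rw [this] at hle
    exact WithBot.coe_le_coe.mp hle
  have hne : (p.map (Ideal.Quotient.mk (Ideal.homogeneousCore 𝒜 p).toIdeal)).height ≠ ⊤ :=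
    ne_top_of_le_ne_top (ENat.natCast_ne_top _) hle'
  obtain ⟨d, hd⟩ := ENat.ne_top_iff_exists.mp hne
  refine ⟨d, hd.symm, ?_⟩
  rw [← hd] at hle'
  exact_mod_cast hle'

include ℳ in
/-- Bass numbers of a graded module at a prime versus its homogeneous core -/
theorem bassNum_core' (p : Ideal R) [p.IsPrime] (d : ℕ)
    (hd : (p.map (Ideal.Quotient.mk (Ideal.homogeneousCore 𝒜 p).toIdeal)).height = d) (j : ℕ) :
    haveI : (Ideal.homogeneousCore 𝒜 p).toIdeal.IsPrime := isPrime_core 𝒜 p
    GrLC.bassNum p M (d + j) = GrLC.bassNum (Ideal.homogeneousCore 𝒜 p).toIdeal M j := by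
  haveI : (Ideal.homogeneousCore 𝒜 p).toIdeal.IsPrime := isPrime_core 𝒜 p
  exact (bassNum_core 𝒜 ℳ (Ideal.homogeneousCore 𝒜 p) p (Ideal.toIdeal_homogeneousCore_le 𝒜 p)
    (fun g x hx hxp => Ideal.mem_homogeneousCore_of_homogeneous_of_mem ⟨g, hx⟩ hxp) d hd).2 j

/-- Bass numbers `μ^i`, `i > rank ι`, of a *injective module vanish at all primes -/
theorem bassNum_eq_zero (hM : GrLC.IsStarInj 𝒜 ℳ) (p : Ideal R) [p.IsPrime] (i : ℕ)
    (hi : Module.finrank ℤ ι + 1 ≤ i) : GrLC.bassNum p M i = 0 := by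
  haveI : (Ideal.homogeneousCore 𝒜 p).toIdeal.IsPrime := isPrime_core 𝒜 p
  obtain ⟨d, hd, hdr⟩ := exists_height_core 𝒜 p
  have hi' : i = d + (i - d) := by omega
  rw [hi', bassNum_core' 𝒜 ℳ p d hd (i - d)]
  exact bassNum_homogeneous_eq_zero 𝒜 ℳ hM _ _ (by omega)

/-- **A *injective module has ordinary injective dimension at most the rank of the grading
group.** -/
theorem hasInjectiveDimensionLT (hM : GrLC.IsStarInj 𝒜 ℳ) :
    HasInjectiveDimensionLT (ModuleCat.of R M) (Module.finrank ℤ ι + 1) :=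
  hasInjectiveDimensionLT_of_bassNum M (Module.finrank ℤ ι)
    (fun p _ i hi => bassNum_eq_zero 𝒜 ℳ hM p i hi)

end Graded

end Groth.Agent.H81.GrInjDim
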