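import Mathlib
import Groth.Agent.H81.GrInjDim

/-!
# When is a *injective module injective?  (helper81)

Rank-one grading group: a *injective module `M` over a Noetherian graded ring is NOT injective
iff there is a non-homogeneous prime whose homogeneous core is an associated prime of `M`.
-/

set_option autoImplicit false
set_option linter.unusedSectionVars false
set_option linter.style.haveILetI false

namespace Groth.Agent.H81.GrInjDim

universe u

open CategoryTheory Abelian Groth.Agent.H98.GrStar Groth.Agent.H98.Bass0 Groth.Agent.H98.Bass1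
  Groth.Agent.H81.BassInjDim

variable {ι : Type} [AddCommGroup ι] [DecidableEq ι] [Module.Free ℤ ι] [Module.Finite ℤ ι]
variable {R : Type u} [CommRing R] [IsNoetherianRing R] (𝒜 : ι → AddSubgroup R) [GradedRing 𝒜]
variable {M : Type u} [AddCommGroup M] [Module R M] (ℳ : ι → AddSubgroup M)
  [DirectSum.Decomposition ℳ] [SetLike.GradedSMul 𝒜 ℳ]

omit [IsNoetherianRing R] in
/-- `ht(p/p*) = 0` iff `p` is homogeneous -/
theorem height_core_eq_zero_iff (p : Ideal R) [p.IsPrime] :
    (p.map (Ideal.Quotient.mk (Ideal.homogeneousCore 𝒜 p).toIdeal)).height = 0 ↔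
      p.IsHomogeneous 𝒜 := by
  haveI : (Ideal.homogeneousCore 𝒜 p).toIdeal.IsPrime := isPrime_core 𝒜 p
  rw [Ideal.height_eq_zero_iff_eq_bot, Ideal.map_eq_bot_iff_le_ker, Ideal.mk_ker,
    Ideal.IsHomogeneous.iff_eq]
  constructor
  · intro h
    exact le_antisymm (Ideal.toIdeal_homogeneousCore_le 𝒜 p) h
  · intro h
    exact h.ge

include ℳ in
/-- **Criterion for a *injective module to be injective** (grading group of rank one). -/
theorem not_injective_iff (hr : Module.finrank ℤ ι = 1) (hM : GrLC.IsStarInj 𝒜 ℳ) :
    ¬ Module.Injective R M ↔ ∃ p : Ideal R, p.IsPrime ∧ ¬ Ideal.IsHomogeneous 𝒜 p ∧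
      (Ideal.homogeneousCore 𝒜 p).toIdeal ∈ associatedPrimes R M := by
  constructor
  · intro hinj
    by_contra hcon
    push Not at hcon
    apply hinj
    apply injective_of_bassNum
    intro p _ i hi
    haveI : (Ideal.homogeneousCore 𝒜 p).toIdeal.IsPrime := isPrime_core 𝒜 p
    rcases Nat.lt_or_ge 1 i with h2 | h1
    · exact bassNum_eq_zero 𝒜 ℳ hM p i (by omega)
    · have hi1 : i = 1 := le_antisymm h1 hi
      subst hi1
      obtain ⟨d, hd, hdr⟩ := exists_height_core 𝒜 p
      rw [hr] at hdr
      rcases Nat.lt_or_ge d 1 with hd0 | hd1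
      · have hd0 : d = 0 := by omega
        subst hd0
        have := bassNum_core' 𝒜 ℳ p 0 hd 1
        rw [zero_add] at this
        rw [this]
        exact bassNum_homogeneous_eq_zero 𝒜 ℳ hM _ 1 le_rfl
      · have hd1 : d = 1 := le_antisymm hdr hd1
        subst hd1
        have := bassNum_core' 𝒜 ℳ p 1 hd 0
        rw [add_zero] at this
        rw [this, bassNum_zero_eq_zero_iff]
        apply hcon p inferInstance
        intro hhom
        have h0 := (height_core_eq_zero_iff 𝒜 p).mpr hhom
        rw [h0] at hd
        exact absurd hd (by norm_num)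
  · rintro ⟨p, hp, hnh, hass⟩ hinj
    haveI := hp
    haveI : (Ideal.homogeneousCore 𝒜 p).toIdeal.IsPrime := isPrime_core 𝒜 p
    obtain ⟨d, hd, hdr⟩ := exists_height_core 𝒜 p
    rw [hr] at hdr
    have hd1 : d = 1 := by
      rcases Nat.lt_or_ge d 1 with hd0 | hd1
      · exfalso
        have hd0 : d = 0 := by omega
        subst hd0
        exact hnh ((height_core_eq_zero_iff 𝒜 p).mp (by rw [hd]; rfl))
      · exact le_antisymm hdr hd1
    subst hd1
    have h1 := bassNum_core' 𝒜 ℳ p 1 hd 0
    rw [add_zero] at h1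
    have h2 : GrLC.bassNum p M 1 = 0 := by
      apply bassNum_eq_zero_of_subsingleton
      haveI : Injective (ModuleCat.of R M) := (Module.injective_iff_injective_object R M).mp hinj
      exact ⟨fun a b => by rw [Ext.eq_zero_of_injective a, Ext.eq_zero_of_injective b]⟩
    rw [h1, bassNum_zero_eq_zero_iff] at h2
    exact h2 hass

end Groth.Agent.H81.GrInjDim
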