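import Mathlib
import Groth.Agent.H81.GrInjDim
import Groth.Agent.H98.Bass0.StarLocalSoc

/-!
# Injective dimension of a graded module over a *local ring is detected at the *maximal ideal
(helper81)

`(R, m)` Noetherian *local, graded by a finitely generated free abelian group of rank `r`, `C` a
graded `R`-module.  If `inj dim_{R_m} C_m < k` then `μ^i(p, C) = 0` for all primes `p` and
`i ≥ k + r`, hence `inj dim_R C < k + r`.
-/

set_option autoImplicit false
set_option linter.unusedSectionVars false
set_option linter.style.haveILetI false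

namespace Groth.Agent.H81.GrInjDim

universe u

open CategoryTheory Abelian Groth.Agent.H98.GrStar Groth.Agent.H98.Bass0 Groth.Agent.H98.Bass1
  Groth.Agent.H81.BassInjDim

variable {ι : Type} [AddCommGroup ι] [DecidableEq ι] [Module.Free ℤ ι] [Module.Finite ℤ ι]
variable {R : Type u} [CommRing R] [IsNoetherianRing R] (𝒜 : ι → AddSubgroup R) [GradedRing 𝒜]
variable {m : HomogeneousIdeal 𝒜} (hm : GrLC.IsStarLocal 𝒜 m) [hmp : m.toIdeal.IsPrime]
variable {C : Type u} [AddCommGroup C] [Module R C] (𝒞 : ι → AddSubgroup C)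
  [DirectSum.Decomposition 𝒞] [SetLike.GradedSMul 𝒜 𝒞]

include hm in
/-- Bass numbers at homogeneous primes vanish above the injective dimension of `C_m` -/
theorem bassNum_homogeneous_eq_zero_of_loc (k : ℕ)
    (hid : HasInjectiveDimensionLT (ModuleCat.of (Localization.AtPrime m.toIdeal)
      (LocalizedModule m.toIdeal.primeCompl C)) k)
    (q : HomogeneousIdeal 𝒜) [q.toIdeal.IsPrime] (j : ℕ) (hj : k ≤ j) :
    GrLC.bassNum q.toIdeal C j = 0 := by
  have hqm : q.toIdeal ≤ m.toIdeal :=
    le_of_isStarLocal 𝒜 hm q.toIdeal q.isHomogeneous (Ideal.IsPrime.ne_top inferInstance)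
  rw [bassNum_eq_zero_iff_forall]
  intro x
  have hsub : Subsingleton (Ext.{u}
      ((ModuleCat.of R (R ⧸ q.toIdeal)).localizedModule m.toIdeal.primeCompl)
      ((ModuleCat.of R C).localizedModule m.toIdeal.primeCompl) j) := by
    apply subsingleton_ext_of_iso_right (Groth.Agent.H81.PdLoc.locIso m.toIdeal.primeCompl C).symm
    exact ⟨fun a b => by
      rw [Ext.eq_zero_of_hasInjectiveDimensionLT a k hj,
        Ext.eq_zero_of_hasInjectiveDimensionLT b k hj]⟩
  obtain ⟨s, hs, hsx⟩ := (Groth.Agent.H81.ExtLoc.subsingleton_ext_iff m.toIdeal.primeCompl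
    (ModuleCat.of R (R ⧸ q.toIdeal)) (ModuleCat.of R C) j).mp hsub x
  exact ⟨s, fun hsq => hs (hqm hsq), hsx⟩

include hm 𝒞 in
/-- Bass numbers at all primes vanish above `inj dim C_m + rank ι` -/
theorem bassNum_eq_zero_of_loc (k : ℕ)
    (hid : HasInjectiveDimensionLT (ModuleCat.of (Localization.AtPrime m.toIdeal)
      (LocalizedModule m.toIdeal.primeCompl C)) k)
    (p : Ideal R) [p.IsPrime] (i : ℕ) (hi : k + Module.finrank ℤ ι ≤ i) :
    GrLC.bassNum p C i = 0 := by
  haveI : (Ideal.homogeneousCore 𝒜 p).toIdeal.IsPrime := isPrime_core 𝒜 p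
  obtain ⟨d, hd, hdr⟩ := exists_height_core 𝒜 p
  have hi' : i = d + (i - d) := by omega
  rw [hi', bassNum_core' 𝒜 𝒞 p d hd (i - d)]
  exact bassNum_homogeneous_eq_zero_of_loc 𝒜 hm k hid _ _ (by omega)

include hm 𝒞 in
/-- **Finite injective dimension of a graded module over a *local ring is detected at `m`.** -/
theorem hasInjectiveDimensionLT_of_loc (k : ℕ)
    (hid : HasInjectiveDimensionLT (ModuleCat.of (Localization.AtPrime m.toIdeal)
      (LocalizedModule m.toIdeal.primeCompl C)) k) :
    HasInjectiveDimensionLT (ModuleCat.of R C) (k + Module.finrank ℤ ι + 1) :=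
  hasInjectiveDimensionLT_of_bassNum C (k + Module.finrank ℤ ι)
    (fun p _ i hi => bassNum_eq_zero_of_loc 𝒜 hm 𝒞 k hid p i (by omega))

end Groth.Agent.H81.GrInjDim
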