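import Mathlib

set_option autoImplicit false
universe u v

namespace Groth.Agent.H81.InnerAut

open Matrix

variable {R : Type u} [CommRing R] {n : ℕ}

section T
variable (N : Type v) [AddCommGroup N] [Module R N]

/-- The action of an `n × n` matrix over `R` on `N^n`, as a linear map in the matrix. -/
def Tlin : Matrix (Fin n) (Fin n) R →ₗ[R] Module.End R (Fin n → N) where
  toFun A :=
    { toFun := fun v i => ∑ j, A i j • v j
      map_add' := fun v w => by
        funext i; simp [smul_add, Finset.sum_add_distrib]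
      map_smul' := fun c v => by
        funext i; simp [Finset.smul_sum, smul_comm c] }
  map_add' A B := by
    refine LinearMap.ext fun v => funext fun i => ?_
    simp [add_smul, Finset.sum_add_distrib]
  map_smul' c A := by
    refine LinearMap.ext fun v => funext fun i => ?_
    simp [Finset.smul_sum, mul_smul]

@[simp] lemma Tlin_apply (A : Matrix (Fin n) (Fin n) R) (v : Fin n → N) (i : Fin n) :
    Tlin N A v i = ∑ j, A i j • v j := rfl

/-- The action of `M_n(R)` on `N^n` as an algebra homomorphism. -/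
def T : Matrix (Fin n) (Fin n) R →ₐ[R] Module.End R (Fin n → N) :=
  AlgHom.ofLinearMap (Tlin N)
    (by
      refine LinearMap.ext fun v => funext fun i => ?_
      simp [Matrix.one_apply, ite_smul])
    (by
      intro A B
      refine LinearMap.ext fun v => funext fun i => ?_
      simp only [Tlin_apply, Module.End.mul_apply, Matrix.mul_apply, Finset.sum_smul,
        Finset.smul_sum, mul_smul]
      rw [Finset.sum_comm])

@[simp] lemma T_apply (A : Matrix (Fin n) (Fin n) R) (v : Fin n → N) (i : Fin n) :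
    T N A v i = ∑ j, A i j • v j := rfl

lemma T_single (A : Matrix (Fin n) (Fin n) R) (j : Fin n) (x : N) (i : Fin n) :
    T N A (Pi.single j x) i = A i j • x := by
  rw [T_apply, Finset.sum_eq_single j]
  · simp
  · intro b _ hb; simp [Pi.single_eq_of_ne hb]
  · intro h; exact absurd (Finset.mem_univ j) h

theorem T_bijective [Module.Invertible R N] : Function.Bijective (T (R := R) (n := n) N) := by
  constructor
  · rw [injective_iff_map_eq_zero]
    intro A hA
    ext i j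
    refine eq_of_smul_eq_smul (α := N) fun x => ?_
    rw [Matrix.zero_apply, zero_smul, ← T_single N A j x i, hA]
    rfl
  · intro f
    have key : ∀ i j, ∃ c : R, ∀ x : N, f (Pi.single j x) i = c • x := by
      intro i j
      obtain ⟨c, hc⟩ := (Module.Invertible.toModuleEnd_bijective R N).surjective
        ((LinearMap.proj i) ∘ₗ f ∘ₗ (LinearMap.single R (fun _ : Fin n => N) j))
      refine ⟨c, fun x => ?_⟩
      have := LinearMap.congr_fun hc x
      simpa using this.symm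
    choose c hc using key
    refine ⟨Matrix.of c, ?_⟩
    refine LinearMap.ext fun v => funext fun i => ?_
    rw [T_apply]
    conv_rhs => rw [← Finset.univ_sum_single v, map_sum, Finset.sum_apply]
    refine Finset.sum_congr rfl fun j _ => ?_
    rw [hc]; rfl

end T

section LemmaC
variable {N : Type v} [AddCommGroup N] [Module R N]

/-- An `M_n(R)`-equivariant isomorphism `N^n ≃ R^n` induces `N ≃ R`. -/
def equivOfIntertwine (g : (Fin n → N) ≃ₗ[R] (Fin n → R))
    (hg : ∀ (A : Matrix (Fin n) (Fin n) R) (v : Fin n → N), g (T N A v) = A *ᵥ g v)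
    (i₀ : Fin n) : N ≃ₗ[R] R :=
  have h1 : ∀ v : Fin n → N, T N (Matrix.single i₀ i₀ (1 : R)) v = Pi.single i₀ (v i₀) := by
    intro v
    funext i
    rw [T_apply]
    by_cases h : i = i₀
    · subst h
      rw [Finset.sum_eq_single i]
      · simp
      · intro b _ hb; simp [hb.symm]
      · intro h; exact absurd (Finset.mem_univ i) h
    · rw [Pi.single_eq_of_ne h]
      refine Finset.sum_eq_zero fun j _ => ?_
      simp [Ne.symm h]
  have h2 : ∀ u : Fin n → R, Matrix.single i₀ i₀ (1 : R) *ᵥ u = Pi.single i₀ (u i₀) := by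
    intro u
    simp [Matrix.single_mulVec, Pi.single]
  LinearEquiv.ofLinearMap
    ((LinearMap.proj i₀) ∘ₗ g.toLinearMap ∘ₗ (LinearMap.single R (fun _ : Fin n => N) i₀))
    ((LinearMap.proj i₀) ∘ₗ g.symm.toLinearMap ∘ₗ (LinearMap.single R (fun _ : Fin n => R) i₀))
    (by
      refine LinearMap.ext fun c => ?_
      simp only [LinearMap.comp_apply, LinearMap.proj_apply, LinearMap.coe_single,
        LinearEquiv.coe_coe, LinearMap.id_apply]
      rw [← h1, hg, g.apply_symm_apply, h2]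
      simp)
    (by
      refine LinearMap.ext fun x => ?_
      simp only [LinearMap.comp_apply, LinearMap.proj_apply, LinearMap.coe_single,
        LinearEquiv.coe_coe, LinearMap.id_apply]
      rw [← h2, ← hg, g.symm_apply_apply, h1]
      simp)

end LemmaC

section LemmaB

theorem inner_of_intertwine (φ : Matrix (Fin n) (Fin n) R ≃ₐ[R] Matrix (Fin n) (Fin n) R)
    (Θ : (Fin n → R) ≃ₗ[R] (Fin n → R))
    (hΘ : ∀ (A : Matrix (Fin n) (Fin n) R) (c : Fin n → R), Θ (A *ᵥ c) = φ A *ᵥ Θ c) :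
    ∃ P : GL (Fin n) R, ∀ A : Matrix (Fin n) (Fin n) R, φ A = P.1 * A * (P⁻¹).1 := by
  set U := LinearMap.toMatrix' Θ.toLinearMap with hU
  set U' := LinearMap.toMatrix' Θ.symm.toLinearMap with hU'
  have h1 : U * U' = 1 := by
    rw [hU, hU', ← LinearMap.toMatrix'_comp]
    simp
  have h2 : U' * U = 1 := by
    rw [hU, hU', ← LinearMap.toMatrix'_comp]
    simp
  refine ⟨⟨U, U', h1, h2⟩, fun A => ?_⟩
  have h3 : φ A * U = U * A := by
    apply Matrix.toLin'.injective
    refine LinearMap.ext fun c => ?_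
    rw [Matrix.toLin'_mul, Matrix.toLin'_mul, hU, Matrix.toLin'_toMatrix']
    simp [hΘ]
  change φ A = U * A * U'
  rw [← h3, Matrix.mul_assoc, h1, Matrix.mul_one]

end LemmaB

section Forward

theorem free_of_inner (hn : 1 ≤ n)
    (H : ∀ φ : Matrix (Fin n) (Fin n) R ≃ₐ[R] Matrix (Fin n) (Fin n) R,
        ∃ P : GL (Fin n) R, ∀ A : Matrix (Fin n) (Fin n) R, φ A = P.1 * A * (P⁻¹).1)
    (N : Type u) [AddCommGroup N] [Module R N] [Module.Invertible R N]
    (ψ : (Fin n → N) ≃ₗ[R] (Fin n → R)) : Module.Free R N := by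
  set φ : Matrix (Fin n) (Fin n) R ≃ₐ[R] Matrix (Fin n) (Fin n) R :=
    ((AlgEquiv.ofBijective (T N) (T_bijective N)).trans (ψ.conjAlgEquiv R)).trans
      LinearMap.toMatrixAlgEquiv' with hφ
  obtain ⟨P, hP⟩ := H φ
  have hφA : ∀ (A : Matrix (Fin n) (Fin n) R) (v : Fin n → N), φ A *ᵥ ψ v = ψ (T N A v) := by
    intro A v
    have : Matrix.toLin' (φ A) = ψ.toLinearMap ∘ₗ (T N A) ∘ₗ ψ.symm.toLinearMap := by
      rw [hφ]
      exact Matrix.toLin'_toMatrix' (ψ.toLinearMap ∘ₗ (T N A) ∘ₗ ψ.symm.toLinearMap)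
    have h2 := LinearMap.congr_fun this (ψ v)
    simpa using h2
  let q : (Fin n → R) ≃ₗ[R] (Fin n → R) :=
    LinearEquiv.ofLinearMap (Matrix.toLin' (P⁻¹).1) (Matrix.toLin' P.1)
      (by rw [← Matrix.toLin'_mul]; simp)
      (by rw [← Matrix.toLin'_mul]; simp)
  let g : (Fin n → N) ≃ₗ[R] (Fin n → R) := ψ.trans q
  have hg : ∀ (A : Matrix (Fin n) (Fin n) R) (v : Fin n → N), g (T N A v) = A *ᵥ g v := by
    intro A v
    change (P⁻¹).1 *ᵥ ψ (T N A v) = A *ᵥ ((P⁻¹).1 *ᵥ ψ v)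
    rw [← hφA, hP, Matrix.mulVec_mulVec, Matrix.mulVec_mulVec, ← Matrix.mul_assoc,
      ← Matrix.mul_assoc]
    simp
  exact Module.Free.of_equiv (equivOfIntertwine g hg ⟨0, hn⟩).symm

end Forward

section Backward

variable (φ : Matrix (Fin n) (Fin n) R ≃ₐ[R] Matrix (Fin n) (Fin n) R) (i₀ : Fin n)

/-- The images of the matrix units under `φ`. -/
def Pm (i j : Fin n) : Matrix (Fin n) (Fin n) R := φ (Matrix.single i j 1)

lemma Pm_mul_same (i j k : Fin n) : Pm φ i j * Pm φ j k = Pm φ i k := by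
  unfold Pm; rw [← map_mul, Matrix.single_mul_single_same, mul_one]

lemma Pm_mul_of_ne (i : Fin n) {j k : Fin n} (l : Fin n) (h : j ≠ k) :
    Pm φ i j * Pm φ k l = 0 := by
  unfold Pm; rw [← map_mul, Matrix.single_mul_single_of_ne _ _ _ _ h, map_zero]

lemma sum_Pm : ∑ i, Pm φ i i = 1 := by
  unfold Pm; rw [← map_sum, Matrix.sum_single_one, map_one]

/-- The column module `N = p R^n`, `p = φ(E₀₀)`. -/
def Nmod : Submodule R (Fin n → R) :=
  LinearMap.eqLocus (Matrix.mulVecLin (Pm φ i₀ i₀)) LinearMap.id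

/-- The row module `N' = R^n p`. -/
def Nmod' : Submodule R (Fin n → R) :=
  LinearMap.eqLocus (Matrix.vecMulLinear (Pm φ i₀ i₀)) LinearMap.id

lemma mem_Nmod {v : Fin n → R} : v ∈ Nmod φ i₀ ↔ Pm φ i₀ i₀ *ᵥ v = v := Iff.rfl

lemma mem_Nmod' {w : Fin n → R} : w ∈ Nmod' φ i₀ ↔ w ᵥ* Pm φ i₀ i₀ = w := Iff.rfl

lemma Pm_mulVec_mem (i : Fin n) (u : Fin n → R) : Pm φ i₀ i *ᵥ u ∈ Nmod φ i₀ := by
  rw [mem_Nmod, Matrix.mulVec_mulVec, Pm_mul_same]

lemma vecMul_Pm_mem (i : Fin n) (u : Fin n → R) : u ᵥ* Pm φ i i₀ ∈ Nmod' φ i₀ := by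
  rw [mem_Nmod', Matrix.vecMul_vecMul, Pm_mul_same]

/-- The generators `x_k = p e_k` of `N`. -/
def xgen (k : Fin n) : Nmod φ i₀ := ⟨Pm φ i₀ i₀ *ᵥ Pi.single k 1, Pm_mulVec_mem φ i₀ i₀ _⟩

/-- The generators `y_l = e_l p` of `N'`. -/
def ygen (l : Fin n) : Nmod' φ i₀ := ⟨Pi.single l 1 ᵥ* Pm φ i₀ i₀, vecMul_Pm_mem φ i₀ i₀ _⟩

lemma xgen_apply (k i : Fin n) : (xgen φ i₀ k).1 i = Pm φ i₀ i₀ i k := by
  simp [xgen]

lemma ygen_apply (l j : Fin n) : (ygen φ i₀ l).1 j = Pm φ i₀ i₀ l j := by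
  simp [ygen]

lemma sum_smul_xgen (v : Nmod φ i₀) : ∑ k, v.1 k • xgen φ i₀ k = v := by
  apply Subtype.ext
  rw [Submodule.coe_sum]
  conv_rhs => rw [← (mem_Nmod φ i₀).1 v.2]
  funext i
  simp only [Submodule.coe_smul, Finset.sum_apply, Pi.smul_apply, xgen_apply, smul_eq_mul,
    Matrix.mulVec, dotProduct]
  exact Finset.sum_congr rfl fun k _ => mul_comm _ _

lemma sum_smul_ygen (w : Nmod' φ i₀) : ∑ l, w.1 l • ygen φ i₀ l = w := by
  apply Subtype.ext
  rw [Submodule.coe_sum]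
  conv_rhs => rw [← (mem_Nmod' φ i₀).1 w.2]
  funext j
  simp only [Submodule.coe_smul, Finset.sum_apply, Pi.smul_apply, ygen_apply, smul_eq_mul,
    Matrix.vecMul, dotProduct]

lemma sum_Pm_smul_ygen (k : Fin n) : ∑ l, Pm φ i₀ i₀ k l • ygen φ i₀ l = ygen φ i₀ k := by
  have := sum_smul_ygen φ i₀ (ygen φ i₀ k)
  simpa only [ygen_apply] using this

/-- The pairing `N × N' → R`, `(v, w) ↦ (φ⁻¹(v wᵀ))₀₀`. -/
def pairing : Nmod φ i₀ →ₗ[R] Nmod' φ i₀ →ₗ[R] R :=
  LinearMap.mk₂ R (fun v w => (φ.symm (Matrix.vecMulVec v.1 w.1)) i₀ i₀)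
    (by intro v v' w; simp [Matrix.add_vecMulVec])
    (by intro c v w; simp [Matrix.smul_vecMulVec])
    (by intro v w w'; simp [Matrix.vecMulVec_add])
    (by intro c v w; simp [Matrix.vecMulVec_smul])

lemma pairing_apply (v : Nmod φ i₀) (w : Nmod' φ i₀) :
    pairing φ i₀ v w = (φ.symm (Matrix.vecMulVec v.1 w.1)) i₀ i₀ := rfl

lemma vecMulVec_eq (v : Nmod φ i₀) (w : Nmod' φ i₀) :
    Matrix.vecMulVec v.1 w.1 = pairing φ i₀ v w • Pm φ i₀ i₀ := by
  set B := φ.symm (Matrix.vecMulVec v.1 w.1) with hB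
  have h1 : Matrix.vecMulVec v.1 w.1 =
      Pm φ i₀ i₀ * Matrix.vecMulVec v.1 w.1 * Pm φ i₀ i₀ := by
    rw [Matrix.mul_vecMulVec, Matrix.vecMulVec_mul, (mem_Nmod φ i₀).1 v.2,
      (mem_Nmod' φ i₀).1 w.2]
  have h2 : Matrix.vecMulVec v.1 w.1 = φ B := (φ.apply_symm_apply _).symm
  rw [pairing_apply, ← hB]
  calc Matrix.vecMulVec v.1 w.1
      = Pm φ i₀ i₀ * φ B * Pm φ i₀ i₀ := by rw [← h2]; exact h1
    _ = φ (Matrix.single i₀ i₀ 1 * B * Matrix.single i₀ i₀ 1) := by
        unfold Pm; rw [map_mul, map_mul]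
    _ = B i₀ i₀ • Pm φ i₀ i₀ := by
        unfold Pm
        rw [Matrix.single_mul_mul_single, one_mul, mul_one, ← map_smul, Matrix.smul_single,
          smul_eq_mul, mul_one]

open TensorProduct in
/-- The candidate inverse element `∑ x_k ⊗ y_k`. -/
def unitElt : Nmod φ i₀ ⊗[R] Nmod' φ i₀ := ∑ k, xgen φ i₀ k ⊗ₜ[R] ygen φ i₀ k

open TensorProduct in
/-- The map `A ↦ ∑ A_kl x_k ⊗ y_l`. -/
def tau (A : Matrix (Fin n) (Fin n) R) : Nmod φ i₀ ⊗[R] Nmod' φ i₀ :=
  ∑ k, ∑ l, A k l • (xgen φ i₀ k ⊗ₜ[R] ygen φ i₀ l)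

open TensorProduct in
lemma tau_vecMulVec (v : Nmod φ i₀) (w : Nmod' φ i₀) :
    tau φ i₀ (Matrix.vecMulVec v.1 w.1) = v ⊗ₜ[R] w := by
  conv_rhs => rw [← sum_smul_xgen φ i₀ v, ← sum_smul_ygen φ i₀ w]
  rw [TensorProduct.sum_tmul]
  unfold tau
  refine Finset.sum_congr rfl fun k _ => ?_
  rw [TensorProduct.tmul_sum]
  refine Finset.sum_congr rfl fun l _ => ?_
  rw [Matrix.vecMulVec_apply, TensorProduct.smul_tmul_smul]

open TensorProduct in
lemma tau_smul_Pm (c : R) : tau φ i₀ (c • Pm φ i₀ i₀) = c • unitElt φ i₀ := by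
  unfold tau unitElt
  rw [Finset.smul_sum]
  refine Finset.sum_congr rfl fun k _ => ?_
  conv_rhs => rw [← sum_Pm_smul_ygen φ i₀ k, TensorProduct.tmul_sum, Finset.smul_sum]
  refine Finset.sum_congr rfl fun l _ => ?_
  rw [Matrix.smul_apply, smul_eq_mul, mul_smul, TensorProduct.tmul_smul]

lemma sum_pairing_gen : ∑ k, pairing φ i₀ (xgen φ i₀ k) (ygen φ i₀ k) = 1 := by
  simp only [pairing_apply]
  rw [← Matrix.sum_apply, ← map_sum]
  have : ∑ k, Matrix.vecMulVec (xgen φ i₀ k).1 (ygen φ i₀ k).1 = Pm φ i₀ i₀ := by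
    conv_rhs => rw [← Pm_mul_same φ i₀ i₀ i₀]
    ext i j
    rw [Matrix.sum_apply, Matrix.mul_apply]
    refine Finset.sum_congr rfl fun k _ => ?_
    rw [Matrix.vecMulVec_apply, xgen_apply, ygen_apply]
  rw [this]
  unfold Pm
  rw [φ.symm_apply_apply]
  simp

open TensorProduct in
/-- `N ⊗ N' ≃ R`. -/
def tensorEquiv : Nmod φ i₀ ⊗[R] Nmod' φ i₀ ≃ₗ[R] R :=
  LinearEquiv.ofLinearMap (TensorProduct.lift (pairing φ i₀))
    (LinearMap.toSpanSingleton R _ (unitElt φ i₀))
    (by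
      refine LinearMap.ext_ring ?_
      simp only [LinearMap.comp_apply, LinearMap.toSpanSingleton_apply, one_smul,
        LinearMap.id_apply]
      unfold unitElt
      rw [map_sum]
      simp only [TensorProduct.lift.tmul]
      exact sum_pairing_gen φ i₀)
    (by
      refine TensorProduct.ext' fun v w => ?_
      simp only [LinearMap.comp_apply, LinearMap.toSpanSingleton_apply, TensorProduct.lift.tmul,
        LinearMap.id_apply]
      rw [← tau_smul_Pm, ← vecMulVec_eq, tau_vecMulVec])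

instance : Module.Invertible R (Nmod φ i₀) := Module.Invertible.left (tensorEquiv φ i₀)

lemma mul_single_eq_sum (A : Matrix (Fin n) (Fin n) R) (j l : Fin n) :
    A * Matrix.single j l (1 : R) = ∑ i, A i j • Matrix.single i l (1 : R) := by
  ext a b
  rw [Matrix.sum_apply]
  by_cases hb : b = l
  · subst hb
    rw [Matrix.mul_single_apply_same, mul_one, Finset.sum_eq_single a]
    · simp
    · intro i _ hi; simp [hi]
    · intro h; exact absurd (Finset.mem_univ a) h
  · rw [Matrix.mul_single_apply_of_ne _ _ _ _ _ hb]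
    refine (Finset.sum_eq_zero fun i _ => ?_).symm
    simp [Ne.symm hb]

lemma map_mul_Pm (A : Matrix (Fin n) (Fin n) R) (j l : Fin n) :
    φ A * Pm φ j l = ∑ i, A i j • Pm φ i l := by
  unfold Pm
  rw [← map_mul, mul_single_eq_sum, map_sum]
  simp only [map_smul]

/-- `Ψ : N^n ≃ R^n`, `(v_i) ↦ ∑ P_{i0} v_i`. -/
def Psi : (Fin n → Nmod φ i₀) ≃ₗ[R] (Fin n → R) :=
  LinearEquiv.ofLinearMap
    (∑ i, (Matrix.mulVecLin (Pm φ i i₀)) ∘ₗ (Nmod φ i₀).subtype ∘ₗ
      LinearMap.proj (φ := fun _ : Fin n => Nmod φ i₀) i)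
    (LinearMap.pi fun i => LinearMap.codRestrict (Nmod φ i₀) (Matrix.mulVecLin (Pm φ i₀ i))
      (fun u => (Matrix.mulVecLin_apply (Pm φ i₀ i) u).symm ▸ Pm_mulVec_mem φ i₀ i u))
    (by
      refine LinearMap.ext fun u => ?_
      simp only [LinearMap.comp_apply, LinearMap.sum_apply, LinearMap.pi_apply,
        LinearMap.proj_apply, Submodule.subtype_apply, LinearMap.codRestrict_apply,
        Matrix.mulVecLin_apply, Matrix.mulVec_mulVec, Pm_mul_same, LinearMap.id_apply]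
      rw [← Matrix.sum_mulVec, sum_Pm, Matrix.one_mulVec])
    (by
      refine LinearMap.ext fun v => funext fun j => Subtype.ext ?_
      simp only [LinearMap.comp_apply, LinearMap.sum_apply, LinearMap.pi_apply,
        LinearMap.proj_apply, Submodule.subtype_apply, LinearMap.codRestrict_apply,
        Matrix.mulVecLin_apply, LinearMap.id_apply]
      rw [Matrix.mulVec_sum, Finset.sum_eq_single j]
      · rw [Matrix.mulVec_mulVec, Pm_mul_same]
        exact (mem_Nmod φ i₀).1 (v j).2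
      · intro i _ hi
        rw [Matrix.mulVec_mulVec, Pm_mul_of_ne φ i₀ i₀ (Ne.symm hi), Matrix.zero_mulVec]
      · intro h; exact absurd (Finset.mem_univ j) h)

lemma Psi_apply (v : Fin n → Nmod φ i₀) :
    Psi φ i₀ v = ∑ i, Pm φ i i₀ *ᵥ (v i).1 := by
  simp [Psi]

lemma Psi_T (A : Matrix (Fin n) (Fin n) R) (v : Fin n → Nmod φ i₀) :
    Psi φ i₀ (T (Nmod φ i₀) A v) = φ A *ᵥ Psi φ i₀ v := by
  rw [Psi_apply, Psi_apply, Matrix.mulVec_sum]
  simp only [Matrix.mulVec_mulVec, map_mul_Pm, T_apply, Submodule.coe_sum, Submodule.coe_smul,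
    Matrix.mulVec_sum, Matrix.mulVec_smul, Matrix.sum_mulVec, Matrix.smul_mulVec]
  exact Finset.sum_comm

end Backward

section Final

theorem inner_of_free (hn : 1 ≤ n)
    (H : ∀ (N : Type u) [AddCommGroup N] [Module R N] [Module.Invertible R N],
        Nonempty ((Fin n → N) ≃ₗ[R] (Fin n → R)) → Module.Free R N)
    (φ : Matrix (Fin n) (Fin n) R ≃ₐ[R] Matrix (Fin n) (Fin n) R) :
    ∃ P : GL (Fin n) R, ∀ A : Matrix (Fin n) (Fin n) R, φ A = P.1 * A * (P⁻¹).1 := by
  let i₀ : Fin n := ⟨0, hn⟩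
  have hfree : Module.Free R (Nmod φ i₀) := H (Nmod φ i₀) ⟨Psi φ i₀⟩
  obtain ⟨ε⟩ := Module.Invertible.free_iff_linearEquiv.1 hfree
  let Θ : (Fin n → R) ≃ₗ[R] (Fin n → R) :=
    (LinearEquiv.piCongrRight fun _ : Fin n => ε.symm).trans (Psi φ i₀)
  refine inner_of_intertwine φ Θ fun A c => ?_
  change Psi φ i₀ (fun i => ε.symm ((A *ᵥ c) i)) = φ A *ᵥ Psi φ i₀ (fun i => ε.symm (c i))
  rw [← Psi_T]
  congr 1
  funext i
  rw [T_apply]
  simp only [Matrix.mulVec, dotProduct, map_sum, ← map_smul, smul_eq_mul]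

end Final

end Groth.Agent.H81.InnerAut
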