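import Mathlib
import Groth.Agent.H81.InnerAut

set_option autoImplicit false
universe u

namespace Groth.Agent.H81.InnerAutDet

open Matrix TensorProduct Groth.Agent.H81.InnerAut

variable {R : Type u} [CommRing R] {n : ℕ}
  (φ : Matrix (Fin n) (Fin n) R ≃ₐ[R] Matrix (Fin n) (Fin n) R) (i₀ : Fin n)

lemma tmul_eq (v : Nmod φ i₀) (w : Nmod' φ i₀) :
    v ⊗ₜ[R] w = pairing φ i₀ v w • unitElt φ i₀ := by
  rw [← tau_smul_Pm, ← Groth.Agent.H81.InnerAut.vecMulVec_eq, tau_vecMulVec]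

/-- the dot product pairing `N × N' → R`. -/
def cpair (v : Nmod φ i₀) (w : Nmod' φ i₀) : R := w.1 ⬝ᵥ v.1

lemma cpair_ygen (k : Fin n) (x : Nmod φ i₀) : cpair φ i₀ x (ygen φ i₀ k) = x.1 k := by
  unfold cpair
  conv_rhs => rw [← (mem_Nmod φ i₀).1 x.2]
  simp only [dotProduct, ygen_apply, Matrix.mulVec]

lemma cpair_smul (x v : Nmod φ i₀) (w : Nmod' φ i₀) :
    cpair φ i₀ x w • v = pairing φ i₀ v w • x := by
  let κ : Nmod φ i₀ ⊗[R] Nmod' φ i₀ →ₗ[R] Nmod φ i₀ :=
    TensorProduct.lift (LinearMap.mk₂ R (fun v w => cpair φ i₀ x w • v)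
      (by intro v v' w; simp [smul_add])
      (by intro c v w; rw [smul_comm])
      (by intro v w w'; simp [cpair, add_smul])
      (by intro c v w; simp [cpair, mul_smul]))
  have h1 := congrArg κ (tmul_eq φ i₀ v w)
  rw [map_smul] at h1
  have h2 : κ (unitElt φ i₀) = x := by
    unfold unitElt
    rw [map_sum]
    refine Eq.trans (Finset.sum_congr rfl fun k _ => ?_) (sum_smul_xgen φ i₀ x)
    change cpair φ i₀ x (ygen φ i₀ k) • xgen φ i₀ k = _
    rw [cpair_ygen]
  rw [h2] at h1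
  exact h1

lemma pairing_symm (x v : Nmod φ i₀) (w : Nmod' φ i₀) :
    pairing φ i₀ v w • x = pairing φ i₀ x w • v := by
  let κ : Nmod φ i₀ ⊗[R] Nmod φ i₀ →ₗ[R] Nmod φ i₀ :=
    TensorProduct.lift (LinearMap.mk₂ R (fun v x => pairing φ i₀ v w • x)
      (by intro v v' x; simp [add_smul])
      (by intro c v x; simp [mul_smul])
      (by intro v x x'; simp [smul_add])
      (by intro c v x; rw [smul_comm]))
  have := congrArg κ (Module.Invertible.tmul_comm (R := R) (m₁ := v) (m₂ := x))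
  simpa [κ] using this

lemma cpair_eq_pairing (x : Nmod φ i₀) (w : Nmod' φ i₀) :
    cpair φ i₀ x w = pairing φ i₀ x w := by
  refine eq_of_smul_eq_smul (α := Nmod φ i₀) fun v => ?_
  rw [cpair_smul, pairing_symm]

lemma sum_cpair_gen : ∑ k, cpair φ i₀ (xgen φ i₀ k) (ygen φ i₀ k) = 1 := by
  simp only [cpair_eq_pairing]
  exact sum_pairing_gen φ i₀

lemma cpair_symm (x v : Nmod φ i₀) (w : Nmod' φ i₀) :
    cpair φ i₀ v w • x = cpair φ i₀ x w • v := by
  rw [cpair_eq_pairing, cpair_eq_pairing, pairing_symm]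

/-- the multilinear map `D(v) = det[P_{i0} v_i]`. -/
noncomputable def Dml : MultilinearMap R (fun _ : Fin n => Nmod φ i₀) R :=
  (Matrix.detRowAlternating (n := Fin n) (R := R)).toMultilinearMap.compLinearMap
    (fun i => (Matrix.mulVecLin (Pm φ i i₀)) ∘ₗ (Nmod φ i₀).subtype)

lemma Dml_apply (v : Fin n → Nmod φ i₀) :
    Dml φ i₀ v = Matrix.det (Matrix.of fun i => Pm φ i i₀ *ᵥ (v i).1) := rfl

/-- the multilinear map `D'(w) = det[w_j P_{0j}]`. -/
noncomputable def Dml' : MultilinearMap R (fun _ : Fin n => Nmod' φ i₀) R :=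
  (Matrix.detRowAlternating (n := Fin n) (R := R)).toMultilinearMap.compLinearMap
    (fun j => (Matrix.vecMulLinear (Pm φ i₀ j)) ∘ₗ (Nmod' φ i₀).subtype)

lemma Dml'_apply (w : Fin n → Nmod' φ i₀) :
    Dml' φ i₀ w = Matrix.det (Matrix.of fun j => (w j).1 ᵥ* Pm φ i₀ j) := rfl

lemma Dml'_mul_Dml (v : Fin n → Nmod φ i₀) (w : Fin n → Nmod' φ i₀) :
    Dml' φ i₀ w * Dml φ i₀ v = ∏ j, cpair φ i₀ (v j) (w j) := by
  rw [Dml_apply, Dml'_apply,
    ← Matrix.det_transpose (Matrix.of fun i => Pm φ i i₀ *ᵥ (v i).1), ← Matrix.det_mul]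
  have : (Matrix.of fun j => (w j).1 ᵥ* Pm φ i₀ j) *
      (Matrix.of fun i => Pm φ i i₀ *ᵥ (v i).1)ᵀ =
      Matrix.diagonal (fun j => cpair φ i₀ (v j) (w j)) := by
    ext j i
    rw [Matrix.mul_apply]
    change ((w j).1 ᵥ* Pm φ i₀ j) ⬝ᵥ (Pm φ i i₀ *ᵥ (v i).1) = _
    rw [← Matrix.dotProduct_mulVec, Matrix.mulVec_mulVec]
    by_cases h : j = i
    · subst h
      rw [Pm_mul_same, (mem_Nmod φ i₀).1 (v j).2, Matrix.diagonal_apply_eq]
      rfl
    · rw [Pm_mul_of_ne φ i₀ i₀ h, Matrix.zero_mulVec, dotProduct_zero,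
        Matrix.diagonal_apply_ne _ h]
  rw [this, Matrix.det_diagonal]

/-- the candidate generator of `N^{⊗ n}`. -/
noncomputable def powUnit : ⨂[R] _ : Fin n, Nmod φ i₀ :=
  ∑ κ : Fin n → Fin n, Dml' φ i₀ (fun j => ygen φ i₀ (κ j)) •
    PiTensorProduct.tprod R (fun j => xgen φ i₀ (κ j))

lemma sum_cpair_smul_xgen (v : Nmod φ i₀) :
    ∑ k, cpair φ i₀ v (ygen φ i₀ k) • xgen φ i₀ k = v := by
  simp only [cpair_ygen]
  exact sum_smul_xgen φ i₀ v

/-- `N^{⊗ n} ≃ R`. -/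
noncomputable def tensorPowEquiv : (⨂[R] _ : Fin n, Nmod φ i₀) ≃ₗ[R] R :=
  LinearEquiv.ofLinearMap (PiTensorProduct.lift (Dml φ i₀))
    (LinearMap.toSpanSingleton R _ (powUnit φ i₀))
    (by
      refine LinearMap.ext_ring ?_
      simp only [LinearMap.comp_apply, LinearMap.toSpanSingleton_apply, one_smul,
        LinearMap.id_apply]
      unfold powUnit
      rw [map_sum]
      simp only [map_smul, PiTensorProduct.lift.tprod, smul_eq_mul, Dml'_mul_Dml]
      have := Finset.prod_univ_sum (fun _ : Fin n => (Finset.univ : Finset (Fin n)))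
        (fun _ k => cpair φ i₀ (xgen φ i₀ k) (ygen φ i₀ k))
      rw [Fintype.piFinset_univ] at this
      rw [← this]
      simp [sum_cpair_gen])
    (by
      refine PiTensorProduct.ext (MultilinearMap.ext fun v => ?_)
      simp only [LinearMap.compMultilinearMap_apply, LinearMap.comp_apply,
        PiTensorProduct.lift.tprod, LinearMap.toSpanSingleton_apply, LinearMap.id_apply]
      unfold powUnit
      rw [Finset.smul_sum]
      have h1 : ∀ κ : Fin n → Fin n,
          Dml φ i₀ v • Dml' φ i₀ (fun j => ygen φ i₀ (κ j)) •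
            PiTensorProduct.tprod R (fun j => xgen φ i₀ (κ j)) =
          PiTensorProduct.tprod R
            (fun j => cpair φ i₀ (v j) (ygen φ i₀ (κ j)) • xgen φ i₀ (κ j)) := by
        intro κ
        rw [smul_smul, mul_comm, Dml'_mul_Dml, MultilinearMap.map_smul_univ]
      rw [Finset.sum_congr rfl fun κ _ => h1 κ]
      rw [← MultilinearMap.map_sum (PiTensorProduct.tprod R)
        (fun j k => cpair φ i₀ (v j) (ygen φ i₀ k) • xgen φ i₀ k)]
      congr 1
      funext j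
      exact sum_cpair_smul_xgen φ i₀ (v j))

section Liftings

/-- the module of liftings `{M | M N = φ(N) M}`. -/
def Lker : Submodule R (Matrix (Fin n) (Fin n) R) :=
  LinearMap.ker (LinearMap.mul R (Matrix (Fin n) (Fin n) R) -
    (LinearMap.lcomp R (Matrix (Fin n) (Fin n) R) φ.toLinearMap).comp
      (LinearMap.mul R (Matrix (Fin n) (Fin n) R)).flip)

lemma mem_Lker {M : Matrix (Fin n) (Fin n) R} :
    M ∈ Lker φ ↔ ∀ N : Matrix (Fin n) (Fin n) R, M * N = φ N * M := by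
  rw [Lker, LinearMap.mem_ker, LinearMap.sub_apply, sub_eq_zero]
  constructor
  · intro h N
    have := LinearMap.congr_fun h N
    simpa using this
  · intro h
    refine LinearMap.ext fun N => ?_
    simpa using h N

/-- the matrix with `i`-th column `P_{i0} v`. -/
def Mcol (v : Fin n → R) : Matrix (Fin n) (Fin n) R :=
  Matrix.of fun k i => (Pm φ i i₀ *ᵥ v) k

lemma Mcol_mulVec_single (v : Fin n → R) (i : Fin n) :
    Mcol φ i₀ v *ᵥ Pi.single i 1 = Pm φ i i₀ *ᵥ v := by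
  funext k
  simp [Mcol]

lemma Mcol_mem (v : Fin n → R) : Mcol φ i₀ v ∈ Lker φ := by
  rw [mem_Lker]
  intro N
  ext k l
  rw [Matrix.mul_apply, Matrix.mul_apply]
  have h1 : ∑ j, φ N k j * Mcol φ i₀ v j l = ((φ N * Pm φ l i₀) *ᵥ v) k := by
    rw [← Matrix.mulVec_mulVec]
    rfl
  rw [h1, map_mul_Pm, Matrix.sum_mulVec, Finset.sum_apply]
  refine Finset.sum_congr rfl fun j _ => ?_
  rw [Matrix.smul_mulVec, Pi.smul_apply, smul_eq_mul, mul_comm]
  rfl

lemma single_mulVec_single (i j : Fin n) :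
    Matrix.single i j (1 : R) *ᵥ Pi.single j 1 = Pi.single i 1 := by
  rw [Matrix.mulVec_single_one]
  funext k
  simp [Matrix.col, Matrix.single_apply, Pi.single_apply, eq_comm]

/-- `L ≃ N`. -/
def LkerEquiv : Lker φ ≃ₗ[R] Nmod φ i₀ where
  toFun M := ⟨M.1 *ᵥ Pi.single i₀ 1, by
    rw [mem_Nmod, Matrix.mulVec_mulVec]
    unfold Pm
    rw [← (mem_Lker φ).1 M.2, ← Matrix.mulVec_mulVec, single_mulVec_single]⟩
  map_add' M M' := by
    apply Subtype.ext
    exact Matrix.add_mulVec M.1 M'.1 (Pi.single i₀ 1)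
  map_smul' c M := by
    apply Subtype.ext
    exact Matrix.smul_mulVec c M.1 (Pi.single i₀ 1)
  invFun v := ⟨Mcol φ i₀ v.1, Mcol_mem φ i₀ v.1⟩
  left_inv M := by
    apply Subtype.ext
    ext k i
    change (Pm φ i i₀ *ᵥ (M.1 *ᵥ Pi.single i₀ 1)) k = M.1 k i
    rw [Matrix.mulVec_mulVec]
    unfold Pm
    rw [← (mem_Lker φ).1 M.2, ← Matrix.mulVec_mulVec, single_mulVec_single,
      Matrix.mulVec_single_one]
    rfl
  right_inv v := by
    apply Subtype.ext
    change Mcol φ i₀ v.1 *ᵥ Pi.single i₀ 1 = v.1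
    rw [Mcol_mulVec_single]
    exact (mem_Nmod φ i₀).1 v.2

theorem liftings_invertible_and_torsion (hn : 0 < n) :
    Module.Invertible R (Lker φ) ∧ Nonempty ((⨂[R] _ : Fin n, Lker φ) ≃ₗ[R] R) := by
  let i₀ : Fin n := ⟨0, hn⟩
  exact ⟨Module.Invertible.congr (LkerEquiv φ i₀).symm,
    ⟨(PiTensorProduct.congr fun _ => LkerEquiv φ i₀).trans (tensorPowEquiv φ i₀)⟩⟩

end Liftings

end Groth.Agent.H81.InnerAutDet
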