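import Groth.Agent.H81.LCAnnDual
import Groth.Agent.H2.MatlisLength
import Groth.Agent.S6291
import Groth.Agent.S6292

/-!
# Finite length of local cohomology via local duality  (helper81)

`R` a Noetherian local ring, quotient of a Gorenstein local ring, `M` finite:
`isFiniteLength_H_iff` : `H^i_m(M)` has finite length iff `m ⊆ √Ann H^i_m(M)`.
-/

set_option autoImplicit false
set_option linter.style.haveILetI false
set_option linter.unusedSectionVars false
universe u
open CategoryTheory Abelian IsLocalRing

namespace Groth.Agent.H81.LCFinLen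

open Groth.Agent.H81.LCAnnDual

theorem isFiniteLength_of_semilinear {R' R : Type*} [CommRing R'] [CommRing R] [Algebra R' R]
    (hg : Function.Surjective (algebraMap R' R)) {H H' : Type*} [AddCommGroup H] [Module R H]
    [AddCommGroup H'] [Module R' H'] (φ : H ≃+ H')
    (hφ : ∀ (r : R') (x : H), φ (algebraMap R' R r • x) = r • φ x) (h : IsFiniteLength R' H') :
    IsFiniteLength R H := by
  haveI : RingHomSurjective (algebraMap R' R) := ⟨hg⟩
  let l : H' →ₛₗ[algebraMap R' R] H :=
    { toFun := φ.symm
      map_add' := map_add φ.symm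
      map_smul' := fun r y => by
        apply φ.injective
        rw [hφ]
        simp }
  have hl : Function.Bijective l := φ.symm.bijective
  rw [isFiniteLength_iff_isNoetherian_isArtinian] at h ⊢
  exact ⟨(l.isNoetherian_iff_of_bijective hl).mp h.1, (l.isArtinian_iff_of_bijective hl).mp h.2⟩

section FL

variable (R' : Type u) [CommRing R'] [LocCoh.IsGorensteinLocalRing R'] (R : Type u) [CommRing R]
  [IsNoetherianRing R] [IsLocalRing R] [Algebra R' R]
  (hg : Function.Surjective (algebraMap R' R)) (M : Type u) [AddCommGroup M] [Module R M]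
  [Module R' M] [IsScalarTower R' R M] [Module.Finite R M]

include hg in
theorem isFiniteLength_H_iff (i : ℕ) :
    IsFiniteLength R (LocCoh.H (maximalIdeal R) i M) ↔
      maximalIdeal R ≤ (Module.annihilator R (LocCoh.H (maximalIdeal R) i M)).radical := by
  constructor
  · intro h a ha
    obtain ⟨n, hn⟩ := Groth.Agent.S6291.result (LocCoh.H (maximalIdeal R) i M) h
    refine ⟨n, ?_⟩
    rw [Module.mem_annihilator]
    intro x
    have : a ^ n • x ∈ (maximalIdeal R) ^ n • (⊤ : Submodule R (LocCoh.H (maximalIdeal R) i M)) :=
      Submodule.smul_mem_smul (Ideal.pow_mem_pow ha n) trivial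
    rw [hn] at this
    exact this
  · intro h
    obtain ⟨d, hd⟩ := Groth.Agent.H2.GorensteinGlobal.exists_nat_ringKrullDim_eq R'
    haveI : Module.Finite R' R := Module.Finite.of_surjective (Algebra.linearMap R' R) hg
    haveI : Module.Finite R' M := Module.Finite.trans R M
    by_cases hid : d < i
    · haveI := subsingleton_H_of_dim_lt R' R hg M d i hd hid
      exact IsFiniteLength.of_subsingleton
    rw [not_lt] at hid
    obtain ⟨e, he⟩ : ∃ e, i + e = d := ⟨d - i, by omega⟩
    obtain ⟨N, hN⟩ := Ideal.exists_pow_le_of_le_radical_of_fg h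
      (IsNoetherian.noetherian (maximalIdeal R))
    -- `m_{R'}^N` kills `Ext`
    have hX : (maximalIdeal R') ^ N •
        (⊤ : Submodule R' (Ext.{u} (ModuleCat.of R' M) (ModuleCat.of R' R') e)) = ⊥ := by
      rw [eq_bot_iff]
      rw [Submodule.smul_le]
      intro a' ha' y _
      rw [Submodule.mem_bot]
      refine (forall_smul_H_eq_zero_iff R' R hg M d e i hd he a').mp ?_ y
      intro x
      have h1 : algebraMap R' R a' ∈ (maximalIdeal R) ^ N := by
        rw [← map_maximalIdeal R' R hg, ← Ideal.map_pow]
        exact Ideal.mem_map_of_mem _ ha'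
      exact Module.mem_annihilator.mp (hN h1) x
    haveI : Module.Finite R' (ModuleCat.of R' M) := ‹_›
    haveI : Module.Finite R' (ModuleCat.of R' R') := Module.Finite.self R'
    have hfl : IsFiniteLength R' (Ext.{u} (ModuleCat.of R' M) (ModuleCat.of R' R') e) :=
      Groth.Agent.S6292.result (maximalIdeal R') (IsNoetherian.noetherian _) _ N hX
    obtain ⟨E, _, _, f, hf⟩ := Groth.Agent.H2.exists_isInjectiveHull (R := R') (ResidueField R')
    obtain ⟨D⟩ := Groth.Agent.H2.GorDuality.nonempty_dual R' d hd E f hf e i he M
    have hfl2 : IsFiniteLength R'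
        (Ext.{u} (ModuleCat.of R' M) (ModuleCat.of R' R') e →ₗ[R'] E) := by
      rw [← Module.length_ne_top_iff, Groth.Agent.H2.MatlisLength.length_dual_eq f hf hfl]
      exact Module.length_ne_top_iff.mpr hfl
    have hfl3 : IsFiniteLength R' (LocCoh.H (maximalIdeal R') i M) := by
      rw [← Module.length_ne_top_iff, D.length_eq]
      exact Module.length_ne_top_iff.mpr hfl2
    have key := Groth.Agent.H58.LC.indepProp (R := R') (R' := R) (maximalIdeal R') i M
    rw [map_maximalIdeal R' R hg] at key
    obtain ⟨φ, hφ⟩ := key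
    exact isFiniteLength_of_semilinear hg φ hφ hfl3

end FL

end Groth.Agent.H81.LCFinLen
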