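import Mathlib
import Groth.Prelude.Def_W4c3cyccovratcurvTree

set_option autoImplicit false

namespace Groth.Agent.H81.MTree

open W4c3cyccovratcurv SimpleGraph

variable {V : Type*}

/-- No triangles in an acyclic graph. -/
theorem no_triangle {G : SimpleGraph V} (hG : G.IsAcyclic) {a b c : V}
    (hab : G.Adj a b) (hbc : G.Adj b c) (hac : G.Adj a c) : False := by
  have hbr := (isAcyclic_iff_forall_adj_isBridge.mp hG) hac
  rw [isBridge_iff] at hbr
  apply hbr
  have h1 : (G.deleteEdges {s(a, c)}).Adj a b := by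
    rw [deleteEdges_adj]
    refine ⟨hab, ?_⟩
    simp only [Set.mem_singleton_iff, Sym2.eq_iff, not_or, not_and]
    refine ⟨fun _ h => hbc.ne h, fun h _ => hac.ne h⟩
  have h2 : (G.deleteEdges {s(a, c)}).Adj b c := by
    rw [deleteEdges_adj]
    refine ⟨hbc, ?_⟩
    simp only [Set.mem_singleton_iff, Sym2.eq_iff, not_or, not_and]
    refine ⟨fun h _ => hab.ne h.symm, fun h _ => hbc.ne h⟩
  exact h1.reachable.trans h2.reachable

/-- The slide move: detach `x` from `w` and attach it to `c`. -/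
def slide (G : SimpleGraph V) (c w x : V) : SimpleGraph V :=
  G.deleteEdges {s(w, x)} ⊔ SimpleGraph.fromEdgeSet {s(c, x)}

theorem slide_adj {G : SimpleGraph V} {c w x a b : V} :
    (slide G c w x).Adj a b ↔ (G.Adj a b ∧ s(a, b) ≠ s(w, x)) ∨ (s(a, b) = s(c, x) ∧ a ≠ b) := by
  simp [slide]

theorem slide_connected {G : SimpleGraph V} (hG : G.Connected) {c w x : V}
    (hcw : G.Adj c w) (hwx : G.Adj w x) (hcx : c ≠ x) : (slide G c w x).Connected := by
  have hne := hG.nonempty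
  have key : ∀ a b, G.Adj a b → (slide G c w x).Reachable a b := by
    intro a b hab
    by_cases he : s(a, b) = s(w, x)
    · have h1 : (slide G c w x).Adj w c := by
        rw [slide_adj]; left
        refine ⟨hcw.symm, ?_⟩
        simp only [ne_eq, Sym2.eq_iff, not_or, not_and]
        exact ⟨fun _ h => hcx h, fun h _ => hwx.ne h⟩
      have h2 : (slide G c w x).Adj c x := by
        rw [slide_adj]; right
        exact ⟨rfl, hcx⟩
      have h3 : (slide G c w x).Reachable w x := h1.reachable.trans h2.reachable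
      rw [Sym2.eq_iff] at he
      rcases he with ⟨rfl, rfl⟩ | ⟨rfl, rfl⟩
      · exact h3
      · exact h3.symm
    · exact (slide_adj.mpr (Or.inl ⟨hab, he⟩)).reachable
  have key2 : ∀ a b, G.Reachable a b → (slide G c w x).Reachable a b := by
    rintro a b ⟨p⟩
    induction p with
    | nil => exact Reachable.refl _
    | cons h p ih => exact (key _ _ h).trans ih
  exact ⟨fun a b => key2 a b (hG.preconnected a b)⟩

theorem slide_edgeSet {G : SimpleGraph V} {c w x : V} (hcx : c ≠ x) :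
    (slide G c w x).edgeSet = insert s(c, x) (G.edgeSet \ {s(w, x)}) := by
  ext e
  induction e with | h a b
  simp only [mem_edgeSet, slide_adj, Set.mem_insert_iff, Set.mem_sdiff, Set.mem_singleton_iff]
  constructor
  · rintro (⟨h1, h2⟩ | ⟨h1, h2⟩)
    · exact Or.inr ⟨h1, h2⟩
    · exact Or.inl h1
  · rintro (h | ⟨h1, h2⟩)
    · refine Or.inr ⟨h, ?_⟩
      rintro rfl
      rw [Sym2.eq_iff] at h
      rcases h with ⟨rfl, rfl⟩ | ⟨rfl, rfl⟩ <;> exact hcx rfl
    · exact Or.inl ⟨h1, h2⟩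

theorem slide_card [Finite V] {G : SimpleGraph V} {c w x : V} (hwx : G.Adj w x) (hcx : c ≠ x)
    (hncx : ¬ G.Adj c x) : Nat.card (slide G c w x).edgeSet = Nat.card G.edgeSet := by
  rw [slide_edgeSet hcx, Nat.card_coe_set_eq, Nat.card_coe_set_eq]
  have hfin : G.edgeSet.Finite := Set.toFinite _
  rw [Set.ncard_insert_of_notMem]
  · exact Set.ncard_sdiff_singleton_add_one (by simpa using hwx) hfin
  · intro h
    exact hncx (by simpa using h.1)

theorem slide_isTree [Finite V] {G : SimpleGraph V} (hG : G.IsTree) {c w x : V}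
    (hcw : G.Adj c w) (hwx : G.Adj w x) (hcx : c ≠ x) : (slide G c w x).IsTree := by
  have hncx : ¬ G.Adj c x := fun h => no_triangle hG.isAcyclic hcw hwx h
  rw [isTree_iff_connected_and_card]
  refine ⟨slide_connected hG.connected hcw hwx hcx, ?_⟩
  rw [slide_card hwx hcx hncx]
  exact (isTree_iff_connected_and_card.mp hG).2

theorem conicAdj_symm {k : ℕ} {T₁ T₂ : MarkedTree k} (h : ConicAdj T₁ T₂) : ConicAdj T₂ T₁ := by
  obtain ⟨u₁, w₁, u₂, w₂, h₁, h₂, φ, hφ, hm⟩ := h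
  refine ⟨u₂, w₂, u₁, w₁, h₂, h₁, φ.symm, ?_, ?_⟩
  · rw [← hφ]; exact φ.symm_apply_apply _
  · intro i; rw [← hm i]; exact φ.symm_apply_apply _

theorem conicAdj_of_contract_eq {k n : ℕ} {G G' : SimpleGraph (Fin n)} (hG : G.IsTree)
    (hG' : G'.IsTree) (m m' : Fin k → Fin n) {c w : Fin n} (h : G.Adj c w) (h' : G'.Adj c w)
    (hadj : ∀ a b, (contract G' c w).Adj a b ↔ (contract G c w).Adj a b)
    (hm : ∀ i, contractMark m c w h.ne i = contractMark m' c w h'.ne i) :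
    ConicAdj ⟨n, G, hG, m⟩ ⟨n, G', hG', m'⟩ :=
  ⟨c, w, c, w, h, h', ⟨Equiv.refl _, fun {a b} => hadj a b⟩, rfl, hm⟩

theorem conicAdj_markMove {k n : ℕ} {G : SimpleGraph (Fin n)} (hG : G.IsTree)
    (m : Fin k → Fin n) {c : Fin n} (i : Fin k) (h : G.Adj c (m i)) :
    ConicAdj ⟨n, G, hG, m⟩ ⟨n, G, hG, Function.update m i c⟩ := by
  refine conicAdj_of_contract_eq hG hG m _ h h (fun a b => Iff.rfl) ?_
  intro j
  unfold contractMark
  by_cases hj : j = i
  · subst hj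
    simp [h.ne]
  · rw [Function.update_of_ne hj]

theorem contract_adj {n : ℕ} {G : SimpleGraph (Fin n)} {u w : Fin n}
    {a b : {v : Fin n // v ≠ w}} :
    (contract G u w).Adj a b ↔ a ≠ b ∧ ((G.Adj a.1 b.1 ∨ (a.1 = u ∧ G.Adj w b.1)) ∨
      (G.Adj b.1 a.1 ∨ (b.1 = u ∧ G.Adj w a.1))) := by
  simp [contract, SimpleGraph.fromRel_adj]

theorem contract_slide_adj {n : ℕ} {G : SimpleGraph (Fin n)}
    {c w x : Fin n} (hcw : G.Adj c w) (hwx : G.Adj w x)
    (a b : Fin n) (ha : a ≠ w) (hb : b ≠ w) :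
    (contract (slide G c w x) c w).Adj ⟨a, ha⟩ ⟨b, hb⟩ ↔
      (contract G c w).Adj ⟨a, ha⟩ ⟨b, hb⟩ := by
  rw [contract_adj, contract_adj]
  simp only [slide_adj, ne_eq, Sym2.eq_iff, Subtype.mk.injEq]
  have hwc : w ≠ c := hcw.ne'
  have hwx' : w ≠ x := hwx.ne
  have hxw : G.Adj x w := hwx.symm
  constructor
  · rintro ⟨hab, h⟩
    refine ⟨hab, ?_⟩
    rcases h with (((⟨h1, -⟩ | ⟨(⟨rfl, rfl⟩ | ⟨rfl, rfl⟩), -⟩) | ⟨rfl, (⟨h1, -⟩ | ⟨h1, -⟩)⟩) |
      ((⟨h1, -⟩ | ⟨(⟨rfl, rfl⟩ | ⟨rfl, rfl⟩), -⟩) | ⟨rfl, (⟨h1, -⟩ | ⟨h1, -⟩)⟩))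
    all_goals first
      | exact Or.inl (Or.inl h1)
      | exact Or.inr (Or.inl h1)
      | exact Or.inl (Or.inr ⟨rfl, h1⟩)
      | exact Or.inr (Or.inr ⟨rfl, h1⟩)
      | exact Or.inl (Or.inr ⟨rfl, hwx⟩)
      | exact Or.inr (Or.inr ⟨rfl, hwx⟩)
      | (exfalso; rcases h1 with ⟨h2, h3⟩ | ⟨h2, h3⟩ <;> first | exact hwc h2 | exact hwx' h2)
  · rintro ⟨hab, h⟩
    refine ⟨hab, ?_⟩
    have e1 : ∀ {p q : Fin n}, p ≠ w → q ≠ w → ¬(p = w ∧ q = x ∨ p = x ∧ q = w) := by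
      rintro p q hp hq (⟨h, -⟩ | ⟨-, h⟩)
      · exact hp h
      · exact hq h
    have e2 : ∀ {q : Fin n}, q ≠ x → ¬(True ∧ q = x ∨ w = x ∧ q = w) := by
      rintro q hq (⟨-, h⟩ | ⟨h, -⟩)
      · exact hq h
      · exact hwx' h
    rcases h with ((h1 | ⟨rfl, h1⟩) | (h1 | ⟨rfl, h1⟩))
    · exact Or.inl (Or.inl (Or.inl ⟨h1, e1 ha hb⟩))
    · by_cases hbx : b = x
      · subst hbx
        exact Or.inl (Or.inl (Or.inr ⟨Or.inl ⟨rfl, rfl⟩, hab⟩))
      · exact Or.inl (Or.inr ⟨rfl, Or.inl ⟨h1, e2 hbx⟩⟩)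
    · exact Or.inr (Or.inl (Or.inl ⟨h1, e1 hb ha⟩))
    · by_cases hax : a = x
      · subst hax
        exact Or.inr (Or.inl (Or.inr ⟨Or.inl ⟨rfl, rfl⟩, fun h => hab h.symm⟩))
      · exact Or.inr (Or.inr ⟨rfl, Or.inl ⟨h1, e2 hax⟩⟩)

theorem conicAdj_slide {k n : ℕ} {G : SimpleGraph (Fin n)} (hG : G.IsTree)
    (m : Fin k → Fin n) {c w x : Fin n} (hcw : G.Adj c w) (hwx : G.Adj w x) (hcx : c ≠ x) :
    ConicAdj ⟨n, G, hG, m⟩ ⟨n, slide G c w x, slide_isTree hG hcw hwx hcx, m⟩ := by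
  have hcw' : (slide G c w x).Adj c w := by
    rw [slide_adj]; left
    refine ⟨hcw, ?_⟩
    simp only [ne_eq, Sym2.eq_iff, not_or, not_and]
    exact ⟨fun h _ => hcw.ne h, fun h _ => hcx h⟩
  refine conicAdj_of_contract_eq hG _ m m hcw hcw' ?_ (fun i => rfl)
  rintro ⟨a, ha⟩ ⟨b, hb⟩
  exact contract_slide_adj hcw hwx a b ha hb


theorem exists_slide_target {G : SimpleGraph V} (hG : G.Connected) {c v : V} (hv : v ≠ c)
    (hnv : ¬ G.Adj c v) : ∃ w x, G.Adj c w ∧ G.Adj w x ∧ c ≠ x ∧ ¬ G.Adj c x := by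
  obtain ⟨p⟩ := hG.preconnected c v
  obtain ⟨d, -, hd1, hd2⟩ := p.exists_boundary_dart {a | a = c ∨ G.Adj c a} (Or.inl rfl)
    (by simp [hv, hnv])
  simp only [Set.mem_ofPred_eq, not_or] at hd1 hd2
  rcases hd1 with h | h
  · exact absurd (h ▸ d.adj) hd2.2
  · exact ⟨d.fst, d.snd, h, d.adj, Ne.symm hd2.1, hd2.2⟩

open Classical in
noncomputable def mu {n k : ℕ} (c : Fin n) (G : SimpleGraph (Fin n)) (m : Fin k → Fin n) : ℕ :=
  (Finset.univ.filter fun v => v ≠ c ∧ ¬ G.Adj c v).card +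
    (Finset.univ.filter fun i => m i ≠ c).card

open Classical in
theorem mu_slide_lt {n k : ℕ} (c : Fin n) (G : SimpleGraph (Fin n)) (m : Fin k → Fin n)
    {w x : Fin n} (hcw : c ≠ w) (hcx : c ≠ x) (hncx : ¬ G.Adj c x) :
    mu c (slide G c w x) m < mu c G m := by
  unfold mu
  apply Nat.add_lt_add_right
  apply Finset.card_lt_card
  rw [Finset.ssubset_iff_of_subset]
  · refine ⟨x, by simp [hcx.symm, hncx], ?_⟩
    simp only [Finset.mem_filter, Finset.mem_univ, true_and, not_and, not_not]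
    intro _
    rw [slide_adj]; right; exact ⟨rfl, hcx⟩
  · intro v
    simp only [Finset.mem_filter, Finset.mem_univ, true_and]
    rintro ⟨h1, h2⟩
    refine ⟨h1, fun h => h2 ?_⟩
    rw [slide_adj]; left
    refine ⟨h, ?_⟩
    simp only [ne_eq, Sym2.eq_iff, not_or, not_and]
    exact ⟨fun h _ => hcw h, fun h _ => hcx h⟩

open Classical in
theorem mu_update_lt {n k : ℕ} (c : Fin n) (G : SimpleGraph (Fin n)) (m : Fin k → Fin n)
    (i : Fin k) (hi : m i ≠ c) :
    mu c G (Function.update m i c) < mu c G m := by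
  unfold mu
  apply Nat.add_lt_add_left
  apply Finset.card_lt_card
  rw [Finset.ssubset_iff_of_subset]
  · refine ⟨i, by simp [hi], by simp⟩
  · intro j
    simp only [Finset.mem_filter, Finset.mem_univ, true_and]
    intro h hj
    apply h
    by_cases hji : j = i
    · subst hji; simp
    · rw [Function.update_of_ne hji]; exact hj

theorem to_star {n k : ℕ} (c : Fin n) : ∀ (N : ℕ) (G : SimpleGraph (Fin n)) (hG : G.IsTree)
    (m : Fin k → Fin n), mu c G m = N →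
    ∃ (G' : SimpleGraph (Fin n)) (hG' : G'.IsTree), (∀ v, v ≠ c → G'.Adj c v) ∧
      Relation.ReflTransGen ConicAdj ⟨n, G, hG, m⟩ ⟨n, G', hG', fun _ => c⟩ := by
  intro N
  induction N using Nat.strong_induction_on with
  | _ N ih =>
    intro G hG m hN
    by_cases h1 : ∃ v, v ≠ c ∧ ¬ G.Adj c v
    · obtain ⟨v, hv, hnv⟩ := h1
      obtain ⟨w, x, hcw, hwx, hcx, hncx⟩ := exists_slide_target hG.connected hv hnv
      have hlt : mu c (slide G c w x) m < N := hN ▸ mu_slide_lt c G m hcw.ne hcx hncx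
      obtain ⟨G', hG', hstar, hchain⟩ :=
        ih _ hlt (slide G c w x) (slide_isTree hG hcw hwx hcx) m rfl
      exact ⟨G', hG', hstar, Relation.ReflTransGen.head (conicAdj_slide hG m hcw hwx hcx) hchain⟩
    · push Not at h1
      by_cases h2 : ∃ i, m i ≠ c
      · obtain ⟨i, hi⟩ := h2
        have hadj : G.Adj c (m i) := h1 _ hi
        have hlt : mu c G (Function.update m i c) < N := hN ▸ mu_update_lt c G m i hi
        obtain ⟨G', hG', hstar, hchain⟩ := ih _ hlt G hG _ rfl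
        exact ⟨G', hG', hstar, Relation.ReflTransGen.head (conicAdj_markMove hG m i hadj) hchain⟩
      · push Not at h2
        have hm : m = fun _ => c := funext h2
        subst hm
        exact ⟨G, hG, h1, Relation.ReflTransGen.refl⟩

theorem star_unique {n : ℕ} {G G' : SimpleGraph (Fin n)} (hG : G.IsAcyclic) (hG' : G'.IsAcyclic)
    (c : Fin n) (h : ∀ v, v ≠ c → G.Adj c v) (h' : ∀ v, v ≠ c → G'.Adj c v) : G = G' := by
  have key : ∀ {H : SimpleGraph (Fin n)}, H.IsAcyclic → (∀ v, v ≠ c → H.Adj c v) →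
      ∀ a b, H.Adj a b ↔ (a ≠ b ∧ (a = c ∨ b = c)) := by
    intro H hH hs a b
    constructor
    · intro hab
      refine ⟨hab.ne, ?_⟩
      by_contra hcon
      push Not at hcon
      exact no_triangle hH (hs a hcon.1) hab (hs b hcon.2)
    · rintro ⟨hab, rfl | rfl⟩
      · exact hs b hab.symm
      · exact (hs a hab).symm
  ext a b
  rw [key hG h, key hG' h']

theorem reflTransGen_symm {k : ℕ} {a b : MarkedTree k}
    (h : Relation.ReflTransGen ConicAdj a b) : Relation.ReflTransGen ConicAdj b a := by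
  induction h with
  | refl => exact .refl
  | tail _ hbc ih => exact Relation.ReflTransGen.head (conicAdj_symm hbc) ih

theorem main {k : ℕ} (T₁ T₂ : MarkedTree k) (h : T₁.n = T₂.n) :
    Relation.ReflTransGen ConicAdj T₁ T₂ := by
  obtain ⟨n, G₁, hG₁, m₁⟩ := T₁
  obtain ⟨n₂, G₂, hG₂, m₂⟩ := T₂
  dsimp only at h
  subst h
  obtain ⟨c⟩ := hG₁.connected.nonempty
  obtain ⟨G₁', hG₁', hs₁, hc₁⟩ := to_star c _ G₁ hG₁ m₁ rfl
  obtain ⟨G₂', hG₂', hs₂, hc₂⟩ := to_star c _ G₂ hG₂ m₂ rfl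
  have heq : G₁' = G₂' := star_unique hG₁'.isAcyclic hG₂'.isAcyclic c hs₁ hs₂
  subst heq
  refine hc₁.trans ?_
  exact reflTransGen_symm hc₂

end Groth.Agent.H81.MTree
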