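import Mathlib
import Groth.Agent.H97.Azumaya

set_option autoImplicit false
universe u

namespace Groth.Agent.H81.MoritaEnd

open TensorProduct

variable {A : Type u} [CommRing A] {F G : Type u} [AddCommGroup F] [Module A F]
  [AddCommGroup G] [Module A G]

section L
variable (φ : Module.End A F ≃ₐ[A] Module.End A G)

/-- The module of intertwiners `g : F → G`, `g ∘ f = φ f ∘ g`. -/
def Lmod : Submodule A (F →ₗ[A] G) where
  carrier := {g | ∀ f : Module.End A F, g ∘ₗ f = φ f ∘ₗ g}
  add_mem' := by
    intro g g' hg hg' f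
    rw [LinearMap.add_comp, LinearMap.comp_add, hg f, hg' f]
  zero_mem' := by
    intro f
    rw [LinearMap.zero_comp, LinearMap.comp_zero]
  smul_mem' := by
    intro c g hg f
    rw [LinearMap.smul_comp, LinearMap.comp_smul, hg f]

lemma mem_Lmod {g : F →ₗ[A] G} : g ∈ Lmod φ ↔ ∀ f : Module.End A F, g ∘ₗ f = φ f ∘ₗ g := Iff.rfl

lemma Lmod_apply (g : Lmod φ) (f : Module.End A F) (x : F) : g.1 (f x) = φ f (g.1 x) :=
  LinearMap.congr_fun (g.2 f) x

/-- `g_{x*,u} : x ↦ φ(θ_{x,x*}) u`. -/
def gmap (xs : Module.Dual A F) (u : G) : F →ₗ[A] G where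
  toFun x := φ (LinearMap.smulRight xs x) u
  map_add' x y := by
    have : LinearMap.smulRight xs (x + y) = LinearMap.smulRight xs x + LinearMap.smulRight xs y := by
      ext w; simp
    rw [this, map_add, LinearMap.add_apply]
  map_smul' c x := by
    have : LinearMap.smulRight xs (c • x) = c • LinearMap.smulRight xs x := by
      ext w
      simp only [LinearMap.smulRight_apply, LinearMap.smul_apply]
      rw [smul_comm]
    rw [this, map_smul, LinearMap.smul_apply, RingHom.id_apply]

lemma gmap_apply (xs : Module.Dual A F) (u : G) (x : F) :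
    gmap φ xs u x = φ (LinearMap.smulRight xs x) u := rfl

lemma gmap_mem (xs : Module.Dual A F) (u : G) : gmap φ xs u ∈ Lmod φ := by
  intro f
  refine LinearMap.ext fun x => ?_
  simp only [LinearMap.comp_apply, gmap_apply]
  have : LinearMap.smulRight xs (f x) = f * LinearMap.smulRight xs x := by
    ext w; simp
  rw [this, map_mul, Module.End.mul_apply]

lemma gmap_add (xs : Module.Dual A F) (u v : G) :
    gmap φ xs (u + v) = gmap φ xs u + gmap φ xs v := by
  ext x; simp [gmap_apply]

lemma gmap_smul (xs : Module.Dual A F) (c : A) (u : G) :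
    gmap φ xs (c • u) = c • gmap φ xs u := by
  ext x; simp [gmap_apply]

lemma gmap_of_mem (xs : Module.Dual A F) (g : Lmod φ) (x : F) :
    gmap φ xs (g.1 x) = xs x • g.1 := by
  ext w
  rw [gmap_apply, ← Lmod_apply]
  simp

end L

section DualBasis

variable (A F) in
/-- finite dual basis of a finitely generated projective module. -/
theorem exists_dualBasis [Module.Finite A F] [Module.Projective A F] :
    ∃ (n : ℕ) (x : Fin n → F) (xs : Fin n → Module.Dual A F), ∀ w : F, ∑ i, xs i w • x i = w := by
  obtain ⟨n, f, g, _, _, hfg⟩ := Module.Finite.exists_comp_eq_id_of_projective A F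
  refine ⟨n, fun i => f (Pi.single i 1), fun i => (LinearMap.proj i) ∘ₗ g, fun w => ?_⟩
  have h1 : w = f (g w) := by
    have := LinearMap.congr_fun hfg w
    simpa using this.symm
  have h2 : g w = ∑ i, (g w i) • (Pi.single i (1 : A) : Fin n → A) := by
    ext j
    simp [Finset.sum_apply, Pi.single_apply]
  conv_rhs => rw [h1, h2, map_sum]
  simp

end DualBasis

section Xi
variable (φ : Module.End A F ≃ₐ[A] Module.End A G)

/-- evaluation `F × L → G`. -/
def evalL : F →ₗ[A] Lmod φ →ₗ[A] G :=
  LinearMap.mk₂ A (fun x g => g.1 x)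
    (by intro x y g; simp) (by intro c x g; simp) (by intro x g g'; simp) (by intro c x g; simp)

lemma evalL_apply (x : F) (g : Lmod φ) : evalL φ x g = g.1 x := rfl

/-- `ξ : F ⊗ L ≃ G`, `x ⊗ g ↦ g x`, for a dual basis of `F`. -/
def xiOfBasis {n : ℕ} (x : Fin n → F) (xs : Fin n → Module.Dual A F)
    (hx : ∀ w : F, ∑ i, xs i w • x i = w) : F ⊗[A] Lmod φ ≃ₗ[A] G :=
  LinearEquiv.ofLinearMap (TensorProduct.lift (evalL φ))
    { toFun := fun u => ∑ i, x i ⊗ₜ[A] (⟨gmap φ (xs i) u, gmap_mem φ (xs i) u⟩ : Lmod φ)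
      map_add' := fun u v => by
        rw [← Finset.sum_add_distrib]
        refine Finset.sum_congr rfl fun i _ => ?_
        rw [← TensorProduct.tmul_add]
        congr 1
        exact Subtype.ext (gmap_add φ (xs i) u v)
      map_smul' := fun c u => by
        rw [Finset.smul_sum]
        refine Finset.sum_congr rfl fun i _ => ?_
        rw [RingHom.id_apply, ← TensorProduct.tmul_smul]
        congr 1
        exact Subtype.ext (gmap_smul φ (xs i) c u) }
    (by
      refine LinearMap.ext fun u => ?_
      simp only [LinearMap.comp_apply, LinearMap.coe_mk, AddHom.coe_mk, map_sum,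
        TensorProduct.lift.tmul, evalL_apply, gmap_apply, LinearMap.id_apply]
      rw [← LinearMap.sum_apply, ← map_sum]
      have : ∑ i, LinearMap.smulRight (xs i) (x i) = (1 : Module.End A F) := by
        ext w; simp [hx]
      rw [this, map_one, Module.End.one_apply])
    (by
      refine TensorProduct.ext' fun w g => ?_
      simp only [LinearMap.comp_apply, LinearMap.coe_mk, AddHom.coe_mk,
        TensorProduct.lift.tmul, evalL_apply, LinearMap.id_apply]
      conv_rhs => rw [← hx w, TensorProduct.sum_tmul]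
      refine Finset.sum_congr rfl fun i _ => ?_
      rw [TensorProduct.smul_tmul]
      congr 1
      exact Subtype.ext (gmap_of_mem φ (xs i) g w))

lemma xiOfBasis_tmul {n : ℕ} (x : Fin n → F) (xs : Fin n → Module.Dual A F)
    (hx : ∀ w : F, ∑ i, xs i w • x i = w) (w : F) (g : Lmod φ) :
    xiOfBasis φ x xs hx (w ⊗ₜ[A] g) = g.1 w := rfl

end Xi

section Pairing
variable (φ : Module.End A F ≃ₐ[A] Module.End A G)

lemma comp_central (g : Lmod φ) (h : Lmod φ.symm) (f : Module.End A F) :
    (h.1 ∘ₗ g.1) ∘ₗ f = f ∘ₗ (h.1 ∘ₗ g.1) := by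
  have h1 := g.2 f
  have h2 := h.2 (φ f)
  rw [φ.symm_apply_apply] at h2
  rw [LinearMap.comp_assoc, h1, ← LinearMap.comp_assoc, h2, LinearMap.comp_assoc]

lemma central_eq_smul (z : Module.End A F) (hz : ∀ f : Module.End A F, z ∘ₗ f = f ∘ₗ z)
    (s : Module.Dual A F ⊗[A] F) (x : F) :
    contractLeft A F (LinearMap.lTensor _ z s) • x = z (contractLeft A F s • x) := by
  induction s using TensorProduct.induction_on with
  | zero => simp
  | tmul xs y =>
    have := LinearMap.congr_fun (hz (LinearMap.smulRight xs x)) y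
    simp only [LinearMap.comp_apply, LinearMap.smulRight_apply] at this
    simp only [LinearMap.lTensor_tmul, contractLeft_apply]
    exact this.symm
  | add s s' hs hs' =>
    rw [map_add, map_add, add_smul, hs, hs', map_add, add_smul, map_add]

/-- the pairing `L × L' → A`, `(g,h) ↦` the scalar by which `h ∘ g` acts. -/
def pairingOf (t : Module.Dual A F ⊗[A] F) : Lmod φ →ₗ[A] Lmod φ.symm →ₗ[A] A :=
  LinearMap.mk₂ A (fun g h => contractLeft A F (LinearMap.lTensor _ (h.1 ∘ₗ g.1) t))
    (by
      intro g g' h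
      simp only [Submodule.coe_add, LinearMap.comp_add, LinearMap.lTensor_add,
        LinearMap.add_apply, map_add])
    (by
      intro c g h
      simp only [Submodule.coe_smul, LinearMap.comp_smul, LinearMap.lTensor_smul,
        LinearMap.smul_apply, map_smul])
    (by
      intro g h h'
      simp only [Submodule.coe_add, LinearMap.add_comp, LinearMap.lTensor_add,
        LinearMap.add_apply, map_add])
    (by
      intro c g h
      simp only [Submodule.coe_smul, LinearMap.smul_comp, LinearMap.lTensor_smul,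
        LinearMap.smul_apply, map_smul])

lemma pairingOf_spec (t : Module.Dual A F ⊗[A] F) (ht : contractLeft A F t = 1)
    (g : Lmod φ) (h : Lmod φ.symm) (x : F) :
    pairingOf φ t g h • x = h.1 (g.1 x) := by
  have := central_eq_smul (h.1 ∘ₗ g.1) (comp_central φ g h) t x
  rw [ht, one_smul] at this
  exact this

end Pairing

section Invertible
variable (φ : Module.End A F ≃ₐ[A] Module.End A G)

theorem pairing_bijective [Module.FaithfullyFlat A F]
    (t : Module.Dual A F ⊗[A] F) (ht : contractLeft A F t = 1)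
    (ξ : F ⊗[A] Lmod φ ≃ₗ[A] G) (hξ : ∀ w g, ξ (w ⊗ₜ[A] g) = g.1 w)
    (ξ' : G ⊗[A] Lmod φ.symm ≃ₗ[A] F) (hξ' : ∀ w h, ξ' (w ⊗ₜ[A] h) = h.1 w) :
    Function.Bijective (TensorProduct.lift (pairingOf φ t)) := by
  refine (Module.FaithfullyFlat.lTensor_bijective_iff_bijective A F
    (N := Lmod φ ⊗[A] Lmod φ.symm) (N' := A) (TensorProduct.lift (pairingOf φ t))).1 ?_
  have key : (TensorProduct.rid A F).toLinearMap ∘ₗ
      (LinearMap.lTensor F (TensorProduct.lift (pairingOf φ t))) ∘ₗ
      (TensorProduct.assoc A F (Lmod φ) (Lmod φ.symm)).toLinearMap =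
      ξ'.toLinearMap ∘ₗ (LinearMap.rTensor (Lmod φ.symm) ξ.toLinearMap) := by
    refine TensorProduct.ext_threefold fun w g h => ?_
    simp only [LinearMap.comp_apply, LinearEquiv.coe_coe, TensorProduct.assoc_tmul,
      LinearMap.lTensor_tmul, TensorProduct.lift.tmul, TensorProduct.rid_tmul,
      LinearMap.rTensor_tmul, hξ, hξ']
    exact pairingOf_spec φ t ht g h w
  have h2 : LinearMap.lTensor F (TensorProduct.lift (pairingOf φ t)) =
      (TensorProduct.rid A F).symm.toLinearMap ∘ₗ (ξ'.toLinearMap ∘ₗ
        (LinearMap.rTensor (Lmod φ.symm) ξ.toLinearMap)) ∘ₗ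
      (TensorProduct.assoc A F (Lmod φ) (Lmod φ.symm)).symm.toLinearMap := by
    rw [← key]
    refine LinearMap.ext fun s => ?_
    simp
  rw [h2]
  have h3 : Function.Bijective (LinearMap.rTensor (Lmod φ.symm) ξ.toLinearMap) :=
    (LinearEquiv.rTensor (Lmod φ.symm) ξ).bijective
  simp only [LinearMap.coe_comp, LinearEquiv.coe_coe]
  exact (TensorProduct.rid A F).symm.bijective.comp
    ((ξ'.bijective.comp h3).comp (TensorProduct.assoc A F (Lmod φ) (Lmod φ.symm)).symm.bijective)

end Invertible

section Main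

variable (A F) in
theorem faithfulSMul_of_faithfullyFlat [Module.FaithfullyFlat A F] : FaithfulSMul A F := by
  constructor
  intro a₁ a₂ h
  have h0 : ((a₁ - a₂) • (LinearMap.id : A →ₗ[A] A)) = 0 := by
    rw [Module.FaithfullyFlat.zero_iff_lTensor_zero A F]
    refine TensorProduct.ext' fun x r => ?_
    simp only [LinearMap.lTensor_tmul, LinearMap.smul_apply, LinearMap.id_apply,
      LinearMap.zero_apply]
    rw [← TensorProduct.smul_tmul, sub_smul, h x, sub_self, TensorProduct.zero_tmul]
  have := LinearMap.congr_fun h0 1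
  simpa [sub_eq_zero] using this

theorem exists_invertible_tensor_equiv
    [Module.Finite A F] [Module.Projective A F] [Module.FaithfullyFlat A F]
    [Module.Finite A G] [Module.Projective A G]
    (φ : Module.End A F ≃ₐ[A] Module.End A G) :
    ∃ (L : Type u) (_ : AddCommGroup L) (_ : Module A L), Module.Invertible A L ∧
      ∃ ξ : F ⊗[A] L ≃ₗ[A] G,
        ∀ f : Module.End A F, φ f = ξ.conj (TensorProduct.map f LinearMap.id) := by
  have := faithfulSMul_of_faithfullyFlat A F
  obtain ⟨n, x, xs, hx⟩ := exists_dualBasis A F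
  obtain ⟨m, y, ys, hy⟩ := exists_dualBasis A G
  obtain ⟨t, ht⟩ := Groth.Agent.H97.exists_contractLeft_eq_one A F
  let ξ := xiOfBasis φ x xs hx
  let ξ' := xiOfBasis φ.symm y ys hy
  have hb := pairing_bijective φ t ht ξ (xiOfBasis_tmul φ x xs hx) ξ'
    (xiOfBasis_tmul φ.symm y ys hy)
  refine ⟨Lmod φ, inferInstance, inferInstance,
    Module.Invertible.left (LinearEquiv.ofBijective _ hb), ξ, fun f => ?_⟩
  have h1 : (φ f) ∘ₗ ξ.toLinearMap = ξ.toLinearMap ∘ₗ (TensorProduct.map f LinearMap.id) := by
    refine TensorProduct.ext' fun w g => ?_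
    simp only [LinearMap.comp_apply, LinearEquiv.coe_coe, TensorProduct.map_tmul,
      LinearMap.id_apply]
    change φ f (g.1 w) = g.1 (f w)
    exact (Lmod_apply φ g f w).symm
  refine LinearMap.ext fun u => ?_
  rw [LinearEquiv.conj_apply]
  simp only [LinearMap.comp_apply, LinearEquiv.coe_coe]
  have := LinearMap.congr_fun h1 (ξ.symm u)
  simpa using this

end Main

end Groth.Agent.H81.MoritaEnd
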