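import Mathlib
import Groth.Agent.H81.PerRes

/-!
# The node `A = k[x,y]/(xy)`: periodic resolution of the residue field at the origin
-/

namespace Groth.Agent.H81.NodeRes

open MvPolynomial CategoryTheory

universe u

noncomputable section

variable (k : Type u) [Field k]

abbrev P := MvPolynomial (Fin 2) k
abbrev I : Ideal (P k) := Ideal.span {(X 0 * X 1 : MvPolynomial (Fin 2) k)}
abbrev A := P k ⧸ I k
abbrev xb : A k := Ideal.Quotient.mk (I k) (X 0)
abbrev yb : A k := Ideal.Quotient.mk (I k) (X 1)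
abbrev 𝔪 : Ideal (A k) := Ideal.span {xb k, yb k}

lemma xy : xb k * yb k = 0 := by
  rw [← map_mul, Ideal.Quotient.eq_zero_iff_mem]
  exact Ideal.subset_span rfl

lemma yx : yb k * xb k = 0 := by rw [mul_comm]; exact xy k

lemma ann_x (a : A k) (h : a * xb k = 0) : ∃ c, a = c * yb k := by
  obtain ⟨p, rfl⟩ := Ideal.Quotient.mk_surjective a
  rw [← map_mul, Ideal.Quotient.eq_zero_iff_mem, Ideal.mem_span_singleton'] at h
  obtain ⟨q, hq⟩ := h
  have : p = q * X 1 := by
    have h0 : (X 0 : P k) ≠ 0 := X_ne_zero 0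
    apply mul_right_cancel₀ h0
    rw [← hq]; ring
  exact ⟨Ideal.Quotient.mk _ q, by rw [this, map_mul]⟩

lemma ann_y (a : A k) (h : a * yb k = 0) : ∃ c, a = c * xb k := by
  obtain ⟨p, rfl⟩ := Ideal.Quotient.mk_surjective a
  rw [← map_mul, Ideal.Quotient.eq_zero_iff_mem, Ideal.mem_span_singleton'] at h
  obtain ⟨q, hq⟩ := h
  have : p = q * X 0 := by
    have h0 : (X 1 : P k) ≠ 0 := X_ne_zero 1
    apply mul_right_cancel₀ h0
    rw [← hq]; ring
  exact ⟨Ideal.Quotient.mk _ q, by rw [this, map_mul]⟩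

lemma inter (a b : A k) (h : a * xb k + b * yb k = 0) : a * xb k = 0 ∧ b * yb k = 0 := by
  obtain ⟨p, rfl⟩ := Ideal.Quotient.mk_surjective a
  obtain ⟨q, rfl⟩ := Ideal.Quotient.mk_surjective b
  have h' := h
  rw [← map_mul, ← map_mul, ← map_add, Ideal.Quotient.eq_zero_iff_mem,
    Ideal.mem_span_singleton'] at h
  obtain ⟨r, hr⟩ := h
  -- r * (X0 * X1) = p * X0 + q * X1
  have hdvd : (X 0 : P k) ∣ q * X 1 := by
    have : q * X 1 = X 0 * (r * X 1 - p) := by
      have : q * X 1 = r * (X 0 * X 1) - p * X 0 := by rw [hr]; ring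
      rw [this]; ring
    exact ⟨_, this⟩
  have hq : (X 0 : P k) ∣ q := by
    rcases (X_prime (R := k) (i := (0 : Fin 2))).dvd_or_dvd hdvd with h1 | h1
    · exact h1
    · exfalso
      rw [X_dvd_X] at h1
      exact absurd h1 (by decide)
  obtain ⟨q', rfl⟩ := hq
  have hb : (Ideal.Quotient.mk (I k)) (X 0 * q') * yb k = 0 := by
    rw [← map_mul, Ideal.Quotient.eq_zero_iff_mem, Ideal.mem_span_singleton']
    exact ⟨q', by ring⟩
  refine ⟨?_, hb⟩
  rw [hb, add_zero] at h'
  exact h'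

/-- evaluation at the origin -/
def ε : A k →+* k :=
  Ideal.Quotient.lift (I k) constantCoeff (by
    intro a ha
    obtain ⟨c, rfl⟩ := Ideal.mem_span_singleton'.mp ha
    simp)

lemma ε_mk (p : P k) : ε k (Ideal.Quotient.mk (I k) p) = constantCoeff p := rfl

lemma ε_surj : Function.Surjective (ε k) := by
  intro c
  exact ⟨Ideal.Quotient.mk _ (C c), by rw [ε_mk]; simp⟩

lemma ker_ε : RingHom.ker (ε k) = 𝔪 k := by
  apply le_antisymm
  · intro a ha
    obtain ⟨p, rfl⟩ := Ideal.Quotient.mk_surjective a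
    rw [RingHom.mem_ker, ε_mk] at ha
    have hp : p ∈ Ideal.span (MvPolynomial.X '' (Set.univ : Set (Fin 2)) : Set (P k)) := by
      rw [mem_ideal_span_X_image]
      intro m hm
      have hm0 : m ≠ 0 := by
        rintro rfl
        rw [mem_support_iff] at hm
        exact hm ha
      obtain ⟨i, hi⟩ := DFunLike.ne_iff.mp hm0
      exact ⟨i, Set.mem_univ _, hi⟩
    have := Ideal.mem_map_of_mem (Ideal.Quotient.mk (I k)) hp
    rw [Ideal.map_span] at this
    refine Ideal.span_mono ?_ this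
    rintro _ ⟨_, ⟨i, -, rfl⟩, rfl⟩
    fin_cases i
    · exact Or.inl rfl
    · exact Or.inr rfl
  · rw [Ideal.span_le]
    rintro _ (rfl | rfl)
    · change ε k (xb k) = 0
      rw [ε_mk]; simp
    · change ε k (yb k) = 0
      rw [ε_mk]; simp

instance max : (𝔪 k).IsMaximal := by
  rw [← ker_ε]
  exact RingHom.ker_isMaximal_of_surjective _ (ε_surj k)

/-- ranks of the periodic resolution -/
def rk : ℕ → ℕ
  | 0 => 1
  | _ + 1 => 2

/-- diagonal map -/
def diag (a b : A k) : (Fin 2 → A k) →ₗ[A k] (Fin 2 → A k) where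
  toFun v := ![v 0 * a, v 1 * b]
  map_add' v w := by
    ext i; fin_cases i <;> simp [add_mul]
  map_smul' c v := by
    ext i; fin_cases i <;> simp [mul_assoc]

/-- parity -/
def par : ℕ → Bool
  | 0 => true
  | n + 1 => !par n

/-- the two diagonal maps -/
def dd : Bool → ((Fin 2 → A k) →ₗ[A k] (Fin 2 → A k))
  | true => diag k (yb k) (xb k)
  | false => diag k (xb k) (yb k)

/-- first differential -/
def d0 : (Fin 2 → A k) →ₗ[A k] (Fin 1 → A k) where
  toFun v := fun _ => v 0 * xb k + v 1 * yb k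
  map_add' v w := by
    ext i; simp only [Pi.add_apply]; ring
  map_smul' c v := by
    ext i; simp only [Pi.smul_apply, smul_eq_mul, RingHom.id_apply]; ring

/-- differentials -/
def d : ∀ i, (Fin (rk (i+1)) → A k) →ₗ[A k] (Fin (rk i) → A k)
  | 0 => d0 k
  | i + 1 => dd k (par i)

/-- augmentation -/
def aug : (Fin (rk 0) → A k) →ₗ[A k] (A k ⧸ 𝔪 k) :=
  (Submodule.mkQ (𝔪 k)) ∘ₗ (LinearMap.proj (0 : Fin 1))

lemma aug_surj : Function.Surjective (aug k) := by
  intro z
  obtain ⟨a, rfl⟩ := Submodule.mkQ_surjective _ z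
  exact ⟨fun _ => a, rfl⟩

lemma ker_diag_xy : LinearMap.ker (diag k (xb k) (yb k)) = LinearMap.range (diag k (yb k) (xb k)) := by
  ext v
  rw [LinearMap.mem_ker, LinearMap.mem_range]
  constructor
  · intro h
    have h0 : v 0 * xb k = 0 := by
      have := congr_fun h 0
      simpa [diag] using this
    have h1 : v 1 * yb k = 0 := by
      have := congr_fun h 1
      simpa [diag] using this
    obtain ⟨c0, hc0⟩ := ann_x k _ h0
    obtain ⟨c1, hc1⟩ := ann_y k _ h1
    refine ⟨![c0, c1], ?_⟩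
    ext i; fin_cases i
    · simp [diag, hc0]
    · simp [diag, hc1]
  · rintro ⟨w, rfl⟩
    ext i; fin_cases i
    · simp [diag, mul_assoc, yx]
    · simp [diag, mul_assoc, xy]

lemma ker_diag_yx : LinearMap.ker (diag k (yb k) (xb k)) = LinearMap.range (diag k (xb k) (yb k)) := by
  ext v
  rw [LinearMap.mem_ker, LinearMap.mem_range]
  constructor
  · intro h
    have h0 : v 0 * yb k = 0 := by
      have := congr_fun h 0
      simpa [diag] using this
    have h1 : v 1 * xb k = 0 := by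
      have := congr_fun h 1
      simpa [diag] using this
    obtain ⟨c0, hc0⟩ := ann_y k _ h0
    obtain ⟨c1, hc1⟩ := ann_x k _ h1
    refine ⟨![c0, c1], ?_⟩
    ext i; fin_cases i
    · simp [diag, hc0]
    · simp [diag, hc1]
  · rintro ⟨w, rfl⟩
    ext i; fin_cases i
    · simp [diag, mul_assoc, xy]
    · simp [diag, mul_assoc, yx]

lemma ker_dd (b : Bool) : LinearMap.ker (dd k b) = LinearMap.range (dd k (!b)) := by
  cases b
  · exact ker_diag_xy k
  · exact ker_diag_yx k

lemma ker_d0 : LinearMap.ker (d0 k) = LinearMap.range (diag k (yb k) (xb k)) := by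
  ext v
  rw [LinearMap.mem_ker, LinearMap.mem_range]
  constructor
  · intro h
    have h' : v 0 * xb k + v 1 * yb k = 0 := congr_fun h 0
    obtain ⟨h0, h1⟩ := inter k _ _ h'
    obtain ⟨c0, hc0⟩ := ann_x k _ h0
    obtain ⟨c1, hc1⟩ := ann_y k _ h1
    refine ⟨![c0, c1], ?_⟩
    ext i; fin_cases i
    · simp [diag, hc0]
    · simp [diag, hc1]
  · rintro ⟨w, rfl⟩
    ext i
    simp [d0, diag, mul_assoc, xy, yx]

lemma ker_aug : LinearMap.ker (aug k) = LinearMap.range (d k 0) := by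
  ext (v : Fin 1 → A k)
  rw [LinearMap.mem_ker, LinearMap.mem_range]
  change Submodule.mkQ (𝔪 k) (v 0) = 0 ↔ _
  rw [Submodule.mkQ_apply, Submodule.Quotient.mk_eq_zero, Ideal.mem_span_pair]
  constructor
  · rintro ⟨a, b, hab⟩
    refine ⟨![a, b], ?_⟩
    funext (i : Fin 1)
    have hi : i = 0 := Subsingleton.elim _ _
    subst hi
    exact hab
  · rintro ⟨(w : Fin 2 → A k), rfl⟩
    exact ⟨w 0, w 1, rfl⟩

lemma exact_d (i : ℕ) : LinearMap.ker (d k i) = LinearMap.range (d k (i + 1)) := by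
  cases i with
  | zero => exact ker_d0 k
  | succ i => exact ker_dd k (par i)

lemma hmin (i : ℕ) (v : Fin (rk (i+1)) → A k) (b : Fin (rk i)) : (d k i v) b ∈ 𝔪 k := by
  have hx : xb k ∈ 𝔪 k := Ideal.subset_span (Or.inl rfl)
  have hy : yb k ∈ 𝔪 k := Ideal.subset_span (Or.inr rfl)
  cases i with
  | zero =>
    exact Ideal.add_mem _ (Ideal.mul_mem_left _ _ hx) (Ideal.mul_mem_left _ _ hy)
  | succ i =>
    revert v b
    intro (v : Fin 2 → A k) (b : Fin 2)
    change (dd k (par i) v) b ∈ 𝔪 k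
    cases par i
    · change (![v 0 * xb k, v 1 * yb k] : Fin 2 → A k) b ∈ 𝔪 k
      fin_cases b
      · exact Ideal.mul_mem_left _ _ hx
      · exact Ideal.mul_mem_left _ _ hy
    · change (![v 0 * yb k, v 1 * xb k] : Fin 2 → A k) b ∈ 𝔪 k
      fin_cases b
      · exact Ideal.mul_mem_left _ _ hy
      · exact Ideal.mul_mem_left _ _ hx

theorem length_tor (i : ℕ) (hi : 1 ≤ i) :
    Module.length (A k) (((Tor (ModuleCat.{u} (A k)) i).obj (ModuleCat.of (A k) (A k ⧸ 𝔪 k))).obj
      (ModuleCat.of (A k) (A k ⧸ 𝔪 k))) = 2 := by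
  have := Groth.Agent.H77.TorRes.length_tor (S := A k) (M := A k ⧸ 𝔪 k) rk (d k) (aug k) (𝔪 k)
    (hmin k) (aug_surj k) (ker_aug k) (exact_d k) i
  rw [this]
  obtain ⟨j, rfl⟩ : ∃ j, i = j + 1 := ⟨i - 1, by omega⟩
  rfl

theorem not_hasPDLT (n : ℕ) :
    ¬ HasProjectiveDimensionLT (ModuleCat.of (A k) (A k ⧸ 𝔪 k)) n :=
  Groth.Agent.H81.PerRes.not_hasPDLT (S := A k) (M := A k ⧸ 𝔪 k) rk (d k) (aug k) (𝔪 k)
    (hmin k) (aug_surj k) (ker_aug k) (exact_d k) (fun n => by cases n <;> simp [rk]) n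

end

end Groth.Agent.H81.NodeRes
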