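import Mathlib
import Groth.Agent.H81.InnerAutDet

set_option autoImplicit false
universe u v

namespace Groth.Agent.H81.PicPow

open Matrix TensorProduct Groth.Agent.H81.InnerAut Groth.Agent.H81.InnerAutDet CommRing

variable {R : Type u} [CommRing R]

theorem exists_invertible_tensorPower (N : Type v) [AddCommGroup N] [Module R N]
    [Module.Invertible R N] : ∀ k : ℕ, ∃ (_ : Module.Invertible R (⨂[R] _ : Fin k, N)),
      Pic.mk R (⨂[R] _ : Fin k, N) = Pic.mk R N ^ k
  | 0 => by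
    have inst : Module.Invertible R (⨂[R] _ : Fin 0, N) :=
      Module.Invertible.congr (PiTensorProduct.isEmptyEquiv (R := R) (s := fun _ : Fin 0 => N) (Fin 0)).symm
    refine ⟨inst, ?_⟩
    rw [pow_zero, Pic.mk_eq_one_iff]
    exact ⟨PiTensorProduct.isEmptyEquiv (Fin 0)⟩
  | k + 1 => by
    obtain ⟨inst, h⟩ := exists_invertible_tensorPower N k
    have e1 : (⨂[R] _ : Fin 1, N) ≃ₗ[R] N := PiTensorProduct.subsingletonEquiv (0 : Fin 1)
    have inst1 : Module.Invertible R (⨂[R] _ : Fin 1, N) := Module.Invertible.congr e1.symm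
    have e : (⨂[R] _ : Fin k, N) ⊗[R] (⨂[R] _ : Fin 1, N) ≃ₗ[R] (⨂[R] _ : Fin (k + 1), N) :=
      TensorPower.mulEquiv
    have inst2 : Module.Invertible R (⨂[R] _ : Fin (k + 1), N) := Module.Invertible.congr e
    refine ⟨inst2, ?_⟩
    have h1 : Pic.mk R (⨂[R] _ : Fin 1, N) = Pic.mk R N := Pic.mk_eq_mk_iff.2 ⟨e1⟩
    rw [pow_succ, ← h, ← h1, ← Pic.mk_tensor, Pic.mk_eq_mk_iff]
    exact ⟨e.symm⟩

section Main
variable {n : ℕ} (N : Type v) [AddCommGroup N] [Module R N] [Module.Invertible R N]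
  (e : (Fin n → N) ≃ₗ[R] (Fin n → R))

/-- the automorphism of `M_n(R)` attached to `N^n ≃ R^n`. -/
noncomputable def autOf : Matrix (Fin n) (Fin n) R ≃ₐ[R] Matrix (Fin n) (Fin n) R :=
  ((AlgEquiv.ofBijective (T N) (T_bijective N)).trans (e.conjAlgEquiv R)).trans
    LinearMap.toMatrixAlgEquiv'

lemma autOf_mulVec (A : Matrix (Fin n) (Fin n) R) (v : Fin n → N) :
    autOf N e A *ᵥ e v = e (T N A v) := by
  have : Matrix.toLin' (autOf N e A) = e.toLinearMap ∘ₗ (T N A) ∘ₗ e.symm.toLinearMap :=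
    Matrix.toLin'_toMatrix' (e.toLinearMap ∘ₗ (T N A) ∘ₗ e.symm.toLinearMap)
  have h2 := LinearMap.congr_fun this (e v)
  simpa using h2

omit [Module.Invertible R N] in
lemma T_single_single (i₀ : Fin n) (v : Fin n → N) :
    T N (Matrix.single i₀ i₀ (1 : R)) v = Pi.single i₀ (v i₀) := by
  funext i
  rw [T_apply]
  by_cases h : i = i₀
  · subst h
    rw [Finset.sum_eq_single i]
    · simp
    · intro b _ hb; simp [hb.symm]
    · intro h; exact absurd (Finset.mem_univ i) h
  · rw [Pi.single_eq_of_ne h]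
    refine Finset.sum_eq_zero fun j _ => ?_
    simp [Ne.symm h]

/-- `N ≃ Nmod (autOf N e) i₀`. -/
noncomputable def equivNmod (i₀ : Fin n) : N ≃ₗ[R] Nmod (autOf N e) i₀ where
  toFun x := ⟨e (Pi.single i₀ x), by
    rw [mem_Nmod]
    unfold Pm
    rw [autOf_mulVec, T_single_single, Pi.single_eq_same]⟩
  map_add' x y := by
    apply Subtype.ext
    simp [Pi.single_add]
  map_smul' c x := by
    apply Subtype.ext
    simp [Pi.single_smul]
  invFun v := (e.symm v.1) i₀
  left_inv x := by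
    simp
  right_inv v := by
    apply Subtype.ext
    change e (Pi.single i₀ ((e.symm v.1) i₀)) = v.1
    rw [← T_single_single (R := R) N i₀ (e.symm v.1), ← autOf_mulVec, e.apply_symm_apply]
    exact (mem_Nmod (autOf N e) i₀).1 v.2

end Main

theorem pic_pow_eq_one {n : ℕ} (N : Type v) [AddCommGroup N] [Module R N]
    [Module.Invertible R N] (e : (Fin n → N) ≃ₗ[R] (Fin n → R)) :
    Pic.mk R N ^ n = 1 := by
  rcases Nat.eq_zero_or_pos n with hn | hn
  · subst hn; exact pow_zero _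
  · obtain ⟨inst, h⟩ := exists_invertible_tensorPower (R := R) N n
    rw [← h, Pic.mk_eq_one_iff]
    let i₀ : Fin n := ⟨0, hn⟩
    exact ⟨(PiTensorProduct.congr fun _ => equivNmod N e i₀).trans
      (tensorPowEquiv (autOf N e) i₀)⟩

end Groth.Agent.H81.PicPow
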