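import Groth.Agent.H98.Canon.WPolyCanon
import Groth.Agent.H64.HypHilb

set_option autoImplicit false
set_option linter.unusedSectionVars false
universe u

/-!
# The standard grading of `k[X_1, …, X_s]` in the `GrLC` setting

`R = k[X_1, …, X_s]` with every variable in degree `1`, graded by
`gr = selfGr (weightedHomogeneousSubmodule k (fun _ => (1 : ℤ)))`: components, the degree-zero field,
standard generation and the dimension of the pieces.
-/

namespace Groth.Agent.H81.PolyVer

open MvPolynomial DirectSum Groth.Agent.H98.GrStar Groth.Agent.H98.Canon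

attribute [local instance] MvPolynomial.weightedGradedAlgebra

variable (k : Type u) [Field k] (s : ℕ)

/-- the weights: every variable has degree one -/
def wt : Fin s → ℤ := fun _ => 1

theorem wt_pos : ∀ i, 0 < wt s i := fun _ => one_pos

/-- the standard grading of the polynomial ring, as additive subgroups indexed by `ℤ` -/
noncomputable abbrev gr : ℤ → AddSubgroup (MvPolynomial (Fin s) k) :=
  selfGr (weightedHomogeneousSubmodule k (wt s))

theorem weight_wt (d : Fin s →₀ ℕ) : Finsupp.weight (wt s) d = (d.degree : ℤ) := by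
  rw [Finsupp.weight_apply, Finsupp.degree_eq_sum, Finsupp.sum_fintype _ _ (fun i => by simp)]
  simp [wt]

theorem mem_gr_natCast (j : ℕ) (p : MvPolynomial (Fin s) k) :
    p ∈ gr k s (j : ℤ) ↔ p.IsHomogeneous j := by
  change p.IsWeightedHomogeneous (wt s) (j : ℤ) ↔ p.IsWeightedHomogeneous (1 : Fin s → ℕ) j
  constructor
  · intro h d hd
    have := h hd
    rw [weight_wt] at this
    have h1 : Finsupp.weight (1 : Fin s → ℕ) d = d.degree := by
      rw [Finsupp.degree_eq_weight_one]
      rfl
    rw [h1]
    exact_mod_cast this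
  · intro h d hd
    have := h hd
    have h1 : Finsupp.weight (1 : Fin s → ℕ) d = d.degree := by
      rw [Finsupp.degree_eq_weight_one]
      rfl
    rw [h1] at this
    rw [weight_wt]
    exact_mod_cast this

theorem decompose_gr (p : MvPolynomial (Fin s) k) (l : ℤ) :
    (decompose (gr k s) p l : MvPolynomial (Fin s) k) = weightedHomogeneousComponent (wt s) l p := by
  rw [decompose_selfGr]
  exact weightedDecomposition.decompose'_apply k (wt s) p l

theorem decompose_gr_natCast (p : MvPolynomial (Fin s) k) (j : ℕ) :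
    (decompose (gr k s) p (j : ℤ) : MvPolynomial (Fin s) k) = homogeneousComponent j p := by
  classical
  rw [decompose_gr]
  ext d
  rw [coeff_weightedHomogeneousComponent, coeff_homogeneousComponent, weight_wt]
  simp only [Nat.cast_inj]

theorem decompose_gr_neg (p : MvPolynomial (Fin s) k) (l : ℤ) (hl : l < 0) :
    (decompose (gr k s) p l : MvPolynomial (Fin s) k) = 0 := by
  have h : (decompose (gr k s) p l : MvPolynomial (Fin s) k) ∈
      selfGr (weightedHomogeneousSubmodule k (wt s)) l := (decompose (gr k s) p l).2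
  rw [selfGr_eq_bot_of_neg k s (wt s) (wt_pos s) l hl, AddSubgroup.mem_bot] at h
  exact h

/-- the Veronese condition in terms of the `ℤ`-grading -/
theorem range_iff (q : ℕ) (p : MvPolynomial (Fin s) k) :
    (∀ j : ℕ, ¬ q ∣ j → homogeneousComponent j p = 0) ↔
      ∀ l : ℤ, ¬ (q : ℤ) ∣ l → (decompose (gr k s) p l : MvPolynomial (Fin s) k) = 0 := by
  constructor
  · intro h l hl
    rcases lt_or_ge l 0 with hneg | hnn
    · exact decompose_gr_neg k s p l hneg
    · obtain ⟨j, rfl⟩ := Int.eq_ofNat_of_zero_le hnn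
      rw [decompose_gr_natCast]
      exact h j fun hj => hl (Int.natCast_dvd_natCast.mpr hj)
  · intro h j hj
    rw [← decompose_gr_natCast]
    exact h j fun hj' => hj (Int.natCast_dvd_natCast.mp hj')

theorem X_mem_one (i : Fin s) : (X i : MvPolynomial (Fin s) k) ∈ gr k s 1 :=
  isWeightedHomogeneous_X k (wt s) i

theorem span_pos_eq :
    Ideal.span (⋃ n ∈ Set.Ioi (0 : ℤ), (gr k s n : Set (MvPolynomial (Fin s) k))) =
      Ideal.span (Set.range (X : Fin s → MvPolynomial (Fin s) k)) :=
  span_pos_eq_span_X (k := k) (wt s) (wt_pos s)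

/-- the polynomial ring is standard graded -/
theorem span_pos_eq_span_one :
    Ideal.span (⋃ n ∈ Set.Ioi (0 : ℤ), (gr k s n : Set (MvPolynomial (Fin s) k))) =
      Ideal.span ((gr k s 1 : AddSubgroup (MvPolynomial (Fin s) k)) :
        Set (MvPolynomial (Fin s) k)) := by
  apply le_antisymm
  · rw [span_pos_eq, Ideal.span_le]
    rintro _ ⟨i, rfl⟩
    exact Ideal.subset_span (X_mem_one k s i)
  · apply Ideal.span_mono
    intro x hx
    exact Set.mem_iUnion₂.mpr ⟨1, Set.mem_Ioi.mpr one_pos, hx⟩

/-- elements of positive degree have no constant term -/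
theorem constantCoeff_eq_zero_of_mem {n : ℤ} (hn : 0 < n) {p : MvPolynomial (Fin s) k}
    (hp : p ∈ gr k s n) : constantCoeff p = 0 := by
  by_contra h
  have h1 : Finsupp.weight (wt s) (0 : Fin s →₀ ℕ) = n := hp h
  rw [map_zero] at h1
  omega

/-- the constants as elements of the degree-zero subring -/
noncomputable def cMap : k → GrLC.deg0 (gr k s) := fun c => ⟨C c, isWeightedHomogeneous_C (wt s) c⟩

theorem cMap_bijective : Function.Bijective (cMap k s) := by
  constructor
  · intro a b hab
    exact C_injective _ _ (congrArg Subtype.val hab)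
  · rintro ⟨p, hp⟩
    exact ⟨coeff 0 p, Subtype.ext (eq_C_of_mem_zero (wt s) (wt_pos s) p hp).symm⟩

/-- the dimension of the degree-`ρ` piece over the degree-zero field -/
theorem finrank_comp (r ρ : ℕ) :
    Module.finrank (GrLC.deg0 (gr k (r + 1))) (GrLC.comp (gr k (r + 1)) (gr k (r + 1)) (ρ : ℤ)) =
      (ρ + r).choose r := by
  rw [← Groth.Agent.H64.finrank_homogeneousSubmodule_fin (k := k) r ρ]
  let J₀ : homogeneousSubmodule (Fin (r + 1)) k ρ →+
      GrLC.comp (gr k (r + 1)) (gr k (r + 1)) (ρ : ℤ) :=
    { toFun := fun p => ⟨(p : MvPolynomial (Fin (r + 1)) k),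
        (mem_gr_natCast k (r + 1) ρ _).mpr ((mem_homogeneousSubmodule _ _).mp p.2)⟩
      map_zero' := rfl
      map_add' := fun _ _ => rfl }
  have hJ : Function.Bijective J₀ := by
    constructor
    · intro a b hab
      have h1 : ((J₀ a : GrLC.comp (gr k (r + 1)) (gr k (r + 1)) (ρ : ℤ)) :
        MvPolynomial (Fin (r + 1)) k) = (J₀ b : GrLC.comp (gr k (r + 1)) (gr k (r + 1)) (ρ : ℤ)) :=
        congrArg Subtype.val hab
      exact Subtype.ext h1
    · rintro ⟨p, hp⟩
      exact ⟨⟨p, (mem_homogeneousSubmodule _ _).mpr ((mem_gr_natCast k (r + 1) ρ p).mp hp)⟩, rfl⟩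
  let J := AddEquiv.ofBijective J₀ hJ
  have hrank := rank_eq_of_equiv_equiv (cMap k (r + 1)) J (cMap_bijective k (r + 1)) (by
    intro c x
    apply Subtype.ext
    change (c • (x : MvPolynomial (Fin (r + 1)) k)) = C c * (x : MvPolynomial (Fin (r + 1)) k)
    exact smul_eq_C_mul _ _)
  unfold Module.finrank
  rw [hrank]

end Groth.Agent.H81.PolyVer
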