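import Mathlib
import Groth.Prelude.Def_CAlg
import Groth.Agent.H81.CIGor2
import Groth.Agent.H81.LiaisonGor

/-!
# `Proj` of a Gorenstein graded ring  (helper81)

`A` an `ℕ`-graded ring, `𝔭` a homogeneous prime, `g ∈ A_d`, `h ∈ A_{d+1}` both outside `𝔭`.  Then
the homogeneous localization `A_(𝔭)` is the quotient of a localization `A_P` of `A` at a prime by
the regular element `h - g`.  Consequently `A_(𝔭)` is Gorenstein when `A` is.
-/

set_option autoImplicit false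
set_option linter.unusedSectionVars false
set_option linter.style.haveILetI false

namespace Groth.Agent.H81.ProjGor

universe u

open HomogeneousLocalization

variable {A : Type u} [CommRing A] (𝒜 : ℕ → AddSubgroup A) [GradedRing 𝒜]
variable (𝔭 : Ideal A) [h𝔭p : 𝔭.IsPrime] {d : ℕ} {g h : A}
  (hg : g ∈ 𝒜 d) (hh : h ∈ 𝒜 (d + 1)) (hg𝔭 : g ∉ 𝔭) (hh𝔭 : h ∉ 𝔭)

include hg in
theorem num_mem (i : ℕ) (a : 𝒜 i) : (a : A) * g ^ i ∈ 𝒜 (i * (d + 1)) := by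
  have := SetLike.mul_mem_graded a.2 (SetLike.pow_mem_graded i hg)
  rw [smul_eq_mul] at this
  rwa [show i * (d + 1) = i + i * d by ring]

include hh in
theorem den_mem (i : ℕ) : h ^ i ∈ 𝒜 (i * (d + 1)) := by
  have := SetLike.pow_mem_graded i hh
  rwa [smul_eq_mul] at this

include hh𝔭 in
theorem den_mem_compl (i : ℕ) : h ^ i ∈ 𝔭.primeCompl := fun hmem => hh𝔭 (h𝔭p.mem_of_pow_mem i hmem)

/-- `a ↦ a / t^i` for `a ∈ A_i`, `t = h / g`, as an element of the homogeneous localization -/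
noncomputable def evalFun (i : ℕ) (a : 𝒜 i) : AtPrime 𝒜 𝔭 :=
  mk ⟨i * (d + 1), ⟨(a : A) * g ^ i, num_mem 𝒜 hg i a⟩, ⟨h ^ i, den_mem 𝒜 hh i⟩,
    den_mem_compl 𝔭 hh𝔭 i⟩

theorem val_evalFun (i : ℕ) (a : 𝒜 i) :
    (evalFun 𝒜 𝔭 hg hh hh𝔭 i a).val =
      Localization.mk ((a : A) * g ^ i) ⟨h ^ i, den_mem_compl 𝔭 hh𝔭 i⟩ := by
  unfold evalFun
  rw [val_mk]

/-- additive version -/
noncomputable def evalAdd (i : ℕ) : 𝒜 i →+ AtPrime 𝒜 𝔭 where
  toFun := evalFun 𝒜 𝔭 hg hh hh𝔭 i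
  map_zero' := by
    apply val_injective
    rw [val_evalFun, val_zero]
    simp [Localization.mk_zero]
  map_add' a b := by
    apply val_injective
    rw [val_add, val_evalFun, val_evalFun, val_evalFun, Localization.add_mk_self]
    congr 1
    simp [add_mul]

/-- the evaluation homomorphism `A → A_(𝔭)`, `a = ∑ a_i ↦ ∑ a_i / t^i` -/
noncomputable def evalHom : A →+* AtPrime 𝒜 𝔭 :=
  (DirectSum.toSemiring (evalAdd 𝒜 𝔭 hg hh hh𝔭)
    (by
      apply val_injective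
      change (evalFun 𝒜 𝔭 hg hh hh𝔭 0 _).val = _
      rw [val_evalFun, val_one]
      simp)
    (by
      intro i j ai aj
      apply val_injective
      change (evalFun 𝒜 𝔭 hg hh hh𝔭 (i + j) _).val =
        ((evalFun 𝒜 𝔭 hg hh hh𝔭 i ai) * (evalFun 𝒜 𝔭 hg hh hh𝔭 j aj)).val
      rw [val_mul, val_evalFun, val_evalFun, val_evalFun, Localization.mk_mul]
      congr 1
      · simp only [SetLike.coe_gMul, pow_add]
        ring
      · ext
        simp [pow_add])).comp (DirectSum.decomposeRingEquiv 𝒜).toRingHom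

theorem evalHom_of_mem {i : ℕ} {a : A} (ha : a ∈ 𝒜 i) :
    evalHom 𝒜 𝔭 hg hh hh𝔭 a = evalFun 𝒜 𝔭 hg hh hh𝔭 i ⟨a, ha⟩ := by
  unfold evalHom
  rw [RingHom.comp_apply]
  change DirectSum.toSemiring _ _ _ (DirectSum.decompose 𝒜 a) = _
  rw [DirectSum.decompose_of_mem 𝒜 ha, DirectSum.toSemiring_of]
  rfl

theorem val_evalHom_of_mem {i : ℕ} {a : A} (ha : a ∈ 𝒜 i) :
    (evalHom 𝒜 𝔭 hg hh hh𝔭 a).val = Localization.mk (a * g ^ i) ⟨h ^ i, den_mem_compl 𝔭 hh𝔭 i⟩ := by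
  rw [evalHom_of_mem 𝒜 𝔭 hg hh hh𝔭 ha, val_evalFun]

open Classical in
/-- the homogenization `∑ a_i g^i h^(N-i)` of `a` -/
noncomputable def homog (g h : A) (N : ℕ) (a : A) : A :=
  ∑ i ∈ (DirectSum.decompose 𝒜 a).support, (DirectSum.decompose 𝒜 a i : A) * g ^ i * h ^ (N - i)

open Classical in
include hg hh in
theorem homog_mem (N : ℕ) (a : A) (hN : ∀ i ∈ (DirectSum.decompose 𝒜 a).support, i ≤ N) :
    homog 𝒜 g h N a ∈ 𝒜 (N * (d + 1)) := by
  unfold homog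
  refine sum_mem fun i hi => ?_
  have h1 := SetLike.mul_mem_graded (SetLike.mul_mem_graded (DirectSum.decompose 𝒜 a i).2
    (SetLike.pow_mem_graded i hg)) (SetLike.pow_mem_graded (N - i) hh)
  rw [smul_eq_mul, smul_eq_mul] at h1
  have hle := hN i hi
  have h2 : i + i * d + (N - i) * (d + 1) = N * (d + 1) := by
    obtain ⟨k, rfl⟩ := Nat.exists_eq_add_of_le hle
    rw [Nat.add_sub_cancel_left]
    ring
  rwa [h2] at h1

open Classical in
theorem val_evalHom_mul (N : ℕ) (a : A) (hN : ∀ i ∈ (DirectSum.decompose 𝒜 a).support, i ≤ N) :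
    (evalHom 𝒜 𝔭 hg hh hh𝔭 a).val * algebraMap A (Localization 𝔭.primeCompl) (h ^ N) =
      algebraMap A (Localization 𝔭.primeCompl) (homog 𝒜 g h N a) := by
  conv_lhs => rw [← DirectSum.sum_support_decompose 𝒜 a]
  rw [map_sum]
  unfold homog
  rw [map_sum]
  have hval : ∀ (s : Finset ℕ) (f : ℕ → AtPrime 𝒜 𝔭), (∑ i ∈ s, f i).val = ∑ i ∈ s, (f i).val := by
    intro s f
    induction s using Finset.induction_on with
    | empty => simp [val_zero]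
    | insert x s hx ih => rw [Finset.sum_insert hx, Finset.sum_insert hx, val_add, ih]
  rw [hval, Finset.sum_mul]
  refine Finset.sum_congr rfl fun i hi => ?_
  rw [val_evalHom_of_mem 𝒜 𝔭 hg hh hh𝔭 (DirectSum.decompose 𝒜 a i).2]
  have hle := hN i hi
  have hpow : h ^ N = h ^ i * h ^ (N - i) := by
    rw [← pow_add, Nat.add_sub_cancel' hle]
  rw [hpow, map_mul, ← mul_assoc, Localization.mk_eq_mk', IsLocalization.mk'_spec, ← map_mul]

omit h𝔭p in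
/-- a homogeneous element killed by an element outside `𝔭` is killed by a homogeneous element
outside `𝔭` -/
theorem exists_homogeneous_mul_eq_zero {D : ℕ} {c : A} (hc : c ∈ 𝒜 D) {s : A} (hs : s ∉ 𝔭)
    (hsc : s * c = 0) : ∃ (l : ℕ) (s' : A), s' ∈ 𝒜 l ∧ s' ∉ 𝔭 ∧ s' * c = 0 := by
  classical
  have hex : ∃ l, (DirectSum.decompose 𝒜 s l : A) ∉ 𝔭 := by
    by_contra hcon
    push Not at hcon
    apply hs
    rw [← DirectSum.sum_support_decompose 𝒜 s]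
    exact Ideal.sum_mem _ (fun l _ => hcon l)
  obtain ⟨l, hl⟩ := hex
  refine ⟨l, _, SetLike.coe_mem _, hl, ?_⟩
  have h1 := DirectSum.coe_decompose_mul_add_of_right_mem 𝒜 (a := s) (i := l) hc
  rw [← h1, hsc, DirectSum.decompose_zero]
  rfl

include hg𝔭 in
theorem isUnit_evalHom_of_mem {l : ℕ} {s : A} (hs : s ∈ 𝒜 l) (hs𝔭 : s ∉ 𝔭) :
    IsUnit (evalHom 𝒜 𝔭 hg hh hh𝔭 s) := by
  rw [← isUnit_iff_isUnit_val, val_evalHom_of_mem 𝒜 𝔭 hg hh hh𝔭 hs, Localization.mk_eq_mk',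
    IsLocalization.AtPrime.isUnit_mk'_iff (Localization 𝔭.primeCompl) 𝔭]
  intro hmem
  rcases h𝔭p.mem_or_mem hmem with h1 | h1
  · exact hs𝔭 h1
  · exact hg𝔭 (h𝔭p.mem_of_pow_mem l h1)

theorem evalHom_g_eq : evalHom 𝒜 𝔭 hg hh hh𝔭 h = evalHom 𝒜 𝔭 hg hh hh𝔭 g := by
  apply val_injective
  rw [val_evalHom_of_mem 𝒜 𝔭 hg hh hh𝔭 hh, val_evalHom_of_mem 𝒜 𝔭 hg hh hh𝔭 hg,
    Localization.mk_eq_mk_iff, Localization.r_iff_exists]
  refine ⟨1, ?_⟩
  simp only [OneMemClass.coe_one, one_mul]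
  ring

/-- the prime `P` of `A`: the preimage of the maximal ideal of `A_(𝔭)` -/
noncomputable def primeP : Ideal A :=
  Ideal.comap (evalHom 𝒜 𝔭 hg hh hh𝔭) (IsLocalRing.maximalIdeal (AtPrime 𝒜 𝔭))

instance primeP_isPrime : (primeP 𝒜 𝔭 hg hh hh𝔭).IsPrime := by
  unfold primeP
  exact Ideal.comap_isPrime _ _

theorem notMem_primeP_iff (a : A) :
    a ∉ primeP 𝒜 𝔭 hg hh hh𝔭 ↔ IsUnit (evalHom 𝒜 𝔭 hg hh hh𝔭 a) := by
  unfold primeP
  rw [Ideal.mem_comap, IsLocalRing.mem_maximalIdeal, mem_nonunits_iff, not_not]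

/-- the induced map `A_P → A_(𝔭)` -/
noncomputable def liftHom : Localization.AtPrime (primeP 𝒜 𝔭 hg hh hh𝔭) →+* AtPrime 𝒜 𝔭 :=
  IsLocalization.lift (M := (primeP 𝒜 𝔭 hg hh hh𝔭).primeCompl) (g := evalHom 𝒜 𝔭 hg hh hh𝔭)
    (fun y => (notMem_primeP_iff 𝒜 𝔭 hg hh hh𝔭 y).mp y.2)

theorem liftHom_algebraMap (a : A) :
    liftHom 𝒜 𝔭 hg hh hh𝔭 (algebraMap A _ a) = evalHom 𝒜 𝔭 hg hh hh𝔭 a :=
  IsLocalization.lift_eq _ a

include hg𝔭 in
theorem liftHom_surjective : Function.Surjective (liftHom 𝒜 𝔭 hg hh hh𝔭) := by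
  intro b
  obtain ⟨⟨e, num, den, hden⟩, rfl⟩ := mk_surjective b
  have hdenP : (den : A) ∈ (primeP 𝒜 𝔭 hg hh hh𝔭).primeCompl :=
    (notMem_primeP_iff 𝒜 𝔭 hg hh hh𝔭 den).mpr
      (isUnit_evalHom_of_mem 𝒜 𝔭 hg hh hg𝔭 hh𝔭 den.2 hden)
  refine ⟨IsLocalization.mk' _ (num : A) ⟨(den : A), hdenP⟩, ?_⟩
  unfold liftHom
  rw [IsLocalization.lift_mk'_spec]
  apply val_injective
  rw [val_mul, val_evalHom_of_mem 𝒜 𝔭 hg hh hh𝔭 num.2, val_evalHom_of_mem 𝒜 𝔭 hg hh hh𝔭 den.2,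
    val_mk, Localization.mk_mul, Localization.mk_eq_mk_iff, Localization.r_iff_exists]
  refine ⟨1, ?_⟩
  simp only [OneMemClass.coe_one, one_mul, Submonoid.coe_mul]
  ring

include hg𝔭 in
open Classical in
/-- the kernel of the evaluation map, localized: `evalHom a = 0` forces `a ∈ (h - g) A_P` -/
theorem algebraMap_mem_span_of_evalHom_eq_zero (a : A) (ha : evalHom 𝒜 𝔭 hg hh hh𝔭 a = 0) :
    algebraMap A (Localization.AtPrime (primeP 𝒜 𝔭 hg hh hh𝔭)) a ∈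
      Ideal.span {algebraMap A (Localization.AtPrime (primeP 𝒜 𝔭 hg hh hh𝔭)) (h - g)} := by
  set Q := Localization.AtPrime (primeP 𝒜 𝔭 hg hh hh𝔭) with hQ
  set N : ℕ := (DirectSum.decompose 𝒜 a).support.sup id with hNdef
  have hN : ∀ i ∈ (DirectSum.decompose 𝒜 a).support, i ≤ N := fun i hi =>
    Finset.le_sup (f := id) hi
  have hc := homog_mem 𝒜 hg hh N a hN
  have h1 := val_evalHom_mul 𝒜 𝔭 hg hh hh𝔭 N a hN
  rw [ha, val_zero, zero_mul] at h1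
  obtain ⟨s, hs⟩ := (IsLocalization.map_eq_zero_iff 𝔭.primeCompl (Localization 𝔭.primeCompl)
    (homog 𝒜 g h N a)).mp h1.symm
  obtain ⟨l, s', hs'l, hs'𝔭, hs'c⟩ := exists_homogeneous_mul_eq_zero 𝒜 𝔭 hc s.2 hs
  have hs'P : s' ∉ primeP 𝒜 𝔭 hg hh hh𝔭 :=
    (notMem_primeP_iff 𝒜 𝔭 hg hh hh𝔭 s').mpr (isUnit_evalHom_of_mem 𝒜 𝔭 hg hh hg𝔭 hh𝔭 hs'l hs'𝔭)
  have hgP : g ∉ primeP 𝒜 𝔭 hg hh hh𝔭 :=
    (notMem_primeP_iff 𝒜 𝔭 hg hh hh𝔭 g).mpr (isUnit_evalHom_of_mem 𝒜 𝔭 hg hh hg𝔭 hh𝔭 hg hg𝔭)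
  have hjc : algebraMap A Q (homog 𝒜 g h N a) = 0 := by
    rw [IsLocalization.map_eq_zero_iff (primeP 𝒜 𝔭 hg hh hh𝔭).primeCompl Q]
    exact ⟨⟨s', hs'P⟩, hs'c⟩
  set J : Ideal Q := Ideal.span {algebraMap A Q (h - g)} with hJ
  set π : A →+* Q ⧸ J := (Ideal.Quotient.mk J).comp (algebraMap A Q) with hπ
  have hπhg : π h = π g := by
    rw [hπ, RingHom.comp_apply, RingHom.comp_apply, Ideal.Quotient.eq, ← map_sub]
    exact Ideal.subset_span rfl
  have hπc : π (homog 𝒜 g h N a) = π a * π g ^ N := by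
    conv_rhs => rw [← DirectSum.sum_support_decompose 𝒜 a]
    unfold homog
    rw [map_sum, map_sum, Finset.sum_mul]
    refine Finset.sum_congr rfl fun i hi => ?_
    rw [map_mul, map_mul, map_pow, map_pow, hπhg, mul_assoc, ← pow_add,
      Nat.add_sub_cancel' (hN i hi)]
  have hπc0 : π (homog 𝒜 g h N a) = 0 := by
    rw [hπ, RingHom.comp_apply, hjc, map_zero]
  have hunit : IsUnit (π g) := by
    rw [hπ, RingHom.comp_apply]
    exact (IsLocalization.map_units Q (⟨g, hgP⟩ : (primeP 𝒜 𝔭 hg hh hh𝔭).primeCompl)).map _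
  have hπa : π a = 0 := by
    rw [hπc0] at hπc
    exact (hunit.pow N).mul_left_eq_zero.mp hπc.symm
  rw [hπ, RingHom.comp_apply, Ideal.Quotient.eq_zero_iff_mem] at hπa
  exact hπa

include hg𝔭 in
theorem ker_liftHom :
    RingHom.ker (liftHom 𝒜 𝔭 hg hh hh𝔭) =
      Ideal.span {algebraMap A (Localization.AtPrime (primeP 𝒜 𝔭 hg hh hh𝔭)) (h - g)} := by
  apply le_antisymm
  · intro z hz
    rw [RingHom.mem_ker] at hz
    obtain ⟨a, s, rfl⟩ := IsLocalization.exists_mk'_eq (primeP 𝒜 𝔭 hg hh hh𝔭).primeCompl z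
    have h1 : evalHom 𝒜 𝔭 hg hh hh𝔭 a = 0 := by
      unfold liftHom at hz
      rw [IsLocalization.lift_mk'_spec] at hz
      rw [hz, mul_zero]
    have h2 := algebraMap_mem_span_of_evalHom_eq_zero 𝒜 𝔭 hg hh hg𝔭 hh𝔭 a h1
    rw [IsLocalization.mk'_eq_mul_mk'_one]
    exact Ideal.mul_mem_right _ _ h2
  · rw [Ideal.span_le, Set.singleton_subset_iff, SetLike.mem_coe, RingHom.mem_ker,
      liftHom_algebraMap, map_sub, evalHom_g_eq, sub_self]

omit h𝔭p in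
/-- minimal primes of a graded ring are homogeneous -/
theorem isHomogeneous_of_mem_minimalPrimes (q : Ideal A) (hq : q ∈ minimalPrimes A) :
    q.IsHomogeneous 𝒜 := by
  haveI : q.IsPrime := hq.1.1
  have h1 : (q.homogeneousCore 𝒜).toIdeal.IsPrime := Ideal.IsPrime.homogeneousCore inferInstance
  have h2 : (q.homogeneousCore 𝒜).toIdeal ≤ q := Ideal.toIdeal_homogeneousCore_le 𝒜 q
  have h3 : q ≤ (q.homogeneousCore 𝒜).toIdeal := hq.2 ⟨h1, bot_le⟩ h2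
  have h4 : q = (q.homogeneousCore 𝒜).toIdeal := le_antisymm h3 h2
  rw [h4]
  exact (q.homogeneousCore 𝒜).isHomogeneous

include hg𝔭 in
theorem one_le_height :
    (1 : ℕ∞) ≤ (Ideal.span
      {algebraMap A (Localization.AtPrime (primeP 𝒜 𝔭 hg hh hh𝔭)) (h - g)}).height := by
  classical
  set Q := Localization.AtPrime (primeP 𝒜 𝔭 hg hh hh𝔭) with hQ
  rw [Ideal.height_eq_inf_minimalPrimes]
  refine le_iInf₂ fun 𝔓 h𝔓 => ?_
  haveI : 𝔓.IsPrime := h𝔓.1.1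
  rw [Order.one_le_iff_ne_zero, Ne, Ideal.height_eq_zero_iff]
  intro hmin
  have h1 : 𝔓.comap (algebraMap A Q) ∈ minimalPrimes A := by
    have h2 := IsLocalization.minimalPrimes_map (primeP 𝒜 𝔭 hg hh hh𝔭).primeCompl Q (⊥ : Ideal A)
    rw [Ideal.map_bot] at h2
    have h3 : 𝔓 ∈ (⊥ : Ideal Q).minimalPrimes := hmin
    rw [h2] at h3
    exact h3
  have hhom := isHomogeneous_of_mem_minimalPrimes 𝒜 _ h1
  have hu : h - g ∈ 𝔓.comap (algebraMap A Q) := h𝔓.1.2 (Ideal.subset_span rfl)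
  have hgmem : g ∈ 𝔓.comap (algebraMap A Q) := by
    have h4 := hhom d hu
    rw [DirectSum.decompose_sub, DirectSum.sub_apply, AddSubgroupClass.coe_sub,
      DirectSum.decompose_of_mem_ne 𝒜 hh (show d + 1 ≠ d by omega),
      DirectSum.decompose_of_mem_same 𝒜 hg, zero_sub] at h4
    simpa using (Ideal.neg_mem_iff _).mp h4
  have hgP : g ∉ primeP 𝒜 𝔭 hg hh hh𝔭 :=
    (notMem_primeP_iff 𝒜 𝔭 hg hh hh𝔭 g).mpr (isUnit_evalHom_of_mem 𝒜 𝔭 hg hh hg𝔭 hh𝔭 hg hg𝔭)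
  have hunit : IsUnit (algebraMap A Q g) :=
    IsLocalization.map_units Q (⟨g, hgP⟩ : (primeP 𝒜 𝔭 hg hh hh𝔭).primeCompl)
  exact (inferInstance : 𝔓.IsPrime).ne_top (Ideal.eq_top_of_isUnit_mem _ hgmem hunit)

include hg hh hg𝔭 hh𝔭 in
/-- **`A_(𝔭)` is Gorenstein when `A` is** (given homogeneous `g`, `h` of consecutive degrees
outside `𝔭`). -/
theorem isGorensteinLocalRing_atPrime [hA : LocCoh.IsGorensteinRing A] :
    LocCoh.IsGorensteinLocalRing (AtPrime 𝒜 𝔭) := by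
  set Q := Localization.AtPrime (primeP 𝒜 𝔭 hg hh hh𝔭) with hQ
  haveI hQG : LocCoh.IsGorensteinLocalRing Q :=
    hA.isGorensteinLocalRing_localization (primeP 𝒜 𝔭 hg hh hh𝔭)
  haveI : IsLocalRing Q := hQG.toIsLocalRing
  have hmem : algebraMap A Q (h - g) ∈ IsLocalRing.maximalIdeal Q := by
    rw [IsLocalRing.mem_maximalIdeal, mem_nonunits_iff]
    intro hu
    have h1 := hu.map (liftHom 𝒜 𝔭 hg hh hh𝔭)
    rw [liftHom_algebraMap, map_sub, evalHom_g_eq, sub_self] at h1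
    exact not_isUnit_zero h1
  have hht : ((1 : ℕ) : ℕ∞) ≤
      (Ideal.span (Set.range (fun _ : Fin 1 => algebraMap A Q (h - g)))).height := by
    rw [Set.range_const]
    exact_mod_cast one_le_height 𝒜 𝔭 hg hh hg𝔭 hh𝔭
  have hG := Groth.Agent.H81.CIGor.isGorensteinLocalRing_quotient_span_range Q 1
    (fun _ => algebraMap A Q (h - g)) (fun _ => hmem) hht
  rw [Set.range_const] at hG
  let e : (Q ⧸ Ideal.span {algebraMap A Q (h - g)}) ≃+* AtPrime 𝒜 𝔭 :=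
    (Ideal.quotEquivOfEq (ker_liftHom 𝒜 𝔭 hg hh hg𝔭 hh𝔭).symm).trans
      (RingHom.quotientKerEquivOfSurjective (liftHom_surjective 𝒜 𝔭 hg hh hg𝔭 hh𝔭))
  exact Groth.Agent.H81.LiaisonGor.isGorensteinLocalRing_of_ringEquiv e hG

section Sharp

open Pointwise

omit h𝔭p in
/-- under condition (#), a relevant prime does not contain `A_e` for `e ≥ d₀` -/
theorem exists_notMem_of_sharp (𝔮 : Ideal A) [h𝔮 : 𝔮.IsPrime]
    (hrel : ¬ (HomogeneousIdeal.irrelevant 𝒜).toIdeal ≤ 𝔮) (d₀ : ℕ)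
    (hsharp : ∀ d : ℕ, d₀ ≤ d → ∀ n : ℕ, 1 ≤ n →
      𝒜 ((n + 1) * d) = AddSubgroup.closure ((𝒜 d : Set A) * (𝒜 (n * d) : Set A)))
    (e : ℕ) (he₀ : d₀ ≤ e) : ∃ g ∈ 𝒜 e, g ∉ 𝔮 := by
  classical
  by_contra hcon
  push Not at hcon
  apply hrel
  -- all `A_{n e}` are in `𝔮`
  have hmul : ∀ n : ℕ, 1 ≤ n → ∀ a ∈ 𝒜 (n * e), a ∈ 𝔮 := by
    intro n hn
    induction n, hn using Nat.le_induction with
    | base =>
      intro a ha
      rw [one_mul] at ha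
      exact hcon a ha
    | succ n hn ih =>
      intro a ha
      rw [hsharp e he₀ n hn] at ha
      induction ha using AddSubgroup.closure_induction with
      | mem y hy =>
        obtain ⟨u, hu, v, -, rfl⟩ := hy
        exact Ideal.mul_mem_right _ _ (hcon u hu)
      | zero => exact zero_mem _
      | add y z _ _ hy hz => exact add_mem hy hz
      | neg y _ hy => exact neg_mem hy
  have hpos : ∀ i : ℕ, 0 < i → ∀ f ∈ 𝒜 i, f ∈ 𝔮 := by
    intro i hi f hf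
    have h1 : f ^ e ∈ 𝒜 (i * e) := by
      have := SetLike.pow_mem_graded e hf
      rwa [smul_eq_mul, mul_comm] at this
    exact h𝔮.mem_of_pow_mem e (hmul i hi _ h1)
  rw [HomogeneousIdeal.toIdeal_irrelevant_le]
  intro i hi f hf
  exact hpos i hi f hf

end Sharp

end Groth.Agent.H81.ProjGor
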