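import Mathlib

/-!
# `κ(p) ⊗_{R_p} C_p` versus `(R/p) ⊗_R C` for a maximal ideal `p`  (helper81)
-/

set_option autoImplicit false
set_option linter.unusedSectionVars false
set_option linter.style.haveILetI false

namespace Groth.Agent.H81.ResidueTensor

universe u

open TensorProduct

variable {R : Type u} [CommRing R] (p : Ideal R) [hp : p.IsMaximal]
  (C : Type u) [AddCommGroup C] [Module R C]

/-- the number of generators of `C_p` over `R_p` is `dim_{R/p} (R/p ⊗ C)`, `p` maximal -/
theorem finrank_residue_tensor :
    Module.finrank (IsLocalRing.ResidueField (Localization.AtPrime p))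
      ((IsLocalRing.ResidueField (Localization.AtPrime p)) ⊗[Localization.AtPrime p]
        LocalizedModule p.primeCompl C) =
    Module.finrank (R ⧸ p) ((R ⧸ p) ⊗[R] C) := by
  letI : Field (R ⧸ p) := Ideal.Quotient.field p
  have e1 : (p.ResidueField ⊗[Localization.AtPrime p] LocalizedModule p.primeCompl C)
      ≃ₗ[p.ResidueField]
      (p.ResidueField ⊗[Localization.AtPrime p] (Localization.AtPrime p ⊗[R] C)) :=
    TensorProduct.AlgebraTensorModule.congr (LinearEquiv.refl p.ResidueField p.ResidueField)
      (LocalizedModule.equivTensorProduct p.primeCompl C)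
  have e2 : (p.ResidueField ⊗[Localization.AtPrime p] (Localization.AtPrime p ⊗[R] C))
      ≃ₗ[p.ResidueField] (p.ResidueField ⊗[R] C) :=
    TensorProduct.AlgebraTensorModule.cancelBaseChange R (Localization.AtPrime p)
      p.ResidueField p.ResidueField C
  have e3 : (p.ResidueField ⊗[R ⧸ p] ((R ⧸ p) ⊗[R] C)) ≃ₗ[p.ResidueField]
      (p.ResidueField ⊗[R] C) :=
    TensorProduct.AlgebraTensorModule.cancelBaseChange R (R ⧸ p) p.ResidueField p.ResidueField C
  show Module.finrank p.ResidueField
    (p.ResidueField ⊗[Localization.AtPrime p] LocalizedModule p.primeCompl C) = _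
  rw [(e1.trans (e2.trans e3.symm)).finrank_eq]
  exact Module.finrank_baseChange

end Groth.Agent.H81.ResidueTensor
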