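import Mathlib
import Groth.Agent.H81.VerSocle
import Groth.Agent.H98.GrStar.Irrel

/-!
# Hilbert function of a standard graded ring of positive depth  (helper81)

`R = ⊕_{n ≥ 0} R_n` Noetherian, `R_0 = k` a field, `m = R_+ = (R_1)`, with `Γ_m(R) = 0`.
If `dim_k R_1 ≥ 2` then `dim_k R_i ≥ 2` for every `i ≥ 1`.
-/

set_option autoImplicit false
set_option linter.unusedSectionVars false
set_option linter.style.haveILetI false

namespace Groth.Agent.H81.StdPieces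

universe u

open Groth.Agent.H98.GrStar Groth.Agent.H81.HullPairing Groth.Agent.H85.GrLCBridge

variable {R : Type u} [CommRing R] [IsNoetherianRing R] (𝒜 : ℤ → AddSubgroup R) [GradedRing 𝒜]
  (hpos : ∀ n : ℤ, n < 0 → 𝒜 n = ⊥) (h0 : IsField (GrLC.deg0 𝒜))
  {m : HomogeneousIdeal 𝒜}
  (hmsp : m.toIdeal = Ideal.span (⋃ n ∈ Set.Ioi (0 : ℤ), (𝒜 n : Set R)))
  (hstd : Ideal.span (⋃ n ∈ Set.Ioi (0 : ℤ), (𝒜 n : Set R)) =
    Ideal.span ((𝒜 1 : AddSubgroup R) : Set R))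

include hpos hmsp in
/-- an element killed by all homogeneous elements of degree `≥ c` is killed by `m ^ c` -/
theorem mul_eq_zero_of_mem_pow (x : R) (c : ℕ)
    (hx : ∀ b : ℕ, ∀ r ∈ 𝒜 ((c : ℤ) + b), r * x = 0) : ∀ r ∈ m.toIdeal ^ c, r * x = 0 := by
  classical
  intro r hr
  have h1 : r ∈ geIdeal 𝒜 (hpos' 𝒜 hpos) (c : ℤ) :=
    pow_le_geIdeal 𝒜 (hpos' 𝒜 hpos) m.toIdeal hmsp c hr
  rw [← DirectSum.sum_support_decompose 𝒜 r, Finset.sum_mul]
  refine Finset.sum_eq_zero fun d _ => ?_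
  by_cases hd : d < c
  · rw [h1 d hd, zero_mul]
  · have h2 : d = (c : ℤ) + ((d - c).toNat : ℤ) := by
      rw [Int.toNat_of_nonneg (by omega)]
      ring
    have h3 : (DirectSum.decompose 𝒜 r d : R) ∈ 𝒜 ((c : ℤ) + ((d - c).toNat : ℤ)) := by
      rw [← h2]
      exact SetLike.coe_mem _
    exact hx _ _ h3

variable (hΓ : ∀ x : R, (∃ N : ℕ, ∀ r ∈ m.toIdeal ^ N, r * x = 0) → x = 0)

include hpos h0 hmsp hstd hΓ in
/-- an element killed by `R_c` (`c ≥ 0`) vanishes -/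
theorem eq_zero_of_kill (x : R) (c : ℕ) (hx : ∀ r ∈ 𝒜 (c : ℤ), r * x = 0) : x = 0 := by
  apply hΓ
  refine ⟨c, mul_eq_zero_of_mem_pow 𝒜 hpos hmsp x c ?_⟩
  intro b r hr
  exact Groth.Agent.H81.VerSocle.smul_eq_zero_of_kill 𝒜 h0 hstd (E' := R) x (c : ℤ)
    (by omega) hx b r hr

include hpos h0 hmsp hstd hΓ in
/-- all positive pieces are nonzero -/
theorem exists_ne_zero (h1 : ∃ z ∈ 𝒜 1, z ≠ 0) : ∀ j : ℕ, ∃ z ∈ 𝒜 ((j : ℤ) + 1), z ≠ 0 := by
  intro j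
  induction j with
  | zero =>
    obtain ⟨z, hz, hz0⟩ := h1
    exact ⟨z, by rwa [Nat.cast_zero, zero_add], hz0⟩
  | succ j ih =>
    obtain ⟨z, hz, hz0⟩ := ih
    by_contra hcon
    push Not at hcon
    apply hz0
    apply eq_zero_of_kill 𝒜 hpos h0 hmsp hstd hΓ z 1
    intro r hr
    apply hcon
    have := SetLike.GradedMul.mul_mem (A := 𝒜) hr hz
    have h2 : ((1 : ℕ) : ℤ) + ((j : ℤ) + 1) = ((j + 1 : ℕ) : ℤ) + 1 := by push_cast; ring
    rwa [h2] at this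

include hpos h0 hmsp hstd hΓ in
/-- **`dim_k R_i ≥ 2` for `i ≥ 1`** when `dim_k R_1 ≥ 2` and `Γ_m(R) = 0`. -/
theorem two_le_finrank (hR1 : 2 ≤ Module.finrank (GrLC.deg0 𝒜) (GrLC.comp 𝒜 𝒜 1))
    (i : ℤ) (hi : 1 ≤ i) : 2 ≤ Module.finrank (GrLC.deg0 𝒜) (GrLC.comp 𝒜 𝒜 i) := by
  classical
  letI : Field (GrLC.deg0 𝒜) := h0.toField
  haveI hfin : ∀ j : ℤ, Module.Finite (GrLC.deg0 𝒜) (GrLC.comp 𝒜 𝒜 j) :=
    fun j => Groth.Agent.H81.CanonPieces.finite_comp 𝒜 hpos h0 𝒜 j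
  by_contra hlt
  have hle : Module.finrank (GrLC.deg0 𝒜) (GrLC.comp 𝒜 𝒜 i) ≤ 1 := by omega
  rw [finrank_le_one_iff] at hle
  obtain ⟨⟨u, hu⟩, hspan⟩ := hle
  have hspan' : ∀ r ∈ 𝒜 i, ∃ c ∈ 𝒜 0, c * u = r := by
    intro r hr
    obtain ⟨c, hc⟩ := hspan ⟨r, hr⟩
    exact ⟨c.1, c.2, congrArg Subtype.val hc⟩
  -- `R_1` is not spanned by one element
  have hR1' : ∀ y ∈ 𝒜 1, ∃ w ∈ 𝒜 1, ∀ c ∈ 𝒜 0, c * y ≠ w := by
    intro y hy
    by_contra hcon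
    push Not at hcon
    have : Module.finrank (GrLC.deg0 𝒜) (GrLC.comp 𝒜 𝒜 1) ≤ 1 := by
      rw [finrank_le_one_iff]
      refine ⟨⟨y, hy⟩, fun w => ?_⟩
      obtain ⟨c, hc, hcw⟩ := hcon w.1 w.2
      exact ⟨⟨c, hc⟩, Subtype.ext hcw⟩
    omega
  have h1ne : ∃ z ∈ 𝒜 1, z ≠ 0 := by
    obtain ⟨w, hw, hw0⟩ := hR1' 0 (zero_mem _)
    refine ⟨w, hw, fun h => ?_⟩
    exact hw0 1 (SetLike.GradedOne.one_mem (A := 𝒜)) (by rw [mul_zero, h])
  -- `u ≠ 0`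
  have hu0 : u ≠ 0 := by
    obtain ⟨z, hz, hz0⟩ := exists_ne_zero 𝒜 hpos h0 hmsp hstd hΓ h1ne (i - 1).toNat
    have h2 : (((i - 1).toNat : ℕ) : ℤ) + 1 = i := by
      rw [Int.toNat_of_nonneg (by omega)]
      ring
    rw [h2] at hz
    obtain ⟨c, _, hc⟩ := hspan' z hz
    intro h
    rw [h, mul_zero] at hc
    exact hz0 hc.symm
  -- a nonzero product `y z`, `y ∈ R_1`, `z ∈ R_{i-1}`
  have hprod : ∃ y ∈ 𝒜 1, ∃ z ∈ 𝒜 (i - 1), y * z ≠ 0 := by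
    by_contra hcon
    push Not at hcon
    apply hu0
    have hu' : u ∈ sub 𝒜 ((i - 1) + 1) := by
      rw [sub_add_cancel]
      exact hu
    have h3 := Groth.Agent.H85.StdGraded.mem_prodSpan (sub 𝒜) hstd (by omega : 0 ≤ i - 1) hu'
    refine Submodule.span_induction (p := fun r _ => r = 0) ?_ rfl ?_ ?_ h3
    · rintro _ ⟨y, hy, z, hz, rfl⟩
      exact hcon y hy z hz
    · intro a b _ _ ha hb
      rw [ha, hb, add_zero]
    · intro l z _ hz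
      rw [hz, smul_zero]
  obtain ⟨y, hy, z, hz, hyz⟩ := hprod
  have hyzmem : y * z ∈ 𝒜 i := by
    have := SetLike.GradedMul.mul_mem (A := 𝒜) hy hz
    have h4 : (1 : ℤ) + (i - 1) = i := by ring
    rwa [h4] at this
  obtain ⟨c, hc, hcu⟩ := hspan' (y * z) hyzmem
  obtain ⟨w, hw, hwy⟩ := hR1' y hy
  have hwzmem : w * z ∈ 𝒜 i := by
    have := SetLike.GradedMul.mul_mem (A := 𝒜) hw hz
    have h4 : (1 : ℤ) + (i - 1) = i := by ring
    rwa [h4] at this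
  obtain ⟨c', hc', hc'u⟩ := hspan' (w * z) hwzmem
  -- `c` is invertible in `R_0`
  have hc0 : c ≠ 0 := by
    intro h
    rw [h, zero_mul] at hcu
    exact hyz hcu.symm
  obtain ⟨⟨d, hd⟩, hcd⟩ := h0.mul_inv_cancel (a := ⟨c, hc⟩) (fun h => hc0 (congrArg Subtype.val h))
  have hcd' : c * d = 1 := congrArg Subtype.val hcd
  set w'' : R := c * w - c' * y with hw''
  have hw''mem : w'' ∈ 𝒜 1 := by
    apply sub_mem
    · have := SetLike.GradedMul.mul_mem (A := 𝒜) hc hw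
      rwa [zero_add] at this
    · have := SetLike.GradedMul.mul_mem (A := 𝒜) hc' hy
      rwa [zero_add] at this
  have hw''z : w'' * z = 0 := by
    rw [hw'', sub_mul, mul_assoc, mul_assoc, ← hc'u, ← hcu]
    ring
  have hw''0 : w'' ≠ 0 := by
    intro h
    rw [hw'', sub_eq_zero] at h
    apply hwy (d * c') (by
      have := SetLike.GradedMul.mul_mem (A := 𝒜) hd hc'
      rwa [zero_add] at this)
    calc d * c' * y = d * (c' * y) := by ring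
      _ = d * (c * w) := by rw [h]
      _ = (c * d) * w := by ring
      _ = w := by rw [hcd', one_mul]
  have huw : u * w'' = 0 := by
    calc u * w'' = (c * d) * (u * w'') := by rw [hcd', one_mul]
      _ = d * ((c * u) * w'') := by ring
      _ = d * (y * (w'' * z)) := by rw [hcu]; ring
      _ = 0 := by rw [hw''z, mul_zero, mul_zero]
  apply hw''0
  apply eq_zero_of_kill 𝒜 hpos h0 hmsp hstd hΓ w'' i.toNat
  intro r hr
  rw [Int.toNat_of_nonneg (by omega)] at hr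
  obtain ⟨cr, _, hcr⟩ := hspan' r hr
  rw [← hcr, mul_assoc, huw, mul_zero]

end Groth.Agent.H81.StdPieces
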