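import Mathlib

set_option autoImplicit false
universe u v w

open TensorProduct CommRing

namespace Groth.Agent.H81.Steinitz

section Split

variable {R : Type*} [CommRing R] {E F : Type*} [AddCommGroup E] [Module R E]
  [AddCommGroup F] [Module R F]

/-- A split surjection decomposes the source as target times kernel. -/
noncomputable def splitEquiv (f : E →ₗ[R] F) (s : F →ₗ[R] E) (h : ∀ y, f (s y) = y) :
    E ≃ₗ[R] F × LinearMap.ker f where
  toFun x := (f x, ⟨x - s (f x), by simp [LinearMap.mem_ker, h]⟩)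
  map_add' x y := by
    ext
    · simp
    · simp only [map_add, Prod.mk_add_mk, AddMemClass.mk_add_mk]
      abel
  map_smul' r x := by
    ext
    · simp
    · simp [smul_sub]
  invFun p := s p.1 + p.2.1
  left_inv x := by simp
  right_inv p := by
    obtain ⟨r, y, hy⟩ := p
    rw [LinearMap.mem_ker] at hy
    ext
    · simp [h, hy]
    · simp [h, hy]

end Split

variable {R : Type u} [CommRing R]

/-- For ideals with `J` flat, `I ⊗ J ≃ I * J`. -/
noncomputable def idealTensorEquivMul (I J : Ideal R) [Module.Flat R J] :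
    I ⊗[R] J ≃ₗ[R] ↥(I * J) :=
  Submodule.LinearDisjoint.mulMap
    (.of_left_le_one_of_flat I J (le_top.trans Ideal.one_eq_top.ge))

theorem exists_coprime_mul_principal [IsDedekindDomain R] {I J : Ideal R} (hI : I ≠ ⊥)
    (hJ : J ≠ ⊥) :
    ∃ (K : Ideal R) (a : R), a ≠ 0 ∧ J * K = Ideal.span {a} ∧ I ⊔ K = ⊤ := by
  have hJI : J * I ≠ 0 := mul_ne_zero hJ hI
  obtain ⟨a₀, ha₀⟩ := IsDedekindDomain.exists_sup_span_eq (I := J * I) (J := J)
    Ideal.mul_le_left hJI
  obtain ⟨a, ha, hsup⟩ : ∃ a : R, a ≠ 0 ∧ J * I ⊔ Ideal.span {a} = J := by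
    by_cases h0 : a₀ = 0
    · subst h0
      obtain ⟨b, hbJ, hb⟩ := Submodule.exists_mem_ne_zero_of_ne_bot hJ
      refine ⟨b, hb, ?_⟩
      have h1 : J * I = J := by simpa using ha₀
      rw [h1]
      exact sup_eq_left.mpr ((Ideal.span_singleton_le_iff_mem J).mpr hbJ)
    · exact ⟨a₀, h0, ha₀⟩
  have haJ : Ideal.span {a} ≤ J := by
    rw [← hsup]; exact le_sup_right
  obtain ⟨K, hK⟩ := Ideal.dvd_iff_le.mpr haJ
  refine ⟨K, a, ha, hK.symm, ?_⟩
  have h2 : J * (I ⊔ K) = J * ⊤ := by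
    rw [Ideal.mul_sup, ← hK, hsup, Ideal.mul_top]
  exact mul_left_cancel₀ hJ h2

/-- kernel of the sum map `I × K → R` is `I ⊓ K`. -/
noncomputable def kerCoprodEquiv (I K : Ideal R) :
    LinearMap.ker (I.subtype.coprod K.subtype) ≃ₗ[R] ↥(I ⊓ K) where
  toFun y := ⟨y.1.1.1, y.1.1.2, by
    have h := y.2
    rw [LinearMap.mem_ker, LinearMap.coprod_apply] at h
    have h2 : (y.1.1 : R) = -(y.1.2 : R) := eq_neg_of_add_eq_zero_left h
    rw [h2]
    exact K.neg_mem y.1.2.2⟩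
  map_add' x y := rfl
  map_smul' r x := rfl
  invFun x := ⟨(⟨x.1, x.2.1⟩, ⟨-x.1, K.neg_mem x.2.2⟩), by
    rw [LinearMap.mem_ker, LinearMap.coprod_apply]
    simp⟩
  left_inv y := by
    have h := y.2
    rw [LinearMap.mem_ker, LinearMap.coprod_apply] at h
    have h2 : (y.1.2 : R) = -(y.1.1 : R) := eq_neg_of_add_eq_zero_right h
    ext
    · rfl
    · simp [h2]
  right_inv x := rfl

theorem nonempty_prod_equiv_of_sup_eq_top {I K : Ideal R} (h : I ⊔ K = ⊤) :
    Nonempty ((I × K) ≃ₗ[R] (R × ↥(I ⊓ K))) := by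
  let f : (I × K) →ₗ[R] R := I.subtype.coprod K.subtype
  have hf : Function.Surjective f := by
    rw [← LinearMap.range_eq_top, LinearMap.range_coprod, Submodule.range_subtype,
      Submodule.range_subtype]
    exact h
  obtain ⟨s, hs⟩ := Module.projective_lifting_property f LinearMap.id hf
  have hs' : ∀ y, f (s y) = y := fun y => LinearMap.congr_fun hs y
  exact ⟨(splitEquiv f s hs').trans
    (LinearEquiv.prodCongr (LinearEquiv.refl R R) (kerCoprodEquiv I K))⟩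


theorem ideal_ne_bot_of_equiv [Nontrivial R] {N : Type v} [AddCommGroup N] [Module R N]
    [Module.Invertible R N] {I : Ideal R} (e : N ≃ₗ[R] I) : I ≠ ⊥ := by
  rintro rfl
  have hsub : Subsingleton N := e.toEquiv.subsingleton
  have : (1 : R) = 0 := by
    apply FaithfulSMul.eq_of_smul_eq_smul (M := R) (α := N)
    intro m
    exact Subsingleton.elim _ _
  exact one_ne_zero this

theorem steinitz [IsDedekindDomain R] (N : Type v) (L : Type w) [AddCommGroup N] [Module R N]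
    [Module.Invertible R N] [AddCommGroup L] [Module R L] [Module.Invertible R L] :
    Nonempty ((N × L) ≃ₗ[R] (R × (N ⊗[R] L))) := by
  obtain ⟨I, ⟨eI⟩⟩ := Module.Invertible.exists_linearEquiv_ideal R N
  obtain ⟨J, ⟨eJ⟩⟩ := Module.Invertible.exists_linearEquiv_ideal R (Module.Dual R L)
  have hI : I ≠ ⊥ := ideal_ne_bot_of_equiv eI
  have hJ : J ≠ ⊥ := ideal_ne_bot_of_equiv eJ
  obtain ⟨K, a, ha, hJK, hIK⟩ := exists_coprime_mul_principal hI hJ
  have : Module.Flat R J := Module.Flat.of_linearEquiv eJ.symm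
  have hKJ : K * J = Ideal.span {a} := by rw [mul_comm]; exact hJK
  let eKJ : K ⊗[R] J ≃ₗ[R] R :=
    (idealTensorEquivMul K J).trans ((LinearEquiv.ofEq _ _ hKJ).trans
      (LinearEquiv.toSpanNonzeroSingleton R R a ha).symm)
  let eK : K ≃ₗ[R] L :=
    (Module.Invertible.linearEquivDual eKJ).trans
      (eJ.dualMap.trans (Module.evalEquiv R L).symm)
  have : Module.Flat R K := Module.Flat.of_linearEquiv eK
  obtain ⟨e1⟩ := nonempty_prod_equiv_of_sup_eq_top hIK
  have hinf : I ⊓ K = I * K :=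
    (Ideal.mul_eq_inf_of_isCoprime (Ideal.isCoprime_iff_sup_eq.mpr hIK)).symm
  let e2 : ↥(I ⊓ K) ≃ₗ[R] N ⊗[R] L :=
    (LinearEquiv.ofEq _ _ hinf).trans ((idealTensorEquivMul I K).symm.trans
      (TensorProduct.congr eI.symm eK))
  exact ⟨(LinearEquiv.prodCongr eI eK.symm).trans
    (e1.trans (LinearEquiv.prodCongr (LinearEquiv.refl R R) e2))⟩


theorem pow_decomp [IsDedekindDomain R] (N : Type v) [AddCommGroup N] [Module R N]
    [Module.Invertible R N] (k : ℕ) :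
    Nonempty ((Fin (k + 1) → N) ≃ₗ[R] ((Fin k → R) × ↥(Pic.mk R N ^ (k + 1)))) := by
  induction k with
  | zero =>
    have h1 : Pic.mk R N = Pic.mk R N ^ (0 + 1) := by simp
    obtain ⟨e⟩ := Pic.mk_eq_iff.mp h1
    let b1 : (Fin (0 + 1) → N) ≃ₗ[R] N := LinearEquiv.funUnique (Fin 1) R N
    let b3 : ↥(Pic.mk R N ^ (0 + 1)) ≃ₗ[R] (Fin 0 → R) × ↥(Pic.mk R N ^ (0 + 1)) :=
      (LinearEquiv.uniqueProd (R := R) (M := ↥(Pic.mk R N ^ (0 + 1))) (M₂ := Fin 0 → R)).symm
    exact ⟨b1.trans (e.trans b3)⟩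
  | succ k ih =>
    obtain ⟨e⟩ := ih
    set P := Pic.mk R N ^ (k + 1) with hP
    have h1 : Pic.mk R (N ⊗[R] ↥P) = Pic.mk R N ^ (k + 1 + 1) := by
      rw [Pic.mk_tensor, Pic.mk_eq_self, pow_succ' _ (k + 1)]
    obtain ⟨e1⟩ := Pic.mk_eq_iff.mp h1
    obtain ⟨e2⟩ := steinitz (R := R) N ↥P
    -- (Fin (k+2) → N) ≃ N × (Fin (k+1) → N) ≃ N × ((Fin k → R) × P)
    let a1 : (Fin (k + 1 + 1) → N) ≃ₗ[R] N × (Fin (k + 1) → N) :=
      (Fin.consLinearEquiv R (fun _ : Fin (k + 1 + 1) => N)).symm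
    let a2 : (N × (Fin (k + 1) → N)) ≃ₗ[R] N × ((Fin k → R) × ↥P) :=
      LinearEquiv.prodCongr (LinearEquiv.refl R N) e
    -- N × ((Fin k → R) × P) ≃ (Fin k → R) × (N × P)
    let a3 : (N × ((Fin k → R) × ↥P)) ≃ₗ[R] (Fin k → R) × (N × ↥P) :=
      (LinearEquiv.prodAssoc R N (Fin k → R) ↥P).symm.trans
        ((LinearEquiv.prodCongr (LinearEquiv.prodComm R N (Fin k → R)) (LinearEquiv.refl R ↥P)).trans
          (LinearEquiv.prodAssoc R (Fin k → R) N ↥P))
    let a4 : ((Fin k → R) × (N × ↥P)) ≃ₗ[R] (Fin k → R) × (R × ↥(Pic.mk R N ^ (k + 1 + 1))) :=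
      LinearEquiv.prodCongr (LinearEquiv.refl R _) (e2.trans (LinearEquiv.prodCongr (LinearEquiv.refl R R) e1))
    let a5 : ((Fin k → R) × (R × ↥(Pic.mk R N ^ (k + 1 + 1)))) ≃ₗ[R]
        (Fin (k + 1) → R) × ↥(Pic.mk R N ^ (k + 1 + 1)) :=
      (LinearEquiv.prodAssoc R (Fin k → R) R _).symm.trans
        (LinearEquiv.prodCongr ((LinearEquiv.prodComm R (Fin k → R) R).trans
          (Fin.consLinearEquiv R (fun _ : Fin (k + 1) => R))) (LinearEquiv.refl R _))
    exact ⟨a1.trans (a2.trans (a3.trans (a4.trans a5)))⟩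


theorem main [IsDedekindDomain R] (N : Type v) [AddCommGroup N] [Module R N]
    [Module.Invertible R N] (n : ℕ) (h : Pic.mk R N ^ n = 1) :
    Nonempty ((Fin n → N) ≃ₗ[R] (Fin n → R)) := by
  cases n with
  | zero => exact ⟨LinearEquiv.ofSubsingleton _ _⟩
  | succ k =>
    obtain ⟨e⟩ := pow_decomp (R := R) N k
    obtain ⟨e1⟩ := Pic.mk_eq_one_iff.mp (Pic.mk_eq_self.trans h)
    let a : ((Fin k → R) × ↥(Pic.mk R N ^ (k + 1))) ≃ₗ[R] (Fin (k + 1) → R) :=
      (LinearEquiv.prodCongr (LinearEquiv.refl R (Fin k → R)) e1).trans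
        ((LinearEquiv.prodComm R (Fin k → R) R).trans
          (Fin.consLinearEquiv R (fun _ : Fin (k + 1) => R)))
    exact ⟨e.trans a⟩

end Groth.Agent.H81.Steinitz
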