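import Mathlib
import Groth.Agent.S16397

/-!
# The relation ideal of the formal relation ring in low second degree  (helper81)

On top of helper92's `sl₂` commutation relation (`Groth.Agent.S16397.iter_comm`): second-degree
bookkeeping for the operator `F`, the vanishing `F^(a+b)(x₂₀^a ν) = 0` for `a + b > g ≥ b`, and the
support argument for the relation ideal.
-/

set_option autoImplicit false
set_option linter.unusedSectionVars false
set_option linter.unusedVariables false

open MvPolynomial W4c3tautjacobian Groth.Agent.S16397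

namespace Groth.Agent.H81.TautRel

variable (g : ℕ)

/-- second-degree weight -/
def w2 : Var g → ℕ := fun v => (wt g v).2

/-- ℤ-indexed homogeneous pieces for the second degree -/
noncomputable def Mz2 (z : ℤ) : Submodule ℚ (RelRing g) :=
  if 0 ≤ z then weightedHomogeneousSubmodule ℚ (w2 g) z.toNat else ⊥

theorem mem_Mz2_of_nonneg {z : ℤ} (hz : 0 ≤ z) {P : RelRing g} :
    P ∈ Mz2 g z ↔ IsWeightedHomogeneous (w2 g) P z.toNat := by
  unfold Mz2; rw [if_pos hz, mem_weightedHomogeneousSubmodule]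

theorem mem_Mz2_of_neg {z : ℤ} (hz : z < 0) {P : RelRing g} : P ∈ Mz2 g z ↔ P = 0 := by
  unfold Mz2; rw [if_neg (not_le.mpr hz), Submodule.mem_bot]

theorem mul_mem_Mz2 {a b : ℤ} {P Q : RelRing g} (hP : P ∈ Mz2 g a) (hQ : Q ∈ Mz2 g b) :
    P * Q ∈ Mz2 g (a + b) := by
  by_cases ha : 0 ≤ a
  · by_cases hb : 0 ≤ b
    · rw [mem_Mz2_of_nonneg g ha] at hP
      rw [mem_Mz2_of_nonneg g hb] at hQ
      rw [mem_Mz2_of_nonneg g (add_nonneg ha hb), Int.toNat_add ha hb]
      exact hP.mul hQ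
    · rw [mem_Mz2_of_neg g (not_le.mp hb)] at hQ
      rw [hQ, mul_zero]; exact zero_mem _
  · rw [mem_Mz2_of_neg g (not_le.mp ha)] at hP
    rw [hP, zero_mul]; exact zero_mem _

theorem C_mem2 (c : ℚ) : (C c : RelRing g) ∈ Mz2 g 0 := by
  rw [mem_Mz2_of_nonneg g le_rfl]
  exact isWeightedHomogeneous_C _ _

theorem natCast_mem2 (n : ℕ) : ((n : ℕ) : RelRing g) ∈ Mz2 g 0 := by
  have : ((n : ℕ) : RelRing g) = C (n : ℚ) := by simp
  rw [this]; exact C_mem2 g _

theorem Xnone_mem2 : (X none : RelRing g) ∈ Mz2 g 2 := by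
  rw [mem_Mz2_of_nonneg g (by norm_num)]
  exact isWeightedHomogeneous_X _ _ _

theorem xv_mem2 (i j : ℤ) : xv g i j ∈ Mz2 g j := by
  unfold xv
  split_ifs with h0 h
  · rw [h0.2]; exact natCast_mem2 g g
  · rw [mem_Mz2_of_nonneg g h.2.1]
    exact isWeightedHomogeneous_X _ _ _
  · exact zero_mem _

theorem dv_mem2 (p : ℕ × ℕ) {z : ℤ} {P : RelRing g} (hP : P ∈ Mz2 g z) :
    dv g p P ∈ Mz2 g (z - p.2) := by
  unfold dv
  split_ifs with h
  · by_cases hz : 0 ≤ z
    · rw [mem_Mz2_of_nonneg g hz] at hP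
      by_cases hzp : 0 ≤ z - p.2
      · rw [mem_Mz2_of_nonneg g hzp]
        apply hP.pderiv
        show (z - p.2).toNat + p.2 = z.toNat
        omega
      · rw [mem_Mz2_of_neg g (not_le.mp hzp)]
        apply pderiv_eq_zero_of_lt hP
        show z.toNat < p.2
        omega
    · rw [mem_Mz2_of_neg g (not_le.mp hz)] at hP
      rw [hP, map_zero]; exact zero_mem _
  · exact zero_mem _

/-- `F` preserves the second degree -/
theorem F_mem2 {z : ℤ} {P : RelRing g} (hP : P ∈ Mz2 g z) : F g P ∈ Mz2 g z := by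
  unfold F
  apply Submodule.add_mem
  · apply Submodule.smul_mem
    apply Submodule.sum_mem; intro p _
    apply Submodule.sum_mem; intro q _
    have h1 := dv_mem2 g p (dv_mem2 g q hP)
    have hc : (X none * xv g ((p.1 : ℤ) - 1) ((p.2 : ℤ) - 1)
          * xv g ((q.1 : ℤ) - 1) ((q.2 : ℤ) - 1)
        - (mergeCoeff p.1 q.1 : RelRing g) * xv g ((p.1 : ℤ) + q.1 - 2) ((p.2 : ℤ) + q.2))
        ∈ Mz2 g ((p.2 : ℤ) + q.2) := by
      apply Submodule.sub_mem
      · have := mul_mem_Mz2 g (mul_mem_Mz2 g (Xnone_mem2 g)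
          (xv_mem2 g ((p.1 : ℤ) - 1) ((p.2 : ℤ) - 1)))
          (xv_mem2 g ((q.1 : ℤ) - 1) ((q.2 : ℤ) - 1))
        convert this using 2; ring
      · have := mul_mem_Mz2 g (natCast_mem2 g (mergeCoeff p.1 q.1))
          (xv_mem2 g ((p.1 : ℤ) + q.1 - 2) ((p.2 : ℤ) + q.2))
        convert this using 2; ring
    have := mul_mem_Mz2 g hc h1
    convert this using 2; ring
  · apply Submodule.sum_mem; intro p _
    have := mul_mem_Mz2 g (xv_mem2 g ((p.1 : ℤ) - 2) (p.2 : ℤ)) (dv_mem2 g p hP)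
    convert this using 2; ring

theorem iter_mem2 {z : ℤ} {P : RelRing g} (hP : P ∈ Mz2 g z) (m : ℕ) :
    (F g)^[m] P ∈ Mz2 g z := by
  induction m with
  | zero => simpa using hP
  | succ m ih =>
    rw [Function.iterate_succ_apply']
    exact F_mem2 g ih

/-! ### the `sl₂` vanishing -/

theorem pow_xv_mem (a : ℕ) : xv g 2 0 ^ a ∈ Mz g (2 * (a : ℤ)) := by
  induction a with
  | zero =>
    rw [pow_zero]
    have := C_mem g 1
    simpa using this
  | succ a ih =>
    rw [pow_succ]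
    have := mul_mem_Mz g ih (xv_mem g 2 0)
    convert this using 2
    push_cast; ring

/-- for `ν` of first degree `2b` with `b ≤ g` and `a + b > g`: `F^(a+b)(x₂₀^a ν) = 0` -/
theorem iter_pow_mul_eq_zero (hg : 1 ≤ g) (b : ℕ) (hb : b ≤ g) {ν : RelRing g}
    (hν : ν ∈ Mz g (2 * (b : ℤ))) :
    ∀ a : ℕ, g < a + b → (F g)^[a + b] (xv g 2 0 ^ a * ν) = 0 := by
  intro a
  induction a with
  | zero => intro h; omega
  | succ a ih =>
    intro h
    have hP : xv g 2 0 ^ a * ν ∈ Mz g (2 * (a : ℤ) + 2 * (b : ℤ)) :=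
      mul_mem_Mz g (pow_xv_mem g a) hν
    have e1 : xv g 2 0 ^ (a + 1) * ν = xv g 2 0 * (xv g 2 0 ^ a * ν) := by ring
    have e2 : a + 1 + b = (a + b) + 1 := by ring
    rw [e1, e2, iter_comm g hg hP (a + b)]
    have h1 := iter_mem g hP (a + b + 1)
    rw [mem_Mz_of_neg g (by push_cast; omega)] at h1
    rw [h1, mul_zero, zero_add]
    by_cases hlt : g < a + b
    · rw [ih hlt, smul_zero]
    · have hab : a + b = g := by omega
      have : (((a + b : ℕ) : ℚ) + 1) * ((g : ℚ) - ((2 * (a : ℤ) + 2 * (b : ℤ) : ℤ) : ℚ)) +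
          (((a + b : ℕ) : ℚ) + 1) * ((a + b : ℕ) : ℚ) = 0 := by
        have h2 : ((2 * (a : ℤ) + 2 * (b : ℤ) : ℤ) : ℚ) = 2 * ((a + b : ℕ) : ℚ) := by
          push_cast; ring
        rw [h2, hab]
        ring
      rw [this, zero_smul]

/-! ### weights of monomials -/

theorem weight_fst (s : Var g →₀ ℕ) :
    Finsupp.weight (w1 g) s = (Finsupp.weight (wt g) s).1 := by
  simp only [Finsupp.weight_apply, Finsupp.sum, Prod.fst_sum, Prod.smul_fst]
  rfl

theorem weight_snd (s : Var g →₀ ℕ) :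
    Finsupp.weight (w2 g) s = (Finsupp.weight (wt g) s).2 := by
  simp only [Finsupp.weight_apply, Finsupp.sum, Prod.snd_sum, Prod.smul_snd]
  rfl

/-- the variable `x 2 0` -/
def v20 (hg : 1 ≤ g) : Var g := some ⟨(2, 0), valid20 g hg⟩

/-- every variable other than `x 2 0` has first degree at most three times its second degree -/
theorem w1_le (hg : 1 ≤ g) (v : Var g) (hv : v ≠ v20 g hg) : w1 g v ≤ 3 * w2 g v := by
  rcases v with _ | ⟨⟨i, j⟩, h⟩
  · show (0 : ℕ) ≤ 3 * 2
    norm_num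
  · show i ≤ 3 * j
    obtain ⟨h1, h2, h3, h4⟩ := h
    simp only at h1 h2 h3
    rcases Nat.eq_zero_or_pos j with hj | hj
    · subst hj
      exfalso
      have hi : i = 0 ∨ i = 2 := by
        rcases h3 with ⟨r, hr⟩
        omega
      rcases hi with rfl | rfl
      · exact h4 rfl
      · exact hv rfl
    · omega

theorem weight_w1_le (hg : 1 ≤ g) (s : Var g →₀ ℕ) (hs : s (v20 g hg) = 0) :
    Finsupp.weight (w1 g) s ≤ 3 * Finsupp.weight (w2 g) s := by
  simp only [Finsupp.weight_apply, Finsupp.sum, smul_eq_mul]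
  rw [Finset.mul_sum]
  apply Finset.sum_le_sum
  intro v hv
  have hne : v ≠ v20 g hg := by
    rintro rfl
    exact (Finsupp.mem_support_iff.mp hv) hs
  have := w1_le g hg v hne
  calc s v * w1 g v ≤ s v * (3 * w2 g v) := Nat.mul_le_mul_left _ this
    _ = 3 * (s v * w2 g v) := by ring

/-- a generator `F^k(x^d)` of the relation ideal whose first degree is `0` and whose second degree is
at most `2g/3` vanishes -/
theorem iter_monomial_eq_zero (hg : 1 ≤ g) (d : Var g →₀ ℕ) (k : ℕ)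
    (h1 : Finsupp.weight (w1 g) d = 2 * k) (hk : g < k)
    (h2 : 3 * Finsupp.weight (w2 g) d ≤ 2 * g) :
    (F g)^[k] (monomial d (1 : ℚ)) = 0 := by
  classical
  set a := d (v20 g hg) with ha
  set d' := d.erase (v20 g hg) with hd'
  have hd : d = Finsupp.single (v20 g hg) a + d' := (Finsupp.single_add_erase _ _).symm
  have hmon : monomial d (1 : ℚ) = xv g 2 0 ^ a * monomial d' 1 := by
    rw [xv20 g hg]
    conv_lhs => rw [hd]
    rw [X_pow_eq_monomial, monomial_mul, mul_one]
    rfl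
  have hw1 : Finsupp.weight (w1 g) d = 2 * a + Finsupp.weight (w1 g) d' := by
    conv_lhs => rw [hd]
    rw [map_add, Finsupp.weight_single]
    show a • (2 : ℕ) + _ = _
    rw [smul_eq_mul, mul_comm]
  have hw2 : Finsupp.weight (w2 g) d' ≤ Finsupp.weight (w2 g) d := by
    conv_rhs => rw [hd]
    rw [map_add]
    exact Nat.le_add_left _ _
  have hd'0 : d' (v20 g hg) = 0 := Finsupp.erase_same
  have h3 := weight_w1_le g hg d' hd'0
  -- `b = k - a`
  have hak : a ≤ k := by omega
  obtain ⟨b, rfl⟩ := Nat.exists_eq_add_of_le hak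
  have hb1 : Finsupp.weight (w1 g) d' = 2 * b := by omega
  have hbg : b ≤ g := by omega
  have hν : monomial d' (1 : ℚ) ∈ Mz g (2 * (b : ℤ)) := by
    rw [mem_Mz_of_nonneg g (by positivity)]
    have : (2 * (b : ℤ)).toNat = 2 * b := by omega
    rw [this, ← hb1]
    exact isWeightedHomogeneous_monomial _ _ _ rfl
  rw [hmon]
  exact iter_pow_mul_eq_zero g hg b hbg hν a hk

/-! ### the support argument -/

/-- the "bad" monomials: first degree `0` and second degree at most `n` -/
def Bad (n : ℕ) (m : Var g →₀ ℕ) : Prop :=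
  Finsupp.weight (w1 g) m = 0 ∧ Finsupp.weight (w2 g) m ≤ n

/-- a generator `F^k(x^d)` with `w₁(d) > 2g` has no monomial of bidegree `(0, ≤ n)`, `3n ≤ 2g` -/
theorem generator_support (hg : 1 ≤ g) (n : ℕ) (hn : 3 * n ≤ 2 * g) (d : Var g →₀ ℕ) (k : ℕ)
    (hd : 2 * g < Finsupp.weight (w1 g) d) (m : Var g →₀ ℕ)
    (hm : m ∈ ((F g)^[k] (monomial d (1 : ℚ))).support) : ¬ Bad g n m := by
  rintro ⟨hb1, hb2⟩
  have hG : (F g)^[k] (monomial d (1 : ℚ)) ≠ 0 := by
    intro h0
    rw [h0] at hm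
    simp at hm
  have hcoeff : coeff m ((F g)^[k] (monomial d (1 : ℚ))) ≠ 0 := mem_support_iff.mp hm
  have h1 : monomial d (1 : ℚ) ∈ Mz g ((Finsupp.weight (w1 g) d : ℕ) : ℤ) := by
    rw [mem_Mz_of_nonneg g (by positivity), Int.toNat_natCast]
    exact isWeightedHomogeneous_monomial _ _ _ rfl
  have h2 : monomial d (1 : ℚ) ∈ Mz2 g ((Finsupp.weight (w2 g) d : ℕ) : ℤ) := by
    rw [mem_Mz2_of_nonneg g (by positivity), Int.toNat_natCast]
    exact isWeightedHomogeneous_monomial _ _ _ rfl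
  have h1' := iter_mem g h1 k
  have h2' := iter_mem2 g h2 k
  by_cases hneg : ((Finsupp.weight (w1 g) d : ℕ) : ℤ) - 2 * (k : ℤ) < 0
  · rw [mem_Mz_of_neg g hneg] at h1'
    exact hG h1'
  · rw [mem_Mz_of_nonneg g (not_lt.mp hneg)] at h1'
    rw [mem_Mz2_of_nonneg g (by positivity), Int.toNat_natCast] at h2'
    have e1 := h1' hcoeff
    have e2 := h2' hcoeff
    have hk : Finsupp.weight (w1 g) d = 2 * k := by
      have : (((Finsupp.weight (w1 g) d : ℕ) : ℤ) - 2 * (k : ℤ)).toNat = 0 := by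
        rw [← e1]; exact hb1
      omega
    apply hG
    apply iter_monomial_eq_zero g hg d k hk (by omega)
    have : Finsupp.weight (w2 g) d ≤ n := by rw [← e2]; exact hb2
    omega

/-- polynomials without bad monomials -/
def NoBad (n : ℕ) (R : RelRing g) : Prop := ∀ m ∈ R.support, ¬ Bad g n m

theorem noBad_zero (n : ℕ) : NoBad g n 0 := by
  intro m hm; simp at hm

theorem noBad_add (n : ℕ) {R S : RelRing g} (hR : NoBad g n R) (hS : NoBad g n S) :
    NoBad g n (R + S) := by
  classical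
  intro m hm
  rcases Finset.mem_union.mp (support_add hm) with h | h
  · exact hR m h
  · exact hS m h

theorem noBad_mul (n : ℕ) (Q : RelRing g) {R : RelRing g} (hR : NoBad g n R) :
    NoBad g n (Q * R) := by
  classical
  intro m hm
  have := support_mul Q R hm
  rw [Finset.mem_add] at this
  obtain ⟨a, ha, b, hb, rfl⟩ := this
  rintro ⟨h1, h2⟩
  apply hR b hb
  rw [map_add] at h1 h2
  exact ⟨by omega, by omega⟩

/-- every element of the relation ideal avoids the monomials of bidegree `(0, ≤ n)`, `3n ≤ 2g` -/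
theorem noBad_of_mem_relIdeal (hg : 1 ≤ g) (n : ℕ) (hn : 3 * n ≤ 2 * g) {P : RelRing g}
    (hP : P ∈ relIdeal g) : NoBad g n P := by
  unfold relIdeal at hP
  induction hP using Submodule.span_induction with
  | mem x hx =>
    obtain ⟨d, k, hd, rfl⟩ := hx
    intro m hm
    exact generator_support g hg n hn d k (by rw [weight_fst]; exact hd) m hm
  | zero => exact noBad_zero g n
  | add x y _ _ hx hy => exact noBad_add g n hx hy
  | smul a x _ hx => exact noBad_mul g n a hx

/-- the relation ideal vanishes in bidegree `(0, n)` for `3n ≤ 2g` -/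
theorem eq_zero_of_mem_relIdeal (hg : 1 ≤ g) (n : ℕ) (hn : 3 * n ≤ 2 * g) (P : RelRing g)
    (hP : P ∈ relIdeal g) (hhom : IsWeightedHomogeneous (wt g) P ((0, n) : ℕ × ℕ)) : P = 0 := by
  have hnb := noBad_of_mem_relIdeal g hg n hn hP
  by_contra hne
  obtain ⟨m, hm⟩ := (support_nonempty.mpr hne)
  apply hnb m hm
  have hw := hhom (mem_support_iff.mp hm)
  refine ⟨?_, ?_⟩
  · rw [weight_fst, hw]
  · rw [weight_snd, hw]

end Groth.Agent.H81.TautRel
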