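import Mathlib
import Groth.Prelude.Def_NonAbH1
set_option autoImplicit false
set_option linter.unusedVariables false
universe w' w v u
open CategoryTheory Opposite NonAbH1
namespace Groth.Agent.H81.TorsorCons
variable {C : Type u} [Category.{v} C] {J : GrothendieckTopology C}

/-- evaluation at the generator: `(FreeGroup PUnit ⟶ H) ≃ H`. -/
noncomputable def evEquiv (H : GrpCat.{w}) : (GrpCat.of (FreeGroup PUnit.{w+1}) ⟶ H) ≃ H where
  toFun f := f.hom (FreeGroup.of PUnit.unit)
  invFun g := GrpCat.ofHom (FreeGroup.lift (fun _ => g))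
  left_inv f := by
    ext x
    simp
  right_inv g := by simp

theorem isSheaf_forget (G : Sheaf J GrpCat.{w}) :
    Presieve.IsSheaf J (G.obj ⋙ forget GrpCat.{w}) := by
  have h := G.property (GrpCat.of (FreeGroup PUnit.{w+1}))
  refine Presieve.isSheaf_of_nat_equiv (fun X => evEquiv (G.obj.obj (op X))) ?_ h
  intro X Y f x
  rfl

variable (G : Sheaf J GrpCat.{w})

theorem grp_ext {X : C} {S : Sieve X} (hS : S ∈ J X) (k k' : G.obj.obj (op X))
    (h : ∀ ⦃Y : C⦄ (f : Y ⟶ X), S f → G.obj.map f.op k = G.obj.map f.op k') : k = k' :=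
  ((isSheaf_forget G) S hS).isSeparatedFor.ext (fun _ f hf => h f hf)

theorem grp_glue {X : C} {S : Sieve X} (hS : S ∈ J X)
    (κ : ∀ ⦃Y : C⦄ (f : Y ⟶ X), S f → G.obj.obj (op Y))
    (hκ : ∀ ⦃Y Z : C⦄ (f : Y ⟶ X) (h : Z ⟶ Y) (hf : S f),
      κ (h ≫ f) (S.downward_closed hf h) = G.obj.map h.op (κ f hf)) :
    ∃ k : G.obj.obj (op X), ∀ ⦃Y : C⦄ (f : Y ⟶ X) (hf : S f), G.obj.map f.op k = κ f hf := by
  let x : Presieve.FamilyOfElements (G.obj ⋙ forget GrpCat.{w}) S.arrows := fun Y f hf => κ f hf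
  have hc : x.Compatible := by
    rw [Presieve.compatible_iff_sieveCompatible]
    intro Y Z f h hf
    exact hκ f h hf
  obtain ⟨k, hk, -⟩ := (isSheaf_forget G) S hS x hc
  exact ⟨k, fun Y f hf => hk f hf⟩

variable {G} {I : Type w'} {U : I → C} (γ : PresheafOfGroups.OneCocycle G.obj U)

/-- Sections of the twisted torsor (in a large universe): local expressions in every chart. -/
@[ext]
structure BigSec (X : C) where
  val : ∀ ⦃Y : C⦄ (_ : Y ⟶ X) (i : I) (_ : Y ⟶ U i), G.obj.obj (op Y)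
  cocycle : ∀ ⦃Y : C⦄ (f : Y ⟶ X) (i j : I) (a : Y ⟶ U i) (b : Y ⟶ U j),
    val f j b = val f i a * γ.ev i j a b
  restr : ∀ ⦃Y Z : C⦄ (h : Z ⟶ Y) (f : Y ⟶ X) (i : I) (a : Y ⟶ U i),
    val (h ≫ f) i (h ≫ a) = G.obj.map h.op (val f i a)

namespace BigSec

variable {γ}

/-- restriction of sections -/
def restrict {X X' : C} (u : X' ⟶ X) (x : BigSec γ X) : BigSec γ X' where
  val Y f i a := x.val (f ≫ u) i a
  cocycle Y f i j a b := x.cocycle (f ≫ u) i j a b
  restr Y Z h f i a := by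
    rw [Category.assoc]
    exact x.restr h (f ≫ u) i a

@[simp] lemma restrict_val {X X' : C} (u : X' ⟶ X) (x : BigSec γ X) {Y : C} (f : Y ⟶ X') (i : I)
    (a : Y ⟶ U i) : (restrict u x).val f i a = x.val (f ≫ u) i a := rfl

/-- the action -/
def smul {X : C} (k : G.obj.obj (op X)) (x : BigSec γ X) : BigSec γ X where
  val Y f i a := G.obj.map f.op k * x.val f i a
  cocycle Y f i j a b := by
    rw [x.cocycle f i j a b, mul_assoc]
  restr Y Z h f i a := by
    rw [x.restr h f i a, map_mul]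
    congr 1
    rw [op_comp, Functor.map_comp]
    rfl

@[simp] lemma smul_val {X : C} (k : G.obj.obj (op X)) (x : BigSec γ X) {Y : C} (f : Y ⟶ X) (i : I)
    (a : Y ⟶ U i) : (smul k x).val f i a = G.obj.map f.op k * x.val f i a := rfl

variable (γ) in
/-- the tautological section over a chart -/
def chart (i : I) : BigSec γ (U i) where
  val Y f j b := γ.ev i j f b
  cocycle Y f j k b c := (γ.ev_trans i j k f b c).symm
  restr Y Z h f j b := (γ.ev_precomp i j h f b).symm

@[simp] lemma chart_val (i : I) {Y : C} (f : Y ⟶ U i) (j : I) (b : Y ⟶ U j) :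
    (chart γ i).val f j b = γ.ev i j f b := rfl

end BigSec

variable {γ}

namespace BigSec

theorem existsUnique_smul (hU : J.CoversTop U) {X : C} (x y : BigSec γ X) :
    ∃! k : G.obj.obj (op X), smul k x = y := by
  classical
  have l1 : ∀ ⦃Y : C⦄ (f : Y ⟶ X) (i j : I) (a : Y ⟶ U i) (b : Y ⟶ U j),
      y.val f i a * (x.val f i a)⁻¹ = y.val f j b * (x.val f j b)⁻¹ := by
    intro Y f i j a b
    rw [x.cocycle f i j a b, y.cocycle f i j a b, mul_inv_rev, mul_assoc,
      mul_inv_cancel_left]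
  have l2 : ∀ ⦃Y Z : C⦄ (h : Z ⟶ Y) (f : Y ⟶ X) (i : I) (a : Y ⟶ U i),
      y.val (h ≫ f) i (h ≫ a) * (x.val (h ≫ f) i (h ≫ a))⁻¹ =
        G.obj.map h.op (y.val f i a * (x.val f i a)⁻¹) := by
    intro Y Z h f i a
    rw [x.restr, y.restr, map_mul, map_inv]
  have hS := hU X
  let κ : ∀ ⦃Y : C⦄ (f : Y ⟶ X), Sieve.ofObjects U X f → G.obj.obj (op Y) :=
    fun Y f hf => y.val f hf.choose hf.choose_spec.some *
      (x.val f hf.choose hf.choose_spec.some)⁻¹
  have hκ : ∀ ⦃Y : C⦄ (f : Y ⟶ X) (hf : Sieve.ofObjects U X f) (i : I) (a : Y ⟶ U i),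
      κ f hf = y.val f i a * (x.val f i a)⁻¹ := fun Y f hf i a => l1 f _ i _ a
  obtain ⟨k, hk⟩ := grp_glue G hS κ (by
    intro Y Z f h hf
    rw [hκ f hf hf.choose hf.choose_spec.some,
      hκ (h ≫ f) _ hf.choose (h ≫ hf.choose_spec.some), l2])
  refine ⟨k, ?_, ?_⟩
  · ext Y f i a
    have hf : (Sieve.ofObjects U X).arrows f := ⟨i, ⟨a⟩⟩
    rw [smul_val, hk f hf, hκ f hf i a, inv_mul_cancel_right]
  · intro k' hk'
    apply grp_ext G hS
    intro Y f hf
    obtain ⟨i, ⟨a⟩⟩ := id hf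
    rw [hk f hf, hκ f hf i a, ← hk', smul_val, mul_inv_cancel_right]

end BigSec


namespace BigSec

lemma restrict_id {X : C} (x : BigSec γ X) : restrict (𝟙 X) x = x := by
  ext Y f i a
  rw [restrict_val, Category.comp_id]

lemma restrict_restrict {X X' X'' : C} (u : X' ⟶ X) (u' : X'' ⟶ X') (x : BigSec γ X) :
    restrict u' (restrict u x) = restrict (u' ≫ u) x := by
  ext Y f i a
  rw [restrict_val, restrict_val, restrict_val, Category.assoc]

lemma map_val_eq {X : C} (t : BigSec γ X) {Y Z : C} (g : Y ⟶ X) (h : Z ⟶ Y) (i : I)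
    (a : Y ⟶ U i) :
    G.obj.map h.op (t.val g i a) = (restrict (h ≫ g) t).val (𝟙 Z) i (h ≫ a) := by
  rw [restrict_val, Category.id_comp, t.restr]

end BigSec

variable (γ) in
/-- the presheaf of big sections -/
def bigP : Cᵒᵖ ⥤ Type (max u v w w') where
  obj X := BigSec γ X.unop
  map u := TypeCat.ofHom (BigSec.restrict u.unop)
  map_id X := by
    ext x : 3
    exact BigSec.restrict_id x
  map_comp u u' := by
    ext x : 3
    exact (BigSec.restrict_restrict u.unop u'.unop x).symm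

lemma bigP_map {X X' : Cᵒᵖ} (u : X ⟶ X') (x : BigSec γ X.unop) :
    (bigP γ).map u x = BigSec.restrict u.unop x := rfl

theorem bigP_isSeparatedFor {X : C} {S : Sieve X} (hS : S ∈ J X) :
    Presieve.IsSeparatedFor (bigP γ) S.arrows := by
  intro x (t₁ : BigSec γ X) (t₂ : BigSec γ X) h₁ h₂
  refine BigSec.ext ?_
  funext Y g i a
  apply grp_ext G (J.pullback_stable g hS)
  intro Z h hh
  have e₁ : BigSec.restrict (h ≫ g) t₁ = x (h ≫ g) hh := h₁ (h ≫ g) hh
  have e₂ : BigSec.restrict (h ≫ g) t₂ = x (h ≫ g) hh := h₂ (h ≫ g) hh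
  rw [BigSec.map_val_eq t₁, BigSec.map_val_eq t₂, e₁, e₂]


lemma grp_map_map (G : Sheaf J GrpCat.{w}) {X Y Z : C} (h : Z ⟶ Y) (k : Y ⟶ X)
    (g : G.obj.obj (op X)) :
    G.obj.map h.op (G.obj.map k.op g) = G.obj.map (h ≫ k).op g := by
  rw [op_comp, Functor.map_comp]
  rfl

theorem bigP_exists_amalgamation {X : C} {S : Sieve X} (hS : S ∈ J X)
    (x : Presieve.FamilyOfElements (bigP γ) S.arrows) (hx : x.Compatible) :
    ∃ t, x.IsAmalgamation t := by
  classical
  rw [Presieve.compatible_iff_sieveCompatible] at hx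
  let xs : ∀ ⦃Y : C⦄ (f : Y ⟶ X), S f → BigSec γ Y := fun Y f hf => x f hf
  have hxs : ∀ ⦃Y Z : C⦄ (f : Y ⟶ X) (h : Z ⟶ Y) (hf : S f),
      xs (h ≫ f) (S.downward_closed hf h) = BigSec.restrict h (xs f hf) :=
    fun Y Z f h hf => hx f h hf
  have xcongr : ∀ ⦃Y : C⦄ {f f' : Y ⟶ X} (e : f = f') (hf : S f) (hf' : S f'),
      xs f hf = xs f' hf' := by
    intro Y f f' e hf hf'
    subst e
    rfl
  have key : ∀ ⦃Y : C⦄ (g : Y ⟶ X) (i : I) (a : Y ⟶ U i), ∃ k : G.obj.obj (op Y),
      ∀ ⦃Z : C⦄ (h : Z ⟶ Y) (hh : S (h ≫ g)),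
        G.obj.map h.op k = (xs (h ≫ g) hh).val (𝟙 Z) i (h ≫ a) := by
    intro Y g i a
    refine grp_glue G (J.pullback_stable g hS)
      (fun Z h hh => (xs (h ≫ g) hh).val (𝟙 Z) i (h ≫ a)) ?_
    intro Z Z' h h' hh
    have hh2 : S ((h' ≫ h) ≫ g) := (Sieve.pullback g S).downward_closed hh h'
    have e1 : xs ((h' ≫ h) ≫ g) hh2 = BigSec.restrict h' (xs (h ≫ g) hh) :=
      (xcongr (Category.assoc _ _ _) _ _).trans (hxs (h ≫ g) h' hh)
    show (xs ((h' ≫ h) ≫ g) hh2).val (𝟙 Z') i ((h' ≫ h) ≫ a) = _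
    rw [e1, BigSec.restrict_val, ← (xs (h ≫ g) hh).restr h' (𝟙 Z) i (h ≫ a)]
    simp only [Category.id_comp, Category.comp_id, Category.assoc]
  choose v hv using key
  refine ⟨(⟨v, ?_, ?_⟩ : BigSec γ X), ?_⟩
  · intro Y g i j a b
    apply grp_ext G (J.pullback_stable g hS)
    intro Z h hh
    rw [map_mul, hv g j b h hh, hv g i a h hh,
      (xs (h ≫ g) hh).cocycle (𝟙 Z) i j (h ≫ a) (h ≫ b), γ.ev_precomp]
  · intro Y Y' k g i a
    apply grp_ext G (J.pullback_stable (k ≫ g) hS)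
    intro Z h hh
    have hh' : S ((h ≫ k) ≫ g) := by
      rw [Category.assoc]; exact hh
    rw [hv (k ≫ g) i (k ≫ a) h hh, grp_map_map, hv g i a (h ≫ k) hh',
      xcongr (Category.assoc h k g).symm hh hh',
      show h ≫ k ≫ a = (h ≫ k) ≫ a from (Category.assoc _ _ _).symm]
  · intro Y f hf
    show BigSec.restrict f _ = xs f hf
    refine BigSec.ext ?_
    funext Y' g i a
    apply grp_ext G (J.pullback_stable (g ≫ f) hS)
    intro Z h hh
    rw [BigSec.restrict_val]
    show G.obj.map h.op (v (g ≫ f) i a) = _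
    have hh' : S ((h ≫ g) ≫ f) := S.downward_closed hf (h ≫ g)
    rw [hv (g ≫ f) i a h hh, xcongr (Category.assoc h g f).symm hh hh', hxs f (h ≫ g) hf,
      BigSec.restrict_val, Category.id_comp, (xs f hf).restr]

theorem bigP_isSheaf : Presieve.IsSheaf J (bigP γ) := by
  intro X S hS
  exact (bigP_isSeparatedFor hS).isSheafFor (bigP_exists_amalgamation hS)


namespace BigSec

lemma one_smul' {X : C} (x : BigSec γ X) : smul 1 x = x := by
  ext Y f i a
  rw [smul_val, map_one, one_mul]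

lemma mul_smul' {X : C} (g h : G.obj.obj (op X)) (x : BigSec γ X) :
    smul (g * h) x = smul g (smul h x) := by
  ext Y f i a
  rw [smul_val, smul_val, smul_val, map_mul, mul_assoc]

lemma restrict_smul {X X' : C} (u : X' ⟶ X) (g : G.obj.obj (op X)) (x : BigSec γ X) :
    restrict u (smul g x) = smul (G.obj.map u.op g) (restrict u x) := by
  ext Y f i a
  rw [restrict_val, smul_val, smul_val, restrict_val, grp_map_map]

lemma smul_restrict_chart (i j : I) {T : C} (a : T ⟶ U i) (b : T ⟶ U j) :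
    smul (γ.ev i j a b) (restrict b (chart γ j)) = restrict a (chart γ i) := by
  ext Y f k c
  rw [smul_val, restrict_val, restrict_val, chart_val, chart_val, γ.ev_precomp, γ.ev_trans]

end BigSec

theorem small_bigSec (hU : J.CoversTop U) (X : C) : Small.{w} (BigSec γ X) := by
  by_cases h : Nonempty (BigSec γ X)
  · obtain ⟨x₀⟩ := h
    exact small_of_surjective (f := fun k : G.obj.obj (op X) => BigSec.smul k x₀)
      (fun y => (BigSec.existsUnique_smul hU x₀ y).exists)
  · have : IsEmpty (BigSec γ X) := not_nonempty_iff.mp h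
    infer_instance


section Small

variable (hU : J.CoversTop U)

/-- sections of the small model -/
def SmallSec (hU : J.CoversTop U) (γ : PresheafOfGroups.OneCocycle G.obj U) (X : C) : Type w :=
  @Shrink (BigSec γ X) (small_bigSec hU X)

noncomputable def toBig {X : C} (p : SmallSec hU γ X) : BigSec γ X :=
  (@equivShrink (BigSec γ X) (small_bigSec hU X)).symm p

noncomputable def ofBig {X : C} (x : BigSec γ X) : SmallSec hU γ X :=
  (@equivShrink (BigSec γ X) (small_bigSec hU X)) x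

@[simp] lemma toBig_ofBig {X : C} (x : BigSec γ X) : toBig hU (ofBig hU x) = x :=
  Equiv.symm_apply_apply _ _

@[simp] lemma ofBig_toBig {X : C} (p : SmallSec hU γ X) : ofBig hU (toBig hU p) = p :=
  Equiv.apply_symm_apply _ _

lemma toBig_injective {X : C} : Function.Injective (toBig hU (γ := γ) (X := X)) :=
  (Equiv.injective _)

/-- the small presheaf -/
noncomputable def smallP (hU : J.CoversTop U) (γ : PresheafOfGroups.OneCocycle G.obj U) :
    Cᵒᵖ ⥤ Type w where
  obj X := SmallSec hU γ X.unop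
  map u := TypeCat.ofHom (fun p => ofBig hU (BigSec.restrict u.unop (toBig hU p)))
  map_id X := by
    ext p : 3
    show ofBig hU (BigSec.restrict (𝟙 _) (toBig hU p)) = p
    rw [BigSec.restrict_id, ofBig_toBig]
  map_comp u u' := by
    ext p : 3
    show ofBig hU (BigSec.restrict (u'.unop ≫ u.unop) (toBig hU p)) =
      ofBig hU (BigSec.restrict u'.unop (toBig hU (ofBig hU (BigSec.restrict u.unop (toBig hU p)))))
    rw [toBig_ofBig, BigSec.restrict_restrict]

lemma smallP_map {X X' : Cᵒᵖ} (u : X ⟶ X') (p : SmallSec hU γ X.unop) :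
    (smallP hU γ).map u p = ofBig hU (BigSec.restrict u.unop (toBig hU p)) := rfl

theorem smallP_isSheaf : Presieve.IsSheaf J (smallP hU γ) := by
  refine Presieve.isSheaf_of_nat_equiv (P₁ := bigP γ) (P₂ := smallP hU γ)
    (fun X => (@equivShrink (BigSec γ X) (small_bigSec hU X))) ?_ bigP_isSheaf
  intro X Y f (x : BigSec γ Y)
  show ofBig hU (BigSec.restrict f x) = ofBig hU (BigSec.restrict f (toBig hU (ofBig hU x)))
  rw [toBig_ofBig]

end Small


/-- the twisted torsor as a `G`-sheaf -/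
noncomputable def gsheaf (hU : J.CoversTop U) (γ : PresheafOfGroups.OneCocycle G.obj U) :
    GSheaf G where
  P := ⟨smallP hU γ, (isSheaf_iff_isSheaf_of_type J _).mpr (smallP_isSheaf hU)⟩
  smul {X} g p := ofBig hU (BigSec.smul (X := X.unop) g (toBig hU p))
  one_smul {X} p := by
    change SmallSec hU γ X.unop at p
    show ofBig hU (BigSec.smul (X := X.unop) 1 (toBig hU p)) = p
    rw [BigSec.one_smul', ofBig_toBig]
  mul_smul {X} g h p := by
    change SmallSec hU γ X.unop at p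
    show ofBig hU (BigSec.smul (X := X.unop) (g * h) (toBig hU p)) =
      ofBig hU (BigSec.smul (X := X.unop) g
        (toBig hU (ofBig hU (BigSec.smul (X := X.unop) h (toBig hU p)))))
    rw [toBig_ofBig, BigSec.mul_smul']
  map_smul {X Y} f g p := by
    change SmallSec hU γ X.unop at p
    show ofBig hU (BigSec.restrict f.unop
        (toBig hU (ofBig hU (BigSec.smul (X := X.unop) g (toBig hU p))))) =
      ofBig hU (BigSec.smul (X := Y.unop) (G.obj.map f g)
        (toBig hU (ofBig hU (BigSec.restrict f.unop (toBig hU p)))))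
    rw [toBig_ofBig, toBig_ofBig, BigSec.restrict_smul]
    rfl

lemma gsheaf_smul (hU : J.CoversTop U) {X : Cᵒᵖ} (g : G.obj.obj X)
    (p : SmallSec hU γ X.unop) :
    (gsheaf hU γ).smul g p = ofBig hU (BigSec.smul (X := X.unop) g (toBig hU p)) := rfl

lemma gsheaf_map (hU : J.CoversTop U) {X X' : Cᵒᵖ} (u : X ⟶ X') (p : SmallSec hU γ X.unop) :
    (gsheaf hU γ).P.obj.map u p = ofBig hU (BigSec.restrict u.unop (toBig hU p)) := rfl

theorem gsheaf_isTorsor (hU : J.CoversTop U) : (gsheaf hU γ).IsTorsor := by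
  refine ⟨?_, ?_⟩
  · intro X (p : SmallSec hU γ X.unop) (q : SmallSec hU γ X.unop)
    obtain ⟨k, hk, hku⟩ := BigSec.existsUnique_smul hU (toBig hU p) (toBig hU q)
    refine ⟨k, ?_, ?_⟩
    · show ofBig hU (BigSec.smul (X := X.unop) k (toBig hU p)) = q
      rw [hk, ofBig_toBig]
    · intro k' hk'
      apply hku
      have : ofBig hU (BigSec.smul (X := X.unop) k' (toBig hU p)) = q := hk'
      rw [← this, toBig_ofBig]
  · intro X
    refine ⟨Sieve.ofObjects U X, hU X, ?_⟩
    rintro V f ⟨i, ⟨a⟩⟩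
    exact ⟨ofBig hU (BigSec.restrict a (BigSec.chart γ i))⟩

/-- the twisted torsor -/
noncomputable def torsor (hU : J.CoversTop U) (γ : PresheafOfGroups.OneCocycle G.obj U) :
    NonAbH1.Torsor G := ⟨gsheaf hU γ, gsheaf_isTorsor hU⟩

theorem torsor_trivialisedBy (hU : J.CoversTop U) : (torsor hU γ).TrivialisedBy U :=
  fun i => ⟨ofBig hU (BigSec.chart γ i)⟩

theorem torsor_isCocycleOf (hU : J.CoversTop U) :
    (torsor hU γ).IsCocycleOf U (fun i => ofBig hU (BigSec.chart γ i)) γ := by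
  intro i j T a b
  show ofBig hU (BigSec.smul (X := T) (γ.ev i j a b)
      (toBig hU (ofBig hU (BigSec.restrict b (toBig hU (ofBig hU (BigSec.chart γ j))))))) =
    ofBig hU (BigSec.restrict a (toBig hU (ofBig hU (BigSec.chart γ i))))
  rw [toBig_ofBig, toBig_ofBig, toBig_ofBig, BigSec.smul_restrict_chart]

theorem main (G : Sheaf J GrpCat.{w}) {I : Type w'} (U : I → C) (hU : J.CoversTop U)
    (c : PresheafOfGroups.H1 G.obj U) :
    ∃ P : NonAbH1.Torsor G, P.TrivialisedBy U ∧ P.HasCechClass U c := by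
  obtain ⟨γ, rfl⟩ : ∃ γ : PresheafOfGroups.OneCocycle G.obj U, γ.class = c := by
    induction c using Quot.inductionOn with
    | _ γ => exact ⟨γ, rfl⟩
  exact ⟨torsor hU γ, torsor_trivialisedBy hU, _, γ, torsor_isCocycleOf hU, rfl⟩


end Groth.Agent.H81.TorsorCons
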