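import Mathlib
import Groth.Prelude.Def_NonAbH1

set_option autoImplicit false
universe w' w v u

open CategoryTheory Opposite NonAbH1

namespace Groth.Agent.H81.TorsorGlue

variable {C : Type u} [Category.{v} C] {J : GrothendieckTopology C} {G : Sheaf J GrpCat.{w}}

lemma map_map (P : GSheaf G) {X Y Z : Cᵒᵖ} (f : X ⟶ Y) (g : Y ⟶ Z) (p : P.P.obj.obj X) :
    P.P.obj.map g (P.P.obj.map f p) = P.P.obj.map (f ≫ g) p := by
  rw [Functor.map_comp]
  rfl

lemma map_id' (P : GSheaf G) {X : Cᵒᵖ} (p : P.P.obj.obj X) :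
    P.P.obj.map (𝟙 X) p = p := by
  simp

lemma smul_free {P : GSheaf G} (hP : P.IsPseudoTorsor) {V : Cᵒᵖ} (p : P.P.obj.obj V)
    (g g' : G.obj.obj V) (h : P.smul g p = P.smul g' p) : g = g' := by
  obtain ⟨g₀, -, hu⟩ := hP V p (P.smul g p)
  rw [hu g rfl, hu g' h.symm]

variable {I : Type w'} (U : I → C)

/-- The relation "q corresponds to p" under the identification of local trivialisations. -/
def Rel (P Q : GSheaf G) (s : ∀ i, P.P.obj.obj (op (U i))) (t : ∀ i, Q.P.obj.obj (op (U i)))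
    (X : C) (p : P.P.obj.obj (op X)) (q : Q.P.obj.obj (op X)) : Prop :=
  ∀ ⦃Y : C⦄ (f : Y ⟶ X) (i : I) (a : Y ⟶ U i) (g : G.obj.obj (op Y)),
    P.smul g (P.P.obj.map a.op (s i)) = P.P.obj.map f.op p →
      Q.P.obj.map f.op q = Q.smul g (Q.P.obj.map a.op (t i))

variable {U} {P Q : GSheaf G} {s : ∀ i, P.P.obj.obj (op (U i))}
  {t : ∀ i, Q.P.obj.obj (op (U i))} {γ : PresheafOfGroups.OneCocycle G.obj U}

/-- independence of the local expression from the chosen chart -/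
lemma indep (hP : P.IsPseudoTorsor) (hs : P.IsCocycleOf U s γ) (ht : Q.IsCocycleOf U t γ)
    {Y : C} (p' : P.P.obj.obj (op Y)) (i j : I) (a : Y ⟶ U i) (b : Y ⟶ U j)
    (g g' : G.obj.obj (op Y))
    (hg : P.smul g (P.P.obj.map a.op (s i)) = p')
    (hg' : P.smul g' (P.P.obj.map b.op (s j)) = p') :
    Q.smul g (Q.P.obj.map a.op (t i)) = Q.smul g' (Q.P.obj.map b.op (t j)) := by
  have h1 : g * γ.ev i j a b = g' := by
    apply smul_free hP (P.P.obj.map b.op (s j))
    rw [P.mul_smul, hs i j a b, hg, hg']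
  rw [← h1, Q.mul_smul, ht i j a b]

lemma rel_unique (hP : P.IsPseudoTorsor) (hU : J.CoversTop U) {X : C}
    {p : P.P.obj.obj (op X)} {q q' : Q.P.obj.obj (op X)}
    (h : Rel U P Q s t X p q) (h' : Rel U P Q s t X p q') : q = q' := by
  have hsh : Presieve.IsSheaf J Q.P.obj := (isSheaf_iff_isSheaf_of_type J _).mp Q.P.property
  refine (hsh _ (hU X)).isSeparatedFor.ext ?_
  rintro Y f ⟨i, ⟨a⟩⟩
  obtain ⟨g, hg, -⟩ := hP (op Y) (P.P.obj.map a.op (s i)) (P.P.obj.map f.op p)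
  rw [h f i a g hg, h' f i a g hg]

lemma rel_exists (hP : P.IsPseudoTorsor) (hs : P.IsCocycleOf U s γ) (ht : Q.IsCocycleOf U t γ)
    (hU : J.CoversTop U) {X : C} (p : P.P.obj.obj (op X)) :
    ∃ q : Q.P.obj.obj (op X), Rel U P Q s t X p q := by
  classical
  have hsh : Presieve.IsSheaf J Q.P.obj := (isSheaf_iff_isSheaf_of_type J _).mp Q.P.property
  -- the local candidates
  have key : ∀ ⦃Y : C⦄ (f : Y ⟶ X), Sieve.ofObjects U X f →
      ∃ y : Q.P.obj.obj (op Y), ∀ (i : I) (a : Y ⟶ U i) (g : G.obj.obj (op Y)),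
        P.smul g (P.P.obj.map a.op (s i)) = P.P.obj.map f.op p →
          y = Q.smul g (Q.P.obj.map a.op (t i)) := by
    rintro Y f ⟨i, ⟨a⟩⟩
    obtain ⟨g, hg, -⟩ := hP (op Y) (P.P.obj.map a.op (s i)) (P.P.obj.map f.op p)
    refine ⟨Q.smul g (Q.P.obj.map a.op (t i)), ?_⟩
    intro j b g' hg'
    exact indep hP hs ht _ i j a b g g' hg hg'
  choose x hx using key
  have hcompat : Presieve.FamilyOfElements.Compatible (P := Q.P.obj)
      (R := (Sieve.ofObjects U X).arrows) (fun Y f hf => x f hf) := by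
    rw [Presieve.compatible_iff_sieveCompatible]
    intro Y Z f h hf
    show x (h ≫ f) _ = Q.P.obj.map h.op (x f hf)
    obtain ⟨i, ⟨a⟩⟩ := id hf
    obtain ⟨g, hg, -⟩ := hP (op Y) (P.P.obj.map a.op (s i)) (P.P.obj.map f.op p)
    rw [hx f hf i a g hg]
    have hg2 : P.smul (G.obj.map h.op g) (P.P.obj.map (h ≫ a).op (s i)) =
        P.P.obj.map (h ≫ f).op p := by
      have := congrArg (P.P.obj.map h.op) hg
      rw [P.map_smul, map_map, map_map] at this
      simpa using this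
    rw [hx (h ≫ f) _ i (h ≫ a) _ hg2, Q.map_smul, map_map]
    rfl
  obtain ⟨q, hq, -⟩ := hsh _ (hU X) _ hcompat
  refine ⟨q, ?_⟩
  intro Y f i a g hg
  rw [hq f ⟨i, ⟨a⟩⟩]
  exact hx f ⟨i, ⟨a⟩⟩ i a g hg

lemma rel_map {X : C} {p : P.P.obj.obj (op X)} {q : Q.P.obj.obj (op X)}
    (h : Rel U P Q s t X p q) {X' : C} (u : X' ⟶ X) :
    Rel U P Q s t X' (P.P.obj.map u.op p) (Q.P.obj.map u.op q) := by
  intro Y f i a g hg
  rw [map_map] at hg ⊢
  exact h (f ≫ u) i a g hg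

lemma rel_smul {X : C} {p : P.P.obj.obj (op X)} {q : Q.P.obj.obj (op X)}
    (h : Rel U P Q s t X p q) (k : G.obj.obj (op X)) :
    Rel U P Q s t X (P.smul k p) (Q.smul k q) := by
  intro Y f i a g hg
  rw [P.map_smul] at hg
  have h2 : P.smul ((G.obj.map f.op k)⁻¹ * g) (P.P.obj.map a.op (s i)) = P.P.obj.map f.op p := by
    rw [P.mul_smul, hg, ← P.mul_smul, inv_mul_cancel, P.one_smul]
  rw [Q.map_smul, h f i a _ h2, ← Q.mul_smul, mul_inv_cancel_left]

lemma rel_symm (hP : P.IsPseudoTorsor) (hQ : Q.IsPseudoTorsor) {X : C}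
    {p : P.P.obj.obj (op X)} {q : Q.P.obj.obj (op X)}
    (h : Rel U P Q s t X p q) : Rel U Q P t s X q p := by
  intro Y f i a g hg
  obtain ⟨g', hg', -⟩ := hP (op Y) (P.P.obj.map a.op (s i)) (P.P.obj.map f.op p)
  have h1 := h f i a g' hg'
  have h2 : g = g' := smul_free hQ _ _ _ (hg.trans h1)
  rw [h2]
  exact hg'.symm

/-- the glued map on sections -/
noncomputable def glueApp (hP : P.IsPseudoTorsor) (hs : P.IsCocycleOf U s γ)
    (ht : Q.IsCocycleOf U t γ) (hU : J.CoversTop U) (X : Cᵒᵖ) (p : P.P.obj.obj X) :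
    Q.P.obj.obj X :=
  (rel_exists hP hs ht hU (X := X.unop) p).choose

lemma glueApp_rel (hP : P.IsPseudoTorsor) (hs : P.IsCocycleOf U s γ)
    (ht : Q.IsCocycleOf U t γ) (hU : J.CoversTop U) (X : Cᵒᵖ) (p : P.P.obj.obj X) :
    Rel U P Q s t X.unop p (glueApp hP hs ht hU X p) :=
  (rel_exists hP hs ht hU (X := X.unop) p).choose_spec

lemma glueApp_eq (hP : P.IsPseudoTorsor) (hs : P.IsCocycleOf U s γ)
    (ht : Q.IsCocycleOf U t γ) (hU : J.CoversTop U) (X : Cᵒᵖ) (p : P.P.obj.obj X)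
    (q : Q.P.obj.obj X) (h : Rel U P Q s t X.unop p q) : glueApp hP hs ht hU X p = q :=
  rel_unique hP hU (glueApp_rel hP hs ht hU X p) h

/-- the glued equivariant morphism -/
noncomputable def glueHom (hP : P.IsPseudoTorsor) (hs : P.IsCocycleOf U s γ)
    (ht : Q.IsCocycleOf U t γ) (hU : J.CoversTop U) : P ⟶ Q where
  hom := ⟨{ app := fun X => TypeCat.ofHom (glueApp hP hs ht hU X)
            naturality := by
              intro X Y f
              ext p
              exact glueApp_eq hP hs ht hU _ _ _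
                (rel_map (glueApp_rel hP hs ht hU X p) f.unop) }⟩
  map_smul := by
    intro X g p
    exact glueApp_eq hP hs ht hU _ _ _ (rel_smul (glueApp_rel hP hs ht hU X p) g)


lemma glueApp_glueApp (hP : P.IsPseudoTorsor) (hQ : Q.IsPseudoTorsor)
    (hs : P.IsCocycleOf U s γ) (ht : Q.IsCocycleOf U t γ) (hU : J.CoversTop U) (X : Cᵒᵖ)
    (p : P.P.obj.obj X) :
    glueApp hQ ht hs hU X (glueApp hP hs ht hU X p) = p :=
  glueApp_eq hQ ht hs hU _ _ _ (rel_symm hP hQ (glueApp_rel hP hs ht hU X p))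

/-- the glued equivariant isomorphism -/
noncomputable def glueIso (hP : P.IsPseudoTorsor) (hQ : Q.IsPseudoTorsor)
    (hs : P.IsCocycleOf U s γ) (ht : Q.IsCocycleOf U t γ) (hU : J.CoversTop U) : P ≅ Q where
  hom := glueHom hP hs ht hU
  inv := glueHom hQ ht hs hU
  hom_inv_id := by
    apply GSheaf.hom_ext
    apply Sheaf.hom_ext
    ext X p
    exact glueApp_glueApp hP hQ hs ht hU X p
  inv_hom_id := by
    apply GSheaf.hom_ext
    apply Sheaf.hom_ext
    ext X q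
    exact glueApp_glueApp hQ hP ht hs hU X q

lemma isCocycleOf_adjust {γ' : PresheafOfGroups.OneCocycle G.obj U}
    (ht : Q.IsCocycleOf U t γ') (α : PresheafOfGroups.ZeroCochain G.obj U)
    (h : PresheafOfGroups.OneCohomologyRelation γ.toOneCochain γ'.toOneCochain α) :
    Q.IsCocycleOf U (fun i => Q.smul (α i)⁻¹ (t i)) γ := by
  intro i j T a b
  have h1 := h i j a b
  rw [Q.map_smul, Q.map_smul, ← Q.mul_smul, ← ht i j a b, ← Q.mul_smul]
  congr 1
  rw [map_inv, map_inv, eq_inv_mul_iff_mul_eq, ← mul_assoc, h1, mul_assoc, mul_inv_cancel, mul_one]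

theorem main (hU : J.CoversTop U) (P Q : NonAbH1.Torsor G)
    (c : PresheafOfGroups.H1 G.obj U) (hPc : P.HasCechClass U c) (hQc : Q.HasCechClass U c) :
    Nonempty (P.toGSheaf ≅ Q.toGSheaf) := by
  obtain ⟨s, γ, hs, hγ⟩ := hPc
  obtain ⟨t, γ', ht, hγ'⟩ := hQc
  have hcl : γ.class = γ'.class := hγ.trans hγ'.symm
  rw [PresheafOfGroups.OneCocycle.class_eq_iff] at hcl
  obtain ⟨α, hα⟩ := hcl
  exact ⟨glueIso P.isTorsor.1 Q.isTorsor.1 hs (isCocycleOf_adjust ht α hα) hU⟩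


end Groth.Agent.H81.TorsorGlue
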