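import Mathlib
import Groth.Agent.H4.FormalSys
import Groth.Agent.H11.FormalAR
import Groth.Agent.H20.ComplNoeth2

/-!
# A uniform Artin–Rees lemma for towers of modules

`B` Noetherian, `J` an ideal, `(M n, f n)` a tower of finite `B`-modules with `f n` surjective,
`ker (f n) = J^(n+1) M (n+1)` and `J^(n+1) M n = 0`.  Then (`tower_AR`) there are `n₀ s₀` such that
for `n ≥ n₀`, `m ≥ n + s₀`, every `x ∈ J^n M m` killed by `J^t` lies in `J^(n+1) M m`.
Also the companion decomposition statement `tower_decomp`.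
-/
set_option autoImplicit false
set_option linter.unusedSectionVars false
set_option linter.style.haveILetI false
universe u

namespace Groth.Agent.H81.TowerAR

open Groth.Agent.H4.FS Groth.Agent.H11.FormalAR

section complete

variable {A : Type u} [CommRing A] [IsNoetherianRing A] (I : Ideal A) [IsAdicComplete I A]
  {M : ℕ → Type u} [∀ n, AddCommGroup (M n)] [∀ n, Module A (M n)] [∀ n, Module.Finite A (M n)]
  (f : ∀ n, M (n + 1) →ₗ[A] M n)

/-- the module of compatible sequences -/
def compat : Submodule A (∀ n, M n) where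
  carrier := {x | ∀ n, f n (x (n + 1)) = x n}
  add_mem' := by
    intro x y hx hy n
    simp only [Pi.add_apply, map_add, hx n, hy n]
  zero_mem' := by
    intro n
    simp
  smul_mem' := by
    intro a x hx n
    simp only [Pi.smul_apply, map_smul, hx n]

theorem mem_compat (x : ∀ n, M n) : x ∈ compat f ↔ ∀ n, f n (x (n + 1)) = x n := Iff.rfl

/-- Tower Artin–Rees over a complete Noetherian ring. -/
theorem tower_AR_complete (t : ℕ) (hf : ∀ n, Function.Surjective (f n))
    (hker : ∀ n, LinearMap.ker (f n) = I ^ (n + 1) • (⊤ : Submodule A (M (n + 1))))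
    (hk : ∀ n, I ^ (n + 1) • (⊤ : Submodule A (M n)) = ⊥) :
    ∃ n₀ s₀ : ℕ, ∀ n m, n₀ ≤ n → n + s₀ ≤ m → ∀ x : M m,
      x ∈ I ^ n • (⊤ : Submodule A (M m)) → (∀ a ∈ I ^ t, a • x = 0) →
      x ∈ I ^ (n + 1) • (⊤ : Submodule A (M m)) := by
  set L := compat f with hL
  obtain ⟨hfin, hproj⟩ := finite_and_ker I f L (mem_compat f) hker hk hf
  haveI := hfin
  obtain ⟨m₀, hm₀⟩ := exists_forall_eq_zero (N := ↥L) I t
  obtain ⟨k, hk'⟩ := exists_forall_decomp (N := ↥L) I t
  refine ⟨m₀, k, fun n m hn hm x hx hxt => ?_⟩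
  obtain ⟨hsurj, hkerp⟩ := hproj m
  -- lift `x` to `y ∈ I^n L`
  have hmap : ∀ j : ℕ, (I ^ j • (⊤ : Submodule A ↥L)).map (proj L m) =
      I ^ j • (⊤ : Submodule A (M m)) := by
    intro j
    rw [Submodule.map_smul'', Submodule.map_top, LinearMap.range_eq_top.2 hsurj]
  have hx' := hx
  rw [← hmap n] at hx'
  obtain ⟨y, hy, hyx⟩ := hx'
  -- `I^t y ⊆ I^(m+1) L`
  have hyt : ∀ a ∈ I ^ t, a • y ∈ I ^ ((m + 1 - k) + k) • (⊤ : Submodule A ↥L) := by
    intro a ha
    have h1 : a • y ∈ LinearMap.ker (proj L m) := by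
      rw [LinearMap.mem_ker, map_smul, hyx]
      exact hxt a ha
    rw [hkerp] at h1
    have h2 : m + 1 - k + k = m + 1 := by omega
    rw [h2]
    exact h1
  obtain ⟨y0, y1, hy01, hy0, hy1⟩ := hk' (m + 1 - k) y hyt
  have hle : I ^ (m + 1 - k) • (⊤ : Submodule A ↥L) ≤ I ^ (n + 1) • (⊤ : Submodule A ↥L) :=
    Submodule.smul_mono (Ideal.pow_le_pow_right (by omega)) le_rfl
  have hle' : I ^ (n + 1) • (⊤ : Submodule A ↥L) ≤ I ^ n • (⊤ : Submodule A ↥L) :=
    Submodule.smul_mono (Ideal.pow_le_pow_right (by omega)) le_rfl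
  have hy1' : y1 ∈ I ^ (n + 1) • (⊤ : Submodule A ↥L) := hle hy1
  have hy0' : y0 ∈ I ^ n • (⊤ : Submodule A ↥L) := by
    have : y0 = y - y1 := by rw [hy01]; abel
    rw [this]
    exact Submodule.sub_mem _ hy (hle' hy1')
  have hy0z : y0 = 0 := hm₀ n hn y0 hy0' hy0
  rw [hy0z, zero_add] at hy01
  rw [← hyx, hy01, ← hmap (n + 1)]
  exact ⟨y1, hy1', rfl⟩

end complete

section algebra

variable {B R : Type u} [CommRing B] [CommRing R] [Algebra B R] [IsNoetherianRing R] (J : Ideal B)
  [IsAdicComplete (J.map (algebraMap B R)) R]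
  {M : ℕ → Type u} [∀ n, AddCommGroup (M n)] [∀ n, Module B (M n)] [∀ n, Module R (M n)]
  [∀ n, IsScalarTower B R (M n)] [∀ n, Module.Finite B (M n)]
  (f : ∀ n, M (n + 1) →ₗ[B] M n)

theorem smul_top_restrictScalars (X : Type u) [AddCommGroup X] [Module B X] [Module R X]
    [IsScalarTower B R X] (j : ℕ) :
    ((J.map (algebraMap B R)) ^ j • (⊤ : Submodule R X)).restrictScalars B =
      J ^ j • (⊤ : Submodule B X) := by
  rw [← Ideal.map_pow]
  have h := Ideal.smul_restrictScalars (R := B) (S := R) (M := X) (J ^ j) (⊤ : Submodule R X)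
  rw [h, Submodule.restrictScalars_top]

theorem mem_smul_top_iff (X : Type u) [AddCommGroup X] [Module B X] [Module R X]
    [IsScalarTower B R X] (j : ℕ) (x : X) :
    x ∈ (J.map (algebraMap B R)) ^ j • (⊤ : Submodule R X) ↔ x ∈ J ^ j • (⊤ : Submodule B X) := by
  rw [← smul_top_restrictScalars (R := R) J X j, Submodule.restrictScalars_mem]

theorem smul_eq_zero_of_mem_map (X : Type u) [AddCommGroup X] [Module B X] [Module R X]
    [IsScalarTower B R X] (K : Ideal B) (x : X) (h : ∀ a ∈ K, a • x = 0) :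
    ∀ a ∈ K.map (algebraMap B R), a • x = 0 := by
  intro a ha
  refine Submodule.span_induction (p := fun a _ => a • x = 0) ?_ ?_ ?_ ?_ ha
  · rintro _ ⟨b, hb, rfl⟩
    rw [algebraMap_smul]
    exact h b hb
  · rw [zero_smul]
  · intro a b _ _ ha hb
    rw [add_smul, ha, hb, add_zero]
  · intro r a _ ha
    rw [smul_eq_mul, mul_smul, ha, smul_zero]

/-- Tower Artin–Rees over `B`, when the tower carries a compatible module structure over a
complete Noetherian `B`-algebra `R`. -/
theorem tower_AR_of_algebra (t : ℕ)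
    (hfR : ∀ n (r : R) (x : M (n + 1)), f n (r • x) = r • f n x)
    (hf : ∀ n, Function.Surjective (f n))
    (hker : ∀ n, LinearMap.ker (f n) = J ^ (n + 1) • (⊤ : Submodule B (M (n + 1))))
    (hk : ∀ n, J ^ (n + 1) • (⊤ : Submodule B (M n)) = ⊥) :
    ∃ n₀ s₀ : ℕ, ∀ n m, n₀ ≤ n → n + s₀ ≤ m → ∀ x : M m,
      x ∈ J ^ n • (⊤ : Submodule B (M m)) → (∀ a ∈ J ^ t, a • x = 0) →
      x ∈ J ^ (n + 1) • (⊤ : Submodule B (M m)) := by
  let fR : ∀ n, M (n + 1) →ₗ[R] M n := fun n =>
    { toFun := f n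
      map_add' := map_add _
      map_smul' := hfR n }
  haveI : ∀ n, Module.Finite R (M n) := fun n => Module.Finite.of_restrictScalars_finite B R (M n)
  have hker' : ∀ n, LinearMap.ker (fR n) =
      (J.map (algebraMap B R)) ^ (n + 1) • (⊤ : Submodule R (M (n + 1))) := by
    intro n
    apply Submodule.restrictScalars_injective B
    rw [smul_top_restrictScalars (R := R) J (M (n + 1)) (n + 1), ← hker n]
    ext x
    rfl
  have hk' : ∀ n, (J.map (algebraMap B R)) ^ (n + 1) • (⊤ : Submodule R (M n)) = ⊥ := by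
    intro n
    apply Submodule.restrictScalars_injective B
    rw [smul_top_restrictScalars (R := R) J (M n) (n + 1), hk n, Submodule.restrictScalars_bot]
  obtain ⟨n₀, s₀, h⟩ := tower_AR_complete (J.map (algebraMap B R)) fR t hf hker' hk'
  refine ⟨n₀, s₀, fun n m hn hm x hx hxt => ?_⟩
  rw [← mem_smul_top_iff (R := R) J (M m) (n + 1) x]
  refine h n m hn hm x ((mem_smul_top_iff (R := R) J (M m) n x).2 hx) ?_
  rw [← Ideal.map_pow]
  exact smul_eq_zero_of_mem_map (R := R) (M m) (J ^ t) x hxt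

end algebra

section completion

variable {B : Type u} [CommRing B] (J : Ideal B)

theorem isTorsionBySet_of_smul_top_eq_bot (X : Type u) [AddCommGroup X] [Module B X] (k : ℕ)
    (h : J ^ k • (⊤ : Submodule B X) = ⊥) : Module.IsTorsionBySet B X ↑(J ^ k) := by
  intro x a
  have h1 : (a : B) • x ∈ J ^ k • (⊤ : Submodule B X) :=
    Submodule.smul_mem_smul a.2 Submodule.mem_top
  rw [h] at h1
  exact (Submodule.mem_bot B).1 h1

/-- The `AdicCompletion J B`-module structure on a `B`-module killed by `J ^ k`. -/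
@[reducible] noncomputable def complModule (X : Type u) [AddCommGroup X] [Module B X] (k : ℕ)
    (h : Module.IsTorsionBySet B X ↑(J ^ k)) : Module (AdicCompletion J B) X :=
  letI := h.module
  Module.compHom X (AdicCompletion.evalₐ J k).toRingHom

theorem complModule_smul (X : Type u) [AddCommGroup X] [Module B X] (k : ℕ)
    (h : Module.IsTorsionBySet B X ↑(J ^ k)) (r : AdicCompletion J B) (b : B)
    (hb : AdicCompletion.evalₐ J k r = Ideal.Quotient.mk (J ^ k) b) (x : X) :
    letI := complModule J X k h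
    r • x = b • x := by
  letI := h.module
  change (AdicCompletion.evalₐ J k r) • x = b • x
  rw [hb]
  exact Module.IsTorsionBySet.mk_smul h b x

theorem complModule_mk_smul (X : Type u) [AddCommGroup X] [Module B X] (k : ℕ)
    (h : Module.IsTorsionBySet B X ↑(J ^ k)) (c : AdicCompletion.AdicCauchySequence J B) (x : X) :
    letI := complModule J X k h
    (AdicCompletion.mk J B c) • x = c k • x :=
  complModule_smul J X k h _ _ (AdicCompletion.evalₐ_mk J k c) x

theorem cauchy_smul_eq (X : Type u) [AddCommGroup X] [Module B X] (k j : ℕ) (hkj : k ≤ j)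
    (h : Module.IsTorsionBySet B X ↑(J ^ k)) (c : AdicCompletion.AdicCauchySequence J B) (x : X) :
    c j • x = c k • x := by
  have h1 := c.property hkj
  rw [SModEq.sub_mem] at h1
  have h2 : c k - c j ∈ J ^ k := by
    simpa using h1
  have h3 : (c k - c j) • x = 0 := @h x ⟨_, h2⟩
  rw [sub_smul, sub_eq_zero] at h3
  exact h3.symm

theorem complModule_isScalarTower (X : Type u) [AddCommGroup X] [Module B X] (k : ℕ)
    (h : Module.IsTorsionBySet B X ↑(J ^ k)) :
    letI := complModule J X k h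
    IsScalarTower B (AdicCompletion J B) X := by
  letI := complModule J X k h
  refine ⟨fun b r x => ?_⟩
  obtain ⟨c, rfl⟩ := AdicCompletion.mk_surjective J B r
  rw [← map_smul, complModule_mk_smul, complModule_mk_smul, AdicCompletion.AdicCauchySequence.smul_apply,
    smul_eq_mul, mul_smul]

end completion

/-- **Tower Artin–Rees.**  `B` Noetherian, `J ⊆ B` an ideal, `(M n, f n)` a tower of finite
`B`-modules with surjective transition maps, `ker (f n) = J^(n+1) M (n+1)` and `J^(n+1) M n = 0`.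
Then there are `n₀, s₀` such that for `n ≥ n₀` and `m ≥ n + s₀`, every `x ∈ J^n M m` killed by
`J^t` lies in `J^(n+1) M m`. -/
theorem tower_AR {B : Type u} [CommRing B] [IsNoetherianRing B] (J : Ideal B) (t : ℕ)
    {M : ℕ → Type u} [∀ n, AddCommGroup (M n)] [∀ n, Module B (M n)]
    [∀ n, Module.Finite B (M n)]
    (f : ∀ n, M (n + 1) →ₗ[B] M n) (hf : ∀ n, Function.Surjective (f n))
    (hker : ∀ n, LinearMap.ker (f n) = J ^ (n + 1) • (⊤ : Submodule B (M (n + 1))))
    (hk : ∀ n, J ^ (n + 1) • (⊤ : Submodule B (M n)) = ⊥) :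
    ∃ n₀ s₀ : ℕ, ∀ n m, n₀ ≤ n → n + s₀ ≤ m → ∀ x : M m,
      x ∈ J ^ n • (⊤ : Submodule B (M m)) → (∀ a ∈ J ^ t, a • x = 0) →
      x ∈ J ^ (n + 1) • (⊤ : Submodule B (M m)) := by
  have hT : ∀ n, Module.IsTorsionBySet B (M n) ↑(J ^ (n + 1)) := fun n =>
    isTorsionBySet_of_smul_top_eq_bot J (M n) (n + 1) (hk n)
  letI : ∀ n, Module (AdicCompletion J B) (M n) := fun n => complModule J (M n) (n + 1) (hT n)
  haveI : ∀ n, IsScalarTower B (AdicCompletion J B) (M n) := fun n =>
    complModule_isScalarTower J (M n) (n + 1) (hT n)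
  haveI : IsAdicComplete (J.map (algebraMap B (AdicCompletion J B))) (AdicCompletion J B) :=
    AdicCompletion.isAdicComplete_self J (IsNoetherian.noetherian J)
  refine tower_AR_of_algebra (R := AdicCompletion J B) J f t ?_ hf hker hk
  intro n r x
  obtain ⟨c, rfl⟩ := AdicCompletion.mk_surjective J B r
  have h1 := complModule_mk_smul J (M (n + 1)) (n + 1 + 1) (hT (n + 1)) c x
  have h2 := complModule_mk_smul J (M n) (n + 1) (hT n) c (f n x)
  rw [h1, h2, map_smul]
  exact cauchy_smul_eq J (M n) (n + 1) (n + 1 + 1) (Nat.le_succ _) (hT n) c (f n x)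

end Groth.Agent.H81.TowerAR
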