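import Mathlib
import Groth.Agent.H81.VerType
import Groth.Agent.H81.StdPieces
import Groth.Agent.H98.Ver.Gor
import Groth.Agent.H98.Ver.Local
import Groth.Agent.H98.Bass0.GorBass

/-!
# Veronese subrings of standard graded Gorenstein rings: Gorenstein iff `q ∣ a(R)`  (helper81)
-/

set_option autoImplicit false
set_option linter.unusedSectionVars false
set_option linter.style.haveILetI false
set_option maxHeartbeats 800000

namespace Groth.Agent.H81.VerGorIff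

universe u

open Groth.Agent.H98.GrStar Groth.Agent.H98.Canon Groth.Agent.H81.HullPairing
  Groth.Agent.H98.Ver Groth.Agent.H98.Bass0

section Irr

variable {R : Type u} [CommRing R] (𝒜 : ℤ → AddSubgroup R) [GradedRing 𝒜]

/-- the irrelevant ideal as a homogeneous ideal -/
def irr : HomogeneousIdeal 𝒜 :=
  ⟨Ideal.span (⋃ n ∈ Set.Ioi (0 : ℤ), (𝒜 n : Set R)), Ideal.homogeneous_span 𝒜 _ (by
    intro x hx
    simp only [Set.mem_iUnion, Set.mem_Ioi, SetLike.mem_coe, exists_prop] at hx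
    obtain ⟨n, _, hx⟩ := hx
    exact ⟨n, hx⟩)⟩

theorem irr_toIdeal :
    (irr 𝒜).toIdeal = Ideal.span (⋃ n ∈ Set.Ioi (0 : ℤ), (𝒜 n : Set R)) := rfl

theorem irr_ne_top [Nontrivial R] (hpos : ∀ n : ℤ, n < 0 → 𝒜 n = ⊥) : (irr 𝒜).toIdeal ≠ ⊤ := by
  classical
  intro h
  have h1 : (1 : R) ∈ (irr 𝒜).toIdeal := by rw [h]; trivial
  have hp : ∀ k : ℤ, k < 0 → ∀ r ∈ 𝒜 k, r = 0 := fun k hk r hr => by
    rw [hpos k hk] at hr
    exact AddSubgroup.mem_bot.mp hr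
  have h2 := irrel_le_geIdeal_one 𝒜 hp (irr 𝒜).toIdeal (irr_toIdeal 𝒜) h1 0 (by omega)
  rw [DirectSum.decompose_of_mem_same 𝒜 (SetLike.GradedOne.one_mem (A := 𝒜))] at h2
  exact one_ne_zero h2

end Irr

section Main

/-- **`R^(q)` is Gorenstein iff `q ∣ a(R)`** for `R` standard graded Gorenstein of dimension `≥ 1`
with `dim_k R_1 ≥ 2`. -/
theorem isGorensteinRing_veronese_iff (R : Type u) [CommRing R] [LocCoh.IsGorensteinRing R]
    (𝒜 : ℤ → AddSubgroup R) [GradedRing 𝒜] (hpos : ∀ n : ℤ, n < 0 → 𝒜 n = ⊥)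
    (h0 : IsField (GrLC.deg0 𝒜)) (m : HomogeneousIdeal 𝒜) (hm : GrLC.IsStarLocal 𝒜 m)
    (hmsp : m.toIdeal = Ideal.span (⋃ n ∈ Set.Ioi (0 : ℤ), (𝒜 n : Set R)))
    (hstd : Ideal.span (⋃ n ∈ Set.Ioi (0 : ℤ), (𝒜 n : Set R)) =
      Ideal.span ((𝒜 1 : AddSubgroup R) : Set R))
    (hR1 : 2 ≤ Module.finrank (GrLC.deg0 𝒜) (GrLC.comp 𝒜 𝒜 1))
    (n : ℕ) (hn : ringKrullDim R = n) (h1 : 1 ≤ n) (I : GrLC.StarInjRes 𝒜 𝒜) (a : ℤ)
    (ha : GrLC.endDeg (I.Hgr m n) = ((a : WithTop ℤ) : WithBot (WithTop ℤ)))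
    (q : ℕ) (hq : 0 < q) (R' : Type u) [CommRing R'] (𝒜' : ℤ → AddSubgroup R') [GradedRing 𝒜']
    (φ : R' →+* R) (hφ : Function.Injective φ)
    (hdeg : ∀ j : ℤ, (𝒜' j).map (φ : R' →+ R) = 𝒜 (j * q)) :
    LocCoh.IsGorensteinRing R' ↔ (q : ℤ) ∣ a := by
  classical
  have hv : IsVer 𝒜 𝒜' φ q := ⟨hφ, hdeg, hq⟩
  constructor
  · intro hG'
    haveI : IsNoetherianRing R := inferInstance
    haveI hCM : LocCoh.IsCohenMacaulayRing R :=
      Groth.Agent.H81.VerType.isCohenMacaulayRing_of_gorenstein R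
    haveI : IsNoetherianRing R' := Groth.Agent.H98.Ver.isNoetherianRing hv
    have hmne : m.toIdeal ≠ ⊤ := ne_top_of_isStarLocal 𝒜 hm
    haveI hmmax : m.toIdeal.IsMaximal :=
      Groth.Agent.H85.GrLCBase.isMaximal_irr 𝒜 hpos h0 m hmne hmsp
    haveI : Nontrivial R := ⟨⟨0, 1, fun h => hmne ((Ideal.eq_top_iff_one _).mpr (by
      rw [← h]; exact Submodule.zero_mem _))⟩⟩
    haveI : Nontrivial R' := Groth.Agent.H98.Ver.nontrivial' hv
    -- the irrelevant ideal of `R'`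
    have hposV := Groth.Agent.H98.Ver.hpos' hv hpos
    have h0V := Groth.Agent.H98.Ver.isField_deg0' hv h0
    set m' : HomogeneousIdeal 𝒜' := irr 𝒜' with hm'
    have hm'sp : m'.toIdeal = Ideal.span (⋃ j ∈ Set.Ioi (0 : ℤ), (𝒜' j : Set R')) := rfl
    have hm'ne : m'.toIdeal ≠ ⊤ := irr_ne_top 𝒜' hposV
    haveI hm'max : m'.toIdeal.IsMaximal :=
      Groth.Agent.H85.GrLCBase.isMaximal_irr 𝒜' hposV h0V m' hm'ne hm'sp
    -- the remainder
    have hq' : (0 : ℤ) < q := by exact_mod_cast hq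
    set ρ : ℤ := a % q with hρ
    have hρ0 : 0 ≤ ρ := Int.emod_nonneg a hq'.ne'
    have hρq : ρ < q := Int.emod_lt_of_pos a hq'
    have hρa : (q : ℤ) ∣ a - ρ := Int.dvd_self_sub_emod
    have hb := Groth.Agent.H81.VerType.bassNum_veronese R 𝒜 hpos h0 m hm hmsp hstd n hn I a ha q hq
      R' 𝒜' φ hφ hdeg m' hm'sp ρ hρ0 hρq hρa
    -- `Γ_m(R) = 0`
    have hΓ : ∀ x : R, (∃ N : ℕ, ∀ r ∈ m.toIdeal ^ N, r * x = 0) → x = 0 := by
      intro x hx
      have hx' : x ∈ GrLC.gam m.toIdeal R := hx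
      haveI := Groth.Agent.H85.GrLCBase.subsingleton_H_of_cm 𝒜 m hm n hn I 0 (by omega)
      have hz : I.toH m 0 ⟨I.ε x, ε_mem_cocyc I m x hx'⟩ = 0 := Subsingleton.elim _ _
      rw [Submodule.mkQ_apply, Submodule.Quotient.mk_eq_zero] at hz
      have hz' : I.ε x ∈ (⊥ : Submodule R (I.X 0).carrier) := hz
      rw [Submodule.mem_bot] at hz'
      apply I.ε_injective
      rw [hz', map_zero]
    -- `R_ρ ≠ 0`
    letI : Field (GrLC.deg0 𝒜) := h0.toField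
    haveI hfin : Module.Finite (GrLC.deg0 𝒜) (GrLC.comp 𝒜 𝒜 ρ) :=
      Groth.Agent.H81.CanonPieces.finite_comp 𝒜 hpos h0 𝒜 ρ
    -- the Bass number of the Gorenstein ring `R'`
    have hfinht : m'.toIdeal.height ≠ ⊤ := Ideal.height_ne_top hm'ne
    obtain ⟨n', hn'⟩ : ∃ n' : ℕ, m'.toIdeal.height = n' := ⟨m'.toIdeal.height.toNat,
      (ENat.natCast_toNat hfinht).symm⟩
    obtain ⟨hb0, hb1⟩ := bassNum_gorenstein m'.toIdeal n' hn'
    by_cases hρpos : 1 ≤ ρ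
    · exfalso
      have h2 := Groth.Agent.H81.StdPieces.two_le_finrank 𝒜 hpos h0 hmsp hstd hΓ hR1 ρ hρpos
      by_cases hnn : n = n'
      · rw [hnn, hb1] at hb
        have : Module.finrank (GrLC.deg0 𝒜) (GrLC.comp 𝒜 𝒜 ρ) = 1 := by exact_mod_cast hb.symm
        omega
      · rw [hb0 n hnn] at hb
        have : Module.finrank (GrLC.deg0 𝒜) (GrLC.comp 𝒜 𝒜 ρ) = 0 := by exact_mod_cast hb.symm
        omega
    · have hρ00 : ρ = 0 := by omega
      rw [hρ00, sub_zero] at hρa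
      exact hρa
  · intro hdvd
    exact Groth.Agent.H98.Ver.isGorensteinRing_ver hv hpos h0 m hm hmsp n hn I a ha hdvd

end Main

end Groth.Agent.H81.VerGorIff
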