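import Groth.Agent.H98.Ver.Basic

set_option autoImplicit false
set_option linter.unusedSectionVars false
universe u

/-!
# The Veronese grading on a ring presented through an injective map with Veronese image

`(R, 𝒜)` a `ℤ`-graded ring, `φ : R' →+* R` injective whose range is exactly the set of elements
all of whose components in degrees not divisible by `q` vanish.  Then `R'` is graded by the
preimages `pieces j = φ⁻¹(R_{jq})`, and `(R', pieces)` is the `q`-th Veronese subring of `R`
through `φ` (`Groth.Agent.H98.Ver.IsVer`).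
-/

namespace Groth.Agent.H81.VerOfRange

open DirectSum Groth.Agent.H98.Ver

variable {R : Type u} [CommRing R] (𝒜 : ℤ → AddSubgroup R) [GradedRing 𝒜]
variable {R' : Type u} [CommRing R'] (φ : R' →+* R) (q : ℕ)

/-- the pieces of the Veronese grading on `R'` -/
def pieces (j : ℤ) : AddSubgroup R' := (𝒜 (j * q)).comap (φ : R' →+ R)

theorem mem_pieces {j : ℤ} {x : R'} : x ∈ pieces 𝒜 φ q j ↔ φ x ∈ 𝒜 (j * q) := Iff.rfl

instance gradedMonoid : SetLike.GradedMonoid (pieces 𝒜 φ q) where
  one_mem := by
    rw [mem_pieces, map_one, zero_mul]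
    exact SetLike.GradedOne.one_mem
  mul_mem := by
    intro i j a b ha hb
    rw [mem_pieces] at ha hb ⊢
    rw [map_mul, add_mul]
    exact SetLike.GradedMul.mul_mem ha hb

theorem decompose_coe (hq : 0 < q) (x : ⨁ j, pieces 𝒜 φ q j) (j : ℤ) :
    (decompose 𝒜 (φ (DirectSum.coeAddMonoidHom (pieces 𝒜 φ q) x)) (j * q) : R) =
      φ (x j : R') := by
  classical
  have hq0 : (q : ℤ) ≠ 0 := by exact_mod_cast hq.ne'
  induction x using DirectSum.induction_on with
  | zero => simp
  | of i y =>
    rw [DirectSum.coeAddMonoidHom_of]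
    have hy : φ (y : R') ∈ 𝒜 (i * q) := y.2
    by_cases hij : i = j
    · subst hij
      rw [DirectSum.decompose_of_mem_same 𝒜 hy, DirectSum.of_eq_same]
    · have hne : i * (q : ℤ) ≠ j * q := fun h => hij (mul_right_cancel₀ hq0 h)
      rw [DirectSum.decompose_of_mem_ne 𝒜 hy hne, DirectSum.of_eq_of_ne _ _ _ (Ne.symm hij)]
      simp
  | add x y hx hy =>
    rw [map_add, map_add, DirectSum.decompose_add, DirectSum.add_apply, AddSubgroup.coe_add, hx, hy,
      DirectSum.add_apply, AddSubgroup.coe_add, map_add]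

variable (hφ : Function.Injective φ) (hq : 0 < q)
  (hrange : ∀ p : R, p ∈ φ.range ↔ ∀ l : ℤ, ¬ (q : ℤ) ∣ l → (decompose 𝒜 p l : R) = 0)

include hφ hq in
theorem coe_injective : Function.Injective (DirectSum.coeAddMonoidHom (pieces 𝒜 φ q)) := by
  classical
  rw [injective_iff_map_eq_zero]
  intro x hx
  apply DFinsupp.ext
  intro j
  apply Subtype.ext
  apply hφ
  rw [← decompose_coe 𝒜 φ q hq x j, hx]
  simp

include hrange in
theorem component_mem_range (r' : R') (l : ℤ) : (decompose 𝒜 (φ r') l : R) ∈ φ.range := by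
  classical
  rw [hrange]
  intro l' hl'
  by_cases hll : l = l'
  · subst hll
    rw [(hrange (φ r')).mp ⟨r', rfl⟩ l hl']
    simp
  · exact DirectSum.decompose_of_mem_ne 𝒜 (decompose 𝒜 (φ r') l).2 hll

include hφ hrange in
theorem coe_surjective : Function.Surjective (DirectSum.coeAddMonoidHom (pieces 𝒜 φ q)) := by
  classical
  intro r'
  choose y hy using fun l : ℤ => component_mem_range 𝒜 φ q hrange r' l
  have hsum : r' = ∑ l ∈ (decompose 𝒜 (φ r')).support, y l := by
    apply hφ
    rw [map_sum]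
    conv_lhs => rw [← DirectSum.sum_support_decompose 𝒜 (φ r')]
    exact Finset.sum_congr rfl fun l _ => (hy l).symm
  have hmem : ∀ l : ℤ, y l ∈ (DirectSum.coeAddMonoidHom (pieces 𝒜 φ q)).range := by
    intro l
    by_cases hl : (q : ℤ) ∣ l
    · obtain ⟨c, hc⟩ := hl
      have hyl : y l ∈ pieces 𝒜 φ q c := by
        rw [mem_pieces, hy l, mul_comm c, ← hc]
        exact (decompose 𝒜 (φ r') l).2
      exact ⟨DirectSum.of (fun j => pieces 𝒜 φ q j) c ⟨y l, hyl⟩, by
        rw [DirectSum.coeAddMonoidHom_of]⟩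
    · have h0 : y l = 0 := by
        apply hφ
        rw [hy l, map_zero]
        exact (hrange (φ r')).mp ⟨r', rfl⟩ l hl
      rw [h0]
      exact zero_mem _
  rw [← AddMonoidHom.mem_range, hsum]
  exact sum_mem fun l _ => hmem l

include hφ hq hrange in
theorem isInternal : DirectSum.IsInternal (pieces 𝒜 φ q) :=
  ⟨coe_injective 𝒜 φ q hφ hq, coe_surjective 𝒜 φ q hφ hrange⟩

/-- the Veronese grading on `R'` -/
@[reducible] noncomputable def gradedRing : GradedRing (pieces 𝒜 φ q) where
  toGradedMonoid := gradedMonoid 𝒜 φ q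
  toDecomposition := (isInternal 𝒜 φ q hφ hq hrange).chooseDecomposition

include hφ hq hrange in
theorem isVer : IsVer 𝒜 (pieces 𝒜 φ q) φ q := by
  classical
  refine ⟨hφ, ?_, hq⟩
  intro j
  apply le_antisymm
  · rintro _ ⟨x, hx, rfl⟩
    exact hx
  · intro r hr
    have hr' : r ∈ φ.range := by
      rw [hrange]
      intro l hl
      have hne : j * (q : ℤ) ≠ l := by
        rintro rfl
        exact hl (Dvd.intro_left j rfl)
      exact DirectSum.decompose_of_mem_ne 𝒜 hr hne
    obtain ⟨x, rfl⟩ := hr'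
    exact ⟨x, hr, rfl⟩

end Groth.Agent.H81.VerOfRange
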