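import Mathlib

set_option autoImplicit false

namespace Groth.Agent.H81.Wronsk

open Polynomial Module

variable {k : Type*} [Field k]

theorem finrank_degreeLT (n : ℕ) : finrank k (degreeLT k n) = n := by
  rw [(degreeLTEquiv k n).finrank_eq, Module.finrank_fin_fun]

/-- multiplication by `P` on polynomials of degree `< n`. -/
noncomputable def mulT (P : k[X]) (n : ℕ) : degreeLT k n →ₗ[k] k[X] :=
  (LinearMap.mulLeft k P).comp (degreeLT k n).subtype

@[simp] theorem mulT_apply (P : k[X]) (n : ℕ) (L : degreeLT k n) : mulT P n L = P * (L : k[X]) := rfl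

theorem mulT_injective {P : k[X]} (hP : P ≠ 0) (n : ℕ) : Function.Injective (mulT P n) := by
  intro L₁ L₂ h
  simp only [mulT_apply] at h
  exact Subtype.ext (mul_left_cancel₀ hP h)

theorem finrank_range_mulT {P : k[X]} (hP : P ≠ 0) (n : ℕ) :
    finrank k (LinearMap.range (mulT P n)) = n := by
  rw [LinearMap.finrank_range_of_inj (mulT_injective hP n), finrank_degreeLT]

instance (P : k[X]) (n : ℕ) : FiniteDimensional k (LinearMap.range (mulT P n)) := by
  infer_instance

/-- Polynomials of degree `≤ d + m` divisible by a polynomial `P` of degree `d` are `P * L`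
with `deg L < m + 1`. -/
theorem mem_range_mulT {P : k[X]} (hP : P ≠ 0) {d m : ℕ} (hd : P.natDegree = d) {G : k[X]}
    (hdiv : P ∣ G) (hdeg : G.degree ≤ ((d + m : ℕ) : WithBot ℕ)) :
    G ∈ LinearMap.range (mulT P (m + 1)) := by
  obtain ⟨L, rfl⟩ := hdiv
  by_cases hL : L = 0
  · subst hL
    exact ⟨0, by simp⟩
  · refine ⟨⟨L, ?_⟩, rfl⟩
    rw [mem_degreeLT]
    rw [degree_mul, degree_eq_natDegree hP, degree_eq_natDegree hL, hd] at hdeg
    rw [degree_eq_natDegree hL]
    have : d + L.natDegree ≤ d + m := by exact_mod_cast hdeg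
    have : L.natDegree < m + 1 := by omega
    exact_mod_cast this

/-- membership in the linear system `c + X (X+1) F`. -/
theorem mem_V_imp {a : ℕ} {G : k[X]}
    (hG : G ∈ Submodule.span k {(1 : k[X])} ⊔
      ((Ideal.span {(X : k[X]) * (X + 1)}).restrictScalars k ⊓ degreeLE k ↑(a + 1))) :
    G.degree ≤ ((a + 1 : ℕ) : WithBot ℕ) ∧ G.eval 0 = G.eval (-1) := by
  rw [Submodule.mem_sup] at hG
  obtain ⟨y, hy, z, hz, rfl⟩ := hG
  rw [Submodule.mem_span_singleton] at hy
  obtain ⟨c, rfl⟩ := hy
  obtain ⟨hz1, hz2⟩ := hz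
  rw [SetLike.mem_coe, Submodule.restrictScalars_mem, Ideal.mem_span_singleton] at hz1
  rw [SetLike.mem_coe, mem_degreeLE] at hz2
  obtain ⟨F, rfl⟩ := hz1
  constructor
  · refine (degree_add_le _ _).trans (max_le ?_ hz2)
    refine (degree_smul_le _ _).trans ?_
    rw [degree_one]
    exact_mod_cast Nat.zero_le _
  · simp
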