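import Mathlib
import Groth.Agent.H81.ConsecCoeff

set_option autoImplicit false

namespace Groth.Agent.H81.WronskD

open Polynomial Groth.Agent.H81.ConsecCoeff

variable {k : Type*} [Field k]

/-- the operator `N ↦ X (X-1) N' - (a (X-1) + b X) N`, the numerator of `d(N / (X^a (X-1)^b))`. -/
noncomputable def D (a b : ℕ) : k[X] →ₗ[k] k[X] :=
  (LinearMap.mulLeft k ((X : k[X]) * (X - 1))).comp derivative -
    LinearMap.mulLeft k (C (a : k) * (X - 1) + C (b : k) * X)

theorem D_apply (a b : ℕ) (N : k[X]) :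
    D a b N = X * (X - 1) * derivative N - (C (a : k) * (X - 1) + C (b : k) * X) * N := rfl

theorem D_mul (a b : ℕ) (U N : k[X]) :
    D a b (U * N) = X * (X - 1) * derivative U * N + U * D a b N := by
  simp only [D_apply, derivative_mul]; ring

theorem D_C_mul (a b : ℕ) (γ : k) (N : k[X]) : D a b (C γ * N) = C γ * D a b N := by
  rw [D_mul, derivative_C, mul_zero, zero_mul, zero_add]

theorem D_X_pow (a b : ℕ) : D a b ((X : k[X]) ^ a) = - C (b : k) * X ^ (a + 1) := by
  rw [D_apply]
  have h := mul_derivative_pow (X : k[X]) a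
  rw [derivative_X, mul_one] at h
  have : (X : k[X]) * (X - 1) * derivative (X ^ a) = (X - 1) * (X * derivative (X ^ a)) := by ring
  rw [this, h]; ring

theorem D_X_sub_one_pow (a b : ℕ) :
    D a b (((X : k[X]) - 1) ^ b) = - C (a : k) * (X - 1) ^ (b + 1) := by
  rw [D_apply]
  have h := mul_derivative_pow ((X : k[X]) - 1) b
  have d1 : derivative ((X : k[X]) - 1) = 1 := by simp
  rw [d1, mul_one] at h
  have : (X : k[X]) * (X - 1) * derivative ((X - 1) ^ b) =
      X * ((X - 1) * derivative ((X - 1) ^ b)) := by ring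
  rw [this, h]; ring

theorem D_M (a b : ℕ) : D a b ((X : k[X]) ^ a * (X - 1) ^ b) = 0 := by
  rw [D_mul, D_X_sub_one_pow]
  have h := mul_derivative_pow (X : k[X]) a
  rw [derivative_X, mul_one] at h
  have : (X : k[X]) * (X - 1) * derivative (X ^ a) * (X - 1) ^ b =
      (X - 1) * (X * derivative (X ^ a)) * (X - 1) ^ b := by ring
  rw [this, h]; ring

theorem D_X_pow_mul (a b : ℕ) (N : k[X]) :
    D a b ((X : k[X]) ^ a * N) = X ^ (a + 1) * ((X - 1) * derivative N - C (b : k) * N) := by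
  rw [mul_comm, D_mul, D_X_pow]; ring

theorem D_X_sub_one_pow_mul (a b : ℕ) (N : k[X]) :
    D a b (((X : k[X]) - 1) ^ b * N) = (X - 1) ^ (b + 1) * (X * derivative N - C (a : k) * N) := by
  rw [mul_comm, D_mul, D_X_sub_one_pow]; ring

theorem D_X_mul_M (a b : ℕ) :
    D a b (X * ((X : k[X]) ^ a * (X - 1) ^ b)) = X ^ (a + 1) * (X - 1) ^ (b + 1) := by
  rw [D_mul, D_M, derivative_X]; ring

/-- the operator `N ↦ (X - r) N' - e N`. -/
noncomputable def T (r : k) (e : ℕ) : k[X] →ₗ[k] k[X] :=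
  (LinearMap.mulLeft k ((X : k[X]) - C r)).comp derivative - LinearMap.mulLeft k (C (e : k))

theorem T_apply (r : k) (e : ℕ) (N : k[X]) :
    T r e N = (X - C r) * derivative N - C (e : k) * N := rfl

theorem coeff_T (r : k) (e : ℕ) (N : k[X]) (m : ℕ) :
    (T r e N).coeff m = ((m : k) - (e : k)) * N.coeff m - r * ((m : k) + 1) * N.coeff (m + 1) := by
  rw [T_apply, sub_mul, coeff_sub, coeff_sub, coeff_X_mul_derivative, coeff_C_mul, coeff_C_mul,
    coeff_derivative]
  ring

theorem T_mem (r : k) (e : ℕ) {N : k[X]} (hN : N ∈ degreeLT k e) : T r e N ∈ degreeLT k e := by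
  rw [mem_degreeLT, degree_lt_iff_coeff_zero] at hN ⊢
  intro m hm
  rw [coeff_T, hN m hm, hN (m + 1) (by omega)]
  ring

theorem T_inj [CharZero k] (r : k) (e : ℕ) {N : k[X]} (hN : N ∈ degreeLT k e) (h0 : T r e N = 0) :
    N = 0 := by
  by_contra hne
  rw [mem_degreeLT, degree_eq_natDegree hne] at hN
  have hd : N.natDegree < e := by exact_mod_cast hN
  have h := congrArg (fun p => p.coeff N.natDegree) h0
  simp only [coeff_zero] at h
  rw [coeff_T, coeff_eq_zero_of_natDegree_lt (Nat.lt_succ_self _), mul_zero, sub_zero,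
    coeff_natDegree] at h
  rcases mul_eq_zero.mp h with h | h
  · have : (N.natDegree : k) = (e : k) := by linear_combination h
    have := Nat.cast_injective this
    omega
  · exact hne (leadingCoeff_eq_zero.mp h)

theorem T_surj [CharZero k] (r : k) (e : ℕ) {S : k[X]} (hS : S ∈ degreeLT k e) :
    ∃ N ∈ degreeLT k e, T r e N = S := by
  let f : degreeLT k e →ₗ[k] degreeLT k e := (T r e).restrict (fun x hx => T_mem r e hx)
  have hinj : Function.Injective f := by
    rw [← LinearMap.ker_eq_bot, LinearMap.ker_eq_bot']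
    intro x hx
    have : T r e (x : k[X]) = 0 := congrArg Subtype.val hx
    exact Subtype.ext (T_inj r e x.2 this)
  have hsurj := LinearMap.injective_iff_surjective.mp hinj
  obtain ⟨N, hN⟩ := hsurj ⟨S, hS⟩
  exact ⟨N, N.2, congrArg Subtype.val hN⟩

/-- Every member of the linear system is `D N` for some `N` of degree `≤ a+b+1`. -/
theorem V_le [CharZero k] (a b : ℕ) :
    ((Ideal.span {(X : k[X]) ^ (a + 1)}).restrictScalars k ⊓ degreeLE k ↑(a + b)) ⊔
      ((Ideal.span {((X : k[X]) - 1) ^ (b + 1)}).restrictScalars k ⊓ degreeLE k ↑(a + b)) ⊔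
      Submodule.span k {(X : k[X]) ^ (a + 1) * (X - 1) ^ (b + 1)} ≤
    Submodule.map (D a b) (degreeLE k ↑(a + b + 1)) := by
  refine sup_le (sup_le ?_ ?_) ?_
  · rintro G ⟨hG1, hG2⟩
    rw [SetLike.mem_coe, Submodule.restrictScalars_mem, Ideal.mem_span_singleton] at hG1
    rw [SetLike.mem_coe, mem_degreeLE] at hG2
    obtain ⟨S, rfl⟩ := hG1
    have hS : S ∈ degreeLT k b := by
      rw [mem_degreeLT]
      by_cases hS0 : S = 0
      · rw [hS0, degree_zero]; exact WithBot.bot_lt_coe _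
      · rw [degree_mul, degree_X_pow, degree_eq_natDegree hS0] at hG2
        rw [degree_eq_natDegree hS0]
        have : a + 1 + S.natDegree ≤ a + b := by exact_mod_cast hG2
        have : S.natDegree < b := by omega
        exact_mod_cast this
    obtain ⟨N, hN, hT⟩ := T_surj (1 : k) b hS
    refine ⟨X ^ a * N, ?_, ?_⟩
    · rw [SetLike.mem_coe, mem_degreeLE]
      by_cases hN0 : N = 0
      · rw [hN0, mul_zero, degree_zero]; exact bot_le
      · rw [mem_degreeLT, degree_eq_natDegree hN0] at hN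
        have : N.natDegree < b := by exact_mod_cast hN
        rw [degree_mul, degree_X_pow, degree_eq_natDegree hN0]
        have : a + N.natDegree ≤ a + b + 1 := by omega
        exact_mod_cast this
    · rw [D_X_pow_mul, ← hT, T_apply, C_1]
  · rintro G ⟨hG1, hG2⟩
    rw [SetLike.mem_coe, Submodule.restrictScalars_mem, Ideal.mem_span_singleton] at hG1
    rw [SetLike.mem_coe, mem_degreeLE] at hG2
    obtain ⟨S, rfl⟩ := hG1
    have hX1 : ((X : k[X]) - 1) = X - C 1 := by rw [C_1]
    have hdeg : (((X : k[X]) - 1) ^ (b + 1)).degree = ((b + 1 : ℕ) : WithBot ℕ) := by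
      rw [hX1, degree_pow, degree_X_sub_C]; simp
    have hS : S ∈ degreeLT k a := by
      rw [mem_degreeLT]
      by_cases hS0 : S = 0
      · rw [hS0, degree_zero]; exact WithBot.bot_lt_coe _
      · rw [degree_mul, hdeg, degree_eq_natDegree hS0] at hG2
        rw [degree_eq_natDegree hS0]
        have : b + 1 + S.natDegree ≤ a + b := by exact_mod_cast hG2
        have : S.natDegree < a := by omega
        exact_mod_cast this
    obtain ⟨N, hN, hT⟩ := T_surj (0 : k) a hS
    refine ⟨(X - 1) ^ b * N, ?_, ?_⟩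
    · rw [SetLike.mem_coe, mem_degreeLE]
      by_cases hN0 : N = 0
      · rw [hN0, mul_zero, degree_zero]; exact bot_le
      · rw [mem_degreeLT, degree_eq_natDegree hN0] at hN
        have : N.natDegree < a := by exact_mod_cast hN
        have hdegb : (((X : k[X]) - 1) ^ b).degree = ((b : ℕ) : WithBot ℕ) := by
          rw [hX1, degree_pow, degree_X_sub_C]; simp
        rw [degree_mul, hdegb, degree_eq_natDegree hN0]
        have : b + N.natDegree ≤ a + b + 1 := by omega
        exact_mod_cast this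
    · rw [D_X_sub_one_pow_mul, ← hT, T_apply, C_0, sub_zero]
  · rw [Submodule.span_le, Set.singleton_subset_iff]
    refine ⟨X * (X ^ a * (X - 1) ^ b), ?_, D_X_mul_M a b⟩
    rw [SetLike.mem_coe, mem_degreeLE]
    have hX1 : ((X : k[X]) - 1) = X - C 1 := by rw [C_1]
    have hdegb : (((X : k[X]) - 1) ^ b).degree = ((b : ℕ) : WithBot ℕ) := by
      rw [hX1, degree_pow, degree_X_sub_C]; simp
    rw [degree_mul, degree_mul, degree_X, degree_X_pow, hdegb]
    have : 1 + (a + b) ≤ a + b + 1 := by omega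
    exact_mod_cast this

/-- root lemma: if `(X-p)^r ∣ D N` with `p ≠ 0, 1`, then `(X-p)^(r+1) ∣ N - γ M` where
`γ = N(p)/M(p)`. -/
theorem root_lemma [CharZero k] (a b : ℕ) {p : k} (hp0 : p ≠ 0) (hp1 : p ≠ 1) (N : k[X]) :
    ∃ γ : k, ∀ r : ℕ, (X - C p) ^ r ∣ D a b N →
      (X - C p) ^ (r + 1) ∣ N - C γ * (X ^ a * (X - 1) ^ b) := by
  have hMp : ((X : k[X]) ^ a * (X - 1) ^ b).eval p ≠ 0 := by
    simp only [eval_mul, eval_pow, eval_X, eval_sub, eval_one]
    exact mul_ne_zero (pow_ne_zero _ hp0) (pow_ne_zero _ (sub_ne_zero.mpr hp1))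
  refine ⟨N.eval p / ((X : k[X]) ^ a * (X - 1) ^ b).eval p, ?_⟩
  intro r
  induction r with
  | zero =>
    intro _
    rw [zero_add, pow_one, dvd_iff_isRoot, IsRoot.def, eval_sub, eval_mul, eval_C,
      div_mul_cancel₀ _ hMp, sub_self]
  | succ r ih =>
    intro hdvd
    obtain ⟨Q, hQ⟩ := ih ((pow_dvd_pow _ (Nat.le_succ r)).trans hdvd)
    have hD : D a b N = D a b ((X - C p) ^ (r + 1) * Q) := by
      rw [← hQ, map_sub, D_C_mul, D_M, mul_zero, sub_zero]
    rw [hD, D_mul, derivative_X_sub_C_pow, Nat.add_sub_cancel] at hdvd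
    have hfac : X * (X - 1) * (C ((r + 1 : ℕ) : k) * (X - C p) ^ r) * Q + (X - C p) ^ (r + 1) * D a b Q =
        (X - C p) ^ r * (C ((r + 1 : ℕ) : k) * X * (X - 1) * Q + (X - C p) * D a b Q) := by
      rw [pow_succ]; ring
    rw [hfac, pow_succ, mul_dvd_mul_iff_left (pow_ne_zero _ (X_sub_C_ne_zero p))] at hdvd
    rw [dvd_iff_isRoot, IsRoot.def] at hdvd
    simp only [eval_add, eval_mul, eval_C, eval_X, eval_sub, eval_one, sub_self, zero_mul,
      add_zero] at hdvd
    have hQp : Q.eval p = 0 := by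
      have h1 : ((r + 1 : ℕ) : k) ≠ 0 := Nat.cast_ne_zero.mpr (Nat.succ_ne_zero r)
      have h2 : ((r + 1 : ℕ) : k) * p * (p - 1) ≠ 0 :=
        mul_ne_zero (mul_ne_zero h1 hp0) (sub_ne_zero.mpr hp1)
      exact (mul_eq_zero.mp hdvd).resolve_left h2
    obtain ⟨Q', hQ'⟩ := (dvd_iff_isRoot (a := p)).mpr hQp
    rw [hQ, hQ']
    exact ⟨Q', by ring⟩

end Groth.Agent.H81.WronskD
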