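import Mathlib
import Groth.Agent.H81.WronskD

set_option autoImplicit false

namespace Groth.Agent.H81.WronskD

open Polynomial Groth.Agent.H81.ConsecCoeff

variable {k : Type*} [Field k]

/-- root lemma at the marked point `0`: for `r ≤ a`, `X^r ∣ D N` implies `X^r ∣ N`. -/
theorem root_lemma_zero [CharZero k] (a b : ℕ) (N : k[X]) :
    ∀ r : ℕ, r ≤ a → (X : k[X]) ^ r ∣ D a b N → (X : k[X]) ^ r ∣ N := by
  intro r
  induction r with
  | zero => intro _ _; simp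
  | succ r ih =>
    intro hr hdvd
    obtain ⟨Q, hQ⟩ := ih (by omega) ((pow_dvd_pow _ (Nat.le_succ r)).trans hdvd)
    rw [hQ, D_mul] at hdvd
    have h := mul_derivative_pow (X : k[X]) r
    rw [derivative_X, mul_one] at h
    have hfac : (X : k[X]) * (X - 1) * derivative (X ^ r) * Q + X ^ r * D a b Q =
        X ^ r * ((X - 1) * C (r : k) * Q + D a b Q) := by
      have : (X : k[X]) * (X - 1) * derivative (X ^ r) * Q =
          (X - 1) * (X * derivative (X ^ r)) * Q := by ring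
      rw [this, h]; ring
    rw [hfac, pow_succ, mul_dvd_mul_iff_left (pow_ne_zero _ X_ne_zero)] at hdvd
    rw [X_dvd_iff, D_apply] at hdvd
    rw [coeff_zero_eq_eval_zero] at hdvd
    simp only [eval_add, eval_mul, eval_sub, eval_X, eval_one, eval_C, zero_sub, zero_mul,
      mul_zero, add_zero] at hdvd
    have hQ0 : Q.eval 0 = 0 := by
      have hne : (a : k) - (r : k) ≠ 0 := by
        have : ((a - r : ℕ) : k) ≠ 0 := by
          rw [Nat.cast_ne_zero]; omega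
        rwa [Nat.cast_sub (by omega)] at this
      have : ((a : k) - (r : k)) * Q.eval 0 = 0 := by linear_combination hdvd
      exact (mul_eq_zero.mp this).resolve_left hne
    have hXQ : (X : k[X]) ∣ Q := by
      rw [X_dvd_iff, coeff_zero_eq_eval_zero]; exact hQ0
    obtain ⟨Q', hQ'⟩ := hXQ
    rw [hQ, hQ']
    exact ⟨Q', by ring⟩

/-- explicit decomposition of the members of the linear system. -/
theorem V_decomp (a b : ℕ) {G : k[X]}
    (hG : G ∈ ((Ideal.span {(X : k[X]) ^ (a + 1)}).restrictScalars k ⊓ degreeLE k ↑(a + b)) ⊔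
      ((Ideal.span {((X : k[X]) - 1) ^ (b + 1)}).restrictScalars k ⊓ degreeLE k ↑(a + b)) ⊔
      Submodule.span k {(X : k[X]) ^ (a + 1) * (X - 1) ^ (b + 1)}) :
    ∃ (T₁ T₂ : k[X]) (c : k), T₁ ∈ degreeLT k b ∧ T₂ ∈ degreeLT k a ∧
      G = X ^ (a + 1) * T₁ + (X - 1) ^ (b + 1) * T₂ + C c * (X ^ (a + 1) * (X - 1) ^ (b + 1)) := by
  rw [Submodule.mem_sup] at hG
  obtain ⟨y, hy, z, hz, rfl⟩ := hG
  rw [Submodule.mem_sup] at hy
  obtain ⟨y₁, hy₁, y₂, hy₂, rfl⟩ := hy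
  rw [Submodule.mem_span_singleton] at hz
  obtain ⟨c, rfl⟩ := hz
  obtain ⟨h11, h12⟩ := hy₁
  obtain ⟨h21, h22⟩ := hy₂
  rw [SetLike.mem_coe, Submodule.restrictScalars_mem, Ideal.mem_span_singleton] at h11 h21
  rw [SetLike.mem_coe, mem_degreeLE] at h12 h22
  obtain ⟨T₁, rfl⟩ := h11
  obtain ⟨T₂, rfl⟩ := h21
  have hX1 : ((X : k[X]) - 1) = X - C 1 := by rw [C_1]
  have hdeg : (((X : k[X]) - 1) ^ (b + 1)).degree = ((b + 1 : ℕ) : WithBot ℕ) := by
    rw [hX1, degree_pow, degree_X_sub_C]; simp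
  refine ⟨T₁, T₂, c, ?_, ?_, ?_⟩
  · rw [mem_degreeLT]
    by_cases hS0 : T₁ = 0
    · rw [hS0, degree_zero]; exact WithBot.bot_lt_coe _
    · rw [degree_mul, degree_X_pow, degree_eq_natDegree hS0] at h12
      rw [degree_eq_natDegree hS0]
      have : a + 1 + T₁.natDegree ≤ a + b := by exact_mod_cast h12
      have : T₁.natDegree < b := by omega
      exact_mod_cast this
  · rw [mem_degreeLT]
    by_cases hS0 : T₂ = 0
    · rw [hS0, degree_zero]; exact WithBot.bot_lt_coe _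
    · rw [degree_mul, hdeg, degree_eq_natDegree hS0] at h22
      rw [degree_eq_natDegree hS0]
      have : b + 1 + T₂.natDegree ≤ a + b := by exact_mod_cast h22
      have : T₂.natDegree < a := by omega
      exact_mod_cast this
  · rw [smul_eq_C_mul]

theorem isCoprime_X_pow_X_sub_one_pow (m n : ℕ) :
    IsCoprime ((X : k[X]) ^ m) (((X : k[X]) - 1) ^ n) := by
  have h : IsCoprime ((X : k[X]) - C 0) (X - C 1) :=
    isCoprime_X_sub_C_of_isUnit_sub (sub_ne_zero.mpr (zero_ne_one)).isUnit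
  rw [C_0, sub_zero, C_1] at h
  exact h.pow

/-- no nonzero member of `V` is divisible by `X^(a+b+2)`. -/
theorem eq_zero_of_X_pow_dvd [CharZero k] (a b : ℕ) {G : k[X]}
    (hG : G ∈ ((Ideal.span {(X : k[X]) ^ (a + 1)}).restrictScalars k ⊓ degreeLE k ↑(a + b)) ⊔
      ((Ideal.span {((X : k[X]) - 1) ^ (b + 1)}).restrictScalars k ⊓ degreeLE k ↑(a + b)) ⊔
      Submodule.span k {(X : k[X]) ^ (a + 1) * (X - 1) ^ (b + 1)})
    (hdvd : (X : k[X]) ^ (a + b + 2) ∣ G) : G = 0 := by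
  obtain ⟨T₁, T₂, c, hT₁, hT₂, rfl⟩ := V_decomp a b hG
  rw [mem_degreeLT] at hT₁ hT₂
  -- T₂ = 0
  have h2 : T₂ = 0 := by
    have hd1 : (X : k[X]) ^ (a + 1) ∣ (X - 1) ^ (b + 1) * T₂ := by
      have h1 : (X : k[X]) ^ (a + 1) ∣ X ^ (a + 1) * T₁ + (X - 1) ^ (b + 1) * T₂ +
          C c * (X ^ (a + 1) * (X - 1) ^ (b + 1)) :=
        (pow_dvd_pow _ (by omega)).trans hdvd
      have h2 : (X : k[X]) ^ (a + 1) ∣ X ^ (a + 1) * T₁ + C c * (X ^ (a + 1) * (X - 1) ^ (b + 1)) :=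
        ⟨T₁ + C c * (X - 1) ^ (b + 1), by ring⟩
      have := dvd_sub h1 h2
      have e : X ^ (a + 1) * T₁ + (X - 1) ^ (b + 1) * T₂ + C c * (X ^ (a + 1) * (X - 1) ^ (b + 1)) -
          (X ^ (a + 1) * T₁ + C c * (X ^ (a + 1) * (X - 1) ^ (b + 1))) = (X - 1) ^ (b + 1) * T₂ := by
        ring
      rwa [e] at this
    have hd2 := (isCoprime_X_pow_X_sub_one_pow (k := k) (a + 1) (b + 1)).dvd_of_dvd_mul_left hd1
    refine eq_zero_of_dvd_of_degree_lt hd2 ?_
    rw [degree_X_pow]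
    refine hT₂.trans ?_
    exact_mod_cast Nat.lt_succ_self a
  subst h2
  rw [mul_zero, add_zero] at hdvd ⊢
  have hfac : (X : k[X]) ^ (a + 1) * T₁ + C c * (X ^ (a + 1) * (X - 1) ^ (b + 1)) =
      X ^ (a + 1) * (T₁ + C c * (X - 1) ^ (b + 1)) := by ring
  rw [hfac] at hdvd ⊢
  have hpow : (X : k[X]) ^ (a + b + 2) = X ^ (a + 1) * X ^ (b + 1) := by
    rw [← pow_add]; congr 1; omega
  rw [hpow, mul_dvd_mul_iff_left (pow_ne_zero _ X_ne_zero), X_pow_dvd_iff] at hdvd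
  have hb := hdvd b (Nat.lt_succ_self b)
  have hcb : ((((X : k[X]) - 1) ^ (b + 1))).coeff b = -((b : k) + 1) := by
    have : ((X : k[X]) - 1) = X + C (-1) := by rw [C_neg, C_1]; ring
    rw [this, coeff_X_add_C_pow]
    simp
  rw [coeff_add, coeff_C_mul, hcb, coeff_eq_zero_of_degree_lt hT₁, zero_add] at hb
  have hc : c = 0 := by
    have hne : -((b : k) + 1) ≠ 0 := by
      have : ((b + 1 : ℕ) : k) ≠ 0 := Nat.cast_ne_zero.mpr (Nat.succ_ne_zero b)
      push_cast at this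
      exact neg_ne_zero.mpr this
    exact (mul_eq_zero.mp hb).resolve_right hne
  subst hc
  rw [C_0, zero_mul, add_zero] at hdvd ⊢
  have : T₁ = 0 := by
    refine eq_zero_of_dvd_of_degree_lt (X_pow_dvd_iff.mpr hdvd) ?_
    rw [degree_X_pow]
    refine hT₁.trans ?_
    exact_mod_cast Nat.lt_succ_self b
  rw [this, mul_zero]

/-- no nonzero member of `V` is divisible by `X^i (X-1)^j` when `i ≤ a` and `i + j = a+b+2`. -/
theorem eq_zero_of_X_pow_mul_X_sub_one_pow_dvd [CharZero k] (a b i j : ℕ) (hi : i ≤ a)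
    (hj : i + j = a + b + 2) {G : k[X]}
    (hG : G ∈ ((Ideal.span {(X : k[X]) ^ (a + 1)}).restrictScalars k ⊓ degreeLE k ↑(a + b)) ⊔
      ((Ideal.span {((X : k[X]) - 1) ^ (b + 1)}).restrictScalars k ⊓ degreeLE k ↑(a + b)) ⊔
      Submodule.span k {(X : k[X]) ^ (a + 1) * (X - 1) ^ (b + 1)})
    (hdvd : (X : k[X]) ^ i * (X - 1) ^ j ∣ G) : G = 0 := by
  obtain ⟨T₁, T₂, c, hT₁, hT₂, rfl⟩ := V_decomp a b hG
  rw [mem_degreeLT] at hT₁ hT₂
  have hX1 : ((X : k[X]) - 1) = X - C 1 := by rw [C_1]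
  have hX1ne : ((X : k[X]) - 1) ≠ 0 := by rw [hX1]; exact X_sub_C_ne_zero 1
  have hdegpow : ∀ n : ℕ, (((X : k[X]) - 1) ^ n).degree = ((n : ℕ) : WithBot ℕ) := by
    intro n
    rw [hX1, degree_pow, degree_X_sub_C]; simp
  obtain ⟨e, he⟩ : ∃ e, a + 1 = i + (e + 1) := ⟨a - i, by omega⟩
  have hje : j = (b + 1) + (e + 1) := by omega
  -- T₁ = 0
  have h1 : T₁ = 0 := by
    have hd1 : ((X : k[X]) - 1) ^ (b + 1) ∣ X ^ (a + 1) * T₁ := by
      have h1 : ((X : k[X]) - 1) ^ (b + 1) ∣ X ^ (a + 1) * T₁ + (X - 1) ^ (b + 1) * T₂ +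
          C c * (X ^ (a + 1) * (X - 1) ^ (b + 1)) :=
        ((pow_dvd_pow _ (by omega)).trans (dvd_mul_left _ _)).trans hdvd
      have h2 : ((X : k[X]) - 1) ^ (b + 1) ∣ (X - 1) ^ (b + 1) * T₂ +
          C c * (X ^ (a + 1) * (X - 1) ^ (b + 1)) :=
        ⟨T₂ + C c * X ^ (a + 1), by ring⟩
      have := dvd_sub h1 h2
      have e : X ^ (a + 1) * T₁ + (X - 1) ^ (b + 1) * T₂ + C c * (X ^ (a + 1) * (X - 1) ^ (b + 1)) -
          ((X - 1) ^ (b + 1) * T₂ + C c * (X ^ (a + 1) * (X - 1) ^ (b + 1))) = X ^ (a + 1) * T₁ := by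
        ring
      rwa [e] at this
    have hd2 := (isCoprime_X_pow_X_sub_one_pow (k := k) (a + 1) (b + 1)).symm.dvd_of_dvd_mul_left hd1
    refine eq_zero_of_dvd_of_degree_lt hd2 ?_
    rw [hdegpow]
    refine hT₁.trans ?_
    exact_mod_cast Nat.lt_succ_self b
  subst h1
  rw [mul_zero, zero_add] at hdvd ⊢
  have hfac : ((X : k[X]) - 1) ^ (b + 1) * T₂ + C c * (X ^ (a + 1) * (X - 1) ^ (b + 1)) =
      (X - 1) ^ (b + 1) * (T₂ + C c * X ^ (a + 1)) := by ring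
  rw [hfac] at hdvd ⊢
  have hpow : (X : k[X]) ^ i * (X - 1) ^ j = (X - 1) ^ (b + 1) * (X ^ i * (X - 1) ^ (e + 1)) := by
    rw [hje, pow_add]; ring
  rw [hpow, mul_dvd_mul_iff_left (pow_ne_zero _ hX1ne)] at hdvd
  obtain ⟨Q, hQ⟩ := hdvd
  -- degree of Q is ≤ 0
  have hSdeg : (T₂ + C c * (X : k[X]) ^ (a + 1)).degree ≤ ((a + 1 : ℕ) : WithBot ℕ) := by
    refine (degree_add_le _ _).trans (max_le ?_ ?_)
    · exact (hT₂.trans (by exact_mod_cast Nat.lt_succ_self a)).le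
    · exact degree_C_mul_X_pow_le _ _
  have hQC : Q = C (Q.coeff 0) := by
    apply eq_C_of_degree_le_zero
    by_cases hQ0 : Q = 0
    · rw [hQ0, degree_zero]; exact bot_le
    · rw [hQ, degree_mul, degree_mul, degree_X_pow, hdegpow, degree_eq_natDegree hQ0] at hSdeg
      rw [degree_eq_natDegree hQ0]
      have : i + (e + 1) + Q.natDegree ≤ a + 1 := by exact_mod_cast hSdeg
      have : Q.natDegree ≤ 0 := by omega
      exact_mod_cast this
  -- coefficient at a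
  have hca : (T₂ + C c * (X : k[X]) ^ (a + 1)).coeff a =
      ((X : k[X]) ^ i * (X - 1) ^ (e + 1) * Q).coeff a := by rw [hQ]
  rw [coeff_add, coeff_eq_zero_of_degree_lt hT₂, zero_add, coeff_C_mul, coeff_X_pow,
    if_neg (by omega), mul_zero, hQC] at hca
  have hcoef : ((X : k[X]) ^ i * (X - 1) ^ (e + 1) * C (Q.coeff 0)).coeff a =
      -((e : k) + 1) * Q.coeff 0 := by
    rw [coeff_mul_C]
    have ha' : a = e + i := by omega
    rw [ha', coeff_X_pow_mul]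
    have : ((X : k[X]) - 1) = X + C (-1) := by rw [C_neg, C_1]; ring
    rw [this, coeff_X_add_C_pow]
    simp
  rw [hcoef] at hca
  have hq0 : Q.coeff 0 = 0 := by
    have hne : -((e : k) + 1) ≠ 0 := by
      have : ((e + 1 : ℕ) : k) ≠ 0 := Nat.cast_ne_zero.mpr (Nat.succ_ne_zero e)
      push_cast at this
      exact neg_ne_zero.mpr this
    exact (mul_eq_zero.mp hca.symm).resolve_left hne
  rw [hQ, hQC, hq0, C_0, mul_zero, mul_zero]

end Groth.Agent.H81.WronskD
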